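import Mathlib
import Groth.Prelude.Def_CAlg
import Groth.Agent.S0320
import Groth.Agent.S0321
import Groth.Agent.S5752
import Groth.Agent.S5754

/-!
# Depth toolkit, part 1 (helper21): depth over Noetherian local rings via regular sequences,
on top of S0319/S0320 (Rees) — basic inequalities `depth ≤ dim`, `depth ≤ dim A/p`.
-/

namespace Groth.Agent.Lib.Helper21.DepthKit

open RingTheory.Sequence IsLocalRing Module Pointwise

universe u

section General

variable {R : Type u} [CommRing R] (I : Ideal R)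
variable {M N : Type u} [AddCommGroup M] [Module R M] [AddCommGroup N] [Module R N]

/-- `idealDepth` is invariant under linear equivalences. -/
theorem idealDepth_congr (e : M ≃ₗ[R] N) : LocCoh.idealDepth I M = LocCoh.idealDepth I N := by
  classical
  have h1 : I • (⊤ : Submodule R M) = ⊤ ↔ I • (⊤ : Submodule R N) = ⊤ := by
    constructor
    · intro h
      have := congrArg (Submodule.map e.toLinearMap) h
      rwa [Submodule.map_smul'', Submodule.map_top, LinearMap.range_eq_top.2 e.surjective] at this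
    · intro h
      have := congrArg (Submodule.map e.symm.toLinearMap) h
      rwa [Submodule.map_smul'', Submodule.map_top,
        LinearMap.range_eq_top.2 e.symm.surjective] at this
  unfold LocCoh.idealDepth
  by_cases h : I • (⊤ : Submodule R M) = ⊤
  · rw [if_pos h, if_pos (h1.1 h)]
  · rw [if_neg h, if_neg (fun h' => h (h1.2 h'))]
    apply le_antisymm
    · refine iSup₂_le fun rs hrs => ?_
      exact le_iSup₂ (f := fun (rs : List R)
        (_ : IsWeaklyRegular N rs ∧ ∀ r ∈ rs, r ∈ I) => (rs.length : ℕ∞)) rs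
        ⟨(e.isWeaklyRegular_congr rs).1 hrs.1, hrs.2⟩
    · refine iSup₂_le fun rs hrs => ?_
      exact le_iSup₂ (f := fun (rs : List R)
        (_ : IsWeaklyRegular M rs ∧ ∀ r ∈ rs, r ∈ I) => (rs.length : ℕ∞)) rs
        ⟨(e.isWeaklyRegular_congr rs).2 hrs.1, hrs.2⟩

/-- lower bound from a regular sequence -/
theorem length_le_idealDepth (rs : List R) (h : IsWeaklyRegular M rs) (hI : ∀ r ∈ rs, r ∈ I) :
    (rs.length : ℕ∞) ≤ LocCoh.idealDepth I M := by
  classical
  unfold LocCoh.idealDepth
  split_ifs with hIM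
  · exact le_top
  · exact le_iSup₂ (f := fun (rs : List R)
      (_ : IsWeaklyRegular M rs ∧ ∀ r ∈ rs, r ∈ I) => (rs.length : ℕ∞)) rs ⟨h, hI⟩

end General

section Local

variable {A : Type u} [CommRing A] [IsLocalRing A] [IsNoetherianRing A]
variable {M : Type u} [AddCommGroup M] [Module A M] [Module.Finite A M]

theorem depth_congr {N : Type u} [AddCommGroup N] [Module A N] (e : M ≃ₗ[A] N) :
    LocCoh.depth A M = LocCoh.depth A N := idealDepth_congr _ e

omit [IsNoetherianRing A] in
theorem maximalIdeal_smul_top_ne_top [Nontrivial M] :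
    maximalIdeal A • (⊤ : Submodule A M) ≠ ⊤ := by
  intro h
  have h2 : (⊤ : Submodule A M) = ⊥ :=
    Submodule.eq_bot_of_le_smul_of_le_jacobson_bot (maximalIdeal A) ⊤ Module.Finite.fg_top
      (by rw [h]) (IsLocalRing.maximalIdeal_le_jacobson _)
  exact top_ne_bot h2

omit [IsNoetherianRing A] [Module.Finite A M] in
theorem depth_of_subsingleton [Subsingleton M] : LocCoh.depth A M = ⊤ := by
  classical
  unfold LocCoh.depth LocCoh.idealDepth
  rw [if_pos (Subsingleton.elim _ _)]

/-- characterisation of `n ≤ depth` by regular sequences of length exactly `n`. -/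
theorem natCast_le_depth_iff [Nontrivial M] (n : ℕ) :
    (n : ℕ∞) ≤ LocCoh.depth A M ↔
      ∃ rs : List A, rs.length = n ∧ (∀ r ∈ rs, r ∈ maximalIdeal A) ∧ IsWeaklyRegular M rs := by
  constructor
  · intro h
    have hA := (Groth.Agent.S0320.natCast_le_depth_iff A (maximalIdeal A) M
      maximalIdeal_smul_top_ne_top n).1 h
    exact Groth.Agent.S0319.seq_of_A A (maximalIdeal A) M maximalIdeal_smul_top_ne_top n hA
  · rintro ⟨rs, rfl, h2, h3⟩
    exact length_le_idealDepth _ rs h3 h2

/-- a regular sequence in the maximal ideal has length at most `dim M`. -/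
theorem length_le_supportDim [Nontrivial M] (rs : List A) (h : IsWeaklyRegular M rs)
    (hm : ∀ r ∈ rs, r ∈ maximalIdeal A) :
    ((rs.length : ℕ∞) : WithBot ℕ∞) ≤ supportDim A M := by
  have hreg : IsRegular M rs :=
    (IsLocalRing.isRegular_iff_isWeaklyRegular_of_subset_maximalIdeal hm).2 h
  have h1 := supportDim_add_length_eq_supportDim_of_isRegular rs hreg
  have hnt : Nontrivial (M ⧸ (Ideal.ofList rs • ⊤ : Submodule A M)) :=
    Submodule.Quotient.nontrivial_iff.2 hreg.top_ne_smul.symm
  have h2 : supportDim A (M ⧸ (Ideal.ofList rs • ⊤ : Submodule A M)) ≠ ⊥ :=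
    supportDim_ne_bot_of_nontrivial A _
  obtain ⟨d, hd⟩ := WithBot.ne_bot_iff_exists.1 h2
  rw [← h1, ← hd]
  have : ((rs.length : ℕ∞) : WithBot ℕ∞) = ((rs.length : ℕ) : WithBot ℕ∞) := rfl
  rw [this]
  calc ((rs.length : ℕ) : WithBot ℕ∞) = 0 + ((rs.length : ℕ) : WithBot ℕ∞) := by rw [zero_add]
    _ ≤ (d : WithBot ℕ∞) + ((rs.length : ℕ) : WithBot ℕ∞) := by
        gcongr
        exact WithBot.coe_le_coe.2 bot_le

theorem supportDim_ne_top : supportDim A M ≠ ⊤ := by
  have h1 : supportDim A M ≤ ringKrullDim A := supportDim_le_ringKrullDim A M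
  have h2 : ringKrullDim A < ⊤ := ringKrullDim_lt_top
  exact (lt_of_le_of_lt h1 h2).ne

/-- `depth M ≤ dim M` for a nonzero finite module. -/
theorem depth_le_supportDim [Nontrivial M] :
    ((LocCoh.depth A M : ℕ∞) : WithBot ℕ∞) ≤ supportDim A M := by
  classical
  have h2 : supportDim A M ≠ ⊥ := supportDim_ne_bot_of_nontrivial A _
  obtain ⟨d, hd⟩ := WithBot.ne_bot_iff_exists.1 h2
  rw [← hd, WithBot.coe_le_coe]
  unfold LocCoh.depth LocCoh.idealDepth
  rw [if_neg maximalIdeal_smul_top_ne_top]
  refine iSup₂_le fun rs hrs => ?_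
  have := length_le_supportDim rs hrs.1 hrs.2
  rw [← hd, WithBot.coe_le_coe] at this
  exact this

theorem depth_ne_top [Nontrivial M] : LocCoh.depth A M ≠ ⊤ := by
  intro h
  have h1 := depth_le_supportDim (A := A) (M := M)
  rw [h] at h1
  exact supportDim_ne_top (top_le_iff.1 h1)

/-- a maximal regular sequence realising the depth -/
theorem exists_seq_length_eq_depth [Nontrivial M] :
    ∃ rs : List A, (∀ r ∈ rs, r ∈ maximalIdeal A) ∧ IsWeaklyRegular M rs ∧
      (rs.length : ℕ∞) = LocCoh.depth A M := by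
  obtain ⟨n, hn⟩ := ENat.ne_top_iff_exists.1 (depth_ne_top (A := A) (M := M))
  obtain ⟨rs, h1, h2, h3⟩ := (natCast_le_depth_iff (A := A) (M := M) n).1 (by rw [hn])
  exact ⟨rs, h2, h3, by rw [h1, hn]⟩

theorem depth_quotSMulTop [Nontrivial M] (x : A) (hx : x ∈ maximalIdeal A)
    (hreg : IsSMulRegular M x) :
    LocCoh.depth A (QuotSMulTop x M) + 1 = LocCoh.depth A M :=
  Groth.Agent.S0320.result A (maximalIdeal A) M maximalIdeal_smul_top_ne_top x hx hreg

omit [IsNoetherianRing A] in
theorem nontrivial_quotSMulTop [Nontrivial M] (x : A) (hx : x ∈ maximalIdeal A) :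
    Nontrivial (QuotSMulTop x M) := by
  apply Submodule.Quotient.nontrivial_iff.2
  intro h
  apply maximalIdeal_smul_top_ne_top (A := A) (M := M)
  have h1 : (x • ⊤ : Submodule A M) ≤ maximalIdeal A • (⊤ : Submodule A M) := by
    rw [← Submodule.ideal_span_singleton_smul]
    exact Submodule.smul_mono_left ((Ideal.span_singleton_le_iff_mem _).2 hx)
  exact top_le_iff.1 (h.symm.le.trans h1)

omit [IsNoetherianRing A] in
theorem nontrivial_quot_ofList [Nontrivial M] (rs : List A) (hm : ∀ r ∈ rs, r ∈ maximalIdeal A) :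
    Nontrivial (M ⧸ (Ideal.ofList rs • ⊤ : Submodule A M)) := by
  apply Submodule.Quotient.nontrivial_iff.2
  intro h
  apply maximalIdeal_smul_top_ne_top (A := A) (M := M)
  have h0 : Ideal.ofList rs ≤ maximalIdeal A := by
    rw [Ideal.ofList, Ideal.span_le]
    exact fun r hr => hm r hr
  have h1 : (Ideal.ofList rs • ⊤ : Submodule A M) ≤ maximalIdeal A • (⊤ : Submodule A M) :=
    Submodule.smul_mono_left h0
  exact top_le_iff.1 (h.symm.le.trans h1)

/-- `depth (M/(rs)M) + length rs = depth M`. -/
theorem depth_quot_ofList (rs : List A) :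
    ∀ (M : Type u) [AddCommGroup M] [Module A M] [Module.Finite A M] [Nontrivial M],
      (∀ r ∈ rs, r ∈ maximalIdeal A) → IsWeaklyRegular M rs →
      LocCoh.depth A (M ⧸ (Ideal.ofList rs • ⊤ : Submodule A M)) + rs.length = LocCoh.depth A M := by
  induction rs with
  | nil =>
    intro M _ _ _ _ _ _
    have e : (M ⧸ (Ideal.ofList ([] : List A) • ⊤ : Submodule A M)) ≃ₗ[A] M :=
      Submodule.quotEquivOfEqBot _ (by rw [Ideal.ofList_nil, Submodule.bot_smul])
    rw [depth_congr e]
    simp
  | cons x rs ih =>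
    intro M _ _ _ _ hm hreg
    rw [isWeaklyRegular_cons_iff] at hreg
    have hx : x ∈ maximalIdeal A := hm x (List.mem_cons_self)
    have hnt := nontrivial_quotSMulTop (M := M) x hx
    have h1 := ih (QuotSMulTop x M) (fun r hr => hm r (List.mem_cons_of_mem _ hr)) hreg.2
    rw [depth_congr (Submodule.quotOfListConsSMulTopEquivQuotSMulTopInner M x rs),
      List.length_cons, ← depth_quotSMulTop x hx hreg.1, ← h1]
    push_cast
    ring

end Local

end Groth.Agent.Lib.Helper21.DepthKit
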