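import Mathlib
import Groth.Agent.Lib.Helper21.DepthKit1

/-!
# Depth toolkit, part 2 (helper21): `depth M ≤ dim A/p` for associated primes, Cohen–Macaulay
modules: unmixedness, quotients by regular sequences.
-/

namespace Groth.Agent.Lib.Helper21.DepthKit

open RingTheory.Sequence IsLocalRing Module Pointwise

universe u

section Local

variable {A : Type u} [CommRing A] [IsLocalRing A] [IsNoetherianRing A]

theorem exists_regular_of_one_le_depth {M : Type u} [AddCommGroup M] [Module A M]
    [Module.Finite A M] [Nontrivial M] (h : 1 ≤ LocCoh.depth A M) :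
    ∃ x ∈ maximalIdeal A, IsSMulRegular M x := by
  obtain ⟨rs, h1, h2, h3⟩ := (natCast_le_depth_iff (A := A) (M := M) 1).1 (by exact_mod_cast h)
  match rs, h1, h2, h3 with
  | [x], _, h2, h3 =>
    rw [isWeaklyRegular_cons_iff] at h3
    exact ⟨x, h2 x (List.mem_singleton.2 rfl), h3.1⟩

omit [IsLocalRing A] in
theorem notMem_of_isSMulRegular_of_mem_associatedPrimes {M : Type u} [AddCommGroup M] [Module A M]
    {x : A} (hx : IsSMulRegular M x) {p : Ideal A} (hp : p ∈ associatedPrimes A M) : x ∉ p := by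
  intro hxp
  have h1 : x ∈ ⋃ p ∈ associatedPrimes A M, (p : Set A) := by
    simp only [Set.mem_iUnion]
    exact ⟨p, hp, hxp⟩
  rw [biUnion_associatedPrimes_eq_compl_regular] at h1
  exact h1 hx

omit [IsLocalRing A] in
theorem ringKrullDim_quotient_le_supportDim_of_mem_associatedPrimes {M : Type u} [AddCommGroup M]
    [Module A M] {p : Ideal A} (hp : p ∈ associatedPrimes A M) :
    ringKrullDim (A ⧸ p) ≤ supportDim A M := by
  obtain ⟨_, f, hf⟩ := (isAssociatedPrime_iff_exists_injective_linearMap p M).1 hp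
  rw [← supportDim_quotient_eq_ringKrullDim]
  exact supportDim_le_of_injective f hf

omit [IsLocalRing A] [IsNoetherianRing A] in
/-- for primes `p < q` we have `dim A/q + 1 ≤ dim A/p`. -/
theorem ringKrullDim_quotient_succ_le_of_lt {p q : Ideal A} [p.IsPrime] (x : A) (hxp : x ∉ p)
    (hpq : p ⊔ Ideal.span {x} ≤ q) :
    ringKrullDim (A ⧸ q) + 1 ≤ ringKrullDim (A ⧸ p) := by
  have hx0 : Ideal.Quotient.mk p x ∈ nonZeroDivisors (A ⧸ p) := by
    apply mem_nonZeroDivisors_of_ne_zero
    rwa [ne_eq, Ideal.Quotient.eq_zero_iff_mem]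
  have h1 := ringKrullDim_quotient_succ_le_of_nonZeroDivisor hx0
  refine le_trans ?_ h1
  gcongr
  -- surjection (A/p)/(x̄) → A/q
  have hle : Ideal.span {Ideal.Quotient.mk p x} ≤ q.map (Ideal.Quotient.mk p) := by
    rw [Ideal.span_le]
    rintro _ rfl
    exact Ideal.mem_map_of_mem _ (hpq (Ideal.mem_sup_right (Ideal.mem_span_singleton_self x)))
  let g : (A ⧸ p) ⧸ Ideal.span {Ideal.Quotient.mk p x} →+* A ⧸ q :=
    Ideal.Quotient.lift _ (Ideal.Quotient.lift p (Ideal.Quotient.mk q)
      (fun a ha => Ideal.Quotient.eq_zero_iff_mem.2 (hpq (Ideal.mem_sup_left ha))))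
      (by
        intro a ha
        obtain ⟨a, rfl⟩ := Ideal.Quotient.mk_surjective a
        have := hle ha
        rw [Ideal.mem_map_iff_of_surjective _ Ideal.Quotient.mk_surjective] at this
        obtain ⟨b, hb, hba⟩ := this
        rw [Ideal.Quotient.lift_mk, Ideal.Quotient.eq_zero_iff_mem]
        have : a - b ∈ p := by
          rw [← Ideal.Quotient.eq_zero_iff_mem, map_sub, hba, sub_self]
        have hab : a = (a - b) + b := by ring
        rw [hab]
        exact q.add_mem (hpq (Ideal.mem_sup_left this)) hb)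
  have hg : Function.Surjective g := by
    intro y
    obtain ⟨a, rfl⟩ := Ideal.Quotient.mk_surjective y
    exact ⟨Ideal.Quotient.mk _ (Ideal.Quotient.mk p a), rfl⟩
  exact ringKrullDim_le_of_surjective g hg

/-- Bruns–Herzog 1.2.13: `depth M ≤ dim A/p` for every associated prime `p` of `M`. -/
theorem depth_le_ringKrullDim_quotient_aux (n : ℕ) :
    ∀ (M : Type u) [AddCommGroup M] [Module A M] [Module.Finite A M] [Nontrivial M],
      LocCoh.depth A M = n → ∀ p ∈ associatedPrimes A M,
        ((n : ℕ∞) : WithBot ℕ∞) ≤ ringKrullDim (A ⧸ p) := by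
  induction n with
  | zero =>
    intro M _ _ _ _ _ p hp
    have : p.IsPrime := hp.isPrime
    have : Nontrivial (A ⧸ p) := Ideal.Quotient.nontrivial_iff.2 this.ne_top
    exact ringKrullDim_nonneg_of_nontrivial
  | succ n ih =>
    intro M _ _ _ _ hd p hp
    have hpp : p.IsPrime := hp.isPrime
    obtain ⟨x, hxm, hx⟩ := exists_regular_of_one_le_depth (A := A) (M := M) (by rw [hd]; simp)
    have hxp : x ∉ p := notMem_of_isSMulRegular_of_mem_associatedPrimes hx hp
    have hne : p ⊔ Ideal.span {x} ≠ ⊤ := by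
      intro h
      have h1 : p ⊔ Ideal.span {x} ≤ maximalIdeal A :=
        sup_le (IsLocalRing.le_maximalIdeal hpp.ne_top)
          ((Ideal.span_singleton_le_iff_mem _).2 hxm)
      rw [h] at h1
      exact (IsLocalRing.maximalIdeal.isMaximal A).ne_top (top_le_iff.1 h1)
    obtain ⟨q, hq⟩ := Ideal.nonempty_minimalPrimes hne
    have hqA : q ∈ associatedPrimes A (QuotSMulTop x M) :=
      Groth.Agent.S5754.result A M x hx p hp q hq
    have hnt := nontrivial_quotSMulTop (M := M) x hxm
    have hd' : LocCoh.depth A (QuotSMulTop x M) = n := by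
      have h1 := depth_quotSMulTop (M := M) x hxm hx
      rw [hd] at h1
      have h2 : LocCoh.depth A (QuotSMulTop x M) ≠ ⊤ := depth_ne_top
      obtain ⟨k, hk⟩ := ENat.ne_top_iff_exists.1 h2
      rw [← hk] at h1 ⊢
      have : k + 1 = n + 1 := by exact_mod_cast h1
      have : k = n := by omega
      rw [this]
    have h2 := ih (QuotSMulTop x M) hd' q hqA
    have h3 := ringKrullDim_quotient_succ_le_of_lt (p := p) (q := q) x hxp hq.1.2
    calc (((n + 1 : ℕ) : ℕ∞) : WithBot ℕ∞) = ((n : ℕ∞) : WithBot ℕ∞) + 1 := by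
          push_cast; rfl
      _ ≤ ringKrullDim (A ⧸ q) + 1 := by gcongr
      _ ≤ ringKrullDim (A ⧸ p) := h3

theorem depth_le_ringKrullDim_quotient_of_mem_associatedPrimes {M : Type u} [AddCommGroup M]
    [Module A M] [Module.Finite A M] {p : Ideal A} (hp : p ∈ associatedPrimes A M) :
    ((LocCoh.depth A M : ℕ∞) : WithBot ℕ∞) ≤ ringKrullDim (A ⧸ p) := by
  have hnt : Nontrivial M := by
    by_contra h
    rw [not_nontrivial_iff_subsingleton] at h
    exact not_isAssociatedPrime_of_subsingleton hp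
  obtain ⟨n, hn⟩ := ENat.ne_top_iff_exists.1 (depth_ne_top (A := A) (M := M))
  rw [← hn]
  exact depth_le_ringKrullDim_quotient_aux n M hn.symm p hp

end Local

end Groth.Agent.Lib.Helper21.DepthKit
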