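import Mathlib
import Groth.Agent.Lib.Helper21.DepthKit2

/-!
# Depth toolkit, part 3 (helper21): Cohen–Macaulay modules over Noetherian local rings.
-/

namespace Groth.Agent.Lib.Helper21.DepthKit

open RingTheory.Sequence IsLocalRing Module Pointwise

universe u

section Local

variable {A : Type u} [CommRing A] [IsLocalRing A] [IsNoetherianRing A]
variable {M : Type u} [AddCommGroup M] [Module A M] [Module.Finite A M]

theorem exists_nat_supportDim [Nontrivial M] : ∃ n : ℕ, supportDim A M = (n : WithBot ℕ∞) := by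
  have h2 : supportDim A M ≠ ⊥ := supportDim_ne_bot_of_nontrivial A _
  obtain ⟨d, hd⟩ := WithBot.ne_bot_iff_exists.1 h2
  have h3 : d ≠ ⊤ := by
    intro h
    apply supportDim_ne_top (A := A) (M := M)
    rw [← hd, h]; rfl
  obtain ⟨n, hn⟩ := ENat.ne_top_iff_exists.1 h3
  exact ⟨n, by rw [← hd, ← hn]; rfl⟩

theorem exists_nat_depth [Nontrivial M] : ∃ k : ℕ, LocCoh.depth A M = (k : ℕ∞) := by
  obtain ⟨n, hn⟩ := ENat.ne_top_iff_exists.1 (depth_ne_top (A := A) (M := M))
  exact ⟨n, hn.symm⟩

omit [IsNoetherianRing A] [Module.Finite A M] in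
theorem nontrivial_of_isCM (h : LocCoh.IsCohenMacaulayModule A M) : Nontrivial M := by
  by_contra hn
  rw [not_nontrivial_iff_subsingleton] at hn
  unfold LocCoh.IsCohenMacaulayModule at h
  rw [supportDim_eq_bot_of_subsingleton] at h
  exact WithBot.bot_ne_coe h

/-- CM iff the natural numbers `dim` and `depth` agree. -/
theorem isCM_iff_nat [Nontrivial M] {n k : ℕ} (hn : supportDim A M = (n : WithBot ℕ∞))
    (hk : LocCoh.depth A M = (k : ℕ∞)) : LocCoh.IsCohenMacaulayModule A M ↔ n = k := by
  unfold LocCoh.IsCohenMacaulayModule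
  rw [hn, hk]
  constructor
  · intro h
    have : ((n : ℕ∞) : WithBot ℕ∞) = ((k : ℕ∞) : WithBot ℕ∞) := h
    exact_mod_cast this
  · rintro rfl; rfl

theorem supportDim_quotSMulTop_nat [Nontrivial M] {n : ℕ} (hn : supportDim A M = (n : WithBot ℕ∞))
    (x : A) (hx : x ∈ maximalIdeal A) (hreg : IsSMulRegular M x) :
    1 ≤ n ∧ supportDim A (QuotSMulTop x M) = ((n - 1 : ℕ) : WithBot ℕ∞) := by
  have hnt := nontrivial_quotSMulTop (M := M) x hx
  obtain ⟨m, hm⟩ := exists_nat_supportDim (A := A) (M := QuotSMulTop x M)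
  have h1 := supportDim_quotSMulTop_succ_eq_supportDim hreg hx
  rw [hn, hm] at h1
  have h2 : m + 1 = n := by exact_mod_cast h1
  refine ⟨by omega, ?_⟩
  rw [hm]
  congr 1
  omega

theorem depth_quotSMulTop_nat [Nontrivial M] {k : ℕ} (hk : LocCoh.depth A M = (k : ℕ∞))
    (x : A) (hx : x ∈ maximalIdeal A) (hreg : IsSMulRegular M x) :
    1 ≤ k ∧ LocCoh.depth A (QuotSMulTop x M) = ((k - 1 : ℕ) : ℕ∞) := by
  have hnt := nontrivial_quotSMulTop (M := M) x hx
  obtain ⟨m, hm⟩ := exists_nat_depth (A := A) (M := QuotSMulTop x M)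
  have h1 := depth_quotSMulTop (M := M) x hx hreg
  rw [hk, hm] at h1
  have h2 : m + 1 = k := by exact_mod_cast h1
  refine ⟨by omega, ?_⟩
  rw [hm]
  congr 1
  omega

/-- quotient of a CM module by a regular element is CM. -/
theorem isCM_quotSMulTop (h : LocCoh.IsCohenMacaulayModule A M) (x : A)
    (hx : x ∈ maximalIdeal A) (hreg : IsSMulRegular M x) :
    LocCoh.IsCohenMacaulayModule A (QuotSMulTop x M) := by
  have hnt := nontrivial_of_isCM h
  have hnt' := nontrivial_quotSMulTop (M := M) x hx
  obtain ⟨n, hn⟩ := exists_nat_supportDim (A := A) (M := M)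
  obtain ⟨k, hk⟩ := exists_nat_depth (A := A) (M := M)
  have hnk := (isCM_iff_nat hn hk).1 h
  obtain ⟨-, h1⟩ := supportDim_quotSMulTop_nat hn x hx hreg
  obtain ⟨-, h2⟩ := depth_quotSMulTop_nat hk x hx hreg
  rw [isCM_iff_nat h1 h2, hnk]

omit [IsNoetherianRing A] [Module.Finite A M] in
theorem isCM_congr {N : Type u} [AddCommGroup N] [Module A N] (e : M ≃ₗ[A] N)
    (h : LocCoh.IsCohenMacaulayModule A M) : LocCoh.IsCohenMacaulayModule A N := by
  unfold LocCoh.IsCohenMacaulayModule at h ⊢
  rw [← supportDim_eq_of_equiv e, h]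
  have : LocCoh.depth A M = LocCoh.depth A N := idealDepth_congr _ e
  rw [this]

/-- quotient of a CM module by a regular sequence is CM. -/
theorem isCM_quot_ofList (rs : List A) :
    ∀ (M : Type u) [AddCommGroup M] [Module A M] [Module.Finite A M],
      LocCoh.IsCohenMacaulayModule A M → (∀ r ∈ rs, r ∈ maximalIdeal A) →
      IsWeaklyRegular M rs →
      LocCoh.IsCohenMacaulayModule A (M ⧸ (Ideal.ofList rs • ⊤ : Submodule A M)) := by
  induction rs with
  | nil =>
    intro M _ _ _ h _ _
    have e : (M ⧸ (Ideal.ofList ([] : List A) • ⊤ : Submodule A M)) ≃ₗ[A] M :=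
      Submodule.quotEquivOfEqBot _ (by rw [Ideal.ofList_nil, Submodule.bot_smul])
    exact isCM_congr e.symm h
  | cons x rs ih =>
    intro M _ _ _ h hm hreg
    rw [isWeaklyRegular_cons_iff] at hreg
    have hx : x ∈ maximalIdeal A := hm x (List.mem_cons_self)
    have h1 := ih (QuotSMulTop x M) (isCM_quotSMulTop h x hx hreg.1)
      (fun r hr => hm r (List.mem_cons_of_mem _ hr)) hreg.2
    exact isCM_congr (Submodule.quotOfListConsSMulTopEquivQuotSMulTopInner M x rs).symm h1

/-- unmixedness: all associated primes of a CM module have the same dimension. -/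
theorem ringKrullDim_quotient_eq_supportDim_of_isCM (h : LocCoh.IsCohenMacaulayModule A M)
    {p : Ideal A} (hp : p ∈ associatedPrimes A M) : ringKrullDim (A ⧸ p) = supportDim A M := by
  apply le_antisymm (ringKrullDim_quotient_le_supportDim_of_mem_associatedPrimes hp)
  unfold LocCoh.IsCohenMacaulayModule at h
  rw [h]
  exact depth_le_ringKrullDim_quotient_of_mem_associatedPrimes hp

omit [IsLocalRing A] [IsNoetherianRing A] in
theorem ringKrullDim_quotient_le_supportDim_of_mem_support {p : PrimeSpectrum A}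
    (hp : p ∈ Module.support A M) : ringKrullDim (A ⧸ p.asIdeal) ≤ supportDim A M := by
  rw [supportDim_eq_ringKrullDim_quotient_annihilator]
  have hle : Module.annihilator A M ≤ p.asIdeal := Module.mem_support_iff_of_finite.1 hp
  exact ringKrullDim_le_of_surjective (Ideal.Quotient.factor hle)
    (Ideal.Quotient.factor_surjective hle)

/-- `dim N ≤ dim N/(xs)N + length xs` for `xs` in the maximal ideal. -/
theorem supportDim_le_quot_ofList_add_length (xs : List A) :
    ∀ (M : Type u) [AddCommGroup M] [Module A M] [Module.Finite A M],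
      (∀ r ∈ xs, r ∈ maximalIdeal A) →
      supportDim A M ≤ supportDim A (M ⧸ (Ideal.ofList xs • ⊤ : Submodule A M)) + xs.length := by
  induction xs with
  | nil =>
    intro M _ _ _ _
    have e : (M ⧸ (Ideal.ofList ([] : List A) • ⊤ : Submodule A M)) ≃ₗ[A] M :=
      Submodule.quotEquivOfEqBot _ (by rw [Ideal.ofList_nil, Submodule.bot_smul])
    rw [supportDim_eq_of_equiv e]
    simp
  | cons x xs ih =>
    intro M _ _ _ hm
    have hx : x ∈ maximalIdeal A := hm x (List.mem_cons_self)
    have h1 := supportDim_le_supportDim_quotSMulTop_succ (M := M) hx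
    have h2 := ih (QuotSMulTop x M) (fun r hr => hm r (List.mem_cons_of_mem _ hr))
    rw [supportDim_eq_of_equiv (Submodule.quotOfListConsSMulTopEquivQuotSMulTopInner M x xs)]
    calc supportDim A M ≤ supportDim A (QuotSMulTop x M) + 1 := h1
      _ ≤ (supportDim A (QuotSMulTop x M ⧸
            (Ideal.ofList xs • ⊤ : Submodule A (QuotSMulTop x M))) + xs.length) + 1 := by gcongr
      _ = _ := by rw [List.length_cons]; push_cast; ring

/-- if `𝔪` is not an associated prime there is a regular element in `𝔪`. -/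
theorem exists_regular_of_maximalIdeal_notMem [Nontrivial M]
    (h : maximalIdeal A ∉ associatedPrimes A M) : ∃ x ∈ maximalIdeal A, IsSMulRegular M x := by
  apply exists_regular_of_one_le_depth
  have h0 : LocCoh.depth A M ≠ 0 := fun h0 => h ((Groth.Agent.S5752.result A M).1 h0)
  exact Order.one_le_iff_pos.2 (pos_iff_ne_zero.2 h0)

end Local

end Groth.Agent.Lib.Helper21.DepthKit
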