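import Mathlib
import Groth.Agent.Lib.Helper21.DepthKit3

/-!
# Depth toolkit, part 4 (helper21): parameter sequences on Cohen–Macaulay modules are regular;
converse unmixedness criterion.
-/

namespace Groth.Agent.Lib.Helper21.DepthKit

open RingTheory.Sequence IsLocalRing Module Pointwise

universe u

section Local

variable {A : Type u} [CommRing A] [IsLocalRing A] [IsNoetherianRing A]

omit [IsLocalRing A] in
theorem mem_support_of_mem_associatedPrimes {M : Type u} [AddCommGroup M] [Module A M]
    [Module.Finite A M] {p : Ideal A} (hp : p ∈ associatedPrimes A M) :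
    (⟨p, hp.isPrime⟩ : PrimeSpectrum A) ∈ Module.support A M := by
  rw [Module.mem_support_iff_of_finite]
  have := IsAssociatedPrime.annihilator_le hp
  rwa [Submodule.annihilator_top] at this

omit [IsLocalRing A] in
theorem exists_mem_associatedPrimes_of_not_isSMulRegular {M : Type u} [AddCommGroup M] [Module A M]
    {x : A} (hx : ¬ IsSMulRegular M x) : ∃ p ∈ associatedPrimes A M, x ∈ p := by
  have h1 : x ∈ ({r : A | IsSMulRegular M r}ᶜ : Set A) := hx
  rw [← biUnion_associatedPrimes_eq_compl_regular] at h1
  simp only [Set.mem_iUnion] at h1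
  obtain ⟨p, hp, hxp⟩ := h1
  exact ⟨p, hp, hxp⟩

/-- on a CM module, a sequence in `𝔪` cutting the dimension by its length is regular. -/
theorem isWeaklyRegular_of_supportDim_drop (xs : List A) :
    ∀ (M : Type u) [AddCommGroup M] [Module A M] [Module.Finite A M],
      LocCoh.IsCohenMacaulayModule A M → (∀ r ∈ xs, r ∈ maximalIdeal A) →
      supportDim A (M ⧸ (Ideal.ofList xs • ⊤ : Submodule A M)) + xs.length = supportDim A M →
      IsWeaklyRegular M xs := by
  induction xs with
  | nil => intro M _ _ _ _ _ _; exact IsWeaklyRegular.nil A M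
  | cons x xs ih =>
    intro M _ _ _ hM hm heq
    have hnt := nontrivial_of_isCM hM
    have hx : x ∈ maximalIdeal A := hm x (List.mem_cons_self)
    have hxs : ∀ r ∈ xs, r ∈ maximalIdeal A := fun r hr => hm r (List.mem_cons_of_mem _ hr)
    have hnt1 := nontrivial_quotSMulTop (M := M) x hx
    have hnt2 := nontrivial_quot_ofList (M := QuotSMulTop x M) xs hxs
    obtain ⟨n, hn⟩ := exists_nat_supportDim (A := A) (M := M)
    obtain ⟨m₁, hm₁⟩ := exists_nat_supportDim (A := A) (M := QuotSMulTop x M)
    obtain ⟨q, hq⟩ := exists_nat_supportDim (A := A)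
      (M := QuotSMulTop x M ⧸ (Ideal.ofList xs • ⊤ : Submodule A (QuotSMulTop x M)))
    rw [supportDim_eq_of_equiv (Submodule.quotOfListConsSMulTopEquivQuotSMulTopInner M x xs),
      hq, hn, List.length_cons] at heq
    have heq' : q + (xs.length + 1) = n := by exact_mod_cast heq
    have h1 := supportDim_le_supportDim_quotSMulTop_succ (M := M) hx
    rw [hn, hm₁] at h1
    have h1' : n ≤ m₁ + 1 := by exact_mod_cast h1
    have h2 := supportDim_le_quot_ofList_add_length xs (QuotSMulTop x M) hxs
    rw [hm₁, hq] at h2
    have h2' : m₁ ≤ q + xs.length := by exact_mod_cast h2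
    have hreg : IsSMulRegular M x := by
      by_contra hcon
      obtain ⟨p, hp, hxp⟩ := exists_mem_associatedPrimes_of_not_isSMulRegular hcon
      have hdim := ringKrullDim_quotient_eq_supportDim_of_isCM hM hp
      have hsupp : (⟨p, hp.isPrime⟩ : PrimeSpectrum A) ∈ Module.support A (QuotSMulTop x M) := by
        rw [Module.support_quotSMulTop]
        refine ⟨mem_support_of_mem_associatedPrimes hp, ?_⟩
        rw [PrimeSpectrum.mem_zeroLocus]
        intro y hy
        rw [Set.mem_singleton_iff.1 hy]
        exact hxp
      have h3 := ringKrullDim_quotient_le_supportDim_of_mem_support hsupp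
      rw [hm₁] at h3
      have h4 : ringKrullDim (A ⧸ p) = (n : WithBot ℕ∞) := by rw [hdim, hn]
      have h5 : (n : WithBot ℕ∞) ≤ (m₁ : WithBot ℕ∞) := by rw [← h4]; exact h3
      have h5' : n ≤ m₁ := by exact_mod_cast h5
      omega
    have hM1 := isCM_quotSMulTop hM x hx hreg
    have h3 : supportDim A (QuotSMulTop x M ⧸ (Ideal.ofList xs • ⊤ :
        Submodule A (QuotSMulTop x M))) + xs.length = supportDim A (QuotSMulTop x M) := by
      rw [hq, hm₁]
      have : q + xs.length = m₁ := by omega
      exact_mod_cast this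
    exact (isWeaklyRegular_cons_iff M x xs).2 ⟨hreg, ih (QuotSMulTop x M) hM1 hxs h3⟩

/-- converse: if all partial-parameter quotients are unmixed then `M` is CM. -/
theorem isCM_of_unmixed_aux (d : ℕ) :
    ∀ (M : Type u) [AddCommGroup M] [Module A M] [Module.Finite A M] [Nontrivial M],
      supportDim A M = (d : WithBot ℕ∞) →
      (∀ xs : List A, (∀ x ∈ xs, x ∈ maximalIdeal A) →
        supportDim A (M ⧸ (Ideal.ofList xs • (⊤ : Submodule A M))) + xs.length = supportDim A M →
          ∀ p ∈ associatedPrimes A (M ⧸ (Ideal.ofList xs • (⊤ : Submodule A M))),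
            ringKrullDim (A ⧸ p) =
              supportDim A (M ⧸ (Ideal.ofList xs • (⊤ : Submodule A M)))) →
      (d : ℕ∞) ≤ LocCoh.depth A M := by
  induction d with
  | zero => intro M _ _ _ _ _ _; simp
  | succ d ih =>
    intro M _ _ _ _ hd h
    -- `𝔪` is not associated
    have e0 : (M ⧸ (Ideal.ofList ([] : List A) • ⊤ : Submodule A M)) ≃ₗ[A] M :=
      Submodule.quotEquivOfEqBot _ (by rw [Ideal.ofList_nil, Submodule.bot_smul])
    have hm : maximalIdeal A ∉ associatedPrimes A M := by
      intro hmem
      have hmem' : maximalIdeal A ∈ associatedPrimes A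
          (M ⧸ (Ideal.ofList ([] : List A) • ⊤ : Submodule A M)) := by
        rw [LinearEquiv.AssociatedPrimes.eq e0]; exact hmem
      have h1 := h [] (by simp) (by rw [supportDim_eq_of_equiv e0]; simp) _ hmem'
      rw [supportDim_eq_of_equiv e0, hd] at h1
      have h2 : ringKrullDim (A ⧸ maximalIdeal A) = 0 := ringKrullDim_eq_zero_of_isField
        ((Ideal.Quotient.maximal_ideal_iff_isField_quotient _).1 inferInstance)
      rw [h2] at h1
      have : (0 : ℕ) = d + 1 := by exact_mod_cast h1
      omega
    obtain ⟨x, hx, hreg⟩ := exists_regular_of_maximalIdeal_notMem hm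
    have hnt1 := nontrivial_quotSMulTop (M := M) x hx
    obtain ⟨-, hd1⟩ := supportDim_quotSMulTop_nat hd x hx hreg
    have hd1' : supportDim A (QuotSMulTop x M) = (d : WithBot ℕ∞) := by
      rw [hd1]; congr 1
    have hdep := ih (QuotSMulTop x M) hd1' (by
      intro xs hxs heq p hp
      have e := Submodule.quotOfListConsSMulTopEquivQuotSMulTopInner M x xs
      have hm' : ∀ r ∈ x :: xs, r ∈ maximalIdeal A := by
        intro r hr
        rcases List.mem_cons.1 hr with rfl | hr
        · exact hx
        · exact hxs r hr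
      have heq' : supportDim A (M ⧸ (Ideal.ofList (x :: xs) • (⊤ : Submodule A M))) +
          (x :: xs).length = supportDim A M := by
        rw [supportDim_eq_of_equiv e, List.length_cons, hd]
        rw [hd1'] at heq
        push_cast
        rw [← add_assoc, heq]
      have hp' : p ∈ associatedPrimes A (M ⧸ (Ideal.ofList (x :: xs) • (⊤ : Submodule A M))) := by
        rw [LinearEquiv.AssociatedPrimes.eq e]; exact hp
      have := h (x :: xs) hm' heq' p hp'
      rw [supportDim_eq_of_equiv e] at this
      exact this)
    rw [← depth_quotSMulTop (M := M) x hx hreg]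
    push_cast
    gcongr

theorem isCM_of_unmixed {M : Type u} [AddCommGroup M] [Module A M] [Module.Finite A M]
    [Nontrivial M]
    (h : ∀ xs : List A, (∀ x ∈ xs, x ∈ maximalIdeal A) →
        supportDim A (M ⧸ (Ideal.ofList xs • (⊤ : Submodule A M))) + xs.length = supportDim A M →
          ∀ p ∈ associatedPrimes A (M ⧸ (Ideal.ofList xs • (⊤ : Submodule A M))),
            ringKrullDim (A ⧸ p) =
              supportDim A (M ⧸ (Ideal.ofList xs • (⊤ : Submodule A M)))) :
    LocCoh.IsCohenMacaulayModule A M := by
  obtain ⟨d, hd⟩ := exists_nat_supportDim (A := A) (M := M)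
  obtain ⟨k, hk⟩ := exists_nat_depth (A := A) (M := M)
  rw [isCM_iff_nat hd hk]
  have h1 := isCM_of_unmixed_aux d M hd h
  rw [hk] at h1
  have h1' : d ≤ k := by exact_mod_cast h1
  have h2 := depth_le_supportDim (A := A) (M := M)
  rw [hk, hd] at h2
  have h2' : k ≤ d := by exact_mod_cast h2
  omega

end Local

end Groth.Agent.Lib.Helper21.DepthKit
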