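import Mathlib
import Groth.Agent.Lib.Helper21.DepthKit4

/-!
# Depth toolkit, part 5 (helper21): regular sequences inside a prime of the support of a
Cohen–Macaulay module (`grade(p, M) = dim M - dim M/pM`).
-/

namespace Groth.Agent.Lib.Helper21.DepthKit

open RingTheory.Sequence IsLocalRing Module Pointwise

universe u

section Noeth

variable {A : Type u} [CommRing A] [IsNoetherianRing A]
variable {M : Type u} [AddCommGroup M] [Module A M] [Module.Finite A M]

/-- an ideal consisting of zero divisors lies in an associated prime. -/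
theorem exists_le_associatedPrime_of_forall_not_isSMulRegular (I : Ideal A)
    (h : ∀ x ∈ I, ¬ IsSMulRegular M x) : ∃ q ∈ associatedPrimes A M, I ≤ q := by
  have hfin : (associatedPrimes A M).Finite := associatedPrimes.finite A M
  have hsub : (I : Set A) ⊆ ⋃ q ∈ (↑hfin.toFinset : Set (Ideal A)), (q : Set A) := by
    intro x hx
    obtain ⟨q, hq, hxq⟩ := exists_mem_associatedPrimes_of_not_isSMulRegular (h x hx)
    simp only [Set.mem_iUnion]
    exact ⟨q, by simpa using hq, hxq⟩
  have := (Ideal.subset_union_prime (f := fun q : Ideal A => q) (s := hfin.toFinset) ⊥ ⊥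
    (fun q hq _ _ => by
      have : q ∈ associatedPrimes A M := by simpa using hq
      exact this.isPrime)).1 hsub
  obtain ⟨q, hq, hIq⟩ := this
  exact ⟨q, by simpa using hq, hIq⟩

omit [IsNoetherianRing A] in
/-- `dim M/pM = dim A/p` for `p` in the support. -/
theorem supportDim_quot_smul_top_eq (p : PrimeSpectrum A) (hp : p ∈ Module.support A M) :
    supportDim A (M ⧸ (p.asIdeal • (⊤ : Submodule A M))) = ringKrullDim (A ⧸ p.asIdeal) := by
  rw [← supportDim_quotient_eq_ringKrullDim]
  have h1 : Module.support A (M ⧸ (p.asIdeal • (⊤ : Submodule A M))) =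
      Module.support A (A ⧸ p.asIdeal) := by
    rw [Module.support_quotient, Module.support_eq_zeroLocus (M := A ⧸ p.asIdeal),
      Ideal.annihilator_quotient]
    apply Set.inter_eq_right.2
    intro q hq
    rw [Module.mem_support_iff_of_finite] at hp ⊢
    exact hp.trans ((PrimeSpectrum.mem_zeroLocus _ _).1 hq)
  unfold supportDim
  rw [h1]

end Noeth

section Local

variable {A : Type u} [CommRing A] [IsLocalRing A] [IsNoetherianRing A]

/-- B–H 2.1.2(b) (existence part): in a CM module, a prime `p` of the support contains an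
`M`-regular sequence of length `dim M - dim M/pM`. -/
theorem exists_isWeaklyRegular_in_prime_of_isCM (r : ℕ) :
    ∀ (M : Type u) [AddCommGroup M] [Module A M] [Module.Finite A M],
      LocCoh.IsCohenMacaulayModule A M → ∀ (p : PrimeSpectrum A), p ∈ Module.support A M →
      supportDim A (M ⧸ (p.asIdeal • (⊤ : Submodule A M))) + r = supportDim A M →
      ∃ xs : List A, xs.length = r ∧ (∀ x ∈ xs, x ∈ p.asIdeal) ∧ IsWeaklyRegular M xs := by
  induction r with
  | zero =>
    intro M _ _ _ _ p _ _
    exact ⟨[], rfl, by simp, IsWeaklyRegular.nil A M⟩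
  | succ r ih =>
    intro M _ _ _ hM p hp hr
    have hnt := nontrivial_of_isCM hM
    obtain ⟨n, hn⟩ := exists_nat_supportDim (A := A) (M := M)
    have hpm : p.asIdeal ≤ maximalIdeal A := IsLocalRing.le_maximalIdeal p.2.ne_top
    have hdimp := supportDim_quot_smul_top_eq p hp
    have hntp : Nontrivial (A ⧸ p.asIdeal) := Ideal.Quotient.nontrivial_iff.2 p.2.ne_top
    -- `dim A/p` as a natural number
    obtain ⟨c, hc⟩ : ∃ c : ℕ, ringKrullDim (A ⧸ p.asIdeal) = (c : WithBot ℕ∞) := by
      have h1 : ringKrullDim (A ⧸ p.asIdeal) ≠ ⊥ := by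
        intro h
        have h0 := ringKrullDim_nonneg_of_nontrivial (R := A ⧸ p.asIdeal)
        rw [h] at h0
        exact absurd h0 (by simp)
      obtain ⟨d, hd⟩ := WithBot.ne_bot_iff_exists.1 h1
      have h2 : ringKrullDim (A ⧸ p.asIdeal) ≤ ringKrullDim A :=
        ringKrullDim_le_of_surjective _ Ideal.Quotient.mk_surjective
      have h3 : d ≠ ⊤ := by
        rintro rfl
        rw [← hd] at h2
        exact (lt_of_le_of_lt h2 ringKrullDim_lt_top).ne rfl
      obtain ⟨c, rfl⟩ := ENat.ne_top_iff_exists.1 h3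
      exact ⟨c, hd.symm⟩
    rw [hdimp, hc, hn] at hr
    have hr' : c + (r + 1) = n := by exact_mod_cast hr
    -- a regular element in `p`
    have hex : ∃ x ∈ p.asIdeal, IsSMulRegular M x := by
      by_contra hcon
      push Not at hcon
      obtain ⟨q, hq, hpq⟩ := exists_le_associatedPrime_of_forall_not_isSMulRegular p.asIdeal hcon
      have hdq := ringKrullDim_quotient_eq_supportDim_of_isCM hM hq
      have h1 : ringKrullDim (A ⧸ q) ≤ ringKrullDim (A ⧸ p.asIdeal) :=
        ringKrullDim_le_of_surjective (Ideal.Quotient.factor hpq)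
          (Ideal.Quotient.factor_surjective hpq)
      rw [hdq, hn, hc] at h1
      have : n ≤ c := by exact_mod_cast h1
      omega
    obtain ⟨x, hxp, hreg⟩ := hex
    have hx : x ∈ maximalIdeal A := hpm hxp
    have hM1 := isCM_quotSMulTop hM x hx hreg
    have hnt1 := nontrivial_quotSMulTop (M := M) x hx
    have hp1 : p ∈ Module.support A (QuotSMulTop x M) := by
      rw [Module.support_quotSMulTop]
      refine ⟨hp, ?_⟩
      rw [PrimeSpectrum.mem_zeroLocus]
      intro y hy
      rw [Set.mem_singleton_iff.1 hy]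
      exact hxp
    obtain ⟨-, hd1⟩ := supportDim_quotSMulTop_nat hn x hx hreg
    have hr1 : supportDim A (QuotSMulTop x M ⧸ (p.asIdeal • (⊤ : Submodule A (QuotSMulTop x M)))) + r
        = supportDim A (QuotSMulTop x M) := by
      rw [supportDim_quot_smul_top_eq p hp1, hc, hd1]
      have : c + r = n - 1 := by omega
      exact_mod_cast this
    obtain ⟨xs, h1, h2, h3⟩ := ih (QuotSMulTop x M) hM1 p hp1 hr1
    refine ⟨x :: xs, by rw [List.length_cons, h1], ?_, (isWeaklyRegular_cons_iff M x xs).2 ⟨hreg, h3⟩⟩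
    intro y hy
    rcases List.mem_cons.1 hy with rfl | hy
    · exact hxp
    · exact h2 y hy

/-- in a ring of finite dimension quotients, a strict inclusion of primes drops the dimension. -/
theorem eq_of_le_of_ringKrullDim_quotient_eq {q p : Ideal A} [q.IsPrime] (hp : p ≠ ⊤) (hqp : q ≤ p)
    (hdim : ringKrullDim (A ⧸ q) = ringKrullDim (A ⧸ p)) : q = p := by
  by_contra hne
  have hlt : q < p := lt_of_le_of_ne hqp hne
  obtain ⟨x, hxp, hxq⟩ := Set.exists_of_ssubset hlt
  have h1 := ringKrullDim_quotient_succ_le_of_lt (p := q) (q := p) x hxq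
    (sup_le hqp ((Ideal.span_singleton_le_iff_mem _).2 hxp))
  rw [hdim] at h1
  have hntp : Nontrivial (A ⧸ p) := Ideal.Quotient.nontrivial_iff.2 hp
  have h2 : ringKrullDim (A ⧸ p) ≠ ⊥ := by
    intro h
    have h0 := ringKrullDim_nonneg_of_nontrivial (R := A ⧸ p)
    rw [h] at h0
    exact absurd h0 (by simp)
  obtain ⟨d, hd⟩ := WithBot.ne_bot_iff_exists.1 h2
  have h3 : ringKrullDim (A ⧸ p) ≤ ringKrullDim A :=
    ringKrullDim_le_of_surjective _ Ideal.Quotient.mk_surjective
  have h4 : d ≠ ⊤ := by
    rintro rfl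
    rw [← hd] at h3
    exact (lt_of_le_of_lt h3 ringKrullDim_lt_top).ne rfl
  obtain ⟨c, rfl⟩ := ENat.ne_top_iff_exists.1 h4
  rw [← hd] at h1
  have : (c : WithBot ℕ∞) + 1 ≤ (c : WithBot ℕ∞) := h1
  have : c + 1 ≤ c := by exact_mod_cast this
  omega

/-- a prime of the support of a CM module of maximal dimension is associated. -/
theorem mem_associatedPrimes_of_isCM_of_dim_eq {N : Type u} [AddCommGroup N] [Module A N]
    [Module.Finite A N] (hN : LocCoh.IsCohenMacaulayModule A N) (p : PrimeSpectrum A)
    (hp : p ∈ Module.support A N) (hdim : ringKrullDim (A ⧸ p.asIdeal) = supportDim A N) :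
    p.asIdeal ∈ associatedPrimes A N := by
  rw [Module.mem_support_iff_of_finite] at hp
  obtain ⟨q, hq, hqp⟩ := Ideal.exists_minimalPrimes_le hp
  have hqA : q ∈ associatedPrimes A N := Module.associatedPrimes.minimalPrimes_annihilator_subset_associatedPrimes A N hq
  have hqprime : q.IsPrime := hqA.isPrime
  have h1 := ringKrullDim_quotient_eq_supportDim_of_isCM hN hqA
  have : q = p.asIdeal := eq_of_le_of_ringKrullDim_quotient_eq p.2.ne_top hqp (by rw [h1, hdim])
  rw [← this]
  exact hqA

theorem eq_of_le_of_mem_associatedPrimes_of_isCM {N : Type u} [AddCommGroup N] [Module A N]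
    [Module.Finite A N] (hN : LocCoh.IsCohenMacaulayModule A N) (p : PrimeSpectrum A)
    (hdim : ringKrullDim (A ⧸ p.asIdeal) = supportDim A N) {q : Ideal A}
    (hq : q ∈ associatedPrimes A N) (hqp : q ≤ p.asIdeal) : q = p.asIdeal := by
  have hqprime : q.IsPrime := hq.isPrime
  have h1 := ringKrullDim_quotient_eq_supportDim_of_isCM hN hq
  exact eq_of_le_of_ringKrullDim_quotient_eq p.2.ne_top hqp (by rw [h1, hdim])

end Local

end Groth.Agent.Lib.Helper21.DepthKit
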