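import Mathlib
import Groth.Agent.Lib.Helper21.DepthKit5

/-!
# Depth toolkit, part 7 (helper21): `idealDepth I M` for a general ideal of a Noetherian ring
(`IM ≠ M`): finiteness, quotients by regular sequences, maximal regular sequences.
-/

namespace Groth.Agent.Lib.Helper21.DepthKit

open RingTheory.Sequence IsLocalRing Module Pointwise

universe u

section General

variable {A : Type u} [CommRing A] [IsNoetherianRing A] (I : Ideal A)
variable {M : Type u} [AddCommGroup M] [Module A M] [Module.Finite A M]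

theorem natCast_le_idealDepth_iff (hIM : I • (⊤ : Submodule A M) ≠ ⊤) (n : ℕ) :
    (n : ℕ∞) ≤ LocCoh.idealDepth I M ↔
      ∃ rs : List A, rs.length = n ∧ (∀ r ∈ rs, r ∈ I) ∧ IsWeaklyRegular M rs := by
  constructor
  · intro h
    have hA := (Groth.Agent.S0320.natCast_le_depth_iff A I M hIM n).1 h
    exact Groth.Agent.S0319.seq_of_A A I M hIM n hA
  · rintro ⟨rs, rfl, h2, h3⟩
    exact length_le_idealDepth _ rs h3 h2

omit [IsNoetherianRing A] [Module.Finite A M] in
theorem ofList_le_of_forall_mem {rs : List A} (h : ∀ r ∈ rs, r ∈ I) : Ideal.ofList rs ≤ I := by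
  rw [Ideal.ofList, Ideal.span_le]
  exact fun r hr => h r hr

omit [IsNoetherianRing A] [Module.Finite A M] in
theorem smul_top_quot_ofList_ne_top (hIM : I • (⊤ : Submodule A M) ≠ ⊤) (rs : List A)
    (h : ∀ r ∈ rs, r ∈ I) :
    I • (⊤ : Submodule A (M ⧸ (Ideal.ofList rs • ⊤ : Submodule A M))) ≠ ⊤ := by
  intro htop
  apply hIM
  have h1 : Submodule.map (Ideal.ofList rs • ⊤ : Submodule A M).mkQ (I • (⊤ : Submodule A M)) = ⊤ := by
    rw [Submodule.map_smul'', Submodule.map_top, Submodule.range_mkQ, htop]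
  have h2 := (Submodule.map_mkQ_eq_top _ _).1 h1
  have h3 : (Ideal.ofList rs • ⊤ : Submodule A M) ≤ I • ⊤ :=
    Submodule.smul_mono_left (ofList_le_of_forall_mem I h)
  rwa [sup_eq_right.2 h3] at h2

/-- localization bound: a regular sequence in `I` has length at most `dim M_p` for any
`p ∈ V(I) ∩ Supp M`. -/
theorem length_le_supportDim_localization (p : PrimeSpectrum A) (hIp : I ≤ p.asIdeal)
    (hp : p ∈ Module.support A M) (rs : List A) (hrs : ∀ r ∈ rs, r ∈ I)
    (hreg : IsWeaklyRegular M rs) :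
    ((rs.length : ℕ∞) : WithBot ℕ∞) ≤ supportDim (Localization.AtPrime p.asIdeal)
      (LocalizedModule p.asIdeal.primeCompl M) := by
  have hntL : Nontrivial (LocalizedModule p.asIdeal.primeCompl M) := Module.mem_support_iff.1 hp
  have hregL := hreg.isRegular_of_isLocalizedModule_of_mem (Localization.AtPrime p.asIdeal)
    p.asIdeal (LocalizedModule.mkLinearMap p.asIdeal.primeCompl M) (fun r hr => hIp (hrs r hr))
  have hmemL : ∀ y ∈ rs.map (algebraMap A (Localization.AtPrime p.asIdeal)),
      y ∈ maximalIdeal (Localization.AtPrime p.asIdeal) := by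
    intro y hy
    obtain ⟨x, hx, rfl⟩ := List.mem_map.1 hy
    exact (IsLocalization.AtPrime.to_map_mem_maximal_iff _ p.asIdeal x).2 (hIp (hrs x hx))
  have := length_le_supportDim (rs.map (algebraMap A (Localization.AtPrime p.asIdeal)))
    hregL.toIsWeaklyRegular hmemL
  rwa [List.length_map] at this

/-- `depth_I M ≤ dim M_p` for `p ∈ V(I) ∩ Supp M`. -/
theorem idealDepth_le_supportDim_localization (p : PrimeSpectrum A) (hIp : I ≤ p.asIdeal)
    (hp : p ∈ Module.support A M) :
    ((LocCoh.idealDepth I M : ℕ∞) : WithBot ℕ∞) ≤ supportDim (Localization.AtPrime p.asIdeal)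
      (LocalizedModule p.asIdeal.primeCompl M) := by
  classical
  have hntL : Nontrivial (LocalizedModule p.asIdeal.primeCompl M) := Module.mem_support_iff.1 hp
  have hIM : I • (⊤ : Submodule A M) ≠ ⊤ := by
    intro h
    have h1 : p ∈ Module.support A (M ⧸ (I • ⊤ : Submodule A M)) := by
      rw [Module.support_quotient]
      exact ⟨hp, (PrimeSpectrum.mem_zeroLocus _ _).2 hIp⟩
    have h2 : Subsingleton (M ⧸ (I • ⊤ : Submodule A M)) := by
      rw [h]; exact Submodule.Quotient.subsingleton_iff.2 rfl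
    rw [Module.support_eq_empty_iff.2 h2] at h1
    exact h1
  obtain ⟨d, hd⟩ := exists_nat_supportDim (A := Localization.AtPrime p.asIdeal)
    (M := LocalizedModule p.asIdeal.primeCompl M)
  rw [hd]
  have : LocCoh.idealDepth I M ≤ (d : ℕ∞) := by
    unfold LocCoh.idealDepth
    rw [if_neg hIM]
    refine iSup₂_le fun rs hrs => ?_
    have := length_le_supportDim_localization I p hIp hp rs hrs.2 hrs.1
    rw [hd] at this
    exact_mod_cast this
  exact_mod_cast this

theorem exists_mem_support_quotient (hIM : I • (⊤ : Submodule A M) ≠ ⊤) :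
    ∃ p : PrimeSpectrum A, I ≤ p.asIdeal ∧ p ∈ Module.support A M := by
  have hnt : Nontrivial (M ⧸ (I • ⊤ : Submodule A M)) := Submodule.Quotient.nontrivial_iff.2 hIM
  have hne : (Module.support A (M ⧸ (I • ⊤ : Submodule A M))).Nonempty := by
    rw [Set.nonempty_iff_ne_empty, ne_eq, Module.support_eq_empty_iff]
    exact not_subsingleton _
  obtain ⟨p, hp⟩ := hne
  rw [Module.support_quotient] at hp
  exact ⟨p, (PrimeSpectrum.mem_zeroLocus _ _).1 hp.2, hp.1⟩

theorem idealDepth_ne_top (hIM : I • (⊤ : Submodule A M) ≠ ⊤) : LocCoh.idealDepth I M ≠ ⊤ := by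
  obtain ⟨p, hIp, hp⟩ := exists_mem_support_quotient I hIM
  have hntL : Nontrivial (LocalizedModule p.asIdeal.primeCompl M) := Module.mem_support_iff.1 hp
  intro h
  have h1 := idealDepth_le_supportDim_localization I p hIp hp
  rw [h] at h1
  exact supportDim_ne_top (top_le_iff.1 h1)

theorem exists_nat_idealDepth (hIM : I • (⊤ : Submodule A M) ≠ ⊤) :
    ∃ k : ℕ, LocCoh.idealDepth I M = (k : ℕ∞) := by
  obtain ⟨n, hn⟩ := ENat.ne_top_iff_exists.1 (idealDepth_ne_top I hIM)
  exact ⟨n, hn.symm⟩

theorem exists_regular_of_one_le_idealDepth (hIM : I • (⊤ : Submodule A M) ≠ ⊤)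
    (h : 1 ≤ LocCoh.idealDepth I M) : ∃ x ∈ I, IsSMulRegular M x := by
  obtain ⟨rs, h1, h2, h3⟩ := (natCast_le_idealDepth_iff I hIM 1).1 (by exact_mod_cast h)
  match rs, h1, h2, h3 with
  | [x], _, h2, h3 =>
    rw [isWeaklyRegular_cons_iff] at h3
    exact ⟨x, h2 x (List.mem_singleton.2 rfl), h3.1⟩

/-- `depth_I (M/(rs)M) + length rs = depth_I M`. -/
theorem idealDepth_quot_ofList (rs : List A) :
    ∀ (M : Type u) [AddCommGroup M] [Module A M] [Module.Finite A M],
      I • (⊤ : Submodule A M) ≠ ⊤ → (∀ r ∈ rs, r ∈ I) → IsWeaklyRegular M rs →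
      LocCoh.idealDepth I (M ⧸ (Ideal.ofList rs • ⊤ : Submodule A M)) + rs.length =
        LocCoh.idealDepth I M := by
  induction rs with
  | nil =>
    intro M _ _ _ _ _ _
    have e : (M ⧸ (Ideal.ofList ([] : List A) • ⊤ : Submodule A M)) ≃ₗ[A] M :=
      Submodule.quotEquivOfEqBot _ (by rw [Ideal.ofList_nil, Submodule.bot_smul])
    rw [idealDepth_congr I e]
    simp
  | cons x rs ih =>
    intro M _ _ _ hIM hm hreg
    rw [isWeaklyRegular_cons_iff] at hreg
    have hx : x ∈ I := hm x (List.mem_cons_self)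
    have hIM' := Groth.Agent.S0320.smul_top_quot_ne_top A I M hIM x hx
    have h1 := ih (QuotSMulTop x M) hIM' (fun r hr => hm r (List.mem_cons_of_mem _ hr)) hreg.2
    rw [idealDepth_congr I (Submodule.quotOfListConsSMulTopEquivQuotSMulTopInner M x rs),
      List.length_cons, ← Groth.Agent.S0320.result A I M hIM x hx hreg.1, ← h1]
    push_cast
    ring

end General

end Groth.Agent.Lib.Helper21.DepthKit
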