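import Mathlib
import Groth.Agent.Lib.Helper21.DepthKit7
import Groth.Agent.S5151

/-!
# Depth toolkit, part 8 (helper21): `idealDepth I M` and localization:
`depth_I M = inf_{p ⊇ I} depth M_p`.
-/

namespace Groth.Agent.Lib.Helper21.DepthKit

open RingTheory.Sequence IsLocalRing Module Pointwise

universe u

section Loc

variable {A : Type u} [CommRing A] [IsNoetherianRing A] (I : Ideal A)
variable {M : Type u} [AddCommGroup M] [Module A M] [Module.Finite A M]

omit [IsNoetherianRing A] [Module.Finite A M] in
theorem localized_ofList_smul_top (q : Ideal A) [q.IsPrime] (rs : List A) :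
    (Ideal.ofList rs • ⊤ : Submodule A M).localized q.primeCompl =
      (Ideal.ofList (rs.map (algebraMap A (Localization.AtPrime q))) • ⊤ :
        Submodule (Localization.AtPrime q) (LocalizedModule q.primeCompl M)) := by
  rw [Submodule.localized, Submodule.localized'_smul, Submodule.localized'_top]
  congr 1
  rw [Ideal.ofList, Ideal.ofList, Ideal.span, Submodule.localized'_span]
  congr 1
  ext y
  simp only [Set.mem_image, Set.mem_setOf_eq, List.mem_map, Algebra.linearMap_apply]

/-- `(M/(rs)M)_q ≃ M_q/(rs)M_q`. -/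
noncomputable def localizedQuotOfListEquiv (q : Ideal A) [q.IsPrime] (rs : List A) :
    (LocalizedModule q.primeCompl M ⧸
      (Ideal.ofList (rs.map (algebraMap A (Localization.AtPrime q))) • ⊤ :
        Submodule (Localization.AtPrime q) (LocalizedModule q.primeCompl M)))
      ≃ₗ[Localization.AtPrime q]
      LocalizedModule q.primeCompl (M ⧸ (Ideal.ofList rs • ⊤ : Submodule A M)) :=
  (Submodule.quotEquivOfEq _ _ (localized_ofList_smul_top q rs).symm) ≪≫ₗ
    localizedQuotientEquiv q.primeCompl (Ideal.ofList rs • ⊤ : Submodule A M)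

omit [IsNoetherianRing A] in
theorem smul_top_ne_top_of_mem_support (p : PrimeSpectrum A) (hIp : I ≤ p.asIdeal)
    (hp : p ∈ Module.support A M) : I • (⊤ : Submodule A M) ≠ ⊤ := by
  intro h
  have h1 : p ∈ Module.support A (M ⧸ (I • ⊤ : Submodule A M)) := by
    rw [Module.support_quotient]
    exact ⟨hp, (PrimeSpectrum.mem_zeroLocus _ _).2 hIp⟩
  have h2 : Subsingleton (M ⧸ (I • ⊤ : Submodule A M)) := by
    rw [h]; exact Submodule.Quotient.subsingleton_iff.2 rfl
  rw [Module.support_eq_empty_iff.2 h2] at h1
  exact h1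

/-- `depth_I M ≤ depth M_q` for every prime `q ⊇ I`. -/
theorem idealDepth_le_depth_localization (q : Ideal A) [q.IsPrime] (hIq : I ≤ q) :
    LocCoh.idealDepth I M ≤
      LocCoh.depth (Localization.AtPrime q) (LocalizedModule q.primeCompl M) := by
  rcases subsingleton_or_nontrivial (LocalizedModule q.primeCompl M) with hs | hnt
  · rw [depth_of_subsingleton]; exact le_top
  · have hp : (⟨q, inferInstance⟩ : PrimeSpectrum A) ∈ Module.support A M :=
      Module.mem_support_iff.2 hnt
    have hIM := smul_top_ne_top_of_mem_support I ⟨q, inferInstance⟩ hIq hp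
    obtain ⟨k, hk⟩ := exists_nat_idealDepth I hIM
    obtain ⟨rs, h1, h2, h3⟩ := (natCast_le_idealDepth_iff I hIM k).1 hk.ge
    have hregL := h3.of_isLocalizedModule (Localization.AtPrime q) q.primeCompl
      (LocalizedModule.mkLinearMap q.primeCompl M)
    have hmemL : ∀ y ∈ rs.map (algebraMap A (Localization.AtPrime q)),
        y ∈ maximalIdeal (Localization.AtPrime q) := by
      intro y hy
      obtain ⟨x, hx, rfl⟩ := List.mem_map.1 hy
      exact (IsLocalization.AtPrime.to_map_mem_maximal_iff _ q x).2 (hIq (h2 x hx))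
    have := length_le_idealDepth (maximalIdeal (Localization.AtPrime q))
      (rs.map (algebraMap A (Localization.AtPrime q))) hregL hmemL
    rw [List.length_map, h1] at this
    rw [hk]
    exact this

/-- `depth (M/(rs)M)_q + length rs = depth M_q` for a weakly regular sequence in `q`. -/
theorem depth_localization_quot_ofList (q : Ideal A) [q.IsPrime] (rs : List A)
    (hm : ∀ r ∈ rs, r ∈ q) (hreg : IsWeaklyRegular M rs)
    [Nontrivial (LocalizedModule q.primeCompl M)] :
    LocCoh.depth (Localization.AtPrime q)
        (LocalizedModule q.primeCompl (M ⧸ (Ideal.ofList rs • ⊤ : Submodule A M))) + rs.length =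
      LocCoh.depth (Localization.AtPrime q) (LocalizedModule q.primeCompl M) := by
  have hregL := hreg.of_isLocalizedModule (Localization.AtPrime q) q.primeCompl
    (LocalizedModule.mkLinearMap q.primeCompl M)
  have hmemL : ∀ y ∈ rs.map (algebraMap A (Localization.AtPrime q)),
      y ∈ maximalIdeal (Localization.AtPrime q) := by
    intro y hy
    obtain ⟨x, hx, rfl⟩ := List.mem_map.1 hy
    exact (IsLocalization.AtPrime.to_map_mem_maximal_iff _ q x).2 (hm x hx)
  have h := depth_quot_ofList (A := Localization.AtPrime q)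
    (rs.map (algebraMap A (Localization.AtPrime q))) (LocalizedModule q.primeCompl M) hmemL hregL
  rw [List.length_map, depth_congr (localizedQuotOfListEquiv q rs)] at h
  exact h

/-- there is a prime `q ⊇ I` with `depth M_q = depth_I M`. -/
theorem exists_prime_depth_localization_eq (hIM : I • (⊤ : Submodule A M) ≠ ⊤) :
    ∃ (q : Ideal A) (_ : q.IsPrime), I ≤ q ∧
      LocCoh.depth (Localization.AtPrime q) (LocalizedModule q.primeCompl M) =
        LocCoh.idealDepth I M := by
  obtain ⟨h1, h2⟩ := Groth.Agent.S5151.result A I M hIM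
  obtain ⟨rs, -, hreg, hm, hmax⟩ := h1 [] (IsWeaklyRegular.nil _ _) (by simp)
  have hlen := h2 rs hreg hm hmax
  have hnr : ∀ x ∈ I, ¬ IsSMulRegular (M ⧸ (Ideal.ofList rs • ⊤ : Submodule A M)) x := by
    intro x hx hreg'
    apply hmax x hx
    rw [isWeaklyRegular_append_iff]
    refine ⟨hreg, ?_⟩
    rw [isWeaklyRegular_cons_iff]
    exact ⟨hreg', IsWeaklyRegular.nil _ _⟩
  obtain ⟨q, hq, hIq⟩ := exists_le_associatedPrime_of_forall_not_isSMulRegular I hnr
  have hqp : q.IsPrime := hq.isPrime
  refine ⟨q, hqp, hIq, ?_⟩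
  have hass := Module.associatedPrimes.mem_associatedPrimes_atPrime_of_mem_associatedPrimes hq
  have hd0 := (Groth.Agent.S5752.result (Localization.AtPrime q)
    (LocalizedModule q.primeCompl (M ⧸ (Ideal.ofList rs • ⊤ : Submodule A M)))).2 hass
  have hnt : Nontrivial (LocalizedModule q.primeCompl M) := by
    by_contra hns
    rw [not_nontrivial_iff_subsingleton] at hns
    have : Subsingleton (LocalizedModule q.primeCompl
        (M ⧸ (Ideal.ofList rs • ⊤ : Submodule A M))) :=
      (localizedQuotOfListEquiv q rs).symm.toEquiv.subsingleton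
    rw [associatedPrimes.eq_empty_of_subsingleton] at hass
    exact hass
  have h := depth_localization_quot_ofList q rs (fun r hr => hIq (hm r hr)) hreg
  rw [hd0, zero_add] at h
  rw [← h, hlen]

/-- `depth_I M = inf_{p ⊇ I} depth M_p`. -/
theorem idealDepth_eq_iInf_depth_localization :
    LocCoh.idealDepth I M = ⨅ (p : PrimeSpectrum A) (_ : I ≤ p.asIdeal),
      LocCoh.depth (Localization.AtPrime p.asIdeal) (LocalizedModule p.asIdeal.primeCompl M) := by
  classical
  apply le_antisymm
  · exact le_iInf₂ fun p hp => idealDepth_le_depth_localization I p.asIdeal hp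
  · by_cases hIM : I • (⊤ : Submodule A M) = ⊤
    · unfold LocCoh.idealDepth
      rw [if_pos hIM]
      exact le_top
    · obtain ⟨q, hqp, hIq, hq⟩ := exists_prime_depth_localization_eq I hIM
      exact iInf₂_le_of_le ⟨q, hqp⟩ hIq hq.le

end Loc

end Groth.Agent.Lib.Helper21.DepthKit
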