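import Mathlib
import Groth.Agent.Lib.Helper21.DepthKit8
import Groth.Agent.S6876

/-!
# Depth toolkit, part 9 (helper21): localization of `Hom`, depth of `Hom(M,N)_p`.
-/

namespace Groth.Agent.Lib.Helper21.DepthKit

open RingTheory.Sequence IsLocalRing Module Pointwise

universe u

section HomLoc

variable {R : Type u} [CommRing R] [IsNoetherianRing R]
variable {M N : Type u} [AddCommGroup M] [Module R M] [Module.Finite R M]
  [AddCommGroup N] [Module R N]

/-- `Hom_R(M,N)_p ≃ Hom_{R_p}(M_p, N_p)` for finite `M` over a Noetherian ring. -/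
noncomputable def localizedHomEquiv (p : Ideal R) [p.IsPrime] :
    LocalizedModule p.primeCompl (M →ₗ[R] N) ≃ₗ[Localization.AtPrime p]
      (LocalizedModule p.primeCompl M →ₗ[Localization.AtPrime p] LocalizedModule p.primeCompl N) :=
  haveI : Module.FinitePresentation R M := Module.finitePresentation_of_finite R M
  LinearEquiv.extendScalarsOfIsLocalization p.primeCompl (Localization.AtPrime p)
    (IsLocalizedModule.iso p.primeCompl (LocalizedModule.map p.primeCompl (M := M) (N := N)))

variable [Module.Finite R N]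

theorem one_le_depth_localization_hom (p : Ideal R) [p.IsPrime]
    (h : 1 ≤ LocCoh.depth (Localization.AtPrime p) (LocalizedModule p.primeCompl N)) :
    1 ≤ LocCoh.depth (Localization.AtPrime p) (LocalizedModule p.primeCompl (M →ₗ[R] N)) := by
  rw [depth_congr (localizedHomEquiv (M := M) (N := N) p)]
  exact (Groth.Agent.S6876.result (Localization.AtPrime p) (LocalizedModule p.primeCompl M)
    (LocalizedModule p.primeCompl N)).1 h

theorem two_le_depth_localization_hom (p : Ideal R) [p.IsPrime]
    (h : 2 ≤ LocCoh.depth (Localization.AtPrime p) (LocalizedModule p.primeCompl N)) :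
    2 ≤ LocCoh.depth (Localization.AtPrime p) (LocalizedModule p.primeCompl (M →ₗ[R] N)) := by
  rw [depth_congr (localizedHomEquiv (M := M) (N := N) p)]
  exact (Groth.Agent.S6876.result (Localization.AtPrime p) (LocalizedModule p.primeCompl M)
    (LocalizedModule p.primeCompl N)).2 h

end HomLoc

section Support

variable {A : Type u} [CommRing A] {M N : Type u} [AddCommGroup M] [Module A M]
  [AddCommGroup N] [Module A N]

theorem supportDim_le_of_support_subset (h : Module.support A M ⊆ Module.support A N) :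
    supportDim A M ≤ supportDim A N :=
  Order.krullDim_le_of_strictMono (fun a => ⟨a.1, h a.2⟩) (fun {_ _} lt => lt)

theorem support_hom_subset [Module.Finite A N] :
    Module.support A (M →ₗ[A] N) ⊆ Module.support A N := by
  intro q hq
  rw [Module.mem_support_iff_of_finite]
  refine le_trans ?_ (Module.annihilator_le_of_mem_support hq)
  intro r hr
  rw [Module.mem_annihilator] at hr ⊢
  intro f
  ext m
  simp [hr (f m)]

theorem supportDim_hom_le [Module.Finite A N] : supportDim A (M →ₗ[A] N) ≤ supportDim A N :=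
  supportDim_le_of_support_subset support_hom_subset

/-- transfer of Serre's condition `(S_k)` at one prime. -/
theorem sk_transfer {k : ℕ} {dN dH : WithBot ℕ∞} {eN eH : ℕ∞} (hd : dH ≤ dN)
    (hK : ∀ j : ℕ, j ≤ k → (j : ℕ∞) ≤ eN → (j : ℕ∞) ≤ eH)
    (h : min (k : WithBot ℕ∞) dN ≤ ((eN : ℕ∞) : WithBot ℕ∞)) :
    min (k : WithBot ℕ∞) dH ≤ ((eH : ℕ∞) : WithBot ℕ∞) := by
  by_cases hk : (k : ℕ∞) ≤ eN
  · have := hK k le_rfl hk
    refine (min_le_left _ _).trans ?_
    have h2 : (((k : ℕ∞)) : WithBot ℕ∞) ≤ ((eH : ℕ∞) : WithBot ℕ∞) := WithBot.coe_le_coe.2 this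
    exact h2
  · push Not at hk
    obtain ⟨j, hj⟩ := ENat.ne_top_iff_exists.1 (ne_top_of_lt hk)
    have hjk : j < k := by
      rw [← hj] at hk
      exact_mod_cast hk
    have hjH := hK j hjk.le (by rw [hj])
    have hdN : dN ≤ ((j : ℕ∞) : WithBot ℕ∞) := by
      rw [← hj] at h
      rcases le_total (k : WithBot ℕ∞) dN with h1 | h1
      · rw [min_eq_left h1] at h
        have h3 : ((k : ℕ∞) : WithBot ℕ∞) ≤ ((j : ℕ∞) : WithBot ℕ∞) := h
        have h4 : (k : ℕ∞) ≤ (j : ℕ∞) := WithBot.coe_le_coe.1 h3
        have h5 : k ≤ j := by exact_mod_cast h4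
        omega
      · rwa [min_eq_right h1] at h
    refine (min_le_right _ _).trans (hd.trans (hdN.trans ?_))
    exact WithBot.coe_le_coe.2 hjH

end Support

end Groth.Agent.Lib.Helper21.DepthKit
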