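import Mathlib
import Groth.Agent.Lib.Helper21.DepthKit9
import Groth.Agent.S18700

/-!
# Depth toolkit, part 10 (helper21): support of a localization, localization of kernels.
-/

namespace Groth.Agent.Lib.Helper21.DepthKit

open RingTheory.Sequence IsLocalRing Module Pointwise

universe u

section SupportLoc

variable {A : Type u} [CommRing A] {X : Type u} [AddCommGroup X] [Module A X]

theorem comap_le_of_atPrime (p : Ideal A) [p.IsPrime] (q' : PrimeSpectrum (Localization.AtPrime p)) :
    (PrimeSpectrum.comap (algebraMap A (Localization.AtPrime p)) q').asIdeal ≤ p := by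
  have h1 : q'.asIdeal ≤ IsLocalRing.maximalIdeal (Localization.AtPrime p) :=
    IsLocalRing.le_maximalIdeal q'.isPrime.ne_top
  have h2 := Ideal.comap_mono (f := algebraMap A (Localization.AtPrime p)) h1
  rwa [show Ideal.comap (algebraMap A (Localization.AtPrime p))
      (IsLocalRing.maximalIdeal (Localization.AtPrime p)) = p from
    Localization.AtPrime.under_maximalIdeal] at h2

/-- `Supp_{A_p}(X_p)` is the preimage of `Supp_A(X)`. -/
theorem support_localization (p : Ideal A) [p.IsPrime] :
    Module.support (Localization.AtPrime p) (LocalizedModule p.primeCompl X) =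
      PrimeSpectrum.comap (algebraMap A (Localization.AtPrime p)) ⁻¹' Module.support A X := by
  apply Set.Subset.antisymm
  · intro q' hq'
    have h1 := Module.support_subset_preimage_comap (R := A) (A := Localization.AtPrime p)
      (M := LocalizedModule p.primeCompl X) hq'
    rw [Set.mem_preimage, Module.mem_support_iff'] at h1 ⊢
    obtain ⟨x, hx⟩ := h1
    obtain ⟨⟨m, s⟩, rfl⟩ := Quotient.exists_rep x
    refine ⟨m, fun r hr hrm => hx r hr ?_⟩
    change r • LocalizedModule.mk m s = 0
    rw [LocalizedModule.smul'_mk, hrm, LocalizedModule.zero_mk]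
  · intro q' hq'
    rw [Set.mem_preimage, Module.mem_support_iff'] at hq'
    obtain ⟨x, hx⟩ := hq'
    rw [Module.mem_support_iff']
    refine ⟨LocalizedModule.mk x 1, fun r' hr' h0 => ?_⟩
    obtain ⟨a, s, rfl⟩ := IsLocalization.exists_mk'_eq p.primeCompl r'
    have ha : a ∉ (PrimeSpectrum.comap (algebraMap A (Localization.AtPrime p)) q').asIdeal := by
      intro ha
      apply hr'
      have h1 : algebraMap A (Localization.AtPrime p) a ∈ q'.asIdeal := ha
      have h2 : IsLocalization.mk' (Localization.AtPrime p) a s =
          IsLocalization.mk' (Localization.AtPrime p) 1 s * algebraMap A (Localization.AtPrime p) a := by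
        rw [mul_comm, IsLocalization.mul_mk'_eq_mk'_of_mul, mul_one]
      rw [h2]
      exact Ideal.mul_mem_left _ _ h1
    rw [← Localization.mk_eq_mk', LocalizedModule.mk_smul_mk,
      ← LocalizedModule.zero_mk (1 : p.primeCompl), LocalizedModule.mk_eq] at h0
    obtain ⟨u, hu⟩ := h0
    have hu' : ((u : A) * a) • x = 0 := by
      simpa [mul_smul, Submonoid.smul_def] using hu
    have hup : (u : A) ∉ (PrimeSpectrum.comap (algebraMap A (Localization.AtPrime p)) q').asIdeal :=
      fun h => u.2 (comap_le_of_atPrime p q' h)
    have hprime := (PrimeSpectrum.comap (algebraMap A (Localization.AtPrime p)) q').isPrime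
    exact hx ((u : A) * a) (fun h => (hprime.mem_or_mem h).elim hup ha) hu'

theorem supportDim_localization_le_of_support_subset {Y : Type u} [AddCommGroup Y] [Module A Y]
    (p : Ideal A) [p.IsPrime] (h : Module.support A X ⊆ Module.support A Y) :
    supportDim (Localization.AtPrime p) (LocalizedModule p.primeCompl X) ≤
      supportDim (Localization.AtPrime p) (LocalizedModule p.primeCompl Y) := by
  apply supportDim_le_of_support_subset
  rw [support_localization, support_localization]
  exact Set.preimage_mono h

end SupportLoc

section KerLoc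

variable {A : Type u} [CommRing A] {E0 E1 : Type u} [AddCommGroup E0] [Module A E0]
  [AddCommGroup E1] [Module A E1] (u : E0 →ₗ[A] E1)

/-- `(ker u)_p ≃ ker (u_p)`. -/
noncomputable def localizedKerEquiv (p : Ideal A) [p.IsPrime] :
    LocalizedModule p.primeCompl (LinearMap.ker u) ≃ₗ[Localization.AtPrime p]
      LinearMap.ker (LocalizedModule.map p.primeCompl u) :=
  (Submodule.localizedEquiv p.primeCompl (LinearMap.ker u)).symm ≪≫ₗ
    LinearEquiv.ofEq _ _ (LinearMap.localized'_ker_eq_ker_localizedMap (Localization.AtPrime p)
      p.primeCompl (LocalizedModule.mkLinearMap p.primeCompl E0)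
      (LocalizedModule.mkLinearMap p.primeCompl E1) u)

variable [IsNoetherianRing A] [Module.Finite A E0] [Module.Finite A E1]

theorem one_le_depth_localization_ker (p : Ideal A) [p.IsPrime]
    (h : 1 ≤ LocCoh.depth (Localization.AtPrime p) (LocalizedModule p.primeCompl E0)) :
    1 ≤ LocCoh.depth (Localization.AtPrime p) (LocalizedModule p.primeCompl (LinearMap.ker u)) := by
  rw [depth_congr (localizedKerEquiv u p)]
  exact (Groth.Agent.S18700.result (Localization.AtPrime p) (maximalIdeal (Localization.AtPrime p))
    _ _ (LocalizedModule.map p.primeCompl u)).1 h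

theorem two_le_depth_localization_ker (p : Ideal A) [p.IsPrime]
    (h : 2 ≤ LocCoh.depth (Localization.AtPrime p) (LocalizedModule p.primeCompl E0))
    (h1 : 1 ≤ LocCoh.depth (Localization.AtPrime p) (LocalizedModule p.primeCompl E1)) :
    2 ≤ LocCoh.depth (Localization.AtPrime p) (LocalizedModule p.primeCompl (LinearMap.ker u)) := by
  rw [depth_congr (localizedKerEquiv u p)]
  exact (Groth.Agent.S18700.result (Localization.AtPrime p) (maximalIdeal (Localization.AtPrime p))
    _ _ (LocalizedModule.map p.primeCompl u)).2 h h1

end KerLoc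

end Groth.Agent.Lib.Helper21.DepthKit
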