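import Mathlib
import Groth.Agent.Lib.Helper21.DepthKit10

/-!
# Depth toolkit, part 11 (helper21): depth zero / dimension zero of a localization.
-/

namespace Groth.Agent.Lib.Helper21.DepthKit

open RingTheory.Sequence IsLocalRing Module Pointwise

universe u

section

variable {R : Type u} [CommRing R] {M : Type u} [AddCommGroup M] [Module R M]

/-- `depth M_p = 0` iff `p` is an associated prime. -/
theorem depth_localization_eq_zero_iff [IsNoetherianRing R] [Module.Finite R M]
    (p : Ideal R) [p.IsPrime] :
    LocCoh.depth (Localization.AtPrime p) (LocalizedModule p.primeCompl M) = 0 ↔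
      p ∈ associatedPrimes R M := by
  rw [Groth.Agent.S5752.result]
  constructor
  · intro h
    have h1 := Module.associatedPrimes.comap_mem_associatedPrimes_of_mem_associatedPrimes_of_isLocalizedModule_of_fg
      p.primeCompl (LocalizedModule.mkLinearMap p.primeCompl M) _ h
      ((isNoetherianRing_iff_ideal_fg R).mp inferInstance _)
    rwa [show Ideal.comap (algebraMap R (Localization.AtPrime p))
      (IsLocalRing.maximalIdeal (Localization.AtPrime p)) = p from
      Localization.AtPrime.under_maximalIdeal] at h1
  · intro h
    exact Module.associatedPrimes.mem_associatedPrimes_atPrime_of_mem_associatedPrimes h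

/-- `dim M_p ≤ 0` iff no prime of the support lies strictly below `p`. -/
theorem supportDim_localization_le_zero_iff (p : Ideal R) [p.IsPrime] :
    supportDim (Localization.AtPrime p) (LocalizedModule p.primeCompl M) ≤ 0 ↔
      ∀ q : PrimeSpectrum R, q ∈ Module.support R M → q.asIdeal ≤ p → q.asIdeal = p := by
  have hcl : (PrimeSpectrum.comap (algebraMap R (Localization.AtPrime p))
      (closedPoint (Localization.AtPrime p))).asIdeal = p :=
    Localization.AtPrime.under_maximalIdeal
  constructor
  · intro h q hq hqp
    by_contra hne
    have hlt : q.asIdeal < p := lt_of_le_of_ne hqp hne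
    have hdisj : Disjoint (p.primeCompl : Set R) (q.asIdeal : Set R) :=
      Set.disjoint_left.2 fun x hx hxq => hx (hqp hxq)
    let q' : PrimeSpectrum (Localization.AtPrime p) :=
      ⟨q.asIdeal.map (algebraMap R (Localization.AtPrime p)),
        IsLocalization.isPrime_of_isPrime_disjoint p.primeCompl _ _ q.2 hdisj⟩
    have hq'c : PrimeSpectrum.comap (algebraMap R (Localization.AtPrime p)) q' = q := by
      apply PrimeSpectrum.ext
      exact IsLocalization.comap_map_of_isPrime_disjoint p.primeCompl _ q.2 hdisj
    have hq'S : q' ∈ Module.support (Localization.AtPrime p) (LocalizedModule p.primeCompl M) := by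
      rw [support_localization, Set.mem_preimage, hq'c]
      exact hq
    have hle : q' ≤ closedPoint (Localization.AtPrime p) :=
      IsLocalRing.le_maximalIdeal q'.2.ne_top
    have hcS : closedPoint (Localization.AtPrime p) ∈
        Module.support (Localization.AtPrime p) (LocalizedModule p.primeCompl M) :=
      Module.mem_support_mono hle hq'S
    have hne' : q' ≠ closedPoint (Localization.AtPrime p) := by
      intro he
      have := congrArg (fun z => (PrimeSpectrum.comap (algebraMap R (Localization.AtPrime p)) z).asIdeal) he
      simp only [hq'c, hcl] at this
      exact hne this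
    have hlt' : (⟨q', hq'S⟩ : Module.support (Localization.AtPrime p)
        (LocalizedModule p.primeCompl M)) < ⟨closedPoint _, hcS⟩ :=
      lt_of_le_of_ne hle (fun he => hne' (congrArg Subtype.val he))
    have h1 : (1 : WithBot ℕ∞) ≤ supportDim (Localization.AtPrime p)
        (LocalizedModule p.primeCompl M) := by
      let s : LTSeries (Module.support (Localization.AtPrime p)
          (LocalizedModule p.primeCompl M)) := RelSeries.fromListIsChain
        [⟨q', hq'S⟩, ⟨closedPoint _, hcS⟩] (by simp) (by simpa using hlt')
      have := Order.LTSeries.length_le_krullDim s
      unfold Module.supportDim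
      simpa [s] using this
    exact absurd (h1.trans h) (by simp)
  · intro h
    have : Subsingleton (Module.support (Localization.AtPrime p)
        (LocalizedModule p.primeCompl M)) := by
      have key : ∀ a ∈ Module.support (Localization.AtPrime p)
          (LocalizedModule p.primeCompl M), a = closedPoint (Localization.AtPrime p) := by
        intro a ha
        rw [support_localization, Set.mem_preimage] at ha
        have h1 := h _ ha (comap_le_of_atPrime p a)
        apply PrimeSpectrum.localization_comap_injective (Localization.AtPrime p) p.primeCompl
        apply PrimeSpectrum.ext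
        rw [h1, hcl]
      constructor
      rintro ⟨a, ha⟩ ⟨b, hb⟩
      apply Subtype.ext
      show a = b
      exact (key a ha).trans (key b hb).symm
    exact Order.krullDim_nonpos_of_subsingleton

end

end Groth.Agent.Lib.Helper21.DepthKit
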