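import Mathlib
import Groth.Prelude.Def_CAlg
import Groth.Agent.Lib.Helper21.DepthKit11

/-!
# Depth toolkit, part 12 (helper21): change of rings along a surjection.
`depth`, `idealDepth`, `supportDim` of an `S`-module over `R` for `R → S` surjective; localizations
of a module over a quotient ring.
-/

namespace Groth.Agent.Lib.Helper21.DepthKit

open RingTheory.Sequence IsLocalRing Module Pointwise

universe u

section Surj

variable {R S : Type u} [CommRing R] [CommRing S] [Algebra R S]
variable (X : Type u) [AddCommGroup X] [Module R X] [Module S X] [IsScalarTower R S X]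

theorem smul_top_eq_top_iff_map (I : Ideal R) :
    I • (⊤ : Submodule R X) = ⊤ ↔ (I.map (algebraMap R S)) • (⊤ : Submodule S X) = ⊤ := by
  have h := Ideal.smul_restrictScalars (R := R) (S := S) (M := X) I ⊤
  rw [Submodule.restrictScalars_top] at h
  constructor
  · intro h1
    rw [h1] at h
    exact (Submodule.restrictScalars_eq_top_iff R S X).1 h
  · intro h1
    rw [h1, Submodule.restrictScalars_top] at h
    exact h.symm

variable {X} in
theorem exists_list_lift (hs : Function.Surjective (algebraMap R S)) (I : Ideal R) (ss : List S)
    (h : ∀ s ∈ ss, s ∈ I.map (algebraMap R S)) :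
    ∃ rs : List R, rs.map (algebraMap R S) = ss ∧ ∀ r ∈ rs, r ∈ I := by
  induction ss with
  | nil => exact ⟨[], rfl, by simp⟩
  | cons s ss ih =>
    obtain ⟨rs, h1, h2⟩ := ih (fun s' hs' => h s' (List.mem_cons_of_mem _ hs'))
    obtain ⟨r, hr, hrs⟩ := (Ideal.mem_map_iff_of_surjective _ hs).1 (h s List.mem_cons_self)
    refine ⟨r :: rs, by simp [h1, hrs], ?_⟩
    intro r' hr'
    rcases List.mem_cons.1 hr' with rfl | hr'
    · exact hr
    · exact h2 r' hr'

/-- `depth_I X = depth_{IS} X` for `R → S` surjective and `X` an `S`-module. -/
theorem idealDepth_map_of_surjective (hs : Function.Surjective (algebraMap R S)) (I : Ideal R) :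
    LocCoh.idealDepth I X = LocCoh.idealDepth (I.map (algebraMap R S)) X := by
  classical
  unfold LocCoh.idealDepth
  by_cases h : I • (⊤ : Submodule R X) = ⊤
  · rw [if_pos h, if_pos ((smul_top_eq_top_iff_map X I).1 h)]
  · rw [if_neg h, if_neg (fun h' => h ((smul_top_eq_top_iff_map X I).2 h'))]
    apply le_antisymm
    · refine iSup₂_le fun rs hrs => ?_
      refine le_trans ?_ (le_iSup₂ (f := fun (ss : List S)
        (_ : IsWeaklyRegular X ss ∧ ∀ s ∈ ss, s ∈ I.map (algebraMap R S)) => (ss.length : ℕ∞))
        (rs.map (algebraMap R S)) ⟨(isWeaklyRegular_map_algebraMap_iff S X rs).2 hrs.1, ?_⟩)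
      · simp
      · intro s hs'
        obtain ⟨r, hr, rfl⟩ := List.mem_map.1 hs'
        exact Ideal.mem_map_of_mem _ (hrs.2 r hr)
    · refine iSup₂_le fun ss hss => ?_
      obtain ⟨rs, h1, h2⟩ := exists_list_lift hs I ss hss.2
      refine le_trans ?_ (le_iSup₂ (f := fun (rs : List R)
        (_ : IsWeaklyRegular X rs ∧ ∀ r ∈ rs, r ∈ I) => (rs.length : ℕ∞))
        rs ⟨(isWeaklyRegular_map_algebraMap_iff S X rs).1 (h1 ▸ hss.1), h2⟩)
      rw [← h1, List.length_map]

theorem map_maximalIdeal_of_surjective [IsLocalRing R] [IsLocalRing S]
    (hs : Function.Surjective (algebraMap R S)) :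
    (maximalIdeal R).map (algebraMap R S) = maximalIdeal S := by
  rcases Ideal.map_eq_top_or_isMaximal_of_surjective _ hs (maximalIdeal.isMaximal R) with h | h
  · exfalso
    have h1 : (1 : S) ∈ (maximalIdeal R).map (algebraMap R S) := by rw [h]; trivial
    obtain ⟨r, hr, hr1⟩ := (Ideal.mem_map_iff_of_surjective _ hs).1 h1
    have hk : RingHom.ker (algebraMap R S) ≤ maximalIdeal R :=
      le_maximalIdeal (RingHom.ker_ne_top _)
    have h2 : 1 - r ∈ maximalIdeal R := hk (by rw [RingHom.mem_ker, map_sub, map_one, hr1, sub_self])
    have h3 : (1 : R) ∈ maximalIdeal R := by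
      have := (maximalIdeal R).add_mem h2 hr
      rwa [sub_add_cancel] at this
    exact (maximalIdeal.isMaximal R).ne_top ((Ideal.eq_top_iff_one _).2 h3)
  · exact IsLocalRing.eq_maximalIdeal h

/-- depth is insensitive to a surjective change of local rings. -/
theorem depth_eq_of_surjective [IsLocalRing R] [IsLocalRing S]
    (hs : Function.Surjective (algebraMap R S)) :
    LocCoh.depth R X = LocCoh.depth S X := by
  unfold LocCoh.depth
  rw [idealDepth_map_of_surjective X hs, map_maximalIdeal_of_surjective hs]

theorem annihilator_eq_comap : Module.annihilator R X =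
    (Module.annihilator S X).comap (algebraMap R S) := by
  ext r
  simp only [Module.mem_annihilator, Ideal.mem_comap, algebraMap_smul]

/-- `dim Supp` is insensitive to a surjective change of rings. -/
theorem supportDim_eq_of_surjective (hs : Function.Surjective (algebraMap R S))
    [Module.Finite S X] : Module.supportDim R X = Module.supportDim S X := by
  haveI : Module.Finite R S := Module.Finite.of_surjective (Algebra.linearMap R S) hs
  haveI : Module.Finite R X := Module.Finite.trans S X
  rw [supportDim_eq_ringKrullDim_quotient_annihilator, supportDim_eq_ringKrullDim_quotient_annihilator]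
  let g : R →+* S ⧸ Module.annihilator S X :=
    (Ideal.Quotient.mk (Module.annihilator S X)).comp (algebraMap R S)
  have hg : Function.Surjective g := Ideal.Quotient.mk_surjective.comp hs
  have hk : Module.annihilator R X = RingHom.ker g := by
    rw [annihilator_eq_comap X (S := S), RingHom.ker_eq_comap_bot, ← Ideal.comap_comap,
      ← RingHom.ker_eq_comap_bot, Ideal.mk_ker]
  exact ringKrullDim_eq_of_ringEquiv
    ((Ideal.quotEquivOfEq hk).trans (RingHom.quotientKerEquivOfSurjective hg))

end Surj


section Semilinear

variable {R S : Type u} [CommRing R] [CommRing S] [IsLocalRing R] [IsLocalRing S]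
variable {X Y : Type u} [AddCommGroup X] [Module R X] [AddCommGroup Y] [Module S Y]

theorem depth_eq_of_semilinear (φ : R →+* S) (hφ : Function.Surjective φ) (e : X ≃+ Y)
    (he : ∀ (a : R) (x : X), e (a • x) = φ a • e x) : LocCoh.depth R X = LocCoh.depth S Y := by
  letI : Algebra R S := φ.toAlgebra
  letI : Module R Y := Module.compHom Y φ
  haveI : IsScalarTower R S Y := IsScalarTower.of_algebraMap_smul (fun _ _ => rfl)
  let e' : X ≃ₗ[R] Y := { e with map_smul' := he }
  have h1 : LocCoh.depth R X = LocCoh.depth R Y := idealDepth_congr _ e'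
  rw [h1]
  exact depth_eq_of_surjective Y hφ

theorem supportDim_eq_of_semilinear (φ : R →+* S) (hφ : Function.Surjective φ) (e : X ≃+ Y)
    (he : ∀ (a : R) (x : X), e (a • x) = φ a • e x) [Module.Finite S Y] :
    Module.supportDim R X = Module.supportDim S Y := by
  letI : Algebra R S := φ.toAlgebra
  letI : Module R Y := Module.compHom Y φ
  haveI : IsScalarTower R S Y := IsScalarTower.of_algebraMap_smul (fun _ _ => rfl)
  let e' : X ≃ₗ[R] Y := { e with map_smul' := he }
  rw [supportDim_eq_of_equiv e']
  exact supportDim_eq_of_surjective Y hφ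

end Semilinear


section LocRC

variable {A B : Type u} [CommRing A] [CommRing B] [Algebra A B]
variable {N : Type u} [AddCommGroup N] [Module A N] [Module B N] [IsScalarTower A B N]

theorem isLocalizedModule_comap (hs : Function.Surjective (algebraMap A B)) (P : Ideal B)
    [P.IsPrime] :
    IsLocalizedModule (P.comap (algebraMap A B)).primeCompl
      ((LocalizedModule.mkLinearMap P.primeCompl N).restrictScalars A) := by
  set q := P.comap (algebraMap A B) with hq
  refine ⟨fun s => ?_, fun y => ?_, @fun x₁ x₂ h => ?_⟩
  · have hsP : algebraMap A B s ∈ P.primeCompl := s.2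
    have := IsLocalizedModule.map_units (LocalizedModule.mkLinearMap P.primeCompl N)
      ⟨algebraMap A B s, hsP⟩
    rw [Module.End.isUnit_iff] at this ⊢
    convert this using 1
    ext x
    simp only [Module.algebraMap_end_apply]
    exact (algebraMap_smul B (s : A) x).symm
  · induction y using LocalizedModule.induction_on with
    | h n t =>
      obtain ⟨a, ha⟩ := hs t
      have haq : a ∈ q.primeCompl := by
        change a ∉ Ideal.comap (algebraMap A B) P
        rw [Ideal.mem_comap, ha]
        exact t.2
      refine ⟨⟨n, ⟨a, haq⟩⟩, ?_⟩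
      change a • LocalizedModule.mk n t = LocalizedModule.mk n 1
      rw [← algebraMap_smul B a, ha, LocalizedModule.smul'_mk]
      exact LocalizedModule.mk_cancel t n
  · have h' : (LocalizedModule.mk x₁ 1 : LocalizedModule P.primeCompl N) =
        LocalizedModule.mk x₂ 1 := h
    rw [LocalizedModule.mk_eq] at h'
    obtain ⟨u, hu⟩ := h'
    obtain ⟨a, ha⟩ := hs u
    have haq : a ∈ q.primeCompl := by
      change a ∉ Ideal.comap (algebraMap A B) P
      rw [Ideal.mem_comap, ha]
      exact u.2
    refine ⟨⟨a, haq⟩, ?_⟩
    simp only [one_smul] at hu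
    change a • x₁ = a • x₂
    rw [← algebraMap_smul B a x₁, ← algebraMap_smul B a x₂, ha]
    exact hu

/-- For `A → B` surjective, a `B`-module `N` and a prime `P` of `B` with contraction `q`:
`N_q ≃ N_P`, semilinear for the surjection `A_q → B_P`. -/
theorem exists_semilinear_localization (hs : Function.Surjective (algebraMap A B)) (P : Ideal B)
    [P.IsPrime] :
    ∃ e : LocalizedModule (P.comap (algebraMap A B)).primeCompl N ≃+
        LocalizedModule P.primeCompl N,
      ∀ (a : Localization.AtPrime (P.comap (algebraMap A B)))
        (x : LocalizedModule (P.comap (algebraMap A B)).primeCompl N),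
        e (a • x) = Localization.localRingHom (P.comap (algebraMap A B)) P (algebraMap A B) rfl a • e x := by
  set q := P.comap (algebraMap A B) with hq
  set φ := Localization.localRingHom q P (algebraMap A B) rfl with hφ
  haveI := isLocalizedModule_comap (N := N) hs P
  let e0 : LocalizedModule q.primeCompl N ≃ₗ[A] LocalizedModule P.primeCompl N :=
    IsLocalizedModule.iso q.primeCompl
      ((LocalizedModule.mkLinearMap P.primeCompl N).restrictScalars A)
  letI mAq : Module (Localization.AtPrime q) (LocalizedModule P.primeCompl N) :=
    Module.compHom (LocalizedModule P.primeCompl N) φ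
  haveI : IsScalarTower A (Localization.AtPrime q) (LocalizedModule P.primeCompl N) := by
    refine IsScalarTower.of_algebraMap_smul (fun a x => ?_)
    change φ (algebraMap A (Localization.AtPrime q) a) • x = a • x
    rw [hφ, Localization.localRingHom_to_map, algebraMap_smul, algebraMap_smul]
  let e : LocalizedModule q.primeCompl N ≃ₗ[Localization.AtPrime q] LocalizedModule P.primeCompl N :=
    LinearEquiv.extendScalarsOfIsLocalization q.primeCompl (Localization.AtPrime q) e0
  exact ⟨e.toAddEquiv, fun a x => e.map_smul a x⟩

end LocRC


section LocRC2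

variable {A B : Type u} [CommRing A] [CommRing B] [Algebra A B]
variable {N : Type u} [AddCommGroup N] [Module A N] [Module B N] [IsScalarTower A B N]

/-- depth of `N_P` over `B_P` equals depth of `N_q` over `A_q` (`A → B` surjective, `q = P ∩ A`). -/
theorem depth_localization_of_surjective (hs : Function.Surjective (algebraMap A B)) (P : Ideal B)
    [P.IsPrime] :
    LocCoh.depth (Localization.AtPrime (P.comap (algebraMap A B)))
        (LocalizedModule (P.comap (algebraMap A B)).primeCompl N) =
      LocCoh.depth (Localization.AtPrime P) (LocalizedModule P.primeCompl N) := by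
  obtain ⟨e, he⟩ := exists_semilinear_localization (N := N) hs P
  exact depth_eq_of_semilinear _
    (RingHom.surjective_localRingHom_of_surjective (algebraMap A B) hs P) e he

theorem supportDim_localization_of_surjective (hs : Function.Surjective (algebraMap A B))
    (P : Ideal B) [P.IsPrime] [Module.Finite B N] :
    Module.supportDim (Localization.AtPrime (P.comap (algebraMap A B)))
        (LocalizedModule (P.comap (algebraMap A B)).primeCompl N) =
      Module.supportDim (Localization.AtPrime P) (LocalizedModule P.primeCompl N) := by
  obtain ⟨e, he⟩ := exists_semilinear_localization (N := N) hs P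
  exact supportDim_eq_of_semilinear _
    (RingHom.surjective_localRingHom_of_surjective (algebraMap A B) hs P) e he

end LocRC2

end Groth.Agent.Lib.Helper21.DepthKit
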