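import Mathlib
import Groth.Agent.Lib.Helper21.DepthKit8
import Groth.Agent.Lib.Helper7.RegSeqSpread

/-!
# Depth toolkit, part 14 (helper21): spreading out a weakly regular sequence from `M_p` to a basic
open neighbourhood `M_g`.
-/

namespace Groth.Agent.Lib.Helper21.DepthKit

open RingTheory.Sequence IsLocalRing Module Pointwise

universe u

section Away

variable {A : Type u} [CommRing A]
variable {M : Type u} [AddCommGroup M] [Module A M]

theorem localized_ofList_smul_top' (S : Submonoid A) (rs : List A) :
    (Ideal.ofList rs • ⊤ : Submodule A M).localized S =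
      (Ideal.ofList (rs.map (algebraMap A (Localization S))) • ⊤ :
        Submodule (Localization S) (LocalizedModule S M)) := by
  rw [Submodule.localized, Submodule.localized'_smul, Submodule.localized'_top]
  congr 1
  rw [Ideal.ofList, Ideal.ofList, Ideal.span, Submodule.localized'_span]
  congr 1
  ext y
  simp only [Set.mem_image, Set.mem_setOf_eq, List.mem_map, Algebra.linearMap_apply]

/-- `(M/(rs)M)_S ≃ M_S/(rs)M_S`. -/
noncomputable def localizedQuotOfListEquiv' (S : Submonoid A) (rs : List A) :
    (LocalizedModule S M ⧸
      (Ideal.ofList (rs.map (algebraMap A (Localization S))) • ⊤ :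
        Submodule (Localization S) (LocalizedModule S M)))
      ≃ₗ[Localization S]
      LocalizedModule S (M ⧸ (Ideal.ofList rs • ⊤ : Submodule A M)) :=
  (Submodule.quotEquivOfEq _ _ (localized_ofList_smul_top' S rs).symm) ≪≫ₗ
    localizedQuotientEquiv S (Ideal.ofList rs • ⊤ : Submodule A M)

open Groth.Agent.Lib.Helper7.RegSpread in
/-- weak regularity on a localization, expressed through the localized quotients -/
theorem isWeaklyRegular_localization_iff' (S : Submonoid A) (xs : List A) :
    IsWeaklyRegular (LocalizedModule S M) (xs.map (algebraMap A (Localization S))) ↔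
      ∀ i (hi : i < xs.length),
        IsSMulRegular (LocalizedModule S
          (M ⧸ (Ideal.ofList (xs.take i) • ⊤ : Submodule A M)))
          (algebraMap A (Localization S) xs[i]) := by
  rw [isWeaklyRegular_iff]
  constructor
  · intro H i hi
    have h1 := H i (by simpa using hi)
    rw [List.getElem_map] at h1
    have h2 := (isSMulRegular_quot_congr
      (N := LocalizedModule S M) (List.map_take (l := xs) (i := i)
        (f := algebraMap A (Localization S))).symm
        (algebraMap A (Localization S) xs[i])).1 h1
    exact ((localizedQuotOfListEquiv' S (xs.take i)).isSMulRegular_congr _).1 h2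
  · intro H i hi
    have hi' : i < xs.length := by simpa using hi
    have h1 := H i hi'
    have h2 := ((localizedQuotOfListEquiv' S (xs.take i)).isSMulRegular_congr _).2 h1
    rw [List.getElem_map]
    exact (isSMulRegular_quot_congr
      (N := LocalizedModule S M) (List.map_take (l := xs) (i := i)
        (f := algebraMap A (Localization S))).symm
        (algebraMap A (Localization S) xs[i])).2 h2

variable [IsNoetherianRing A]

/-- spreading out regularity of a single element to a basic open neighbourhood -/
theorem exists_isSMulRegular_away (x : A) (N : Type u) [AddCommGroup N] [Module A N]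
    [Module.Finite A N] (p : Ideal A) [p.IsPrime]
    (h : IsSMulRegular (LocalizedModule p.primeCompl N) (algebraMap A (Localization.AtPrime p) x)) :
    ∃ g ∉ p, ∀ h : A, g ∣ h →
      IsSMulRegular (LocalizedModule (Submonoid.powers h) N)
        (algebraMap A (Localization (Submonoid.powers h)) x) := by
  set K : Submodule A N := LinearMap.ker (LinearMap.lsmul A N x) with hK
  have hKmem : ∀ k : N, k ∈ K ↔ x • k = 0 := fun k => by
    rw [hK, LinearMap.mem_ker, LinearMap.lsmul_apply]
  have hsupp : (⟨p, inferInstance⟩ : PrimeSpectrum A) ∉ Module.support A K := by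
    rw [Module.notMem_support_iff']
    rintro ⟨k, hk⟩
    have h1 : (algebraMap A (Localization.AtPrime p) x) •
        (LocalizedModule.mk k (1 : p.primeCompl)) = 0 := by
      rw [algebraMap_smul, LocalizedModule.smul'_mk, (hKmem k).1 hk, LocalizedModule.zero_mk]
    have h2 : LocalizedModule.mk k (1 : p.primeCompl) = 0 := by
      apply h
      show _ • _ = _ • (0 : LocalizedModule p.primeCompl N)
      rw [h1, smul_zero]
    rw [← LocalizedModule.zero_mk (1 : p.primeCompl), LocalizedModule.mk_eq] at h2
    obtain ⟨u, hu⟩ := h2
    refine ⟨u.1, u.2, ?_⟩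
    apply Subtype.ext
    have hu' : (u : A) • k = 0 := by simpa [Submonoid.smul_def] using hu
    simpa using hu'
  rw [Module.mem_support_iff_of_finite] at hsupp
  obtain ⟨g, hgann, hgp⟩ := SetLike.not_le_iff_exists.1 hsupp
  refine ⟨g, hgp, ?_⟩
  rintro _ ⟨c, rfl⟩
  rw [isSMulRegular_iff_right_eq_zero_of_smul]
  intro z hz
  induction z using LocalizedModule.induction_on with
  | _ m t =>
    rw [algebraMap_smul, LocalizedModule.smul'_mk,
      ← LocalizedModule.zero_mk (1 : Submonoid.powers (g * c)),
      LocalizedModule.mk_eq] at hz
    obtain ⟨u, hu⟩ := hz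
    have hum : (u : A) • m ∈ K := by
      rw [hKmem, smul_comm]
      simpa [Submonoid.smul_def] using hu
    have h3 : g • ((u : A) • m) = 0 := by
      have := Module.mem_annihilator.1 hgann ⟨(u : A) • m, hum⟩
      exact congrArg Subtype.val this
    rw [← LocalizedModule.zero_mk (1 : Submonoid.powers (g * c)), LocalizedModule.mk_eq]
    refine ⟨⟨g * c * u, (Submonoid.powers (g * c)).mul_mem (Submonoid.mem_powers _) u.2⟩, ?_⟩
    simp only [Submonoid.smul_def, smul_zero, one_smul]
    have h4 : (g * c * (u : A)) • m = c • (g • ((u : A) • m)) := by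
      rw [smul_smul, smul_smul]
      congr 1
      ring
    rw [h4, h3, smul_zero]

open Groth.Agent.Lib.Helper7.RegSpread in
/-- spreading out a weakly regular sequence to a basic open neighbourhood -/
theorem exists_isWeaklyRegular_away (xs : List A) (M : Type u) [AddCommGroup M]
    [Module A M] [Module.Finite A M] (p : Ideal A) [p.IsPrime]
    (h : IsWeaklyRegular (LocalizedModule p.primeCompl M)
      (xs.map (algebraMap A (Localization.AtPrime p)))) :
    ∃ g ∉ p, IsWeaklyRegular (LocalizedModule (Submonoid.powers g) M)
        (xs.map (algebraMap A (Localization (Submonoid.powers g)))) := by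
  classical
  rw [isWeaklyRegular_localization_iff] at h
  have key : ∀ i : Fin xs.length, ∃ g ∉ p, ∀ h : A, g ∣ h →
      IsSMulRegular (LocalizedModule (Submonoid.powers h)
        (M ⧸ (Ideal.ofList (xs.take i) • ⊤ : Submodule A M)))
        (algebraMap A (Localization (Submonoid.powers h)) xs[i]) := by
    intro i
    exact exists_isSMulRegular_away xs[i] _ p (h i i.2)
  choose g hgp hg using key
  refine ⟨∏ i : Fin xs.length, g i, ?_, ?_⟩
  · intro hmem
    obtain ⟨i, -, hi⟩ := (Ideal.IsPrime.prod_mem_iff (hp := inferInstance)).1 hmem
    exact hgp i hi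
  · rw [isWeaklyRegular_localization_iff']
    intro i hi
    exact hg ⟨i, hi⟩ _ (Finset.dvd_prod_of_mem _ (Finset.mem_univ _))

end Away

end Groth.Agent.Lib.Helper21.DepthKit
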