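import Mathlib

/-!
# Projective resolutions from exact sequences of projectives (helper21)

`ExactData M`: a sequence `… → X 2 → X 1 → X 0 → M → 0` of projective objects, exact everywhere.
* `ExactData.toRes` : the associated `ProjectiveResolution M`;
* `ExactData.syz` : the shifted data resolving `kernel ε`;
* `ExactData.hasProjectiveDimensionLT` : if `X i` is zero for `i > n`, then `pd M ≤ n`;
* `ExactData.leftDerivedIsoOfMapZero` : if an additive functor `G` kills every differential, then
  `L_i G (M) ≅ G (X i)`.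
-/

set_option autoImplicit false
set_option backward.isDefEq.respectTransparency false
set_option backward.defeqAttrib.useBackward true
universe v u

namespace Groth.Agent.Lib.Helper21.ExactRes

open CategoryTheory Limits HomologicalComplex

variable {C : Type u} [Category.{v} C] [Abelian C]

/-- An exact sequence `… → X 2 → X 1 → X 0 → M → 0` with all `X i` projective. -/
structure ExactData (M : C) where
  X : ℕ → C
  proj : ∀ i, Projective (X i)
  d : ∀ i, X (i + 1) ⟶ X i
  ε : X 0 ⟶ M
  epi : Epi ε
  w0 : d 0 ≫ ε = 0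
  ex0 : (ShortComplex.mk (d 0) ε w0).Exact
  w : ∀ i, d (i + 1) ≫ d i = 0
  ex : ∀ i, (ShortComplex.mk (d (i + 1)) (d i) (w i)).Exact

namespace ExactData

variable {M : C} (E : ExactData M)

/-- The chain complex of the `X i`. -/
noncomputable def complex : ChainComplex C ℕ := ChainComplex.of E.X E.d E.w

@[simp] lemma complex_X (i : ℕ) : E.complex.X i = E.X i := rfl

lemma complex_d (i : ℕ) : E.complex.d (i + 1) i = E.d i := by
  simp [complex, ChainComplex.of_d]

/-- The projective resolution attached to exact data. -/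
noncomputable def toRes : ProjectiveResolution M where
  complex := E.complex
  projective n := E.proj n
  π := (ChainComplex.toSingle₀Equiv _ _).symm ⟨E.ε, by
    rw [E.complex_d 0]; exact E.w0⟩
  quasiIso := ⟨fun n => by
    have := E.epi
    cases n with
    | zero =>
      rw [ChainComplex.quasiIsoAt₀_iff, ShortComplex.quasiIso_iff_of_zeros']
      · dsimp
        refine (ShortComplex.exact_and_epi_g_iff_of_iso ?_).2 ⟨E.ex0, by dsimp; infer_instance⟩
        exact ShortComplex.isoMk (Iso.refl _) (Iso.refl _) (Iso.refl _)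
          (by simp [E.complex_d 0]) (by simp [ChainComplex.toSingle₀Equiv])
      all_goals rfl
    | succ n =>
      rw [quasiIsoAt_iff_exactAt']
      · rw [HomologicalComplex.exactAt_iff' _ (n + 2) (n + 1) n (by simp) (by simp)]
        refine ShortComplex.exact_of_iso ?_ (E.ex n)
        exact ShortComplex.isoMk (Iso.refl _) (Iso.refl _) (Iso.refl _)
          (by simp [E.complex_d (n + 1)]) (by simp [E.complex_d n])
      · apply ChainComplex.exactAt_succ_single_obj⟩

end ExactData

namespace ExactData

variable {M : C} (E : ExactData M)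

/-- The lift of `d 0` to the kernel of the augmentation. -/
noncomputable def ε' : E.X 1 ⟶ kernel E.ε := kernel.lift E.ε (E.d 0) E.w0

@[reassoc (attr := simp)]
lemma ε'_ι : E.ε' ≫ kernel.ι E.ε = E.d 0 := kernel.lift_ι _ _ _

instance : Epi E.ε' := by
  have h := E.ex0
  rw [ShortComplex.exact_iff_epi_kernel_lift] at h
  exact h

lemma d_ε' : E.d 1 ≫ E.ε' = 0 := by
  rw [← cancel_mono (kernel.ι E.ε), Category.assoc, ε'_ι, zero_comp]
  exact E.w 0

/-- Shifted exact data, resolving the kernel of the augmentation. -/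
noncomputable def syz : ExactData (kernel E.ε) where
  X i := E.X (i + 1)
  proj i := E.proj (i + 1)
  d i := E.d (i + 1)
  ε := E.ε'
  epi := inferInstance
  w0 := E.d_ε'
  ex0 := by
    let φ : ShortComplex.mk (E.d 1) E.ε' E.d_ε' ⟶ ShortComplex.mk (E.d 1) (E.d 0) (E.w 0) :=
      { τ₁ := 𝟙 _
        τ₂ := 𝟙 _
        τ₃ := kernel.ι E.ε
        comm₁₂ := by simp
        comm₂₃ := by simp }
    have : Epi φ.τ₁ := by dsimp [φ]; infer_instance
    have : IsIso φ.τ₂ := by dsimp [φ]; infer_instance
    have : Mono φ.τ₃ := by dsimp [φ]; infer_instance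
    exact (ShortComplex.exact_iff_of_epi_of_isIso_of_mono φ).2 (E.ex 0)
  w i := E.w (i + 1)
  ex i := E.ex (i + 1)

/-- The short exact sequence `0 → kernel ε → X 0 → M → 0`. -/
lemma shortExact : (ShortComplex.mk (kernel.ι E.ε) E.ε (kernel.condition _)).ShortExact := by
  have := E.epi
  exact { exact := ShortComplex.exact_kernel E.ε }

/-- If the terms vanish beyond degree `n`, the resolved object has projective dimension `≤ n`. -/
theorem hasProjectiveDimensionLT : ∀ (n : ℕ) {M : C} (E : ExactData M)
    (_ : ∀ i, n < i → IsZero (E.X i)), HasProjectiveDimensionLT M (n + 1) := by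
  intro n
  induction n with
  | zero =>
    intro M E h
    have := E.epi
    have := E.proj 0
    have hd : E.d 0 = 0 := (h 1 (by omega)).eq_of_src _ _
    have hmono : Mono E.ε := by
      have h0 := E.ex0
      rw [ShortComplex.exact_iff_mono _ (by exact hd)] at h0
      exact h0
    have : IsIso E.ε := isIso_of_mono_of_epi _
    have : Projective M := Projective.of_iso (asIso E.ε) inferInstance
    infer_instance
  | succ n ih =>
    intro M E h
    have h1 : HasProjectiveDimensionLT (kernel E.ε) (n + 1) :=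
      ih E.syz (fun i hi => h (i + 1) (by omega))
    have := E.proj 0
    have h2 : HasProjectiveDimensionLT (E.X 0) (n + 1 + 1) := inferInstance
    exact E.shortExact.hasProjectiveDimensionLT_X₃ (n + 1) h1 h2

lemma map_complex_d_eq_zero {D : Type*} [Category D] [Preadditive D]
    (G : C ⥤ D) [G.PreservesZeroMorphisms]
    (hG : ∀ i, G.map (E.d i) = 0) (i j : ℕ) : G.map (E.complex.d i j) = 0 := by
  by_cases h : j + 1 = i
  · subst h
    rw [E.complex_d j]
    exact hG j
  · rw [E.complex.shape i j (by simpa using h)]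
    exact G.map_zero _ _

/-- If an additive functor `G` kills all differentials, then `L_i G (M) ≅ G (X i)`. -/
noncomputable def leftDerivedIsoOfMapZero {D : Type*} [Category D] [Abelian D]
    [HasProjectiveResolutions C] (G : C ⥤ D) [G.Additive]
    (hG : ∀ i, G.map (E.d i) = 0) (i : ℕ) :
    (G.leftDerived i).obj M ≅ G.obj (E.X i) :=
  E.toRes.isoLeftDerivedObj G i ≪≫
    (ShortComplex.HomologyData.ofZeros
      (((G.mapHomologicalComplex _).obj E.complex).sc i)
      (E.map_complex_d_eq_zero G hG _ _)
      (E.map_complex_d_eq_zero G hG _ _)).left.homologyIso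

end ExactData

namespace ExactData

variable {M : C} (E E' : ExactData M)

/-- A morphism of exact data over the identity of `M`, as a chain map. -/
noncomputable def homMk (f : ∀ i, E.X i ⟶ E'.X i)
    (hf : ∀ i, f (i + 1) ≫ E'.d i = E.d i ≫ f i) : E.complex ⟶ E'.complex :=
  ChainComplex.ofHom (X := E.complex) (Y := E'.complex) f (fun i => by
    rw [E.complex_d i, E'.complex_d i]; exact hf i)

@[simp] lemma homMk_f (f : ∀ i, E.X i ⟶ E'.X i)
    (hf : ∀ i, f (i + 1) ≫ E'.d i = E.d i ≫ f i) (i : ℕ) : (homMk E E' f hf).f i = f i := rfl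

lemma homMk_π (f : ∀ i, E.X i ⟶ E'.X i)
    (hf : ∀ i, f (i + 1) ≫ E'.d i = E.d i ≫ f i) (h0 : f 0 ≫ E'.ε = E.ε) :
    homMk E E' f hf ≫ E'.toRes.π = E.toRes.π := by
  apply HomologicalComplex.to_single_hom_ext
  simp [toRes, ChainComplex.toSingle₀Equiv, h0]

/-- Two mutually inverse-up-to-homotopy comparison maps: in each degree `g ∘ f - 1` factors
through the differentials. -/
lemma exists_homotopy_terms (f : ∀ i, E.X i ⟶ E'.X i)
    (hf : ∀ i, f (i + 1) ≫ E'.d i = E.d i ≫ f i) (hf0 : f 0 ≫ E'.ε = E.ε)
    (g : ∀ i, E'.X i ⟶ E.X i)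
    (hg : ∀ i, g (i + 1) ≫ E.d i = E'.d i ≫ g i) (hg0 : g 0 ≫ E.ε = E'.ε) :
    (∃ s : E.X 0 ⟶ E.X 1, f 0 ≫ g 0 = s ≫ E.d 0 + 𝟙 _) ∧
    ∀ i, ∃ (t : E.X i ⟶ E.X (i + 1)) (s : E.X (i + 1) ⟶ E.X (i + 2)),
      f (i + 1) ≫ g (i + 1) = E.d i ≫ t + s ≫ E.d (i + 1) + 𝟙 _ := by
  have H : Homotopy (homMk E E' f hf ≫ homMk E' E g hg) (𝟙 E.complex) := by
    apply ProjectiveResolution.liftHomotopy (𝟙 M) (P := E.toRes) (Q := E.toRes)
    · rw [CategoryTheory.Functor.map_id, Category.comp_id, Category.assoc,
        homMk_π E' E g hg hg0, homMk_π E E' f hf hf0]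
    · rw [CategoryTheory.Functor.map_id, Category.comp_id]
      exact Category.id_comp _
  constructor
  · refine ⟨H.hom 0 1, ?_⟩
    have := H.comm 0
    rw [Homotopy.dNext_zero_chainComplex, zero_add, Homotopy.prevD_chainComplex, E.complex_d 0] at this
    exact this
  · intro i
    refine ⟨H.hom i (i + 1), H.hom (i + 1) (i + 2), ?_⟩
    have := H.comm (i + 1)
    rw [Homotopy.dNext_succ_chainComplex, Homotopy.prevD_chainComplex, E.complex_d i, E.complex_d (i + 1)] at this
    exact this

end ExactData

end Groth.Agent.Lib.Helper21.ExactRes
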