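import Mathlib

/-!
# Dimension shifting for left derived functors and `Tor` (helper21)

Splicing a projective resolution of `K` along `0 → K → P → N → 0` (`P` projective) gives a projective
resolution of `N`; consequences for `Functor.leftDerived` and for `Tor` on `ModuleCat`.
-/

set_option autoImplicit false
set_option backward.isDefEq.respectTransparency false
set_option backward.defeqAttrib.useBackward true
universe v u

namespace Groth.Agent.Lib.Helper21.TorShift

open CategoryTheory Limits HomologicalComplex

variable {C : Type u} [Category.{v} C] [Abelian C]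

/-- The spliced complex: `P` in degree 0 and the resolution of `K` above. -/
noncomputable def spliceComplex {K P : C} (PK : ProjectiveResolution K) (i : K ⟶ P) :
    ChainComplex C ℕ :=
  ChainComplex.augment PK.complex (PK.π.f 0 ≫ i)
    (by rw [← Category.assoc, PK.complex_d_comp_π_f_zero, zero_comp])

lemma exact_resolution_zero {K : C} (PK : ProjectiveResolution K) :
    (ShortComplex.mk (PK.complex.d 1 0) (PK.π.f 0) PK.complex_d_comp_π_f_zero).Exact :=
  ShortComplex.exact_of_g_is_cokernel _ PK.isColimitCokernelCofork

lemma spliceComplex_exactAt_succ {K P : C} (PK : ProjectiveResolution K) (i : K ⟶ P) [Mono i]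
    (n : ℕ) : (spliceComplex PK i).ExactAt (n + 1) := by
  rw [HomologicalComplex.exactAt_iff' _ (n + 2) (n + 1) n (by simp) (by simp)]
  cases n with
  | zero =>
    have h1 := exact_resolution_zero PK
    let φ : ShortComplex.mk (PK.complex.d 1 0) (PK.π.f 0) PK.complex_d_comp_π_f_zero ⟶
        (spliceComplex PK i).sc' 2 1 0 :=
      { τ₁ := 𝟙 _
        τ₂ := 𝟙 _
        τ₃ := i
        comm₁₂ := by
          dsimp [spliceComplex]
          simp
        comm₂₃ := by
          dsimp [spliceComplex]
          simp }
    have : Epi φ.τ₁ := by dsimp [φ]; infer_instance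
    have : IsIso φ.τ₂ := by dsimp [φ]; infer_instance
    have : Mono φ.τ₃ := by dsimp [φ]; infer_instance
    exact (ShortComplex.exact_iff_of_epi_of_isIso_of_mono φ).1 h1
  | succ n =>
    have h1 := PK.exact_succ n
    refine ShortComplex.exact_of_iso ?_ h1
    refine ShortComplex.isoMk (Iso.refl _) (Iso.refl _) (Iso.refl _) ?_ ?_
    · dsimp [spliceComplex]
      simp
    · dsimp [spliceComplex]
      simp

/-- Splicing a projective resolution of `K` with a short exact sequence `0 → K → P → N → 0`,
`P` projective, gives a projective resolution of `N`. -/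
noncomputable def splice {K P N : C} [Projective P] (PK : ProjectiveResolution K)
    (i : K ⟶ P) (q : P ⟶ N) (w : i ≫ q = 0) (hS : (ShortComplex.mk i q w).ShortExact) :
    ProjectiveResolution N where
  complex := spliceComplex PK i
  projective n := by
    cases n with
    | zero => exact (inferInstance : Projective P)
    | succ n => exact PK.projective n
  π := (ChainComplex.toSingle₀Equiv _ _).symm ⟨q, by
    change (PK.π.f 0 ≫ i) ≫ q = 0
    rw [Category.assoc, w, comp_zero]⟩
  quasiIso := ⟨fun n => by
    have := hS.mono_f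
    have := hS.epi_g
    cases n with
    | zero =>
      rw [ChainComplex.quasiIsoAt₀_iff, ShortComplex.quasiIso_iff_of_zeros']
      · dsimp
        let φ : ShortComplex.mk (PK.π.f 0 ≫ i) q (by rw [Category.assoc, w, comp_zero]) ⟶
            ShortComplex.mk i q w :=
          { τ₁ := PK.π.f 0
            τ₂ := 𝟙 _
            τ₃ := 𝟙 _ }
        have : Epi φ.τ₁ := by dsimp [φ]; infer_instance
        have : IsIso φ.τ₂ := by dsimp [φ]; infer_instance
        have : Mono φ.τ₃ := by dsimp [φ]; infer_instance
        have hex := (ShortComplex.exact_iff_of_epi_of_isIso_of_mono φ).2 hS.exact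
        refine (ShortComplex.exact_and_epi_g_iff_of_iso ?_).2 ⟨hex, by dsimp; infer_instance⟩
        exact ShortComplex.isoMk (Iso.refl _) (Iso.refl _) (Iso.refl _)
          (by simp [spliceComplex]) (by simp [ChainComplex.toSingle₀Equiv])
      all_goals rfl
    | succ n =>
      rw [quasiIsoAt_iff_exactAt']
      · exact spliceComplex_exactAt_succ PK i n
      · apply ChainComplex.exactAt_succ_single_obj⟩


section Derived

variable {D : Type*} [Category D] [Abelian D] [HasProjectiveResolutions C]
  (F : C ⥤ D) [F.Additive]
variable {K P N : C} (PK : ProjectiveResolution K) (i : K ⟶ P)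

/-- Homology of `F(splice)` in degree `n+2` is the homology of `F(PK)` in degree `n+1`. -/
noncomputable def mapSpliceHomologyIso (n : ℕ) :
    ((F.mapHomologicalComplex _).obj (spliceComplex PK i)).homology (n + 2) ≅
      ((F.mapHomologicalComplex _).obj PK.complex).homology (n + 1) :=
  ShortComplex.homologyMapIso
      (((F.mapHomologicalComplex _).obj (spliceComplex PK i)).isoSc' (n + 3) (n + 2) (n + 1)
        (by simp) (by simp)) ≪≫
    ShortComplex.homologyMapIso
      (ShortComplex.isoMk (Iso.refl _) (Iso.refl _) (Iso.refl _)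
        (by simp [spliceComplex]) (by simp [spliceComplex])) ≪≫
    (ShortComplex.homologyMapIso
      (((F.mapHomologicalComplex _).obj PK.complex).isoSc' (n + 2) (n + 1) n
        (by simp) (by simp))).symm

variable [Projective P] (q : P ⟶ N) (w : i ≫ q = 0) (hS : (ShortComplex.mk i q w).ShortExact)

/-- Dimension shifting: `L_{n+2} F (N) ≅ L_{n+1} F (K)` for `0 → K → P → N → 0` with `P`
projective. -/
noncomputable def leftDerivedShiftIso (n : ℕ) :
    (F.leftDerived (n + 2)).obj N ≅ (F.leftDerived (n + 1)).obj K :=
  (splice PK i q w hS).isoLeftDerivedObj F (n + 2) ≪≫ mapSpliceHomologyIso F PK i n ≪≫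
    (PK.isoLeftDerivedObj F (n + 1)).symm

include hS in
lemma isZero_leftDerived_one_iff :
    IsZero ((F.leftDerived 1).obj N) ↔
      (ShortComplex.mk (F.map (PK.complex.d 1 0)) (F.map (PK.π.f 0 ≫ i))
        (by rw [← F.map_comp, ← Category.assoc, PK.complex_d_comp_π_f_zero, zero_comp,
          F.map_zero])).Exact := by
  have e := (splice PK i q w hS).isoLeftDerivedObj F 1
  rw [e.isZero_iff]
  change IsZero (((F.mapHomologicalComplex _).obj (spliceComplex PK i)).homology 1) ↔ _
  rw [← HomologicalComplex.exactAt_iff_isZero_homology,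
    HomologicalComplex.exactAt_iff' _ 2 1 0 (by simp) (by simp)]
  apply ShortComplex.exact_iff_of_iso
  exact ShortComplex.isoMk (Iso.refl _) (Iso.refl _) (Iso.refl _)
    (by simp [spliceComplex]) (by simp [spliceComplex])

omit [HasProjectiveResolutions C] [Projective P] in
lemma exact_map_iff_mono [PreservesFiniteColimits F] [Mono i] :
    (ShortComplex.mk (F.map (PK.complex.d 1 0)) (F.map (PK.π.f 0 ≫ i))
        (by rw [← F.map_comp, ← Category.assoc, PK.complex_d_comp_π_f_zero, zero_comp,
          F.map_zero])).Exact ↔ Mono (F.map i) := by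
  have hSex := exact_resolution_zero PK
  have hepi : Epi (ShortComplex.mk (PK.complex.d 1 0) (PK.π.f 0)
      PK.complex_d_comp_π_f_zero).g := by dsimp; infer_instance
  have hSF : ((ShortComplex.mk (PK.complex.d 1 0) (PK.π.f 0)
      PK.complex_d_comp_π_f_zero).map F).Exact :=
    hSex.map_of_epi_of_preservesCokernel F hepi inferInstance
  have hepiF : Epi (F.map (PK.π.f 0)) := inferInstance
  constructor
  · intro hT
    rw [Preadditive.mono_iff_cancel_zero]
    intro A a ha
    obtain ⟨A', π₁, hπ₁, x, hx⟩ := surjective_up_to_refinements_of_epi (F.map (PK.π.f 0)) a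
    have hx0 : x ≫ F.map (PK.π.f 0 ≫ i) = 0 := by
      rw [F.map_comp, ← Category.assoc, ← hx, Category.assoc, ha, comp_zero]
    obtain ⟨A'', π₂, hπ₂, y, hy⟩ := hT.exact_up_to_refinements x hx0
    dsimp at hy
    have : (π₂ ≫ π₁) ≫ a = 0 := by
      rw [Category.assoc, hx, ← Category.assoc, hy, Category.assoc, ← F.map_comp,
        PK.complex_d_comp_π_f_zero, F.map_zero, comp_zero]
    have hep : Epi (π₂ ≫ π₁) := epi_comp _ _
    rw [← cancel_epi (π₂ ≫ π₁), this, comp_zero]
  · intro hmono
    let φ : (ShortComplex.mk (PK.complex.d 1 0) (PK.π.f 0) PK.complex_d_comp_π_f_zero).map F ⟶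
        ShortComplex.mk (F.map (PK.complex.d 1 0)) (F.map (PK.π.f 0 ≫ i))
        (by rw [← F.map_comp, ← Category.assoc, PK.complex_d_comp_π_f_zero, zero_comp,
          F.map_zero]) :=
      { τ₁ := 𝟙 _
        τ₂ := 𝟙 _
        τ₃ := F.map i
        comm₁₂ := by simp
        comm₂₃ := by simp }
    have : Epi φ.τ₁ := by dsimp [φ]; infer_instance
    have : IsIso φ.τ₂ := by dsimp [φ]; infer_instance
    have : Mono φ.τ₃ := by dsimp [φ]; infer_instance
    exact (ShortComplex.exact_iff_of_epi_of_isIso_of_mono φ).1 hSF

include hS in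
/-- For right exact `F`: `L_1 F (N) = 0` iff `F(i)` is a monomorphism. -/
lemma isZero_leftDerived_one_iff_mono [PreservesFiniteColimits F] :
    IsZero ((F.leftDerived 1).obj N) ↔ Mono (F.map i) := by
  have := hS.mono_f
  have PK : ProjectiveResolution K := (HasProjectiveResolutions.out K).out.some
  rw [isZero_leftDerived_one_iff F PK i q w hS]
  exact exact_map_iff_mono F PK i

end Derived


section ModuleCatTor

open MonoidalCategory

variable {R : Type u} [CommRing R]

instance preservesFiniteColimits_tensoringLeft (M : ModuleCat.{u} R) :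
    PreservesFiniteColimits ((tensoringLeft (ModuleCat.{u} R)).obj M) :=
  inferInstanceAs (PreservesFiniteColimits (tensorLeft M))

variable (M : ModuleCat.{u} R) {K P N : ModuleCat.{u} R} [Projective P]
  (i : K ⟶ P) (q : P ⟶ N) (w : i ≫ q = 0) (hS : (ShortComplex.mk i q w).ShortExact)

/-- `Tor_{n+2}(M, N) ≅ Tor_{n+1}(M, K)`. -/
noncomputable def torShiftIso (n : ℕ) :
    ((Tor (ModuleCat.{u} R) (n + 2)).obj M).obj N ≅ ((Tor (ModuleCat.{u} R) (n + 1)).obj M).obj K :=
  leftDerivedShiftIso ((tensoringLeft (ModuleCat.{u} R)).obj M)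
    (ProjectiveResolution.of K) i q w hS n

include hS in
/-- `Tor_1(M, N) = 0` iff `M ⊗ K → M ⊗ P` is injective. -/
lemma isZero_tor_one_iff :
    IsZero (((Tor (ModuleCat.{u} R) 1).obj M).obj N) ↔
      Function.Injective (LinearMap.lTensor M i.hom) := by
  have h := isZero_leftDerived_one_iff_mono ((tensoringLeft (ModuleCat.{u} R)).obj M) i q w hS
  change IsZero (((tensoringLeft (ModuleCat.{u} R)).obj M).leftDerived 1 |>.obj N) ↔ _
  rw [h, ModuleCat.mono_iff_injective]
  rfl

end ModuleCatTor

section Concrete

variable {R : Type u} [CommRing R]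
variable (M : Type u) [AddCommGroup M] [Module R M]
variable {K P N : Type u} [AddCommGroup K] [Module R K] [AddCommGroup P] [Module R P]
  [AddCommGroup N] [Module R N] [Module.Projective R P]
  (i : K →ₗ[R] P) (q : P →ₗ[R] N)

/-- Concrete `Tor` as a type. -/
noncomputable abbrev TorT (R : Type u) [CommRing R] (n : ℕ) (M N : Type u) [AddCommGroup M] [Module R M]
    [AddCommGroup N] [Module R N] : Type u :=
  ((Tor (ModuleCat.{u} R) n).obj (ModuleCat.of R M)).obj (ModuleCat.of R N)

omit [Module.Projective R P] in
lemma shortExact_of (hi : Function.Injective i) (hex : Function.Exact i q)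
    (hq : Function.Surjective q) :
    (ShortComplex.mk (ModuleCat.ofHom i) (ModuleCat.ofHom q)
      (by ext x; exact hex.apply_apply_eq_zero x)).ShortExact :=
  ModuleCat.shortComplex_shortExact _ hex hi hq

include i q in
lemma subsingleton_tor_one_iff (hi : Function.Injective i) (hex : Function.Exact i q)
    (hq : Function.Surjective q) :
    Subsingleton (TorT R 1 M N) ↔ Function.Injective (LinearMap.lTensor M i) := by
  have : Projective (ModuleCat.of R P) := (IsProjective.iff_projective P).1 inferInstance
  rw [← ModuleCat.isZero_iff_subsingleton]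
  exact isZero_tor_one_iff (ModuleCat.of R M) (ModuleCat.ofHom i) (ModuleCat.ofHom q) _
    (shortExact_of i q hi hex hq)

include i q in
lemma subsingleton_tor_succ_succ_iff (hi : Function.Injective i) (hex : Function.Exact i q)
    (hq : Function.Surjective q) (n : ℕ) :
    Subsingleton (TorT R (n + 2) M N) ↔ Subsingleton (TorT R (n + 1) M K) := by
  have : Projective (ModuleCat.of R P) := (IsProjective.iff_projective P).1 inferInstance
  rw [← ModuleCat.isZero_iff_subsingleton, ← ModuleCat.isZero_iff_subsingleton]
  exact (torShiftIso (ModuleCat.of R M) (ModuleCat.ofHom i) (ModuleCat.ofHom q) _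
    (shortExact_of i q hi hex hq) n).isZero_iff

lemma subsingleton_tor_succ_of_projective (n : ℕ) : Subsingleton (TorT R (n + 1) M P) := by
  have : Projective (ModuleCat.of R P) := (IsProjective.iff_projective P).1 inferInstance
  rw [← ModuleCat.isZero_iff_subsingleton]
  exact isZero_Tor_succ_of_projective _ _ _ _

end Concrete

end Groth.Agent.Lib.Helper21.TorShift
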