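import Mathlib
import Groth.Agent.Lib.Helper21.TorShift

/-!
# Long exact sequence tools and balancing for `Tor` on `ModuleCat` (helper21)

* abstract: short exact sequence of additive functors evaluated on a projective resolution
  (`sc`, `δIso`, `isZero_mid`, `H1IsoKernel`, `isZero_H1_iff_mono`);
* first variable of Mathlib's `Tor`: `torFirstShiftIso`, `torFirstOneIsoKernel`,
  `isZero_tor_one_iff_of_flat`, `isZero_tor_mid`;
* `leftDerivedOneIsoKernel`;
* balancing: `balance`, `tor_iso_homology_left`, `isZero_tor_succ_of_flat_right`;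
* second variable: `isZero_tor_mid_right`.
-/

set_option autoImplicit false
set_option backward.isDefEq.respectTransparency false
set_option backward.defeqAttrib.useBackward true
universe v u

namespace Groth.Agent.Lib.Helper21.TorLES

open CategoryTheory Limits HomologicalComplex

section Abstract

variable {A : Type u} [Category.{v} A] [Abelian A]
  {D : Type*} [Category D] [Abelian D]
  {F₁ F₂ F₃ : A ⥤ D} [F₁.Additive] [F₂.Additive] [F₃.Additive]
  (α : F₁ ⟶ F₂) (β : F₂ ⟶ F₃) (w : α ≫ β = 0)
  {X : A} (P : ProjectiveResolution X)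

/-- `H n F P` : homology of `F(P)` in degree `n`. -/
noncomputable abbrev H (F : A ⥤ D) [F.Additive] (n : ℕ) : D :=
  ((F.mapHomologicalComplex (ComplexShape.down ℕ)).obj P.complex).homology n

/-- The short complex of complexes `F₁(P) → F₂(P) → F₃(P)`. -/
noncomputable def sc : ShortComplex (ChainComplex D ℕ) :=
  ShortComplex.mk ((NatTrans.mapHomologicalComplex α _).app P.complex)
    ((NatTrans.mapHomologicalComplex β _).app P.complex) (by
      ext n
      simp only [HomologicalComplex.comp_f, NatTrans.mapHomologicalComplex_app_f,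
        HomologicalComplex.zero_f]
      rw [← NatTrans.comp_app, w]
      rfl)

variable (h : ∀ (Q : A) [Projective Q],
  (ShortComplex.mk (α.app Q) (β.app Q) (by rw [← NatTrans.comp_app, w]; rfl)).ShortExact)

include h in
lemma sc_shortExact : (sc α β w P).ShortExact := by
  apply HomologicalComplex.shortExact_of_degreewise_shortExact
  intro n
  exact h (P.complex.X n)

/-- Connecting isomorphism when the middle terms vanish. -/
noncomputable def δIso (n : ℕ) (h1 : IsZero (H P F₂ (n + 1))) (h0 : IsZero (H P F₂ n)) :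
    H P F₃ (n + 1) ≅ H P F₁ n :=
  (sc_shortExact α β w P h).δIso (n + 1) n (by simp) h1 h0

include h in
lemma isZero_mid (n : ℕ) (h1 : IsZero (H P F₁ n)) (h3 : IsZero (H P F₃ n)) :
    IsZero (H P F₂ n) :=
  ((sc_shortExact α β w P h).homology_exact₂ n).isZero_of_both_isZero h1 h3

/-- The iso `H_0(F(P)) ≅ F X` for right exact `F`. -/
noncomputable def H0Iso (F : A ⥤ D) [F.Additive] [PreservesFiniteColimits F] :
    H P F 0 ≅ F.obj X :=
  (ChainComplex.isoHomologyι₀ _) ≪≫ asIso (P.fromLeftDerivedZero' F)

omit [F₃.Additive] in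
lemma H0Iso_naturality [PreservesFiniteColimits F₁] [PreservesFiniteColimits F₂] :
    HomologicalComplex.homologyMap ((NatTrans.mapHomologicalComplex α _).app P.complex) 0 ≫
      (H0Iso P F₂).hom = (H0Iso P F₁).hom ≫ α.app X := by
  have key : HomologicalComplex.opcyclesMap
      ((NatTrans.mapHomologicalComplex α _).app P.complex) 0 ≫ P.fromLeftDerivedZero' F₂ =
      P.fromLeftDerivedZero' F₁ ≫ α.app X := by
    rw [← cancel_epi (HomologicalComplex.pOpcycles _ _)]
    rw [HomologicalComplex.p_opcyclesMap_assoc, P.pOpcycles_comp_fromLeftDerivedZero',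
      P.pOpcycles_comp_fromLeftDerivedZero'_assoc, NatTrans.mapHomologicalComplex_app_f]
    exact (α.naturality (P.π.f 0)).symm
  dsimp [H0Iso]
  rw [HomologicalComplex.homologyι_naturality_assoc, key, Category.assoc]

/-- `H_1(F₃(P)) ≅ ker(F₁ X → F₂ X)` when `H_1(F₂(P)) = 0` and `F₁`, `F₂` are right exact. -/
noncomputable def H1IsoKernel [PreservesFiniteColimits F₁] [PreservesFiniteColimits F₂]
    (h1 : IsZero (H P F₂ 1)) : H P F₃ 1 ≅ kernel (α.app X) := by
  have hS := sc_shortExact α β w P h
  have hex := hS.homology_exact₁ 1 0 (by simp)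
  have hmono : Mono (hS.δ 1 0 (by simp)) := hS.mono_δ 1 0 (by simp) h1
  have hker := hex.fIsKernel
  exact (IsLimit.conePointUniqueUpToIso hker (kernelIsKernel _)) ≪≫
    kernel.mapIso _ _ (H0Iso P F₁) (H0Iso P F₂) (H0Iso_naturality α P)

include h in
lemma isZero_H1_iff_mono [PreservesFiniteColimits F₁] [PreservesFiniteColimits F₂]
    (h1 : IsZero (H P F₂ 1)) : IsZero (H P F₃ 1) ↔ Mono (α.app X) := by
  rw [(H1IsoKernel α β w P h h1).isZero_iff]
  exact (Preadditive.mono_iff_isZero_kernel _).symm

end Abstract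

section TorFirst

open MonoidalCategory TorShift

variable {R : Type u} [CommRing R]

/-- `H_{n+1}(M ⊗ P) = 0` for `M` flat. -/
lemma isZero_H_succ_of_flat (M : ModuleCat.{u} R) [Module.Flat R M] {N : ModuleCat.{u} R}
    (P : ProjectiveResolution N) (n : ℕ) :
    IsZero (H P ((tensoringLeft (ModuleCat.{u} R)).obj M) (n + 1)) := by
  erw [← HomologicalComplex.exactAt_iff_isZero_homology]
  have h1 := P.complex_exactAt_succ n
  exact Module.Flat.lTensor_shortComplex_exact M _ h1

variable {M₁ M₂ M₃ : ModuleCat.{u} R} (f : M₁ ⟶ M₂) (g : M₂ ⟶ M₃) (w : f ≫ g = 0)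
  (hS : (ShortComplex.mk f g w).ShortExact) (N : ModuleCat.{u} R)

include w in
lemma map_comp_zero : (tensoringLeft (ModuleCat.{u} R)).map f ≫
    (tensoringLeft (ModuleCat.{u} R)).map g = 0 := by
  rw [← Functor.map_comp, w, Functor.map_zero]

include hS in
lemma shortExact_app (Q : ModuleCat.{u} R) [Projective Q] :
    (ShortComplex.mk (((tensoringLeft (ModuleCat.{u} R)).map f).app Q)
      (((tensoringLeft (ModuleCat.{u} R)).map g).app Q)
      (by rw [← NatTrans.comp_app, map_comp_zero f g w]; rfl)).ShortExact := by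
  have hQ : Module.Projective R Q := (IsProjective.iff_projective Q).2 (by
    exact ‹Projective Q›)
  have hinj : Function.Injective f.hom := (ModuleCat.mono_iff_injective f).1 hS.mono_f
  have hsurj : Function.Surjective g.hom := (ModuleCat.epi_iff_surjective g).1 hS.epi_g
  have hex : Function.Exact f.hom g.hom :=
    (ShortComplex.ShortExact.moduleCat_exact_iff_function_exact _).1 hS.exact
  apply ModuleCat.shortComplex_shortExact
  · exact rTensor_exact Q hex hsurj
  · exact Module.Flat.rTensor_preserves_injective_linearMap f.hom hinj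
  · exact LinearMap.rTensor_surjective Q hsurj

/-- `Tor_{n+2}(M₃, N) ≅ Tor_{n+1}(M₁, N)` when `M₂` is flat. -/
noncomputable def torFirstShiftIso [Module.Flat R M₂] (n : ℕ) :
    ((Tor (ModuleCat.{u} R) (n + 2)).obj M₃).obj N ≅ ((Tor (ModuleCat.{u} R) (n + 1)).obj M₁).obj N :=
  let P := ProjectiveResolution.of N
  P.isoLeftDerivedObj ((tensoringLeft (ModuleCat.{u} R)).obj M₃) (n + 2) ≪≫
    δIso _ _ (map_comp_zero f g w) P (fun Q _ => shortExact_app f g w hS Q) (n + 1)
      (isZero_H_succ_of_flat M₂ P (n + 1)) (isZero_H_succ_of_flat M₂ P n) ≪≫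
    (P.isoLeftDerivedObj ((tensoringLeft (ModuleCat.{u} R)).obj M₁) (n + 1)).symm

/-- `Tor_1(M₃, N) ≅ ker(M₁ ⊗ N → M₂ ⊗ N)` when `M₂` is flat. -/
noncomputable def torFirstOneIsoKernel [Module.Flat R M₂] :
    ((Tor (ModuleCat.{u} R) 1).obj M₃).obj N ≅ kernel (f ▷ N) :=
  let P := ProjectiveResolution.of N
  P.isoLeftDerivedObj ((tensoringLeft (ModuleCat.{u} R)).obj M₃) 1 ≪≫
    H1IsoKernel _ _ (map_comp_zero f g w) P (fun Q _ => shortExact_app f g w hS Q)
      (isZero_H_succ_of_flat M₂ P 0)

include hS in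
lemma isZero_tor_one_iff_of_flat [Module.Flat R M₂] :
    IsZero (((Tor (ModuleCat.{u} R) 1).obj M₃).obj N) ↔
      Function.Injective (LinearMap.rTensor N f.hom) := by
  rw [(torFirstOneIsoKernel f g w hS N).isZero_iff, ← Preadditive.mono_iff_isZero_kernel,
    ModuleCat.mono_iff_injective]
  rfl

include hS in
/-- Middle exactness: `Tor_n(M₁,N) = 0` and `Tor_n(M₃,N) = 0` imply `Tor_n(M₂,N) = 0`. -/
lemma isZero_tor_mid (n : ℕ) (h1 : IsZero (((Tor (ModuleCat.{u} R) n).obj M₁).obj N))
    (h3 : IsZero (((Tor (ModuleCat.{u} R) n).obj M₃).obj N)) :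
    IsZero (((Tor (ModuleCat.{u} R) n).obj M₂).obj N) := by
  let P := ProjectiveResolution.of N
  have e := fun (M : ModuleCat.{u} R) =>
    P.isoLeftDerivedObj ((tensoringLeft (ModuleCat.{u} R)).obj M) n
  refine IsZero.of_iso ?_ (e M₂)
  exact isZero_mid _ _ (map_comp_zero f g w) P (fun Q _ => shortExact_app f g w hS Q) n
    (IsZero.of_iso h1 (e M₁).symm) (IsZero.of_iso h3 (e M₃).symm)

end TorFirst

section OneIsoKernel

open TorShift

variable {C : Type u} [Category.{v} C] [Abelian C] [HasProjectiveResolutions C]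
  {D : Type*} [Category D] [Abelian D] (F : C ⥤ D) [F.Additive] [PreservesFiniteColimits F]
  {K P N : C} [Projective P] (PK : ProjectiveResolution K)
  (i : K ⟶ P) (q : P ⟶ N) (w : i ≫ q = 0) (hS : (ShortComplex.mk i q w).ShortExact)

/-- The homology of `F P₁ → F P₀ → F P` is the kernel of `F K → F P` (right exact `F`). -/
noncomputable def homologyIsoKernel :
    (ShortComplex.mk (F.map (PK.complex.d 1 0)) (F.map (PK.π.f 0 ≫ i))
        (by rw [← F.map_comp, ← Category.assoc, PK.complex_d_comp_π_f_zero, zero_comp,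
          F.map_zero])).homology ≅ kernel (F.map i) := by
  have hSex := exact_resolution_zero PK
  have hepi : Epi (ShortComplex.mk (PK.complex.d 1 0) (PK.π.f 0)
      PK.complex_d_comp_π_f_zero).g := by dsimp; infer_instance
  have hSF : ((ShortComplex.mk (PK.complex.d 1 0) (PK.π.f 0)
      PK.complex_d_comp_π_f_zero).map F).Exact :=
    hSex.map_of_epi_of_preservesCokernel F hepi inferInstance
  have hepiF : Epi ((ShortComplex.mk (PK.complex.d 1 0) (PK.π.f 0)
      PK.complex_d_comp_π_f_zero).map F).g := by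
    dsimp; infer_instance
  let hp := hSF.gIsCokernel
  have hz : F.map (PK.complex.d 1 0) ≫ F.map (PK.π.f 0 ≫ i) = 0 := by
    rw [← F.map_comp, ← Category.assoc, PK.complex_d_comp_π_f_zero, zero_comp, F.map_zero]
  have hdesc : hp.desc (CokernelCofork.ofπ (F.map (PK.π.f 0 ≫ i)) hz) = F.map i := by
    apply Cofork.IsColimit.hom_ext hp
    rw [Cofork.IsColimit.π_desc hp]
    simp [F.map_comp]
  let hd : (ShortComplex.mk (F.map (PK.complex.d 1 0)) (F.map (PK.π.f 0 ≫ i))
        (by rw [← F.map_comp, ← Category.assoc, PK.complex_d_comp_π_f_zero, zero_comp,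
          F.map_zero])).RightHomologyData :=
    { Q := F.obj K
      H := kernel (F.map i)
      p := F.map (PK.π.f 0)
      ι := kernel.ι (F.map i)
      wp := ((ShortComplex.mk (PK.complex.d 1 0) (PK.π.f 0)
        PK.complex_d_comp_π_f_zero).map F).zero
      hp := hp
      wι := by
        dsimp
        rw [hdesc, kernel.condition]
      hι := KernelFork.IsLimit.ofι _ _
        (fun g' eq' => kernel.lift (F.map i) g' (by rw [← hdesc]; exact eq'))
        (fun _ _ => kernel.lift_ι _ _ _)
        (fun _ _ _ hm => by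
          rw [← cancel_mono (kernel.ι (F.map i)), kernel.lift_ι]
          exact hm) }
  exact hd.homologyIso

/-- For right exact `F`: `L_1 F (N) ≅ ker (F K → F P)`. -/
noncomputable def leftDerivedOneIsoKernel :
    (F.leftDerived 1).obj N ≅ kernel (F.map i) :=
  (splice PK i q w hS).isoLeftDerivedObj F 1 ≪≫
    ShortComplex.homologyMapIso
      (((F.mapHomologicalComplex _).obj (spliceComplex PK i)).isoSc' 2 1 0 (by simp) (by simp)) ≪≫
    ShortComplex.homologyMapIso
      (ShortComplex.isoMk (Iso.refl _) (Iso.refl _) (Iso.refl _)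
        (by simp [spliceComplex]) (by simp [spliceComplex])) ≪≫
    homologyIsoKernel F PK i

end OneIsoKernel

section Balance

open MonoidalCategory TorShift

variable {R : Type u} [CommRing R]

/-- `Tor'` : left derived functor of `- ⊗ N` evaluated at `M`. -/
noncomputable abbrev Tor'' (n : ℕ) (M N : ModuleCat.{u} R) : ModuleCat.{u} R :=
  ((tensorRight N).leftDerived n).obj M

instance flat_of_projective_obj (Q : ModuleCat.{u} R) [Projective Q] : Module.Flat R Q := by
  have hQ : Module.Projective R Q := (IsProjective.iff_projective Q).2 ‹Projective Q›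
  infer_instance

/-- The canonical presentation `0 → K → F → M → 0` with `F` projective. -/
lemma presentation_shortExact (M : ModuleCat.{u} R) :
    (ShortComplex.mk (kernel.ι (Projective.π M)) (Projective.π M)
      (kernel.condition _)).ShortExact :=
  { exact := ShortComplex.exact_of_f_is_kernel _ (kernelIsKernel _)
    mono_f := by dsimp; infer_instance
    epi_g := by dsimp; infer_instance }

theorem balance_aux (N : ModuleCat.{u} R) (n : ℕ) :
    (∀ M : ModuleCat.{u} R,
      Nonempty (((Tor (ModuleCat.{u} R) n).obj M).obj N ≅ Tor'' n M N)) ∧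
    (∀ M : ModuleCat.{u} R,
      Nonempty (((Tor (ModuleCat.{u} R) (n + 1)).obj M).obj N ≅ Tor'' (n + 1) M N)) := by
  induction n with
  | zero =>
    refine ⟨fun M => ⟨?_⟩, fun M => ⟨?_⟩⟩
    · exact (Functor.leftDerivedZeroIsoSelf (tensorLeft M)).app N ≪≫
        ((Functor.leftDerivedZeroIsoSelf (tensorRight N)).app M).symm
    · have hS := presentation_shortExact M
      exact torFirstOneIsoKernel _ _ _ hS N ≪≫
        (leftDerivedOneIsoKernel (tensorRight N) (ProjectiveResolution.of _) _ _ _ hS).symm
  | succ n ih =>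
    refine ⟨ih.2, fun M => ?_⟩
    have hS := presentation_shortExact M
    obtain ⟨e⟩ := ih.2 (kernel (Projective.π M))
    exact ⟨torFirstShiftIso _ _ _ hS N n ≪≫ e ≪≫
      (leftDerivedShiftIso (tensorRight N) (ProjectiveResolution.of _) _ _ _ hS n).symm⟩

/-- Balancing of `Tor` (objectwise). -/
theorem balance (n : ℕ) (M N : ModuleCat.{u} R) :
    Nonempty (((Tor (ModuleCat.{u} R) n).obj M).obj N ≅ Tor'' n M N) :=
  (balance_aux N n).1 M

/-- `Tor_n(M, N) ≅ H_n(P ⊗ N)` for any projective resolution `P` of `M`. -/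
theorem tor_iso_homology_left (n : ℕ) (M N : ModuleCat.{u} R) (P : ProjectiveResolution M) :
    Nonempty (((Tor (ModuleCat.{u} R) n).obj M).obj N ≅
      (((tensorRight N).mapHomologicalComplex (ComplexShape.down ℕ)).obj P.complex).homology n) := by
  obtain ⟨e⟩ := balance n M N
  exact ⟨e ≪≫ P.isoLeftDerivedObj (tensorRight N) n⟩

/-- `Tor_{n+1}(M, N) = 0` when the second variable `N` is flat. -/
theorem isZero_tor_succ_of_flat_right (n : ℕ) (M N : ModuleCat.{u} R) [Module.Flat R N] :
    IsZero (((Tor (ModuleCat.{u} R) (n + 1)).obj M).obj N) := by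
  obtain ⟨e⟩ := tor_iso_homology_left (n + 1) M N (ProjectiveResolution.of M)
  refine IsZero.of_iso ?_ e
  erw [← HomologicalComplex.exactAt_iff_isZero_homology]
  have h1 := (ProjectiveResolution.of M).complex_exactAt_succ n
  exact Module.Flat.rTensor_shortComplex_exact N _ h1

end Balance

section TorSecond

open MonoidalCategory TorShift

variable {R : Type u} [CommRing R]
variable {N₁ N₂ N₃ : ModuleCat.{u} R} (f : N₁ ⟶ N₂) (g : N₂ ⟶ N₃) (w : f ≫ g = 0)
  (hS : (ShortComplex.mk f g w).ShortExact) (M : ModuleCat.{u} R)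

include w in
lemma map_comp_zero_right : (tensoringRight (ModuleCat.{u} R)).map f ≫
    (tensoringRight (ModuleCat.{u} R)).map g = 0 := by
  rw [← Functor.map_comp, w, Functor.map_zero]

include hS in
lemma shortExact_app_right (Q : ModuleCat.{u} R) [Projective Q] :
    (ShortComplex.mk (((tensoringRight (ModuleCat.{u} R)).map f).app Q)
      (((tensoringRight (ModuleCat.{u} R)).map g).app Q)
      (by rw [← NatTrans.comp_app, map_comp_zero_right f g w]; rfl)).ShortExact := by
  have hinj : Function.Injective f.hom := (ModuleCat.mono_iff_injective f).1 hS.mono_f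
  have hsurj : Function.Surjective g.hom := (ModuleCat.epi_iff_surjective g).1 hS.epi_g
  have hex : Function.Exact f.hom g.hom :=
    (ShortComplex.ShortExact.moduleCat_exact_iff_function_exact _).1 hS.exact
  apply ModuleCat.shortComplex_shortExact
  · exact lTensor_exact Q hex hsurj
  · exact Module.Flat.lTensor_preserves_injective_linearMap f.hom hinj
  · exact LinearMap.lTensor_surjective Q hsurj

include hS in
/-- Middle exactness in the second variable. -/
lemma isZero_tor_mid_right (n : ℕ) (h1 : IsZero (((Tor (ModuleCat.{u} R) n).obj M).obj N₁))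
    (h3 : IsZero (((Tor (ModuleCat.{u} R) n).obj M).obj N₃)) :
    IsZero (((Tor (ModuleCat.{u} R) n).obj M).obj N₂) := by
  let P := ProjectiveResolution.of M
  have e := fun (N : ModuleCat.{u} R) => (tor_iso_homology_left n M N P).some
  refine IsZero.of_iso ?_ (e N₂)
  exact isZero_mid _ _ (map_comp_zero_right f g w) P (fun Q _ => shortExact_app_right f g w hS Q) n
    (IsZero.of_iso h1 (e N₁).symm) (IsZero.of_iso h3 (e N₃).symm)

end TorSecond

section TorFirst2

open MonoidalCategory TorShift

variable {R : Type u} [CommRing R]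
variable {M₁ M₂ M₃ : ModuleCat.{u} R} (f : M₁ ⟶ M₂) (g : M₂ ⟶ M₃) (w : f ≫ g = 0)
  (hS : (ShortComplex.mk f g w).ShortExact) (N : ModuleCat.{u} R)

include hS in
/-- If `Tor_1(M₂, N) = 0` then `Tor_1(M₃, N) = 0` iff `M₁ ⊗ N → M₂ ⊗ N` is injective. -/
lemma isZero_tor_one_iff_of_isZero
    (h2 : IsZero (((Tor (ModuleCat.{u} R) 1).obj M₂).obj N)) :
    IsZero (((Tor (ModuleCat.{u} R) 1).obj M₃).obj N) ↔
      Function.Injective (LinearMap.rTensor N f.hom) := by
  let P := ProjectiveResolution.of N
  have e := fun (M : ModuleCat.{u} R) =>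
    P.isoLeftDerivedObj ((tensoringLeft (ModuleCat.{u} R)).obj M) 1
  refine (e M₃).isZero_iff.trans ?_
  refine (isZero_H1_iff_mono _ _ (map_comp_zero f g w) P (fun Q _ => shortExact_app f g w hS Q)
      (IsZero.of_iso h2 (e M₂).symm)).trans ?_
  rw [ModuleCat.mono_iff_injective]
  rfl

end TorFirst2

end Groth.Agent.Lib.Helper21.TorLES
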