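import Mathlib
import Groth.Prelude.Def_CAlgX
import Groth.Agent.Lib.Helper26.QRegSpan
import Groth.Agent.Lib.Helper26.CauchyBinetOrd

/-!
# Helper21 — quasi-regular sequences: flat base change, faithfully flat descent, local-global,
extraction of a quasi-regular generating subfamily in a local ring.
-/

set_option autoImplicit false
universe u

namespace Groth.Agent.Lib.Helper21.QRDescent

open MvPolynomial

section General

variable {R R' : Type u} [CommRing R] [CommRing R']

lemma span_range_comp (φ : R →+* R') {s : ℕ} (a : Fin s → R) :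
    Ideal.span (Set.range (φ ∘ a)) = (Ideal.span (Set.range a)).map φ := by
  rw [Ideal.map_span, ← Set.range_comp]

lemma eval_comp_map (φ : R →+* R') {s : ℕ} (a : Fin s → R) (P : MvPolynomial (Fin s) R) :
    eval (φ ∘ a) (map φ P) = φ (eval a P) := by
  rw [eval_map, ← eval₂_id, eval₂_comp_left, RingHom.comp_id]

/-- (C) descent of quasi-regularity along a ring map for which the ideal is contracted. -/
theorem qr_of_map (φ : R →+* R') {s : ℕ} (a : Fin s → R)
    (hφ : ((Ideal.span (Set.range a)).map φ).comap φ ≤ Ideal.span (Set.range a))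
    (h : CAlgX.IsQuasiRegular (φ ∘ a)) : CAlgX.IsQuasiRegular a := by
  intro n P hP hev d
  have h1 := h n (map φ P) (hP.map φ) (by
    rw [eval_comp_map, span_range_comp, ← Ideal.map_pow]
    exact Ideal.mem_map_of_mem _ hev) d
  rw [coeff_map, span_range_comp] at h1
  exact hφ h1

/-- (E) invariance under ring isomorphisms. -/
theorem qr_ringEquiv (e : R ≃+* R') {s : ℕ} (a : Fin s → R)
    (h : CAlgX.IsQuasiRegular a) : CAlgX.IsQuasiRegular (e ∘ a) := by
  apply qr_of_map (e.symm : R' →+* R)
  · intro x hx
    rw [Ideal.mem_comap] at hx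
    have := Ideal.mem_map_of_mem (e : R →+* R') hx
    rw [Ideal.map_map] at this
    simpa using this
  · have : ((e.symm : R' →+* R) ∘ (e ∘ a)) = a := by
      funext i; simp
    rw [this]; exact h

/-- (T) a sequence generating the unit ideal is quasi-regular. -/
theorem qr_of_span_eq_top {s : ℕ} (a : Fin s → R) (h : Ideal.span (Set.range a) = ⊤) :
    CAlgX.IsQuasiRegular a := by
  intro n P _ _ d
  rw [h]; trivial

/-- (Ind) the degree one case: relations modulo `L²` have coefficients in `L`. -/
theorem coeff_mem_of_qr {s : ℕ} (a : Fin s → R) (h : CAlgX.IsQuasiRegular a) (c : Fin s → R)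
    (hc : ∑ k, c k * a k ∈ Ideal.span (Set.range a) ^ 2) (k : Fin s) :
    c k ∈ Ideal.span (Set.range a) := by
  classical
  let P : MvPolynomial (Fin s) R := ∑ k, C (c k) * X k
  have hP : P.IsHomogeneous 1 :=
    IsHomogeneous.sum _ _ _ (fun k _ => isHomogeneous_C_mul_X _ _)
  have hev : eval a P = ∑ k, c k * a k := by
    simp only [P, map_sum, map_mul, eval_C, eval_X]
  have hmem := h 1 P hP (by rw [hev]; exact hc) (Finsupp.single k 1)
  have hcoef : coeff (Finsupp.single k 1) P = c k := by
    simp only [P, coeff_sum, coeff_C_mul, coeff_X]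
    rw [Finset.sum_eq_single k]
    · simp
    · intro b _ hb
      rw [if_neg]
      · simp
      · intro hEq
        exact hb ((Finsupp.single_left_inj one_ne_zero).mp hEq)
    · intro h'
      exact absurd (Finset.mem_univ k) h'
  rwa [hcoef] at hmem

/-- (L) quasi-regularity can be checked at the localizations at maximal ideals. -/
theorem qr_of_localization_maximal {s : ℕ} (a : Fin s → R)
    (h : ∀ (m : Ideal R) [m.IsMaximal],
      CAlgX.IsQuasiRegular (algebraMap R (Localization.AtPrime m) ∘ a)) :
    CAlgX.IsQuasiRegular a := by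
  intro n P hP hev d
  apply Ideal.mem_of_localization_maximal
  intro m hm
  haveI := hm
  have h1 := h m n (map (algebraMap R (Localization.AtPrime m)) P) (hP.map _) (by
    rw [eval_comp_map, span_range_comp, ← Ideal.map_pow]
    exact Ideal.mem_map_of_mem _ hev) d
  rwa [coeff_map, span_range_comp] at h1

/-- (FB) quasi-regularity is preserved by flat base change. -/
theorem qr_of_flat [Algebra R R'] [Module.Flat R R'] {s : ℕ} (a : Fin s → R)
    (h : CAlgX.IsQuasiRegular a) : CAlgX.IsQuasiRegular (algebraMap R R' ∘ a) := by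
  classical
  intro n P' hP' hev d
  rw [span_range_comp] at hev ⊢
  rw [← Ideal.map_pow] at hev
  by_cases hd : d ∈ P'.support
  swap
  · rw [MvPolynomial.notMem_support_iff.1 hd]; exact zero_mem _
  change eval (algebraMap R R' ∘ a) P' ∈ Submodule.span R' _ at hev
  rw [Submodule.mem_span_set'] at hev
  obtain ⟨N, y, g, hsum⟩ := hev
  have hg : ∀ i : Fin N, ∃ l ∈ Ideal.span (Set.range a) ^ (n + 1), algebraMap R R' l = (g i : R') :=
    fun i => (g i).2
  choose l hlK hl using hg
  -- the relation
  let ι := ↥P'.support ⊕ Fin N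
  let f : ι → R := Sum.elim (fun d => ∏ i, a i ^ (d.1 i)) (fun i => - l i)
  let x : ι → R' := Sum.elim (fun d => coeff d.1 P') y
  have hrel : ∑ i, f i • x i = 0 := by
    rw [Fintype.sum_sum_type]
    simp only [f, x, Sum.elim_inl, Sum.elim_inr]
    have h1 : ∑ d : ↥P'.support, (∏ i, a i ^ (d.1 i)) • coeff d.1 P' =
        eval (algebraMap R R' ∘ a) P' := by
      rw [eval_eq', ← Finset.sum_coe_sort P'.support]
      refine Finset.sum_congr rfl fun d _ => ?_
      rw [Algebra.smul_def, map_prod, mul_comm]
      congr 1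
      refine Finset.prod_congr rfl fun i _ => ?_
      rw [map_pow]; rfl
    have h2 : ∑ i : Fin N, (- l i) • y i = - ∑ i, y i • (g i : R') := by
      rw [← Finset.sum_neg_distrib]
      refine Finset.sum_congr rfl fun i _ => ?_
      rw [neg_smul, Algebra.smul_def, hl i, smul_eq_mul, mul_comm]
    rw [h1, h2, hsum, add_neg_cancel]
  obtain ⟨k, α, z, hx, hα⟩ := Module.Flat.isTrivialRelation_of_sum_smul_eq_zero (R := R) (M := R') (f := f) (x := x) hrel
  -- coefficients of P' are combinations of the z_j with coefficients α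
  have key : ∀ j : Fin k, α (Sum.inl ⟨d, hd⟩) j ∈ Ideal.span (Set.range a) := by
    intro j
    let Pj : MvPolynomial (Fin s) R := ∑ d' : ↥P'.support, monomial d'.1 (α (Sum.inl d') j)
    have hPj : Pj.IsHomogeneous n := by
      refine IsHomogeneous.sum _ _ _ fun d' _ => ?_
      apply isHomogeneous_monomial
      have := hP' (mem_support_iff.1 d'.2)
      rw [Finsupp.degree_eq_weight_one]
      exact this
    have hevj : eval a Pj ∈ Ideal.span (Set.range a) ^ (n + 1) := by
      have h3 := hα j
      rw [Fintype.sum_sum_type] at h3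
      simp only [f, Sum.elim_inl, Sum.elim_inr] at h3
      have h4 : eval a Pj = ∑ d' : ↥P'.support, (∏ i, a i ^ (d'.1 i)) * α (Sum.inl d') j := by
        simp only [Pj, map_sum, eval_monomial]
        refine Finset.sum_congr rfl fun d' _ => ?_
        rw [mul_comm, Finsupp.prod_fintype]
        intro i; simp
      rw [h4, eq_neg_of_add_eq_zero_left h3, ← Finset.sum_neg_distrib]
      refine Ideal.sum_mem _ fun i _ => ?_
      rw [neg_mul, neg_neg]
      exact Ideal.mul_mem_right _ _ (hlK i)
    have h5 := h n Pj hPj hevj d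
    have h6 : coeff d Pj = α (Sum.inl ⟨d, hd⟩) j := by
      simp only [Pj, coeff_sum, coeff_monomial]
      rw [Finset.sum_eq_single ⟨d, hd⟩]
      · simp
      · intro b _ hb
        rw [if_neg]
        intro hEq
        exact hb (Subtype.ext hEq)
      · intro h'
        exact absurd (Finset.mem_univ _) h'
    rwa [h6] at h5
  have hcoef : coeff d P' = ∑ j, α (Sum.inl ⟨d, hd⟩) j • z j := hx (Sum.inl ⟨d, hd⟩)
  rw [hcoef]
  refine Ideal.sum_mem _ fun j _ => ?_
  rw [Algebra.smul_def]
  exact Ideal.mul_mem_right _ _ (Ideal.mem_map_of_mem _ (key j))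

end General

section Local

variable {R : Type u} [CommRing R]

/-- (G) in a local ring, from any finite generating family of an ideal generated by a
quasi-regular sequence of length `s` one can extract `s` elements which form a quasi-regular
sequence generating the ideal. -/
theorem exists_sub_qr [IsLocalRing R] {s m : ℕ} (γ : Fin s → R) (hγ : CAlgX.IsQuasiRegular γ)
    (hL : Ideal.span (Set.range γ) ≤ IsLocalRing.maximalIdeal R)
    (b : Fin m → R) (hb : Ideal.span (Set.range b) = Ideal.span (Set.range γ)) :
    ∃ e : Fin s → Fin m, Ideal.span (Set.range (b ∘ e)) = Ideal.span (Set.range γ) ∧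
      CAlgX.IsQuasiRegular (b ∘ e) := by
  classical
  have hM : ∀ i, ∃ c : Fin s → R, ∑ j, c j * γ j = b i := fun i => by
    have : b i ∈ Ideal.span (Set.range γ) := hb ▸ Ideal.subset_span ⟨i, rfl⟩
    exact (Ideal.mem_span_range_iff_exists_fun).mp this
  have hN : ∀ j, ∃ c : Fin m → R, ∑ i, c i * b i = γ j := fun j => by
    have : γ j ∈ Ideal.span (Set.range b) := hb.symm ▸ Ideal.subset_span ⟨j, rfl⟩
    exact (Ideal.mem_span_range_iff_exists_fun).mp this
  choose M hM using hM
  choose N hN using hN
  let MM : Matrix (Fin m) (Fin s) R := Matrix.of M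
  let NN : Matrix (Fin s) (Fin m) R := Matrix.of N
  -- (NN * MM - 1) has entries in L
  have hent : ∀ j k, (NN * MM - 1 : Matrix (Fin s) (Fin s) R) j k ∈ Ideal.span (Set.range γ) := by
    intro j
    apply coeff_mem_of_qr γ hγ
    have : ∑ k, (NN * MM - 1 : Matrix (Fin s) (Fin s) R) j k * γ k = 0 := by
      simp only [Matrix.sub_apply, Matrix.mul_apply, sub_mul, Finset.sum_sub_distrib, NN, MM,
        Matrix.of_apply]
      rw [sub_eq_zero]
      have h1 : ∑ k, (∑ i, N j i * M i k) * γ k = γ j := by
        simp_rw [Finset.sum_mul]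
        rw [Finset.sum_comm]
        conv_rhs => rw [← hN j]
        refine Finset.sum_congr rfl fun i _ => ?_
        rw [← hM i, Finset.mul_sum]
        refine Finset.sum_congr rfl fun k _ => ?_
        ring
      rw [h1]
      simp [Matrix.one_apply]
    rw [this]; exact zero_mem _
  have hdet : (NN * MM).det - 1 ∈ Ideal.span (Set.range γ) := by
    rw [← Ideal.Quotient.eq_zero_iff_mem, map_sub, map_one, sub_eq_zero, RingHom.map_det]
    have : (Ideal.Quotient.mk (Ideal.span (Set.range γ))).mapMatrix (NN * MM) = 1 := by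
      ext j k
      have := hent j k
      rw [← Ideal.Quotient.eq_zero_iff_mem] at this
      simp only [Matrix.sub_apply, map_sub, sub_eq_zero] at this
      simp only [RingHom.mapMatrix_apply, Matrix.map_apply, this, Matrix.one_apply]
      split_ifs <;> simp
    rw [this, Matrix.det_one]
  have hunit : IsUnit (NN * MM).det := by
    rw [← IsLocalRing.notMem_maximalIdeal]
    intro hmem
    have h1 : (1 : R) ∈ IsLocalRing.maximalIdeal R := by
      have := Ideal.sub_mem _ hmem (hL hdet)
      simpa using this
    exact (Ideal.ne_top_iff_one _).1 (IsLocalRing.maximalIdeal.isMaximal R).ne_top h1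
  rw [Groth.Agent.Lib.Helper26.CauchyBinetOrd.cb_ord] at hunit
  obtain ⟨S, hS⟩ : ∃ S : {t : Finset (Fin m) // t.card = s},
      IsUnit ((NN.submatrix id (S.1.orderEmbOfFin S.2)).det *
        (MM.submatrix (S.1.orderEmbOfFin S.2) id).det) := by
    by_contra hcon
    push Not at hcon
    rw [← IsLocalRing.notMem_maximalIdeal] at hunit
    apply hunit
    refine Ideal.sum_mem _ fun S _ => ?_
    exact (IsLocalRing.mem_maximalIdeal _).2 (hcon S)
  have hMS : IsUnit (MM.submatrix (S.1.orderEmbOfFin S.2) id).det := isUnit_of_mul_isUnit_right hS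
  set e : Fin s → Fin m := fun i => S.1.orderEmbOfFin S.2 i with he
  set MS : Matrix (Fin s) (Fin s) R := MM.submatrix e id with hMSdef
  have hbe : ∀ i, (b ∘ e) i = ∑ j, MS i j * γ j := fun i => by
    simp only [Function.comp_apply, MS, MM, Matrix.submatrix_apply, Matrix.of_apply, id]
    exact (hM (e i)).symm
  have hinv : MS⁻¹ * MS = 1 := Matrix.nonsing_inv_mul _ hMS
  have hγe : ∀ j, γ j = ∑ i, MS⁻¹ j i * (b ∘ e) i := fun j => by
    simp_rw [hbe, Finset.mul_sum]
    rw [Finset.sum_comm]
    have : ∀ k, ∑ i, MS⁻¹ j i * (MS i k * γ k) = (MS⁻¹ * MS) j k * γ k := fun k => by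
      rw [Matrix.mul_apply, Finset.sum_mul]
      refine Finset.sum_congr rfl fun i _ => ?_
      ring
    simp_rw [this, hinv, Matrix.one_apply]
    simp
  have hspan : Ideal.span (Set.range (b ∘ e)) = Ideal.span (Set.range γ) := by
    apply le_antisymm
    · rw [Ideal.span_le]
      rintro _ ⟨i, rfl⟩
      rw [hbe]
      exact Ideal.sum_mem _ fun j _ => Ideal.mul_mem_left _ _ (Ideal.subset_span ⟨j, rfl⟩)
    · rw [Ideal.span_le]
      rintro _ ⟨j, rfl⟩
      rw [hγe]
      exact Ideal.sum_mem _ fun i _ => Ideal.mul_mem_left _ _ (Ideal.subset_span ⟨i, rfl⟩)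
  exact ⟨e, hspan, Groth.Agent.Lib.Helper26.QRegSpan.main γ (b ∘ e) hγ hspan⟩

end Local

end Groth.Agent.Lib.Helper21.QRDescent
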