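import Mathlib

/-!
# Tor-free flatness toolkit (helper21)

`B`-module structure on `M ⊗[A] X`, Krull intersection and Nakayama arguments.
-/

namespace Groth.Agent.Lib.Helper21.FlatKit

open TensorProduct Function

universe u v w

section BMod

variable {A : Type*} {B : Type*} [CommRing A] [CommRing B] [Algebra A B]
variable (M : Type*) [AddCommGroup M] [Module A M] [Module B M] [IsScalarTower A B M]
variable (X : Type*) [AddCommGroup X] [Module A X]

/-- `M ⊗[A] X` is a finite `B`-module if `M` is finite over `B` and `X` is finite over `A`. -/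
theorem finite_tensor [Module.Finite B M] [Module.Finite A X] : Module.Finite B (M ⊗[A] X) := by
  classical
  obtain ⟨n, g, hg⟩ := Module.Finite.exists_fin' A X
  let G : M ⊗[A] (Fin n → A) →ₗ[B] M ⊗[A] X := AlgebraTensorModule.lTensor B M g
  have hG : Surjective G := by
    intro z
    obtain ⟨y, hy⟩ := LinearMap.lTensor_surjective M hg z
    exact ⟨y, hy⟩
  let e : M ⊗[A] (Fin n → A) ≃ₗ[B] (Fin n → M) := TensorProduct.piScalarRight A B M (Fin n)
  exact Module.Finite.of_surjective (G ∘ₗ e.symm.toLinearMap) (hG.comp e.symm.surjective)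

variable {M X}

/-- elements of the kernel of `M ⊗ X → (M/JM) ⊗ X` lie in `J • ⊤`. -/
theorem mem_smul_top_of_rTensor_mkQ_eq_zero (J : Ideal B) (z : M ⊗[A] X)
    (hz : (((J • (⊤ : Submodule B M)).mkQ.restrictScalars A).rTensor X) z = 0) :
    z ∈ (J • (⊤ : Submodule B (M ⊗[A] X))) := by
  set P : Submodule B M := J • ⊤ with hP
  have hex : Exact ((P.restrictScalars A).subtype) (P.mkQ.restrictScalars A) := by
    intro x
    constructor
    · intro hx
      exact ⟨⟨x, (Submodule.Quotient.mk_eq_zero P).1 hx⟩, rfl⟩
    · rintro ⟨y, rfl⟩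
      exact (Submodule.Quotient.mk_eq_zero P).2 y.2
  have hsurj : Surjective (P.mkQ.restrictScalars A) := P.mkQ_surjective
  have key : ∀ w : (P.restrictScalars A) ⊗[A] X,
      ((P.restrictScalars A).subtype.rTensor X) w ∈ (J • (⊤ : Submodule B (M ⊗[A] X))) := by
    intro w
    induction w using TensorProduct.induction_on with
    | zero => simp
    | add x y hx hy => rw [map_add]; exact add_mem hx hy
    | tmul p x =>
      rw [LinearMap.rTensor_tmul]
      obtain ⟨p, hp⟩ := p
      show (p ⊗ₜ[A] x) ∈ _
      have hp' : p ∈ J • (⊤ : Submodule B M) := hp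
      clear hp
      induction hp' using Submodule.smul_induction_on' with
      | smul j hj m _ =>
        rw [← TensorProduct.smul_tmul']
        exact Submodule.smul_mem_smul hj Submodule.mem_top
      | add m₁ _ m₂ _ h₁ h₂ =>
        rw [TensorProduct.add_tmul]
        exact add_mem h₁ h₂
  obtain ⟨w, rfl⟩ := (rTensor_exact X hex hsurj z).1 hz
  exact key w

end BMod


section Krull

variable {A : Type*} {B : Type*} [CommRing A] [CommRing B] [Algebra A B]
  [IsNoetherianRing A] [IsNoetherianRing B]
variable (M : Type*) [AddCommGroup M] [Module A M] [Module B M] [IsScalarTower A B M]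
  [Module.Finite B M]

/-- If `M / I^(n+1) M` is `A`-flat for all `n` (with `I` in the Jacobson radical of `B`),
then `M` is `A`-flat. -/
theorem flat_of_flat_adic_quotients (I : Ideal B) (hI : I ≤ Ideal.jacobson ⊥)
    (h : ∀ n : ℕ, Module.Flat A (M ⧸ (I ^ (n + 1) • (⊤ : Submodule B M)))) :
    Module.Flat A M := by
  rw [Module.Flat.iff_lTensor_injective']
  intro 𝔞
  rw [injective_iff_map_eq_zero]
  intro z hz
  have : Module.Finite B (M ⊗[A] 𝔞) := finite_tensor M 𝔞
  have hmem : ∀ n, z ∈ (I ^ (n + 1) • (⊤ : Submodule B (M ⊗[A] 𝔞))) := by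
    intro n
    apply mem_smul_top_of_rTensor_mkQ_eq_zero
    have hflat := h n
    have hinj : Injective (𝔞.subtype.lTensor (M ⧸ (I ^ (n + 1) • (⊤ : Submodule B M)))) :=
      Module.Flat.lTensor_preserves_injective_linearMap _ 𝔞.injective_subtype
    apply hinj
    rw [map_zero, ← LinearMap.comp_apply, LinearMap.lTensor_comp_rTensor,
      ← LinearMap.rTensor_comp_lTensor, LinearMap.comp_apply, hz, map_zero]
  have hz' : z ∈ (⨅ i : ℕ, I ^ i • ⊤ : Submodule B (M ⊗[A] 𝔞)) := by
    rw [Submodule.mem_iInf]
    intro i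
    cases i with
    | zero => simp
    | succ n => exact hmem n
  rw [Ideal.iInf_pow_smul_eq_bot_of_le_jacobson I hI] at hz'
  exact (Submodule.mem_bot _).1 hz'

end Krull


section Nakayama

variable {A : Type*} {B : Type*} [CommRing A] [CommRing B] [Algebra A B]
  [IsNoetherianRing A] [IsNoetherianRing B]
variable (M : Type*) [AddCommGroup M] [Module A M] [Module B M] [IsScalarTower A B M]
  [Module.Finite B M]

/-- If `f` in the Jacobson radical of `B` is `M`-regular and `M / f M` is `A`-flat,
then `M` is `A`-flat. -/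
theorem flat_of_flat_mod_regular_elem (f : B) (hf : f ∈ Ideal.jacobson (⊥ : Ideal B))
    (hreg : IsSMulRegular M f)
    (hflat : Module.Flat A (M ⧸ (Ideal.span {f} • (⊤ : Submodule B M)))) :
    Module.Flat A M := by
  rw [Module.Flat.iff_lTensor_injective']
  intro 𝔞
  have : Module.Finite B (M ⊗[A] 𝔞) := finite_tensor M 𝔞
  have : IsNoetherian B (M ⊗[A] 𝔞) := isNoetherian_of_isNoetherianRing_of_finite B _
  let T : M ⊗[A] 𝔞 →ₗ[B] M ⊗[A] A := AlgebraTensorModule.lTensor B M 𝔞.subtype
  have hT : ∀ z, T z = 𝔞.subtype.lTensor M z := fun z => rfl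
  let K : Submodule B (M ⊗[A] 𝔞) := LinearMap.ker T
  have hreg' : IsSMulRegular (M ⊗[A] A) f := by
    intro x y hxy
    apply (AlgebraTensorModule.rid A B M).injective
    apply hreg
    simp only [← map_smul]
    exact congrArg _ hxy
  have hK : K ≤ Ideal.span {f} • K := by
    intro z hz
    have hz0 : 𝔞.subtype.lTensor M z = 0 := hz
    have h1 : z ∈ (Ideal.span {f} • (⊤ : Submodule B (M ⊗[A] 𝔞))) := by
      apply mem_smul_top_of_rTensor_mkQ_eq_zero
      have hinj : Injective (𝔞.subtype.lTensor (M ⧸ (Ideal.span {f} • (⊤ : Submodule B M)))) :=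
        Module.Flat.lTensor_preserves_injective_linearMap _ 𝔞.injective_subtype
      apply hinj
      rw [map_zero, ← LinearMap.comp_apply, LinearMap.lTensor_comp_rTensor,
        ← LinearMap.rTensor_comp_lTensor, LinearMap.comp_apply, hz0, map_zero]
    rw [Submodule.ideal_span_singleton_smul, Submodule.mem_smul_pointwise_iff_exists] at h1
    obtain ⟨y, -, rfl⟩ := h1
    rw [Submodule.ideal_span_singleton_smul]
    refine Submodule.smul_mem_pointwise_smul y f K ?_
    have h2 : f • T y = f • (0 : M ⊗[A] A) := by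
      rw [← map_smul, smul_zero]; exact hz
    exact hreg' h2
  have hK0 : K = ⊥ :=
    Submodule.eq_bot_of_le_smul_of_le_jacobson_bot (Ideal.span {f}) K (IsNoetherian.noetherian K) hK
      ((Ideal.span_singleton_le_iff_mem _).2 hf)
  intro x y hxy
  have : x - y ∈ K := by
    show T (x - y) = 0
    rw [map_sub, hT, hT, hxy, sub_self]
  rw [hK0, Submodule.mem_bot, sub_eq_zero] at this
  exact this

end Nakayama


section RegSeq

variable {A : Type*} {B : Type*} [CommRing A] [CommRing B] [Algebra A B]

theorem flat_of_quot_bot_flat (M : Type*) [AddCommGroup M] [Module A M] [Module B M]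
    [IsScalarTower A B M]
    (h : Module.Flat A (M ⧸ (Ideal.ofList ([] : List B) • (⊤ : Submodule B M)))) :
    Module.Flat A M := by
  have h0 : (Ideal.ofList ([] : List B) • (⊤ : Submodule B M)) = ⊥ := by
    rw [Ideal.ofList_nil, Submodule.bot_smul]
  exact Module.Flat.of_linearEquiv
    ((Submodule.quotEquivOfEqBot _ h0).symm.restrictScalars A)

theorem quot_bot_flat_of_flat (M : Type*) [AddCommGroup M] [Module A M] [Module B M]
    [IsScalarTower A B M] (h : Module.Flat A M) :
    Module.Flat A (M ⧸ (Ideal.ofList ([] : List B) • (⊤ : Submodule B M))) := by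
  have h0 : (Ideal.ofList ([] : List B) • (⊤ : Submodule B M)) = ⊥ := by
    rw [Ideal.ofList_nil, Submodule.bot_smul]
  exact Module.Flat.of_linearEquiv
    ((Submodule.quotEquivOfEqBot _ h0).restrictScalars A)

variable [IsNoetherianRing A] [IsNoetherianRing B]

/-- EGA 0_IV 15.1.16-type statement: if `fs` is an `M`-regular sequence in the Jacobson radical
of `B` and `M/(fs)M` is `A`-flat, then all the `M/(f₁..fᵢ)M` are `A`-flat. -/
theorem flat_quotients_of_weaklyRegular (fs : List B)
    (hfs : ∀ f ∈ fs, f ∈ Ideal.jacobson (⊥ : Ideal B)) :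
    ∀ (M : Type u) [AddCommGroup M] [Module A M] [Module B M] [IsScalarTower A B M]
      [Module.Finite B M], RingTheory.Sequence.IsWeaklyRegular M fs →
      Module.Flat A (M ⧸ (Ideal.ofList fs • (⊤ : Submodule B M))) →
      ∀ i ≤ fs.length, Module.Flat A (M ⧸ (Ideal.ofList (fs.take i) • (⊤ : Submodule B M))) := by
  induction fs with
  | nil =>
    intro M _ _ _ _ _ _ hflat i hi
    rw [List.take_nil]
    exact hflat
  | cons f fs ih =>
    intro M _ _ _ _ _ hreg hflat i hi
    rw [RingTheory.Sequence.isWeaklyRegular_cons_iff] at hreg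
    obtain ⟨hf, hreg'⟩ := hreg
    have hfs' : ∀ g ∈ fs, g ∈ Ideal.jacobson (⊥ : Ideal B) :=
      fun g hg => hfs g (List.mem_cons_of_mem _ hg)
    have hflat' : Module.Flat A
        (QuotSMulTop f M ⧸ (Ideal.ofList fs • (⊤ : Submodule B (QuotSMulTop f M)))) :=
      Module.Flat.of_linearEquiv
        ((Submodule.quotOfListConsSMulTopEquivQuotSMulTopInner M f fs).symm.restrictScalars A)
    have IH := ih hfs' (QuotSMulTop f M) hreg' hflat'
    cases i with
    | zero =>
      rw [List.take_zero]
      apply quot_bot_flat_of_flat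
      have h0 := IH 0 (Nat.zero_le _)
      rw [List.take_zero] at h0
      have h1 : Module.Flat A (QuotSMulTop f M) := flat_of_quot_bot_flat _ h0
      have h2 : Module.Flat A (M ⧸ (Ideal.span {f} • (⊤ : Submodule B M))) :=
        Module.Flat.of_linearEquiv
          ((Submodule.quotEquivOfEq _ _
            (Submodule.ideal_span_singleton_smul f (⊤ : Submodule B M))).restrictScalars A)
      exact flat_of_flat_mod_regular_elem M f (hfs f List.mem_cons_self) hf h2
    | succ j =>
      rw [List.take_succ_cons]
      have hj : j ≤ fs.length := by simpa using hi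
      have h0 := IH j hj
      exact Module.Flat.of_linearEquiv
        ((Submodule.quotOfListConsSMulTopEquivQuotSMulTopInner M f (fs.take j)).restrictScalars A)

end RegSeq

end Groth.Agent.Lib.Helper21.FlatKit
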