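import Mathlib
import Groth.Agent.Lib.Helper21.DepthKit12

/-!
# Depth toolkit, part 13 (helper21): depth and dimension of `N_P` for a localization `B = S⁻¹A`,
`N = S⁻¹M`, `P` a prime of `B`, computed over `A` at the contraction of `P`.
-/

namespace Groth.Agent.Lib.Helper21.DepthKit

open RingTheory.Sequence IsLocalRing Module Pointwise

universe u

section LocLoc

variable {A B : Type u} [CommRing A] [CommRing B] [Algebra A B]
variable {M N : Type u} [AddCommGroup M] [Module A M] [AddCommGroup N] [Module A N] [Module B N]
  [IsScalarTower A B N]

omit [IsScalarTower A B N] in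
theorem mem_primeCompl_comap_of_mem (S : Submonoid A) [IsLocalization S B]
    (P : Ideal B) [P.IsPrime] {s : A} (hs : s ∈ S) :
    s ∈ (P.comap (algebraMap A B)).primeCompl := by
  intro hsq
  have hsq : algebraMap A B s ∈ P := hsq
  exact (Ideal.IsPrime.ne_top inferInstance)
    (Ideal.eq_top_of_isUnit_mem P hsq (IsLocalization.map_units B ⟨s, hs⟩))

theorem isLocalizedModule_comp_atPrime (S : Submonoid A) [IsLocalization S B]
    (f : M →ₗ[A] N) [IsLocalizedModule S f] (P : Ideal B) [P.IsPrime] :
    IsLocalizedModule (P.comap (algebraMap A B)).primeCompl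
      (((LocalizedModule.mkLinearMap P.primeCompl N).restrictScalars A) ∘ₗ f) := by
  set q := P.comap (algebraMap A B) with hq
  have hSq : ∀ s ∈ S, s ∈ q.primeCompl := fun s hs => mem_primeCompl_comap_of_mem S P hs
  have hnum : ∀ t : B, t ∈ P.primeCompl → ∃ (a : A) (s' : A), s' ∈ S ∧ a ∈ q.primeCompl ∧
      t * algebraMap A B s' = algebraMap A B a := by
    intro t ht
    obtain ⟨⟨a, s'⟩, has⟩ := IsLocalization.surj S t
    refine ⟨a, s', s'.2, ?_, has⟩
    intro haq
    have haq' : algebraMap A B a ∈ P := haq
    have has' : t * algebraMap A B (s' : A) = algebraMap A B a := has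
    rw [← has'] at haq'
    rcases (Ideal.IsPrime.mem_or_mem inferInstance haq') with h | h
    · exact ht h
    · exact hSq s' s'.2 h
  refine ⟨fun s => ?_, fun y => ?_, @fun x₁ x₂ h => ?_⟩
  · have hsP : algebraMap A B s ∈ P.primeCompl := s.2
    have := IsLocalizedModule.map_units (LocalizedModule.mkLinearMap P.primeCompl N)
      ⟨algebraMap A B s, hsP⟩
    rw [Module.End.isUnit_iff] at this ⊢
    convert this using 1
    ext x
    simp only [Module.algebraMap_end_apply]
    exact (algebraMap_smul B (s : A) x).symm
  · induction y using LocalizedModule.induction_on with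
    | h n t =>
      obtain ⟨⟨m, s⟩, hms⟩ := IsLocalizedModule.surj S f n
      obtain ⟨a, s', hs', haq, has⟩ := hnum t t.2
      refine ⟨⟨s' • m, ⟨a * s, q.primeCompl.mul_mem haq (hSq s s.2)⟩⟩, ?_⟩
      change (a * (s : A)) • LocalizedModule.mk n t = LocalizedModule.mk (f (s' • m)) 1
      have h1 : (a * (s : A)) • n = (t : B) • f (s' • m) := by
        rw [mul_smul]
        have : (s : A) • n = f m := hms
        rw [this, ← algebraMap_smul B a, ← has, mul_smul, algebraMap_smul, map_smul]
      rw [← algebraMap_smul B (a * (s : A)), LocalizedModule.smul'_mk, algebraMap_smul, h1]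
      exact LocalizedModule.mk_cancel t _
  · have h' : (LocalizedModule.mk (f x₁) 1 : LocalizedModule P.primeCompl N) =
        LocalizedModule.mk (f x₂) 1 := h
    rw [LocalizedModule.mk_eq] at h'
    obtain ⟨u, hu⟩ := h'
    simp only [one_smul] at hu
    obtain ⟨a, s', hs', haq, has⟩ := hnum u u.2
    have hu' : (u : B) • f x₁ = (u : B) • f x₂ := hu
    have h2 : f (a • x₁) = f (a • x₂) := by
      rw [map_smul, map_smul, ← algebraMap_smul B a, ← algebraMap_smul B a (f x₂), ← has,
        mul_comm, mul_smul, mul_smul, hu']
    obtain ⟨c, hc⟩ := IsLocalizedModule.exists_of_eq (S := S) (f := f) h2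
    refine ⟨⟨c * a, q.primeCompl.mul_mem (hSq c c.2) haq⟩, ?_⟩
    change ((c : A) * a) • x₁ = ((c : A) * a) • x₂
    rw [mul_smul, mul_smul]
    exact hc

/-- `M_q ≃ N_P`, semilinear for the surjection `A_q → B_P` (`B = S⁻¹A`, `N = S⁻¹M`, `q = P ∩ A`). -/
theorem exists_semilinear_localization_of_isLocalization (S : Submonoid A) [IsLocalization S B]
    (f : M →ₗ[A] N) [IsLocalizedModule S f] (P : Ideal B) [P.IsPrime] :
    ∃ e : LocalizedModule (P.comap (algebraMap A B)).primeCompl M ≃+
        LocalizedModule P.primeCompl N,
      ∀ (a : Localization.AtPrime (P.comap (algebraMap A B)))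
        (x : LocalizedModule (P.comap (algebraMap A B)).primeCompl M),
        e (a • x) = Localization.localRingHom (P.comap (algebraMap A B)) P (algebraMap A B) rfl a • e x := by
  set q := P.comap (algebraMap A B) with hq
  set φ := Localization.localRingHom q P (algebraMap A B) rfl with hφ
  haveI := isLocalizedModule_comp_atPrime S f P
  let e0 : LocalizedModule q.primeCompl M ≃ₗ[A] LocalizedModule P.primeCompl N :=
    IsLocalizedModule.iso q.primeCompl
      (((LocalizedModule.mkLinearMap P.primeCompl N).restrictScalars A) ∘ₗ f)
  letI mAq : Module (Localization.AtPrime q) (LocalizedModule P.primeCompl N) :=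
    Module.compHom (LocalizedModule P.primeCompl N) φ
  haveI : IsScalarTower A (Localization.AtPrime q) (LocalizedModule P.primeCompl N) := by
    refine IsScalarTower.of_algebraMap_smul (fun a x => ?_)
    change φ (algebraMap A (Localization.AtPrime q) a) • x = a • x
    rw [hφ, Localization.localRingHom_to_map, algebraMap_smul, algebraMap_smul]
  let e : LocalizedModule q.primeCompl M ≃ₗ[Localization.AtPrime q] LocalizedModule P.primeCompl N :=
    LinearEquiv.extendScalarsOfIsLocalization q.primeCompl (Localization.AtPrime q) e0
  exact ⟨e.toAddEquiv, fun a x => e.map_smul a x⟩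

theorem surjective_localRingHom_of_isLocalization (S : Submonoid A) [IsLocalization S B]
    (P : Ideal B) [P.IsPrime] :
    Function.Surjective (Localization.localRingHom (P.comap (algebraMap A B)) P
      (algebraMap A B) rfl) :=
  RingHom.surjectiveOnStalks_of_isLocalization (M := S) B P inferInstance

theorem depth_localization_of_isLocalization (S : Submonoid A) [IsLocalization S B]
    (f : M →ₗ[A] N) [IsLocalizedModule S f] (P : Ideal B) [P.IsPrime] :
    LocCoh.depth (Localization.AtPrime (P.comap (algebraMap A B)))
        (LocalizedModule (P.comap (algebraMap A B)).primeCompl M) =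
      LocCoh.depth (Localization.AtPrime P) (LocalizedModule P.primeCompl N) := by
  obtain ⟨e, he⟩ := exists_semilinear_localization_of_isLocalization S f P
  exact depth_eq_of_semilinear _ (surjective_localRingHom_of_isLocalization S P) e he

theorem supportDim_localization_of_isLocalization (S : Submonoid A) [IsLocalization S B]
    (f : M →ₗ[A] N) [IsLocalizedModule S f] (P : Ideal B) [P.IsPrime]
    [Module.Finite (Localization.AtPrime P) (LocalizedModule P.primeCompl N)] :
    Module.supportDim (Localization.AtPrime (P.comap (algebraMap A B)))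
        (LocalizedModule (P.comap (algebraMap A B)).primeCompl M) =
      Module.supportDim (Localization.AtPrime P) (LocalizedModule P.primeCompl N) := by
  obtain ⟨e, he⟩ := exists_semilinear_localization_of_isLocalization S f P
  exact supportDim_eq_of_semilinear _ (surjective_localRingHom_of_isLocalization S P) e he

/-- variant with a named contraction -/
theorem depth_localization_of_isLocalization' (S : Submonoid A) [IsLocalization S B]
    (f : M →ₗ[A] N) [IsLocalizedModule S f] (P : Ideal B) [P.IsPrime] (q : Ideal A) [q.IsPrime]
    (hq : q = P.comap (algebraMap A B)) :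
    LocCoh.depth (Localization.AtPrime q) (LocalizedModule q.primeCompl M) =
      LocCoh.depth (Localization.AtPrime P) (LocalizedModule P.primeCompl N) := by
  subst hq
  exact depth_localization_of_isLocalization S f P

/-- variant with a named contraction -/
theorem supportDim_localization_of_isLocalization' (S : Submonoid A) [IsLocalization S B]
    (f : M →ₗ[A] N) [IsLocalizedModule S f] (P : Ideal B) [P.IsPrime]
    [Module.Finite (Localization.AtPrime P) (LocalizedModule P.primeCompl N)]
    (q : Ideal A) [q.IsPrime] (hq : q = P.comap (algebraMap A B)) :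
    Module.supportDim (Localization.AtPrime q) (LocalizedModule q.primeCompl M) =
      Module.supportDim (Localization.AtPrime P) (LocalizedModule P.primeCompl N) := by
  subst hq
  exact supportDim_localization_of_isLocalization S f P

/-- `(S_k)` passes to a localization. -/
theorem hasSk_of_isLocalization (k : ℕ) (S : Submonoid A) [IsLocalization S B]
    (f : M →ₗ[A] N) [IsLocalizedModule S f]
    [∀ (P : Ideal B) [P.IsPrime],
      Module.Finite (Localization.AtPrime P) (LocalizedModule P.primeCompl N)]
    (h : LocCoh.HasSk k A M) : LocCoh.HasSk k B N := by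
  intro P hP
  rw [← depth_localization_of_isLocalization S f P,
    ← supportDim_localization_of_isLocalization S f P]
  exact h (P.comap (algebraMap A B))

end LocLoc

end Groth.Agent.Lib.Helper21.DepthKit
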