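import Mathlib
import Groth.Prelude.Def_EGA4b
import Groth.Agent.Lib.Helper21.DepthKit13

/-!
# Depth toolkit, part 15 (helper21): `(S_k)` at a prime in terms of the generizations.
-/

namespace Groth.Agent.Lib.Helper21.DepthKit

open RingTheory.Sequence IsLocalRing Module Pointwise

universe u

section SkAt

variable {A : Type u} [CommRing A] {M : Type u} [AddCommGroup M] [Module A M] [Module.Finite A M]

/-- `M` has `(S_k)` at `p` iff the `(S_k)` inequality holds at every prime contained in `p`. -/
theorem hasSkAt_iff (k : ℕ) (p : Ideal A) [p.IsPrime] :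
    EGA4.HasSkAt k A M p ↔ ∀ (q : Ideal A) [q.IsPrime], q ≤ p →
      min (k : WithBot ℕ∞)
        (Module.supportDim (Localization.AtPrime q) (LocalizedModule q.primeCompl M)) ≤
      ((LocCoh.depth (Localization.AtPrime q) (LocalizedModule q.primeCompl M) : ℕ∞) :
        WithBot ℕ∞) := by
  unfold EGA4.HasSkAt LocCoh.HasSk
  constructor
  · intro h q hq hqp
    have hdisj : Disjoint (p.primeCompl : Set A) (q : Set A) :=
      Set.disjoint_left.2 fun x hx hxq => hx (hqp hxq)
    set Q : Ideal (Localization.AtPrime p) := q.map (algebraMap A (Localization.AtPrime p)) with hQ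
    haveI hQprime : Q.IsPrime :=
      IsLocalization.isPrime_of_isPrime_disjoint p.primeCompl _ q hq hdisj
    have hQc : q = Q.comap (algebraMap A (Localization.AtPrime p)) :=
      (IsLocalization.comap_map_of_isPrime_disjoint p.primeCompl _ hq hdisj).symm
    rw [depth_localization_of_isLocalization' p.primeCompl
        (LocalizedModule.mkLinearMap p.primeCompl M) Q q hQc,
      supportDim_localization_of_isLocalization' p.primeCompl
        (LocalizedModule.mkLinearMap p.primeCompl M) Q q hQc]
    exact h Q
  · intro h Q hQ
    have hle : Q.comap (algebraMap A (Localization.AtPrime p)) ≤ p := by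
      intro x hx
      by_contra hxp
      have hu : IsUnit (algebraMap A (Localization.AtPrime p) x) :=
        IsLocalization.map_units _ (⟨x, hxp⟩ : p.primeCompl)
      exact (Ideal.IsPrime.ne_top hQ) (Ideal.eq_top_of_isUnit_mem Q hx hu)
    rw [← depth_localization_of_isLocalization p.primeCompl
        (LocalizedModule.mkLinearMap p.primeCompl M) Q,
      ← supportDim_localization_of_isLocalization p.primeCompl
        (LocalizedModule.mkLinearMap p.primeCompl M) Q]
    exact h _ hle

end SkAt

end Groth.Agent.Lib.Helper21.DepthKit
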