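import Mathlib
import Groth.Agent.Lib.Helper17.LocalFlat

/-!
# Tor-free flatness toolkit, part 2 (helper21): snake-type lemma and nilpotent/Artinian criteria
-/

namespace Groth.Agent.Lib.Helper21.FlatKit

open TensorProduct Function

universe u v

section Snake

variable {A : Type*} [CommRing A]
variable {X' X Q N' N N'' : Type*}
  [AddCommGroup X'] [Module A X'] [AddCommGroup X] [Module A X] [AddCommGroup Q] [Module A Q]
  [AddCommGroup N'] [Module A N'] [AddCommGroup N] [Module A N] [AddCommGroup N''] [Module A N'']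

/-- Tor-free form of `Tor₁(Q, N'') = ker (Q ⊗ N' → Q ⊗ N)` for flat `N`:
if `X' → X → Q → 0` and `N' → N → N'' → 0` are exact, `X' ⊗ N → X ⊗ N` is injective and
`Q ⊗ N' → Q ⊗ N` is injective, then `X' ⊗ N'' → X ⊗ N''` is injective. -/
theorem snake_injective (j : X' →ₗ[A] X) (p : X →ₗ[A] Q) (hjp : Exact j p) (hp : Surjective p)
    (f : N' →ₗ[A] N) (g : N →ₗ[A] N'') (hfg : Exact f g) (hg : Surjective g)
    (hjN : Injective (j.rTensor N)) (hfQ : Injective (f.lTensor Q)) :
    Injective (j.rTensor N'') := by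
  rw [injective_iff_map_eq_zero]
  intro x hx
  obtain ⟨y, rfl⟩ := LinearMap.lTensor_surjective X' hg x
  have h2 : (g.lTensor X) ((j.rTensor N) y) = 0 := by
    rw [← LinearMap.comp_apply, LinearMap.lTensor_comp_rTensor, ← LinearMap.rTensor_comp_lTensor,
      LinearMap.comp_apply, hx]
  obtain ⟨n', hn'⟩ := (lTensor_exact X hfg hg _).1 h2
  have h4 : (f.lTensor Q) ((p.rTensor N') n') = 0 := by
    rw [← LinearMap.comp_apply, LinearMap.lTensor_comp_rTensor, ← LinearMap.rTensor_comp_lTensor,
      LinearMap.comp_apply, hn', ← LinearMap.comp_apply, ← LinearMap.rTensor_comp]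
    have : p ∘ₗ j = 0 := by
      ext a; exact (hjp (j a)).2 ⟨a, rfl⟩
    rw [this, LinearMap.rTensor_zero, LinearMap.zero_apply]
  have h5 : (p.rTensor N') n' = 0 := hfQ (by rw [h4, map_zero])
  obtain ⟨z, rfl⟩ := (rTensor_exact N' hjp hp _).1 h5
  have h6 : (f.lTensor X') z = y := by
    apply hjN
    rw [← hn', ← LinearMap.comp_apply, ← LinearMap.comp_apply, LinearMap.rTensor_comp_lTensor,
      ← LinearMap.lTensor_comp_rTensor]
  rw [← h6, ← LinearMap.comp_apply, ← LinearMap.lTensor_comp]
  have : g ∘ₗ f = 0 := by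
    ext a; exact (hfg (f a)).2 ⟨a, rfl⟩
  rw [this, LinearMap.lTensor_zero, LinearMap.zero_apply]

/-- ideal version of `snake_injective`. -/
theorem rTensor_subtype_injective_of_exact (I : Ideal A)
    (f : N' →ₗ[A] N) (g : N →ₗ[A] N'') (hfg : Exact f g) (hg : Surjective g)
    [Module.Flat A N] (hfQ : Injective (f.lTensor (A ⧸ I))) :
    Injective (I.subtype.rTensor N'') :=
  snake_injective I.subtype I.mkQ (LinearMap.exact_subtype_mkQ I) I.mkQ_surjective f g hfg hg
    (Module.Flat.rTensor_preserves_injective_linearMap _ I.injective_subtype) hfQ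

end Snake

section Nilpotent

variable {A : Type*} [CommRing A] {M : Type*} [AddCommGroup M] [Module A M]

theorem eq_bot_of_le_smul_of_isNilpotent (I : Ideal A) (hI : IsNilpotent I) (N : Submodule A M)
    (h : N ≤ I • N) : N = ⊥ := by
  obtain ⟨n, hn⟩ := hI
  have key : ∀ k : ℕ, N ≤ I ^ k • N := by
    intro k
    induction k with
    | zero => simp
    | succ k ih =>
      calc N ≤ I • N := h
        _ ≤ I • (I ^ k • N) := Submodule.smul_mono le_rfl ih
        _ = I ^ (k + 1) • N := by rw [← Submodule.mul_smul, ← pow_succ']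
  have := key n
  rw [hn, Ideal.zero_eq_bot, Submodule.bot_smul] at this
  exact le_bot_iff.1 this

theorem eq_top_of_sup_smul_of_isNilpotent (I : Ideal A) (hI : IsNilpotent I) (N : Submodule A M)
    (h : N ⊔ I • (⊤ : Submodule A M) = ⊤) : N = ⊤ := by
  obtain ⟨n, hn⟩ := hI
  have key : ∀ k : ℕ, N ⊔ I ^ k • (⊤ : Submodule A M) = ⊤ := by
    intro k
    induction k with
    | zero => simp
    | succ k ih =>
      have h1 : I • (⊤ : Submodule A M) ≤ N ⊔ I ^ (k + 1) • ⊤ :=
        calc I • (⊤ : Submodule A M) = I • (N ⊔ I ^ k • ⊤) := by rw [ih]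
          _ = I • N ⊔ I • (I ^ k • ⊤) := Submodule.smul_sup _ _ _
          _ ≤ N ⊔ I ^ (k + 1) • ⊤ := by
            refine sup_le_sup Submodule.smul_le_right ?_
            rw [← Submodule.mul_smul, ← pow_succ']
      apply le_antisymm le_top
      calc (⊤ : Submodule A M) = N ⊔ I • ⊤ := h.symm
        _ ≤ N ⊔ I ^ (k + 1) • ⊤ := sup_le le_sup_left h1
  have := key n
  rwa [hn, Ideal.zero_eq_bot, Submodule.bot_smul, sup_bot_eq] at this

/-- if `(A/I) ⊗ M = 0` and `I` is nilpotent then `M = 0`. -/
theorem subsingleton_of_tensor_quotient (I : Ideal A) (hI : IsNilpotent I)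
    (h : Subsingleton ((A ⧸ I) ⊗[A] M)) : Subsingleton M := by
  have h1 : Subsingleton (M ⧸ (I • (⊤ : Submodule A M))) :=
    (TensorProduct.quotTensorEquivQuotSMul M I).symm.injective.subsingleton
  have h2 : I • (⊤ : Submodule A M) = ⊤ := Submodule.Quotient.subsingleton_iff.1 h1
  have h3 : (⊤ : Submodule A M) = ⊥ :=
    eq_bot_of_le_smul_of_isNilpotent I hI ⊤ (by rw [h2])
  exact (Submodule.subsingleton_iff A).1 (subsingleton_of_bot_eq_top h3.symm)

/-- a map is surjective if it is so modulo a nilpotent ideal -/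
theorem surjective_of_lTensor_quotient_surjective (I : Ideal A) (hI : IsNilpotent I)
    {P L : Type*} [AddCommGroup P] [Module A P] [AddCommGroup L] [Module A L] (h : P →ₗ[A] L)
    (hs : Surjective (h.lTensor (A ⧸ I))) : Surjective h := by
  rw [← LinearMap.range_eq_top]
  apply eq_top_of_sup_smul_of_isNilpotent I hI
  rw [eq_top_iff]
  rintro l -
  obtain ⟨w, hw⟩ := hs ((1 : A ⧸ I) ⊗ₜ[A] l)
  obtain ⟨p, rfl⟩ := TensorProduct.mk_surjective A P (A ⧸ I) Ideal.Quotient.mk_surjective w
  have h1 : (1 : A ⧸ I) ⊗ₜ[A] (l - h p) = 0 := by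
    rw [TensorProduct.tmul_sub, ← hw]
    simp
  have h2 : (TensorProduct.quotTensorEquivQuotSMul L I) ((1 : A ⧸ I) ⊗ₜ[A] (l - h p)) = 0 := by
    rw [h1, map_zero]
  rw [TensorProduct.quotTensorEquivQuotSMul_mk_one_tmul, Submodule.Quotient.mk_eq_zero] at h2
  have : l = h p + (l - h p) := by abel
  rw [this]
  exact Submodule.add_mem_sup ⟨p, rfl⟩ h2

end Nilpotent


section NilCrit

variable {A : Type u} [CommRing A]

/-- The kernel of a surjection between flat modules is flat (cf. Lib/Helper5/FlatKer). -/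
theorem flat_of_exact_of_flat {M N P : Type v}
    [AddCommGroup M] [Module A M] [AddCommGroup N] [Module A N] [AddCommGroup P] [Module A P]
    (g : M →ₗ[A] N) (f : N →ₗ[A] P) (hg : Injective g) (hf : Surjective f)
    (H : Exact g f) [Module.Flat A N] [Module.Flat A P] : Module.Flat A M := by
  rw [Module.Flat.iff_rTensor_preserves_injective_linearMap]
  intro X Y _ _ _ _ j hj
  have h1 : Injective (g.lTensor X) :=
    LinearMap.lTensor_injective_of_exact_of_flat f hf g hg H X
  have h2 : Injective (j.rTensor N) :=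
    Module.Flat.rTensor_preserves_injective_linearMap j hj
  have h3 : (g.lTensor Y).comp (j.rTensor M) = (j.rTensor N).comp (g.lTensor X) := by
    rw [LinearMap.lTensor_comp_rTensor, LinearMap.rTensor_comp_lTensor]
  have h4 : Injective ((g.lTensor Y).comp (j.rTensor M)) := by
    rw [h3]
    exact h2.comp h1
  exact Injective.of_comp (f := g.lTensor Y) h4

variable {I : Ideal A}

/-- Nilpotent local criterion for a cokernel: `N' → N → N'' → 0` exact, `N` flat,
`(A/I) ⊗ N' → (A/I) ⊗ N` injective, `N''/I N''` flat over `A/I` ⟹ `N''` flat. -/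
theorem flat_coker_of_nilpotent (hI : IsNilpotent I) {N' N N'' : Type*}
    [AddCommGroup N'] [Module A N'] [AddCommGroup N] [Module A N] [AddCommGroup N''] [Module A N'']
    (f : N' →ₗ[A] N) (g : N →ₗ[A] N'') (hfg : Exact f g) (hg : Surjective g)
    [Module.Flat A N] [Module.Flat (A ⧸ I) ((A ⧸ I) ⊗[A] N'')]
    (hfQ : Injective (f.lTensor (A ⧸ I))) : Module.Flat A N'' :=
  Groth.Agent.Lib.Helper17.LocalFlat.flat_of_nilpotent N'' hI
    (rTensor_subtype_injective_of_exact I f g hfg hg hfQ)

/-- injectivity modulo a nilpotent ideal, for maps of flat modules (with `A/I`-flatness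
of the reduction of the cokernel, automatic when `A/I` is a field). -/
theorem injective_of_lTensor_quotient_injective (hI : IsNilpotent I)
    {P L : Type v} [AddCommGroup P] [Module A P] [AddCommGroup L] [Module A L]
    [Module.Flat A P] [Module.Flat A L] (h : P →ₗ[A] L)
    [Module.Flat (A ⧸ I) ((A ⧸ I) ⊗[A] (L ⧸ LinearMap.range h))]
    (hi : Injective (h.lTensor (A ⧸ I))) : Injective h := by
  set Q : Submodule A L := LinearMap.range h with hQ
  let h' : P →ₗ[A] Q := h.rangeRestrict
  have hh' : Surjective h' := h.surjective_rangeRestrict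
  have hcomp : Q.subtype ∘ₗ h' = h := by ext x; rfl
  have hι : Injective (Q.subtype.lTensor (A ⧸ I)) := by
    rw [injective_iff_map_eq_zero]
    intro z hz
    obtain ⟨w, rfl⟩ := LinearMap.lTensor_surjective (A ⧸ I) hh' z
    rw [← LinearMap.comp_apply, ← LinearMap.lTensor_comp, hcomp] at hz
    have : w = 0 := hi (by rw [hz, map_zero])
    rw [this, map_zero]
  have hLQ : Module.Flat A (L ⧸ Q) :=
    flat_coker_of_nilpotent hI Q.subtype Q.mkQ (LinearMap.exact_subtype_mkQ Q) Q.mkQ_surjective hι
  have hQflat : Module.Flat A Q :=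
    flat_of_exact_of_flat Q.subtype Q.mkQ Q.injective_subtype Q.mkQ_surjective
      (LinearMap.exact_subtype_mkQ Q)
  set K : Submodule A P := LinearMap.ker h' with hK
  have hKi : Injective (K.subtype.lTensor (A ⧸ I)) :=
    LinearMap.lTensor_injective_of_exact_of_flat h' hh' K.subtype K.injective_subtype
      (LinearMap.exact_subtype_ker_map h') (A ⧸ I)
  have hzero : h ∘ₗ K.subtype = 0 := by
    ext x
    have hx : h' x.1 = 0 := x.2
    have : h x.1 = (h' x.1 : L) := rfl
    rw [LinearMap.comp_apply, Submodule.subtype_apply, this, hx]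
    rfl
  have hsub : Subsingleton ((A ⧸ I) ⊗[A] K) := by
    refine ⟨fun x y => hKi (hi ?_)⟩
    rw [← LinearMap.comp_apply, ← LinearMap.comp_apply, ← LinearMap.lTensor_comp, hzero,
      LinearMap.lTensor_zero, LinearMap.zero_apply, LinearMap.zero_apply]
  have hKsub : Subsingleton K := subsingleton_of_tensor_quotient I hI hsub
  have hKbot : K = ⊥ := (Submodule.subsingleton_iff_eq_bot).1 hKsub
  have hinj' : Injective h' := LinearMap.ker_eq_bot.1 hKbot
  rw [← hcomp]
  exact Q.injective_subtype.comp hinj'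

end NilCrit


section Complex

variable {A : Type u} [CommRing A] {I : Ideal A}

/-- Flat complex criterion modulo a nilpotent ideal: `P → Q → R → M → 0` complex of flat modules
exact at `R`, `M`, with `(A/I) ⊗ P → (A/I) ⊗ Q → (A/I) ⊗ R` exact
(and `M/IM` flat over `A/I`). Then `M` is flat and the complex is exact at `Q`. -/
theorem flat_and_exact_of_complex (hI : IsNilpotent I) {P Q R M : Type v}
    [AddCommGroup P] [Module A P] [AddCommGroup Q] [Module A Q]
    [AddCommGroup R] [Module A R] [AddCommGroup M] [Module A M]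
    [Module.Flat A Q] [Module.Flat A R]
    (f : P →ₗ[A] Q) (g : Q →ₗ[A] R) (h : R →ₗ[A] M)
    (hfg : g ∘ₗ f = 0) (hgh : Exact g h) (hh : Surjective h)
    [Module.Flat (A ⧸ I) ((A ⧸ I) ⊗[A] M)]
    (hred : Exact (f.lTensor (A ⧸ I)) (g.lTensor (A ⧸ I))) :
    Module.Flat A M ∧ Exact f g := by
  set Z : Submodule A R := LinearMap.range g with hZ
  let g' : Q →ₗ[A] Z := g.rangeRestrict
  have hg' : Surjective g' := g.surjective_rangeRestrict
  have hcomp : Z.subtype ∘ₗ g' = g := by ext x; rfl
  have hg'f : g' ∘ₗ f = 0 := by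
    ext x
    exact LinearMap.congr_fun hfg x
  have hZh : Exact Z.subtype h := by
    intro r
    rw [hgh r]
    constructor
    · rintro ⟨q, rfl⟩; exact ⟨⟨g q, ⟨q, rfl⟩⟩, rfl⟩
    · rintro ⟨⟨_, ⟨q, rfl⟩⟩, rfl⟩; exact ⟨q, rfl⟩
  have hι : Injective (Z.subtype.lTensor (A ⧸ I)) := by
    rw [injective_iff_map_eq_zero]
    intro z hz
    obtain ⟨q, rfl⟩ := LinearMap.lTensor_surjective (A ⧸ I) hg' z
    rw [← LinearMap.comp_apply, ← LinearMap.lTensor_comp, hcomp] at hz
    obtain ⟨p, rfl⟩ := (hred q).1 hz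
    rw [← LinearMap.comp_apply, ← LinearMap.lTensor_comp, hg'f, LinearMap.lTensor_zero,
      LinearMap.zero_apply]
  have hM : Module.Flat A M := flat_coker_of_nilpotent hI Z.subtype h hZh hh hι
  have hZflat : Module.Flat A Z :=
    flat_of_exact_of_flat Z.subtype h Z.injective_subtype hh hZh
  refine ⟨hM, ?_⟩
  set Y : Submodule A Q := LinearMap.ker g' with hY
  have hYi : Injective (Y.subtype.lTensor (A ⧸ I)) :=
    LinearMap.lTensor_injective_of_exact_of_flat g' hg' Y.subtype Y.injective_subtype
      (LinearMap.exact_subtype_ker_map g') (A ⧸ I)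
  let f' : P →ₗ[A] Y := f.codRestrict Y (fun p => LinearMap.congr_fun hg'f p)
  have hf' : Y.subtype ∘ₗ f' = f := by ext x; rfl
  have hgY : g ∘ₗ Y.subtype = 0 := by
    ext y
    have hy : g' y.1 = 0 := y.2
    have : g y.1 = (g' y.1 : R) := rfl
    rw [LinearMap.comp_apply, Submodule.subtype_apply, this, hy]
    rfl
  have hsurj : Surjective (f'.lTensor (A ⧸ I)) := by
    intro y
    have h0 : (g.lTensor (A ⧸ I)) ((Y.subtype.lTensor (A ⧸ I)) y) = 0 := by
      rw [← LinearMap.comp_apply, ← LinearMap.lTensor_comp, hgY, LinearMap.lTensor_zero,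
        LinearMap.zero_apply]
    obtain ⟨p, hp⟩ := (hred _).1 h0
    refine ⟨p, hYi ?_⟩
    rw [← LinearMap.comp_apply, ← LinearMap.lTensor_comp, hf', hp]
  have hf's : Surjective f' := surjective_of_lTensor_quotient_surjective I hI f' hsurj
  intro q
  constructor
  · intro hq
    have hqY : q ∈ Y := by
      show g' q = 0
      apply Subtype.ext
      exact hq
    obtain ⟨p, hp⟩ := hf's ⟨q, hqY⟩
    exact ⟨p, congrArg Subtype.val hp⟩
  · rintro ⟨p, rfl⟩
    exact LinearMap.congr_fun hfg p

end Complex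

section ArtinLocal

open IsLocalRing

variable {A : Type u} [CommRing A]

theorem flat_quotient_maximal (I : Ideal A) [I.IsMaximal] (X : Type*) [AddCommGroup X]
    [Module (A ⧸ I) X] : Module.Flat (A ⧸ I) X := by
  let _ := Ideal.Quotient.field I
  exact Module.Flat.of_free

variable [IsLocalRing A] [IsArtinianRing A]

theorem isNilpotent_maximalIdeal : IsNilpotent (maximalIdeal A) := by
  rw [← IsLocalRing.jacobson_eq_maximalIdeal ⊥ bot_ne_top]
  exact IsArtinianRing.isNilpotent_jacobson_bot

/-- S15129-type statement. -/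
theorem artin_flat_coker {M N P : Type v} [AddCommGroup M] [Module A M] [AddCommGroup N] [Module A N]
    [AddCommGroup P] [Module A P] [Module.Flat A N] (f : M →ₗ[A] N) (g : N →ₗ[A] P)
    (hg : Surjective g) (hfg : Exact f g)
    (h : Injective (f.lTensor (ResidueField A))) : Module.Flat A P := by
  have := flat_quotient_maximal (maximalIdeal A) ((A ⧸ maximalIdeal A) ⊗[A] P)
  exact flat_coker_of_nilpotent (I := maximalIdeal A) isNilpotent_maximalIdeal f g hfg hg h

theorem artin_injective {P L : Type v} [AddCommGroup P] [Module A P] [AddCommGroup L] [Module A L]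
    [Module.Flat A P] [Module.Flat A L] (h : P →ₗ[A] L)
    (hi : Injective (h.lTensor (ResidueField A))) : Injective h := by
  have := flat_quotient_maximal (maximalIdeal A)
    ((A ⧸ maximalIdeal A) ⊗[A] (L ⧸ LinearMap.range h))
  exact injective_of_lTensor_quotient_injective (I := maximalIdeal A) isNilpotent_maximalIdeal h hi

theorem artin_surjective {P L : Type*} [AddCommGroup P] [Module A P] [AddCommGroup L] [Module A L]
    (h : P →ₗ[A] L) (hs : Surjective (h.lTensor (ResidueField A))) : Surjective h :=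
  surjective_of_lTensor_quotient_surjective (maximalIdeal A) isNilpotent_maximalIdeal h hs

theorem artin_complex {P Q R M : Type v}
    [AddCommGroup P] [Module A P] [AddCommGroup Q] [Module A Q]
    [AddCommGroup R] [Module A R] [AddCommGroup M] [Module A M]
    [Module.Flat A Q] [Module.Flat A R]
    (f : P →ₗ[A] Q) (g : Q →ₗ[A] R) (h : R →ₗ[A] M)
    (hfg : g ∘ₗ f = 0) (hgh : Exact g h) (hh : Surjective h)
    (hred : Exact (f.lTensor (ResidueField A)) (g.lTensor (ResidueField A))) :
    Module.Flat A M ∧ Exact f g := by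
  have := flat_quotient_maximal (maximalIdeal A) ((A ⧸ maximalIdeal A) ⊗[A] M)
  exact flat_and_exact_of_complex (I := maximalIdeal A) isNilpotent_maximalIdeal f g h hfg hgh hh hred

end ArtinLocal

end Groth.Agent.Lib.Helper21.FlatKit
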