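import Mathlib
import Groth.Agent.Lib.Helper26.MatlisComplete
import Groth.Agent.Lib.Helper2.LocalCrit

/-!
# Helper21 — FlatLocal1: an element regular on the closed fibre `N/mN` of a flat module is regular on
`N`, and the quotient stays flat (Matsumura 22.5 / Stacks 00ME).
-/

namespace Groth.Agent.Lib.Helper21.FlatLocal

open TensorProduct IsLocalRing

universe u

section A

variable {R : Type u} [CommRing R] [IsLocalRing R]
variable {N : Type u} [AddCommGroup N] [Module R N] [Module.Flat R N]

/-- If an endomorphism of a flat module is injective after `⊗ k`, it is injective after `⊗ V` for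
every module `V` of finite length. -/
theorem rTensor_injective_of_isFiniteLength (φ : N →ₗ[R] N)
    (h : Function.Injective (φ.rTensor (R ⧸ maximalIdeal R)))
    (V : Type u) [AddCommGroup V] [Module R V] (hV : IsFiniteLength R V) :
    Function.Injective (φ.rTensor V) := by
  induction hV with
  | of_subsingleton =>
    intro a b _
    exact Subsingleton.elim _ _
  | @of_simple_quotient V _ _ V' hs hV' ih =>
    obtain ⟨I, hI, ⟨e⟩⟩ := isSimpleModule_iff_quot_maximal.1 hs
    have hIm : I = maximalIdeal R := IsLocalRing.eq_maximalIdeal hI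
    subst hIm
    have hq : Function.Injective (φ.rTensor (V ⧸ V')) := by
      intro a b hab
      have h1 := congrArg (e.toLinearMap.lTensor N) hab
      have hc : ∀ z, (e.toLinearMap.lTensor N) ((φ.rTensor (V ⧸ V')) z) =
          (φ.rTensor _) ((e.toLinearMap.lTensor N) z) := by
        intro z
        rw [← LinearMap.comp_apply, ← LinearMap.comp_apply, LinearMap.lTensor_comp_rTensor,
          LinearMap.rTensor_comp_lTensor]
      rw [hc, hc] at h1
      have h2 := h h1
      have hinj : Function.Injective (e.toLinearMap.lTensor N) :=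
        (e.lTensor N).injective
      exact hinj h2
    have hι : Function.Injective (V'.subtype.lTensor N) :=
      Module.Flat.lTensor_preserves_injective_linearMap _ V'.subtype_injective
    have hex : Function.Exact (V'.subtype.lTensor N) (V'.mkQ.lTensor N) :=
      lTensor_exact N (LinearMap.exact_subtype_mkQ V') (Submodule.mkQ_surjective V')
    rw [injective_iff_map_eq_zero]
    intro z hz
    have h3 : (φ.rTensor (V ⧸ V')) ((V'.mkQ.lTensor N) z) = 0 := by
      rw [← LinearMap.comp_apply, LinearMap.rTensor_comp_lTensor, ← LinearMap.lTensor_comp_rTensor,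
        LinearMap.comp_apply, hz, map_zero]
    have h4 : (V'.mkQ.lTensor N) z = 0 := by
      apply hq
      rw [h3, map_zero]
    obtain ⟨z', rfl⟩ := (hex z).1 h4
    have h5 : (V'.subtype.lTensor N) ((φ.rTensor V') z') = 0 := by
      rw [← LinearMap.comp_apply, LinearMap.lTensor_comp_rTensor, ← LinearMap.rTensor_comp_lTensor,
        LinearMap.comp_apply, hz]
    have h6 : (φ.rTensor V') z' = 0 := hι (by rw [h5, map_zero])
    have h7 : z' = 0 := ih (by rw [h6, map_zero])
    rw [h7, map_zero]

/-- If `φ ⊗ k` is injective and `N` is `m`-adically separated then `φ` is injective. -/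
theorem injective_of_rTensor_residue_injective [IsNoetherianRing R] (φ : N →ₗ[R] N)
    (h : Function.Injective (φ.rTensor (R ⧸ maximalIdeal R)))
    (hK : ∀ x : N, (∀ n : ℕ, x ∈ (maximalIdeal R ^ n) • (⊤ : Submodule R N)) → x = 0) :
    Function.Injective φ := by
  rw [injective_iff_map_eq_zero]
  intro x hx
  apply hK
  intro n
  have hn := rTensor_injective_of_isFiniteLength φ h _
    (Groth.Agent.Lib.Helper26.Matlis.isFiniteLength_quotient_pow (R := R) n)
  have h1 : (φ.rTensor (R ⧸ maximalIdeal R ^ n)) (x ⊗ₜ 1) = 0 := by
    rw [LinearMap.rTensor_tmul, hx, zero_tmul]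
  have h2 : x ⊗ₜ[R] (1 : R ⧸ maximalIdeal R ^ n) = 0 := hn (by rw [h1, map_zero])
  have h3 := congrArg (TensorProduct.tensorQuotEquivQuotSMul N (maximalIdeal R ^ n)) h2
  rw [← map_one (Ideal.Quotient.mk (maximalIdeal R ^ n)),
    TensorProduct.tensorQuotEquivQuotSMul_tmul_mk, map_zero, one_smul,
    Submodule.Quotient.mk_eq_zero] at h3
  exact h3

/-- The Tor-vanishing half of the local criterion for the cokernel of an endomorphism of a flat
module which is injective modulo `m`. -/
theorem lTensor_subtype_injective_of_exact (φ : N →ₗ[R] N)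
    (h : Function.Injective (φ.rTensor (R ⧸ maximalIdeal R)))
    {N' : Type u} [AddCommGroup N'] [Module R N'] (π : N →ₗ[R] N')
    (hex : Function.Exact φ π) (hπ : Function.Surjective π) :
    Function.Injective ((maximalIdeal R).subtype.lTensor N') := by
  set m := maximalIdeal R with hm
  rw [injective_iff_map_eq_zero]
  intro a ha
  obtain ⟨b, rfl⟩ := LinearMap.rTensor_surjective (m : Type u) hπ a
  -- b' := image of b in N ⊗ R
  have h1 : (π.rTensor R) ((m.subtype.lTensor N) b) = 0 := by
    rw [← LinearMap.comp_apply, LinearMap.rTensor_comp_lTensor, ← LinearMap.lTensor_comp_rTensor,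
      LinearMap.comp_apply, ha]
  have hexR : Function.Exact (φ.rTensor R) (π.rTensor R) := rTensor_exact R hex hπ
  obtain ⟨c', hc'⟩ := (hexR _).1 h1
  have hexk : Function.Exact (m.subtype.lTensor N) (m.mkQ.lTensor N) :=
    lTensor_exact N (LinearMap.exact_subtype_mkQ m) (Submodule.mkQ_surjective m)
  have h2 : (φ.rTensor (R ⧸ m)) ((m.mkQ.lTensor N) c') = 0 := by
    rw [← LinearMap.comp_apply, LinearMap.rTensor_comp_lTensor, ← LinearMap.lTensor_comp_rTensor,
      LinearMap.comp_apply, hc']
    exact hexk.apply_apply_eq_zero b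
  have h3 : (m.mkQ.lTensor N) c' = 0 := h (by rw [h2, map_zero])
  obtain ⟨d, hd⟩ := (hexk c').1 h3
  have hι : Function.Injective (m.subtype.lTensor N) :=
    Module.Flat.lTensor_preserves_injective_linearMap _ m.subtype_injective
  have h4 : b = (φ.rTensor m) d := by
    apply hι
    rw [← LinearMap.comp_apply (m.subtype.lTensor N) (φ.rTensor m), LinearMap.lTensor_comp_rTensor,
      ← LinearMap.rTensor_comp_lTensor, LinearMap.comp_apply, hd, hc']
  rw [h4, ← LinearMap.comp_apply, ← LinearMap.rTensor_comp]
  have h5 : π ∘ₗ φ = 0 := by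
    ext z
    exact hex.apply_apply_eq_zero z
  rw [h5, LinearMap.rTensor_zero, LinearMap.zero_apply]

end A

end Groth.Agent.Lib.Helper21.FlatLocal
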