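import Mathlib
import Groth.Prelude.Def_CAlg
import Groth.Agent.Lib.Helper21.FlatLocal1

/-!
# Helper21 — FlatLocal2: Matsumura 22.5 for a local homomorphism `R → S` and a finite `S`-module `N`
flat over `R`.
-/

namespace Groth.Agent.Lib.Helper21.FlatLocal

open TensorProduct IsLocalRing Pointwise

universe u

section B

variable {R S : Type u} [CommRing R] [CommRing S] [IsLocalRing R] [IsLocalRing S]
  [IsNoetherianRing R] [IsNoetherianRing S] [Algebra R S] [IsLocalHom (algebraMap R S)]
variable {N : Type u} [AddCommGroup N] [Module S N] [Module R N] [IsScalarTower R S N]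

omit [IsLocalRing R] [IsLocalRing S] [IsNoetherianRing R] [IsNoetherianRing S]
  [IsLocalHom (algebraMap R S)] in
theorem mem_map_smul_top_iff (J : Ideal R) (x : N) :
    x ∈ (J.map (algebraMap R S) • ⊤ : Submodule S N) ↔ x ∈ (J • ⊤ : Submodule R N) := by
  have h := Ideal.smul_restrictScalars (R := R) (S := S) (M := N) J (⊤ : Submodule S N)
  rw [Submodule.restrictScalars_top] at h
  rw [← h, Submodule.restrictScalars_mem]

/-- multiplication by `y ∈ S` as an `R`-linear endomorphism of `N`. -/
noncomputable def mulR (y : S) : N →ₗ[R] N := (LinearMap.lsmul S N y).restrictScalars R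

omit [IsLocalRing R] [IsLocalRing S] [IsNoetherianRing R] [IsNoetherianRing S]
  [IsLocalHom (algebraMap R S)] in
@[simp] lemma mulR_apply (y : S) (v : N) : mulR (R := R) y v = y • v := rfl

omit [IsLocalRing S] [IsNoetherianRing R] [IsNoetherianRing S]
  [IsLocalHom (algebraMap R S)] in
theorem rTensor_mulR_injective (y : S)
    (hy : IsSMulRegular (N ⧸ ((maximalIdeal R).map (algebraMap R S) • (⊤ : Submodule S N))) y) :
    Function.Injective ((mulR (R := R) (N := N) y).rTensor (R ⧸ maximalIdeal R)) := by
  set m := maximalIdeal R with hm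
  set e := TensorProduct.tensorQuotEquivQuotSMul N m with he
  rw [injective_iff_map_eq_zero]
  intro z hz
  obtain ⟨w, rfl⟩ := e.symm.surjective z
  obtain ⟨v, rfl⟩ := Submodule.Quotient.mk_surjective _ w
  rw [TensorProduct.tensorQuotEquivQuotSMul_symm_mk] at hz ⊢
  rw [LinearMap.rTensor_tmul, mulR_apply] at hz
  have h1 := congrArg e hz
  rw [he, ← map_one (Ideal.Quotient.mk m), TensorProduct.tensorQuotEquivQuotSMul_tmul_mk,
    map_zero, one_smul, Submodule.Quotient.mk_eq_zero, ← mem_map_smul_top_iff (S := S)] at h1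
  have h2 : y • (Submodule.Quotient.mk v :
      N ⧸ (m.map (algebraMap R S) • (⊤ : Submodule S N))) = 0 := by
    rw [← Submodule.Quotient.mk_smul, Submodule.Quotient.mk_eq_zero]
    exact h1
  have h3 : (Submodule.Quotient.mk v :
      N ⧸ (m.map (algebraMap R S) • (⊤ : Submodule S N))) = 0 := by
    apply hy
    show y • _ = y • (0 : N ⧸ (m.map (algebraMap R S) • (⊤ : Submodule S N)))
    rw [h2, smul_zero]
  rw [Submodule.Quotient.mk_eq_zero, mem_map_smul_top_iff] at h3
  have h4 : (Submodule.Quotient.mk v : N ⧸ (m • (⊤ : Submodule R N))) = 0 :=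
    (Submodule.Quotient.mk_eq_zero _).2 h3
  rw [← TensorProduct.tensorQuotEquivQuotSMul_symm_mk, h4, map_zero]

variable [Module.Finite S N] [Module.Flat R N]

include S in
omit [Module.Flat R N] in
/-- `m`-adic separatedness of a finite `S`-module. -/
theorem eq_zero_of_forall_mem_pow_smul (x : N)
    (h : ∀ n : ℕ, x ∈ (maximalIdeal R ^ n) • (⊤ : Submodule R N)) : x = 0 := by
  have hle : (maximalIdeal R).map (algebraMap R S) ≤ maximalIdeal S :=
    IsLocalRing.map_maximalIdeal_le (algebraMap R S)
  have h1 : ∀ n : ℕ, x ∈ (maximalIdeal S ^ n) • (⊤ : Submodule S N) := by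
    intro n
    have h2 := (mem_map_smul_top_iff (S := S) (maximalIdeal R ^ n) x).2 (h n)
    rw [Ideal.map_pow] at h2
    exact Submodule.smul_mono_left (Ideal.pow_right_mono hle n) h2
  have h3 : x ∈ ⨅ i : ℕ, (maximalIdeal S ^ i) • (⊤ : Submodule S N) := by
    rw [Submodule.mem_iInf]
    exact h1
  rw [Ideal.iInf_pow_smul_eq_bot_of_isLocalRing (maximalIdeal S)
    (Ideal.IsPrime.ne_top inferInstance)] at h3
  exact h3

/-- An element regular on the closed fibre `N/mN` is regular on `N`. -/
theorem isSMulRegular_of_fibre (y : S)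
    (hy : IsSMulRegular (N ⧸ ((maximalIdeal R).map (algebraMap R S) • (⊤ : Submodule S N))) y) :
    IsSMulRegular N y := by
  have h := injective_of_rTensor_residue_injective (mulR (R := R) (N := N) y)
    (rTensor_mulR_injective y hy) (eq_zero_of_forall_mem_pow_smul (S := S))
  intro a b hab
  exact h hab

/-- If `y` is regular on the closed fibre `N/mN`, then `N/yN` is flat over `R`. -/
theorem flat_quotSMulTop_of_fibre (y : S)
    (hy : IsSMulRegular (N ⧸ ((maximalIdeal R).map (algebraMap R S) • (⊤ : Submodule S N))) y) :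
    Module.Flat R (QuotSMulTop y N) := by
  have hJ : (maximalIdeal R).map (algebraMap R S) ≤ Ideal.jacobson ⊥ := by
    rw [IsLocalRing.jacobson_eq_maximalIdeal ⊥ bot_ne_top]
    exact IsLocalRing.map_maximalIdeal_le (algebraMap R S)
  have hex : Function.Exact (mulR (R := R) (N := N) y)
      ((Submodule.mkQ (y • (⊤ : Submodule S N))).restrictScalars R) := by
    intro v
    rw [LinearMap.coe_restrictScalars, Submodule.mkQ_apply, Submodule.Quotient.mk_eq_zero,
      Submodule.mem_smul_pointwise_iff_exists]
    constructor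
    · rintro ⟨w, -, rfl⟩
      exact ⟨w, rfl⟩
    · rintro ⟨w, rfl⟩
      exact ⟨w, Submodule.mem_top, rfl⟩
  let π : N →ₗ[R] (N ⧸ (y • (⊤ : Submodule S N))) :=
    (Submodule.mkQ (y • (⊤ : Submodule S N))).restrictScalars R
  have hπ : Function.Surjective π := fun x => by
    obtain ⟨v, rfl⟩ := Submodule.Quotient.mk_surjective _ x
    exact ⟨v, rfl⟩
  have ha : Function.Injective ((maximalIdeal R).subtype.lTensor (QuotSMulTop y N)) :=
    lTensor_subtype_injective_of_exact (N' := (N ⧸ (y • (⊤ : Submodule S N))))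
      (mulR (R := R) (N := N) y) (rTensor_mulR_injective y hy) π hex hπ
  letI : Field (R ⧸ maximalIdeal R) := Ideal.Quotient.field _
  exact Groth.Agent.Lib.Helper2.LocalCrit.flat_of_injective_of_flat_quotient (S := S)
    (M := QuotSMulTop y N) (maximalIdeal R) hJ ha

end B

end Groth.Agent.Lib.Helper21.FlatLocal
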