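import Mathlib
import Groth.Prelude.Def_CAlg
import Groth.Agent.Lib.Helper21.FlatLocal2
import Groth.Agent.Lib.Helper21.FlatKit2
import Groth.Agent.Lib.Helper21.FlatKit

/-!
# Helper21 — FlatLocal3: `S`-linear quotient/tensor isomorphisms for the depth formula of a flat local
homomorphism.
-/

namespace Groth.Agent.Lib.Helper21.FlatLocal

open TensorProduct IsLocalRing Pointwise

universe u

section Q

variable {S : Type u} [CommRing S] {X Y : Type u} [AddCommGroup X] [Module S X]
  [AddCommGroup Y] [Module S Y]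

/-- A surjection with kernel `yX` induces `X/yX ≃ Y`. -/
noncomputable def quotSMulTopEquivOfSurjective (y : S) (f : X →ₗ[S] Y)
    (hf : Function.Surjective f) (hk : ∀ z, f z = 0 ↔ ∃ w, z = y • w) :
    QuotSMulTop y X ≃ₗ[S] Y :=
  (Submodule.quotEquivOfEq _ _ (by
    ext z
    rw [LinearMap.mem_ker, hk, Submodule.mem_smul_pointwise_iff_exists]
    constructor
    · rintro ⟨w, -, rfl⟩
      exact ⟨w, rfl⟩
    · rintro ⟨w, rfl⟩
      exact ⟨w, Submodule.mem_top, rfl⟩)).trans (f.quotKerEquivOfSurjective hf)

end Q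

section T

variable {R S : Type u} [CommRing R] [CommRing S] [Algebra R S]
variable {N : Type u} [AddCommGroup N] [Module S N] [Module R N] [IsScalarTower R S N]
variable (M : Type u) [AddCommGroup M] [Module R M]

theorem algebraMap_smul_tensor (x : R) (z : N ⊗[R] M) :
    (algebraMap R S x) • z = x • z := algebraMap_smul S x z

variable {M} in
theorem isSMulRegular_tensor_algebraMap [Module.Flat R N] (x : R) (hx : IsSMulRegular M x) :
    IsSMulRegular (N ⊗[R] M) (algebraMap R S x) := by
  have h := IsSMulRegular.lTensor N hx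
  intro a b hab
  apply h
  simpa only [algebraMap_smul_tensor] using hab

theorem lTensor_lsmul (x : R) (z : N ⊗[R] M) :
    (LinearMap.lTensor N (LinearMap.lsmul R M x)) z = (algebraMap R S x) • z := by
  rw [algebraMap_smul_tensor]
  induction z using TensorProduct.induction_on with
  | zero => simp
  | tmul n m => rw [LinearMap.lTensor_tmul, LinearMap.lsmul_apply, TensorProduct.tmul_smul]
  | add a b ha hb => rw [map_add, ha, hb, smul_add]

/-- `(N ⊗ M)/x ≃ N ⊗ (M/xM)`, `S`-linearly. -/
noncomputable def quotSMulTopTensorEquiv (x : R) :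
    QuotSMulTop (algebraMap R S x) (N ⊗[R] M) ≃ₗ[S] N ⊗[R] QuotSMulTop x M := by
  refine quotSMulTopEquivOfSurjective _
    (AlgebraTensorModule.lTensor S N (Submodule.mkQ (x • ⊤ : Submodule R M))) ?_ ?_
  · intro z
    obtain ⟨w, hw⟩ := LinearMap.lTensor_surjective N (Submodule.mkQ_surjective _) z
    exact ⟨w, hw⟩
  · intro z
    have hex : Function.Exact (LinearMap.lsmul R M x) (Submodule.mkQ (x • ⊤ : Submodule R M)) := by
      intro v
      rw [Submodule.mkQ_apply, Submodule.Quotient.mk_eq_zero,
        Submodule.mem_smul_pointwise_iff_exists]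
      constructor
      · rintro ⟨w, -, rfl⟩
        exact ⟨w, rfl⟩
      · rintro ⟨w, rfl⟩
        exact ⟨w, Submodule.mem_top, rfl⟩
    have h := lTensor_exact N hex (Submodule.mkQ_surjective _) z
    have h1 : (AlgebraTensorModule.lTensor S N (Submodule.mkQ (x • ⊤ : Submodule R M))) z =
        (LinearMap.lTensor N (Submodule.mkQ (x • ⊤ : Submodule R M))) z := rfl
    rw [h1, h]
    constructor
    · rintro ⟨w, rfl⟩
      exact ⟨w, lTensor_lsmul M x w⟩
    · rintro ⟨w, rfl⟩
      exact ⟨w, lTensor_lsmul M x w⟩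

theorem rTensor_mulR (y : S) (z : N ⊗[R] M) :
    ((mulR (R := R) (N := N) y).rTensor M) z = y • z := by
  induction z using TensorProduct.induction_on with
  | zero => simp
  | tmul n m => rw [LinearMap.rTensor_tmul, mulR_apply, TensorProduct.smul_tmul']
  | add a b ha hb => rw [map_add, ha, hb, smul_add]

theorem exact_mulR_mkQ (y : S) : Function.Exact (mulR (R := R) (N := N) y)
    ((Submodule.mkQ (y • (⊤ : Submodule S N))).restrictScalars R) := by
  intro v
  rw [LinearMap.coe_restrictScalars, Submodule.mkQ_apply, Submodule.Quotient.mk_eq_zero,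
    Submodule.mem_smul_pointwise_iff_exists]
  constructor
  · rintro ⟨w, -, rfl⟩
    exact ⟨w, rfl⟩
  · rintro ⟨w, rfl⟩
    exact ⟨w, Submodule.mem_top, rfl⟩

theorem surjective_mkQ_restrictScalars (y : S) : Function.Surjective
    ((Submodule.mkQ (y • (⊤ : Submodule S N))).restrictScalars R) := fun x => by
  obtain ⟨v, rfl⟩ := Submodule.Quotient.mk_surjective _ x
  exact ⟨v, rfl⟩

theorem isSMulRegular_tensor_of_flat_quot (y : S) (hy : IsSMulRegular N y)
    [Module.Flat R (QuotSMulTop y N)] : IsSMulRegular (N ⊗[R] M) y := by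
  -- free presentation of M
  let g : (M →₀ R) →ₗ[R] M := Finsupp.linearCombination R id
  have hg : Function.Surjective g := Finsupp.linearCombination_id_surjective R M
  let K := LinearMap.ker g
  have hKg : Function.Exact K.subtype g := LinearMap.exact_subtype_ker_map g
  have hj : Function.Injective (mulR (R := R) (N := N) y) := fun a b hab => hy hab
  have hQ : Function.Injective (K.subtype.lTensor (QuotSMulTop y N)) :=
    Module.Flat.lTensor_preserves_injective_linearMap _ K.injective_subtype
  have hF : Function.Injective ((mulR (R := R) (N := N) y).rTensor (M →₀ R)) :=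
    Module.Flat.rTensor_preserves_injective_linearMap _ hj
  have key : Function.Injective ((mulR (R := R) (N := N) y).rTensor M) :=
    FlatKit.snake_injective (N' := K) (N := M →₀ R) (N'' := M) (mulR (R := R) (N := N) y)
      ((Submodule.mkQ (y • (⊤ : Submodule S N))).restrictScalars R) (exact_mulR_mkQ y)
      (surjective_mkQ_restrictScalars y) K.subtype g hKg hg hF hQ
  intro a b hab
  apply key
  rw [rTensor_mulR, rTensor_mulR]
  exact hab

/-- `(N ⊗ M)/y ≃ (N/yN) ⊗ M`, `S`-linearly. -/
noncomputable def quotSMulTopTensorEquiv' (y : S) :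
    QuotSMulTop y (N ⊗[R] M) ≃ₗ[S] (QuotSMulTop y N) ⊗[R] M := by
  refine quotSMulTopEquivOfSurjective _
    (AlgebraTensorModule.map (Submodule.mkQ (y • ⊤ : Submodule S N)) (LinearMap.id (M := M))) ?_ ?_
  · intro z
    obtain ⟨w, hw⟩ := LinearMap.rTensor_surjective M (surjective_mkQ_restrictScalars (R := R) y) z
    exact ⟨w, hw⟩
  · intro z
    have h := rTensor_exact M (exact_mulR_mkQ (R := R) (N := N) y)
      (surjective_mkQ_restrictScalars y) z
    have h1 : (AlgebraTensorModule.map (Submodule.mkQ (y • ⊤ : Submodule S N))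
        (LinearMap.id (M := M))) z =
        (LinearMap.rTensor M ((Submodule.mkQ (y • (⊤ : Submodule S N))).restrictScalars R)) z := rfl
    rw [h1, h]
    constructor
    · rintro ⟨w, rfl⟩
      exact ⟨w, rTensor_mulR M y w⟩
    · rintro ⟨w, rfl⟩
      exact ⟨w, rTensor_mulR M y w⟩

end T

section C3

variable {S : Type u} [CommRing S] {N : Type u} [AddCommGroup N] [Module S N]

/-- `(N/yN)/J(N/yN) ≃ (N/JN)/y(N/JN)`. -/
noncomputable def quotSMulTopQuotEquiv' (y : S) (J : Ideal S) :
    QuotSMulTop y (N ⧸ (J • ⊤ : Submodule S N)) ≃ₗ[S]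
      (QuotSMulTop y N) ⧸ (J • ⊤ : Submodule S (QuotSMulTop y N)) := by
  have hle : (J • ⊤ : Submodule S N) ≤
      (J • ⊤ : Submodule S (QuotSMulTop y N)).comap (Submodule.mkQ (y • ⊤ : Submodule S N)) := by
    rw [← Submodule.map_le_iff_le_comap, Submodule.map_smul'']
    exact Submodule.smul_mono le_rfl le_top
  refine quotSMulTopEquivOfSurjective y
    (Submodule.mapQ _ _ (Submodule.mkQ (y • ⊤ : Submodule S N)) hle) ?_ ?_
  · intro z
    obtain ⟨w, rfl⟩ := Submodule.Quotient.mk_surjective _ z
    obtain ⟨n, rfl⟩ := Submodule.Quotient.mk_surjective _ w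
    exact ⟨Submodule.Quotient.mk n, rfl⟩
  · intro z
    obtain ⟨n, rfl⟩ := Submodule.Quotient.mk_surjective _ z
    rw [Submodule.mapQ_apply, Submodule.Quotient.mk_eq_zero]
    have hmap : (J • ⊤ : Submodule S (QuotSMulTop y N)) =
        (J • ⊤ : Submodule S N).map (Submodule.mkQ (y • ⊤ : Submodule S N)) := by
      rw [Submodule.map_smul'', Submodule.map_top, Submodule.range_mkQ]
    rw [hmap, Submodule.mem_map]
    constructor
    · rintro ⟨n', hn', h⟩
      rw [Submodule.mkQ_apply, Submodule.mkQ_apply, eq_comm, ← sub_eq_zero,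
        ← Submodule.Quotient.mk_sub, Submodule.Quotient.mk_eq_zero,
        Submodule.mem_smul_pointwise_iff_exists] at h
      obtain ⟨w, -, hw⟩ := h
      refine ⟨Submodule.Quotient.mk w, ?_⟩
      rw [← Submodule.Quotient.mk_smul, hw, Submodule.Quotient.mk_sub, eq_comm, sub_eq_self,
        Submodule.Quotient.mk_eq_zero]
      exact hn'
    · rintro ⟨w, hw⟩
      obtain ⟨w, rfl⟩ := Submodule.Quotient.mk_surjective _ w
      rw [← Submodule.Quotient.mk_smul, eq_comm, ← sub_eq_zero, ← Submodule.Quotient.mk_sub,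
        Submodule.Quotient.mk_eq_zero] at hw
      refine ⟨n - y • w, ?_, ?_⟩
      · have := Submodule.neg_mem _ hw
        rwa [neg_sub] at this
      · rw [Submodule.mkQ_apply, Submodule.mkQ_apply, Submodule.Quotient.mk_sub, sub_eq_self,
          Submodule.Quotient.mk_eq_zero]
        exact Submodule.smul_mem_pointwise_smul _ _ _ Submodule.mem_top

end C3

end Groth.Agent.Lib.Helper21.FlatLocal
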