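import Mathlib
import Groth.Prelude.Def_CAlg
import Groth.Agent.Lib.Helper21.FlatLocal3
import Groth.Agent.Lib.Helper21.DepthKit3

/-!
# Helper21 — FlatLocal4: the depth formula `depth_S (N ⊗_R M) = depth_R M + depth_S (N/m_R N)` for a
local homomorphism `R → S` of Noetherian local rings, `N` finite over `S` and flat over `R`.
-/

namespace Groth.Agent.Lib.Helper21.FlatLocal

open TensorProduct IsLocalRing Pointwise

universe u

section E

variable {R S : Type u} [CommRing R] [CommRing S] [IsLocalRing R] [IsLocalRing S]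
  [IsNoetherianRing R] [IsNoetherianRing S] [Algebra R S] [IsLocalHom (algebraMap R S)]

/-- the closed fibre `N/m_R N` as an `S`-module. -/
abbrev fibre (R : Type u) (S : Type u) [CommRing R] [CommRing S] [IsLocalRing R] [Algebra R S]
    (N : Type u) [AddCommGroup N] [Module S N] : Type u :=
  N ⧸ ((maximalIdeal R).map (algebraMap R S) • (⊤ : Submodule S N))

variable {N : Type u} [AddCommGroup N] [Module S N] [Module R N] [IsScalarTower R S N]
variable {M : Type u} [AddCommGroup M] [Module R M]

/-- `v ↦ v ⊗ u`, `S`-linear. -/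
noncomputable def tmulRight (u : M) : N →ₗ[S] N ⊗[R] M where
  toFun v := v ⊗ₜ u
  map_add' a b := TensorProduct.add_tmul a b u
  map_smul' s v := (TensorProduct.smul_tmul' s v u)

omit [IsLocalRing R] [IsLocalRing S] [IsNoetherianRing R] [IsNoetherianRing S]
  [IsLocalHom (algebraMap R S)] in
@[simp] lemma tmulRight_apply (u : M) (v : N) : tmulRight (R := R) (S := S) u v = v ⊗ₜ u := rfl

omit [IsLocalRing S] [IsNoetherianRing S] [IsLocalHom (algebraMap R S)] in
theorem tmul_eq_zero_iff_of_colon [Module.Flat R N] (u : M)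
    (hu : maximalIdeal R = Submodule.colon (⊥ : Submodule R M) {u}) (v : N) :
    v ⊗ₜ[R] u = 0 ↔ v ∈ ((maximalIdeal R).map (algebraMap R S) • (⊤ : Submodule S N)) := by
  set m := maximalIdeal R with hm
  have hker : m = LinearMap.ker (LinearMap.toSpanSingleton R M u) := by
    ext r
    rw [hu, Submodule.mem_colon_singleton, Submodule.mem_bot, LinearMap.mem_ker,
      LinearMap.toSpanSingleton_apply]
  let ι : (R ⧸ m) →ₗ[R] M := Submodule.liftQ m (LinearMap.toSpanSingleton R M u) hker.le
  have hι : Function.Injective ι := by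
    rw [← LinearMap.ker_eq_bot]
    exact Submodule.ker_liftQ_eq_bot' _ _ hker
  have hιN : Function.Injective (ι.lTensor N) :=
    Module.Flat.lTensor_preserves_injective_linearMap _ hι
  have h1 : (ι.lTensor N) (v ⊗ₜ (1 : R ⧸ m)) = v ⊗ₜ u := by
    rw [LinearMap.lTensor_tmul]
    congr 1
    show ι (Submodule.Quotient.mk 1) = u
    rw [Submodule.liftQ_apply, LinearMap.toSpanSingleton_apply, one_smul]
  rw [mem_map_smul_top_iff (R := R) (S := S) m v, ← h1]
  constructor
  · intro h
    have h2 : v ⊗ₜ[R] (1 : R ⧸ m) = 0 := hιN (by rw [h, map_zero])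
    have h3 := congrArg (TensorProduct.tensorQuotEquivQuotSMul N m) h2
    rw [← map_one (Ideal.Quotient.mk m), TensorProduct.tensorQuotEquivQuotSMul_tmul_mk,
      map_zero, one_smul, Submodule.Quotient.mk_eq_zero] at h3
    exact h3
  · intro h
    have h4 : (Submodule.Quotient.mk v : N ⧸ (m • (⊤ : Submodule R N))) = 0 :=
      (Submodule.Quotient.mk_eq_zero _).2 h
    have h5 : v ⊗ₜ[R] (1 : R ⧸ m) = 0 := by
      rw [← TensorProduct.tensorQuotEquivQuotSMul_symm_mk, h4, map_zero]
    rw [h5, map_zero]

variable [Module.Finite S N] [Module.Flat R N] [Module.Finite R M]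

theorem depth_tensor_eq_zero (hM : LocCoh.depth R M = 0)
    (hN : LocCoh.depth S (fibre R S N) = 0) : LocCoh.depth S (N ⊗[R] M) = 0 := by
  haveI : Module.Finite S (N ⊗[R] M) := FlatKit.finite_tensor N M
  rw [Groth.Agent.S5752.result] at hM hN ⊢
  obtain ⟨-, u, hu⟩ := (isAssociatedPrime_iff).1 hM
  let ψ : fibre R S N →ₗ[S] N ⊗[R] M :=
    Submodule.liftQ _ (tmulRight (R := R) (S := S) u) (by
      intro v hv
      rw [LinearMap.mem_ker, tmulRight_apply, tmul_eq_zero_iff_of_colon (S := S) u hu]
      exact hv)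
  have hψ : Function.Injective ψ := by
    rw [← LinearMap.ker_eq_bot]
    apply Submodule.ker_liftQ_eq_bot'
    ext v
    rw [LinearMap.mem_ker, tmulRight_apply, tmul_eq_zero_iff_of_colon (S := S) u hu]
  exact associatedPrimes.subset_of_injective hψ hN

end E

section F

variable {R S : Type u} [CommRing R] [CommRing S] [IsLocalRing R] [IsLocalRing S]
  [IsNoetherianRing R] [IsNoetherianRing S] [Algebra R S] [IsLocalHom (algebraMap R S)]

theorem nontrivial_of_depth_eq_nat {A : Type u} [CommRing A] [IsLocalRing A] {X : Type u}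
    [AddCommGroup X] [Module A X] {n : ℕ} (h : LocCoh.depth A X = (n : ℕ∞)) : Nontrivial X := by
  by_contra hn
  rw [not_nontrivial_iff_subsingleton] at hn
  rw [DepthKit.depth_of_subsingleton] at h
  exact ENat.top_ne_coe n h

/-- depth drops by exactly one modulo a regular element of the maximal ideal (in `ℕ`). -/
theorem depth_quotSMulTop_eq_nat {A : Type u} [CommRing A] [IsLocalRing A] [IsNoetherianRing A]
    {X : Type u} [AddCommGroup X] [Module A X] [Module.Finite A X] {n : ℕ} (x : A)
    (hx : x ∈ maximalIdeal A) (hreg : IsSMulRegular X x)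
    (h : LocCoh.depth A X = ((n + 1 : ℕ) : ℕ∞)) : LocCoh.depth A (QuotSMulTop x X) = (n : ℕ∞) := by
  haveI := nontrivial_of_depth_eq_nat h
  have h1 := DepthKit.depth_quotSMulTop x hx hreg
  rw [h] at h1
  push_cast at h1
  exact (ENat.add_left_injective_of_ne_top ENat.one_ne_top) h1

/-- depth rises by exactly one from the quotient by a regular element (in `ℕ`). -/
theorem depth_eq_nat_of_quotSMulTop {A : Type u} [CommRing A] [IsLocalRing A] [IsNoetherianRing A]
    {X : Type u} [AddCommGroup X] [Module A X] [Module.Finite A X] {n : ℕ} (x : A)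
    (hx : x ∈ maximalIdeal A) (hreg : IsSMulRegular X x)
    (h : LocCoh.depth A (QuotSMulTop x X) = (n : ℕ∞)) :
    LocCoh.depth A X = ((n + 1 : ℕ) : ℕ∞) := by
  haveI := nontrivial_of_depth_eq_nat h
  haveI : Nontrivial X := (Submodule.mkQ_surjective (x • ⊤ : Submodule A X)).nontrivial
  rw [← DepthKit.depth_quotSMulTop x hx hreg, h]
  push_cast
  rfl

theorem depth_tensor_claimA (s : ℕ) :
    ∀ (N : Type u) [AddCommGroup N] [Module S N] [Module R N] [IsScalarTower R S N]
      [Module.Finite S N] [Module.Flat R N] (M : Type u) [AddCommGroup M] [Module R M]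
      [Module.Finite R M], LocCoh.depth R M = 0 → LocCoh.depth S (fibre R S N) = (s : ℕ∞) →
      LocCoh.depth S (N ⊗[R] M) = (s : ℕ∞) := by
  induction s with
  | zero =>
    intro N _ _ _ _ _ _ M _ _ _ hM hN
    exact depth_tensor_eq_zero hM hN
  | succ s ih =>
    intro N _ _ _ _ _ _ M _ _ _ hM hN
    haveI : Nontrivial (fibre R S N) := nontrivial_of_depth_eq_nat hN
    obtain ⟨y, hy, hreg⟩ := DepthKit.exists_regular_of_one_le_depth (A := S)
      (M := fibre R S N) (by rw [hN]; exact_mod_cast Nat.succ_le_succ (Nat.zero_le s))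
    have hregN : IsSMulRegular N y := isSMulRegular_of_fibre (R := R) y hreg
    haveI : Module.Flat R (QuotSMulTop y N) := flat_quotSMulTop_of_fibre y hreg
    have hd : LocCoh.depth S (fibre R S (QuotSMulTop y N)) = (s : ℕ∞) := by
      rw [← DepthKit.depth_congr (quotSMulTopQuotEquiv' (N := N) y
        ((maximalIdeal R).map (algebraMap R S)))]
      exact depth_quotSMulTop_eq_nat y hy hreg hN
    have h1 := ih (QuotSMulTop y N) M hM hd
    haveI : Module.Finite S (N ⊗[R] M) := FlatKit.finite_tensor N M
    have hregT : IsSMulRegular (N ⊗[R] M) y := isSMulRegular_tensor_of_flat_quot M y hregN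
    rw [← DepthKit.depth_congr (quotSMulTopTensorEquiv' (R := R) (N := N) M y)] at h1
    exact depth_eq_nat_of_quotSMulTop y hy hregT h1

theorem depth_tensor_claimB (N : Type u) [AddCommGroup N] [Module S N] [Module R N]
    [IsScalarTower R S N] [Module.Finite S N] [Module.Flat R N] (s : ℕ)
    (hN : LocCoh.depth S (fibre R S N) = (s : ℕ∞)) (r : ℕ) :
    ∀ (M : Type u) [AddCommGroup M] [Module R M] [Module.Finite R M],
      LocCoh.depth R M = (r : ℕ∞) → LocCoh.depth S (N ⊗[R] M) = ((r + s : ℕ) : ℕ∞) := by
  induction r with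
  | zero =>
    intro M _ _ _ hM
    rw [Nat.zero_add]
    exact depth_tensor_claimA s N M hM hN
  | succ r ih =>
    intro M _ _ _ hM
    haveI : Nontrivial M := nontrivial_of_depth_eq_nat hM
    obtain ⟨x, hx, hreg⟩ := DepthKit.exists_regular_of_one_le_depth (A := R)
      (M := M) (by rw [hM]; exact_mod_cast Nat.succ_le_succ (Nat.zero_le r))
    have h1 := ih (QuotSMulTop x M) (depth_quotSMulTop_eq_nat x hx hreg hM)
    haveI : Module.Finite S (N ⊗[R] M) := FlatKit.finite_tensor N M
    have hxS : algebraMap R S x ∈ maximalIdeal S :=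
      IsLocalRing.map_maximalIdeal_le (algebraMap R S) (Ideal.mem_map_of_mem _ hx)
    have hregT : IsSMulRegular (N ⊗[R] M) (algebraMap R S x) :=
      isSMulRegular_tensor_algebraMap x hreg
    rw [← DepthKit.depth_congr (quotSMulTopTensorEquiv (S := S) (N := N) M x)] at h1
    have h2 := depth_eq_nat_of_quotSMulTop _ hxS hregT h1
    rw [h2]
    congr 1
    omega

omit [IsNoetherianRing R] [IsNoetherianRing S] in
/-- the closed fibre of a nonzero finite `S`-module is nonzero (Nakayama). -/
theorem nontrivial_fibre (N : Type u) [AddCommGroup N] [Module S N] [Module.Finite S N]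
    [Nontrivial N] : Nontrivial (fibre R S N) := by
  apply Submodule.Quotient.nontrivial_iff.2
  intro h
  apply DepthKit.maximalIdeal_smul_top_ne_top (A := S) (M := N)
  have h1 : ((maximalIdeal R).map (algebraMap R S) • ⊤ : Submodule S N) ≤
      maximalIdeal S • (⊤ : Submodule S N) :=
    Submodule.smul_mono_left (IsLocalRing.map_maximalIdeal_le (algebraMap R S))
  exact top_le_iff.1 (h.symm.le.trans h1)

/-- **Depth formula for a flat local homomorphism** (EGA IV 6.3.1, Matsumura 23.3):
`depth_S (N ⊗_R M) = depth_R M + depth_S (N / m_R N)`. -/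
theorem depth_tensor (N : Type u) [AddCommGroup N] [Module S N] [Module R N]
    [IsScalarTower R S N] [Module.Finite S N] [Module.Flat R N]
    (M : Type u) [AddCommGroup M] [Module R M] [Module.Finite R M] :
    LocCoh.depth S (N ⊗[R] M) = LocCoh.depth R M + LocCoh.depth S (fibre R S N) := by
  by_cases hM : Subsingleton M
  · rw [DepthKit.depth_of_subsingleton (M := M), DepthKit.depth_of_subsingleton, top_add]
  by_cases hN : Subsingleton N
  · haveI : Subsingleton (fibre R S N) := Quotient.instSubsingletonQuotient _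
    rw [DepthKit.depth_of_subsingleton (M := fibre R S N), DepthKit.depth_of_subsingleton, add_top]
  rw [not_subsingleton_iff_nontrivial] at hM hN
  haveI : Nontrivial (fibre R S N) := nontrivial_fibre N
  obtain ⟨r, hr⟩ := DepthKit.exists_nat_depth (A := R) (M := M)
  obtain ⟨s, hs⟩ := DepthKit.exists_nat_depth (A := S) (M := fibre R S N)
  rw [depth_tensor_claimB N s hs r M hr, hr, hs]
  push_cast
  rfl

end F

end Groth.Agent.Lib.Helper21.FlatLocal
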