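import Mathlib
import Groth.Prelude.Def_CAlg
import Groth.Agent.Lib.Helper21.FlatLocal4
import Groth.Agent.Lib.Helper21.DepthKit9
import Groth.Agent.Lib.Helper7.SupportDimParams

/-!
# Helper21 — FlatLocal5: the dimension formula `dim_S (N ⊗_R M) = dim_R M + dim_S (N/m_R N)` for a
local homomorphism `R → S` of Noetherian local rings, `N` finite over `S` and flat over `R`.
-/

namespace Groth.Agent.Lib.Helper21.FlatLocal

open TensorProduct IsLocalRing Pointwise Module

universe u

section Supp

variable {R S : Type u} [CommRing R] [CommRing S] [Algebra R S]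
variable {N : Type u} [AddCommGroup N] [Module S N] [Module R N] [IsScalarTower R S N]
variable {M : Type u} [AddCommGroup M] [Module R M]

/-- `Supp_S (N ⊗_R M) ⊆ Supp_S N`. -/
theorem mem_support_left_of_mem_support_tensor (P : PrimeSpectrum S)
    (hP : P ∈ Module.support S (N ⊗[R] M)) : P ∈ Module.support S N := by
  by_contra hN
  rw [Module.notMem_support_iff'] at hN
  apply (Module.notMem_support_iff' (M := N ⊗[R] M) (p := P)).2 _ hP
  intro z
  induction z using TensorProduct.induction_on with
  | zero => exact ⟨1, P.asIdeal.one_notMem, by simp⟩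
  | tmul n m =>
    obtain ⟨t, ht, htn⟩ := hN n
    exact ⟨t, ht, by rw [TensorProduct.smul_tmul', htn, zero_tmul]⟩
  | add a b ha hb =>
    obtain ⟨t, ht, hta⟩ := ha
    obtain ⟨t', ht', htb⟩ := hb
    refine ⟨t * t', fun h => (P.2.mem_or_mem h).elim ht ht', ?_⟩
    rw [smul_add, mul_smul t t' b, htb, smul_zero, mul_comm, mul_smul t' t a, hta, smul_zero,
      add_zero]

/-- `Supp_S (N ⊗_R M)` lies over `Supp_R M`. -/
theorem comap_mem_support_of_mem_support_tensor (P : PrimeSpectrum S)
    (hP : P ∈ Module.support S (N ⊗[R] M)) :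
    PrimeSpectrum.comap (algebraMap R S) P ∈ Module.support R M := by
  by_contra hM
  rw [Module.notMem_support_iff'] at hM
  apply (Module.notMem_support_iff' (M := N ⊗[R] M) (p := P)).2 _ hP
  intro z
  induction z using TensorProduct.induction_on with
  | zero => exact ⟨1, P.asIdeal.one_notMem, by simp⟩
  | tmul n m =>
    obtain ⟨t, ht, htm⟩ := hM m
    refine ⟨algebraMap R S t, ht, ?_⟩
    rw [algebraMap_smul_tensor, TensorProduct.smul_tmul', TensorProduct.smul_tmul, htm, tmul_zero]
  | add a b ha hb =>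
    obtain ⟨t, ht, hta⟩ := ha
    obtain ⟨t', ht', htb⟩ := hb
    refine ⟨t * t', fun h => (P.2.mem_or_mem h).elim ht ht', ?_⟩
    rw [smul_add, mul_smul t t' b, htb, smul_zero, mul_comm, mul_smul t' t a, hta, smul_zero,
      add_zero]

end Supp

section Ass

variable {A : Type u} [CommRing A] [IsLocalRing A] [IsNoetherianRing A]
variable {M : Type u} [AddCommGroup M] [Module A M] [Module.Finite A M]

/-- There is an associated prime of maximal dimension. -/
theorem exists_mem_associatedPrimes_dim_eq [Nontrivial M] :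
    ∃ p ∈ associatedPrimes A M, ringKrullDim (A ⧸ p) = supportDim A M := by
  obtain ⟨n, hn⟩ := DepthKit.exists_nat_supportDim (A := A) (M := M)
  have h1 : (n : WithBot ℕ∞) ≤ Order.krullDim (Module.support A M) := hn.ge
  obtain ⟨l, hl⟩ := Order.le_krullDim_iff.1 h1
  have hhead : annihilator A M ≤ l.head.1.asIdeal := by
    have h0 : l.head.1 ∈ PrimeSpectrum.zeroLocus (annihilator A M : Set A) := by
      rw [← Module.support_eq_zeroLocus]
      exact l.head.2
    rwa [PrimeSpectrum.mem_zeroLocus, SetLike.coe_subset_coe] at h0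
  obtain ⟨p, hp, hple⟩ := Ideal.exists_minimalPrimes_le hhead
  have hpass : p ∈ associatedPrimes A M :=
    Module.associatedPrimes.minimalPrimes_annihilator_subset_associatedPrimes A M hp
  refine ⟨p, hpass, le_antisymm
    (DepthKit.ringKrullDim_quotient_le_supportDim_of_mem_associatedPrimes hpass) ?_⟩
  rw [hn, ringKrullDim_quotient]
  apply Order.le_krullDim_iff.2
  have hmem : ∀ i, (l i).1 ∈ PrimeSpectrum.zeroLocus (p : Set A) := by
    intro i
    rw [PrimeSpectrum.mem_zeroLocus, SetLike.coe_subset_coe]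
    exact hple.trans (l.head_le i)
  exact ⟨⟨l.length, fun i => ⟨(l i).1, hmem i⟩, fun i => l.step i⟩, hl⟩

/-- A parameter element: if `dim M ≤ d + 1` there is `x ∈ m` with `dim M/xM ≤ d`. -/
theorem exists_param (d : ℕ) (hd : supportDim A M ≤ ((d + 1 : ℕ) : WithBot ℕ∞)) :
    ∃ x ∈ maximalIdeal A, supportDim A (QuotSMulTop x M) ≤ (d : WithBot ℕ∞) := by
  classical
  have hfin : (annihilator A M).minimalPrimes.Finite :=
    Ideal.finite_minimalPrimes_of_isNoetherianRing _ _
  obtain ⟨x, hxj, hx⟩ := Groth.Agent.Lib.Helper7.SuppDimParams.exists_mem_jacobson_notMem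
    (hfin.toFinset.filter (fun p => ¬ p.IsMaximal)) (by
      intro p hp
      rw [Finset.mem_filter, Set.Finite.mem_toFinset] at hp
      exact ⟨hp.1.1.1, hp.2⟩)
  refine ⟨x, ?_, ?_⟩
  · rwa [IsLocalRing.ringJacobson_eq_maximalIdeal] at hxj
  · exact Groth.Agent.Lib.Helper7.SuppDimParams.supportDim_quotSMulTop_le (x := x) d
      (fun p hp hmax => hx p (by
        rw [Finset.mem_filter, Set.Finite.mem_toFinset]; exact ⟨hp, hmax⟩)) hd

end Ass

section Dim

variable {R S : Type u} [CommRing R] [CommRing S] [IsLocalRing R] [IsLocalRing S]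
  [IsNoetherianRing R] [IsNoetherianRing S] [Algebra R S] [IsLocalHom (algebraMap R S)]
variable (N : Type u) [AddCommGroup N] [Module S N] [Module R N] [IsScalarTower R S N]
  [Module.Finite S N]

omit [IsNoetherianRing S] in
theorem algebraMap_mem_maximalIdeal {x : R} (hx : x ∈ maximalIdeal R) :
    algebraMap R S x ∈ maximalIdeal S :=
  IsLocalRing.map_maximalIdeal_le (algebraMap R S) (Ideal.mem_map_of_mem _ hx)

/-- `dim (N ⊗ M) ≤ dim M + dim (N/mN)` (no flatness needed). -/
theorem supportDim_tensor_le (d : ℕ) :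
    ∀ (M : Type u) [AddCommGroup M] [Module R M] [Module.Finite R M],
      supportDim R M ≤ (d : WithBot ℕ∞) →
      supportDim S (N ⊗[R] M) ≤ (d : WithBot ℕ∞) + supportDim S (fibre R S N) := by
  induction d with
  | zero =>
    intro M _ _ _ hd
    have hsub : Module.support S (N ⊗[R] M) ⊆ Module.support S (fibre R S N) := by
      intro P hP
      rw [Module.support_quotient]
      refine ⟨mem_support_left_of_mem_support_tensor P hP, ?_⟩
      have h1 := comap_mem_support_of_mem_support_tensor P hP
      haveI : Nonempty (Module.support R M) := ⟨⟨_, h1⟩⟩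
      have hM0 : supportDim R M = 0 := le_antisymm (by simpa using hd) Order.krullDim_nonneg
      rw [support_of_supportDim_eq_zero (R := R) (N := M) hM0, PrimeSpectrum.mem_zeroLocus,
        SetLike.coe_subset_coe] at h1
      rw [PrimeSpectrum.mem_zeroLocus, SetLike.coe_subset_coe, Ideal.map_le_iff_le_comap]
      exact h1
    have := DepthKit.supportDim_le_of_support_subset hsub
    simpa using this
  | succ d ih =>
    intro M _ _ _ hd
    obtain ⟨x, hx, hxd⟩ := exists_param d hd
    have h1 := ih (QuotSMulTop x M) hxd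
    haveI : Module.Finite S (N ⊗[R] M) := FlatKit.finite_tensor N M
    have h2 := supportDim_le_supportDim_quotSMulTop_succ (R := S) (M := N ⊗[R] M)
      (algebraMap_mem_maximalIdeal hx)
    rw [supportDim_eq_of_equiv (quotSMulTopTensorEquiv (S := S) (N := N) M x)] at h2
    refine h2.trans ((add_le_add_left h1 1).trans (le_of_eq ?_))
    push_cast
    rw [add_right_comm]

variable [Module.Flat R N]

omit [IsLocalRing S] [IsNoetherianRing S] [IsLocalHom (algebraMap R S)] [Module.Finite S N] in
/-- if `m ∈ Ass M` then the closed fibre embeds into `N ⊗ M`. -/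
theorem exists_injective_fibre (M : Type u) [AddCommGroup M] [Module R M]
    (hM : maximalIdeal R ∈ associatedPrimes R M) :
    ∃ ψ : fibre R S N →ₗ[S] N ⊗[R] M, Function.Injective ψ := by
  obtain ⟨-, u, hu⟩ := (isAssociatedPrime_iff).1 hM
  refine ⟨Submodule.liftQ _ (tmulRight (R := R) (S := S) u) (by
      intro v hv
      rw [LinearMap.mem_ker, tmulRight_apply, tmul_eq_zero_iff_of_colon (S := S) u hu]
      exact hv), ?_⟩
  rw [← LinearMap.ker_eq_bot]
  apply Submodule.ker_liftQ_eq_bot'
  ext v
  rw [LinearMap.mem_ker, tmulRight_apply, tmul_eq_zero_iff_of_colon (S := S) u hu]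

theorem exists_step (M : Type u) [AddCommGroup M] [Module R M] [Module.Finite R M]
    (p : Ideal R) (hp : p ∈ associatedPrimes R M) (hpm : p ≠ maximalIdeal R) :
    ∃ (M' : Type u) (_ : AddCommGroup M') (_ : Module R M') (_ : Module.Finite R M')
      (_ : Nontrivial M'), supportDim R M' + 1 = ringKrullDim (R ⧸ p) ∧
        supportDim S (N ⊗[R] M') + 1 ≤ supportDim S (N ⊗[R] M) := by
  obtain ⟨hpp, ι, hι⟩ := (isAssociatedPrime_iff_exists_injective_linearMap p M).1 hp
  have hlt : p < maximalIdeal R := lt_of_le_of_ne (IsLocalRing.le_maximalIdeal hpp.ne_top) hpm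
  obtain ⟨x, hx, hxp⟩ := SetLike.exists_of_lt hlt
  have reg : IsSMulRegular (R ⧸ p) x := by
    intro a b hab
    have hab' : Ideal.Quotient.mk p x * a = Ideal.Quotient.mk p x * b := by
      simpa [Algebra.smul_def] using hab
    have hx0 : Ideal.Quotient.mk p x ≠ 0 := by
      rwa [ne_eq, Ideal.Quotient.eq_zero_iff_mem]
    exact mul_left_cancel₀ hx0 hab'
  haveI : Nontrivial (QuotSMulTop x (R ⧸ p)) := DepthKit.nontrivial_quotSMulTop x hx
  refine ⟨QuotSMulTop x (R ⧸ p), inferInstance, inferInstance, inferInstance, inferInstance, ?_, ?_⟩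
  · rw [supportDim_quotSMulTop_succ_eq_supportDim reg hx, supportDim_quotient_eq_ringKrullDim]
  · haveI : Module.Finite S (N ⊗[R] (R ⧸ p)) := FlatKit.finite_tensor N (R ⧸ p)
    have regT : IsSMulRegular (N ⊗[R] (R ⧸ p)) (algebraMap R S x) :=
      isSMulRegular_tensor_algebraMap x reg
    have h1 := supportDim_quotSMulTop_succ_eq_supportDim regT (algebraMap_mem_maximalIdeal hx)
    rw [supportDim_eq_of_equiv (quotSMulTopTensorEquiv (S := S) (N := N) (R ⧸ p) x)] at h1
    rw [h1]
    exact supportDim_le_of_injective (AlgebraTensorModule.lTensor S N ι)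
      (Module.Flat.lTensor_preserves_injective_linearMap ι hι)

/-- `dim M + dim (N/mN) ≤ dim (N ⊗ M)` for flat `N`. -/
theorem le_supportDim_tensor (r : ℕ) :
    ∀ (M : Type u) [AddCommGroup M] [Module R M] [Module.Finite R M] [Nontrivial M],
      supportDim R M = (r : WithBot ℕ∞) →
      (r : WithBot ℕ∞) + supportDim S (fibre R S N) ≤ supportDim S (N ⊗[R] M) := by
  induction r with
  | zero =>
    intro M _ _ _ _ hM
    obtain ⟨p, hp, hpd⟩ := exists_mem_associatedPrimes_dim_eq (A := R) (M := M)
    by_cases hpm : p = maximalIdeal R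
    · rw [hpm] at hp
      obtain ⟨ψ, hψ⟩ := exists_injective_fibre (S := S) N M hp
      have := supportDim_le_of_injective ψ hψ
      simpa using this
    · exfalso
      obtain ⟨M', _, _, _, _, h1, -⟩ := exists_step (S := S) N M p hp hpm
      rw [hpd, hM] at h1
      obtain ⟨n, hn⟩ := DepthKit.exists_nat_supportDim (A := R) (M := M')
      rw [hn] at h1
      have : ((n + 1 : ℕ) : WithBot ℕ∞) = ((0 : ℕ) : WithBot ℕ∞) := by exact_mod_cast h1
      exact Nat.succ_ne_zero n (by exact_mod_cast this)
  | succ r ih =>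
    intro M _ _ _ _ hM
    obtain ⟨p, hp, hpd⟩ := exists_mem_associatedPrimes_dim_eq (A := R) (M := M)
    by_cases hpm : p = maximalIdeal R
    · exfalso
      rw [hpm, hM] at hpd
      letI : Field (R ⧸ maximalIdeal R) := Ideal.Quotient.field _
      rw [ringKrullDim_eq_zero_of_field] at hpd
      have : ((0 : ℕ) : WithBot ℕ∞) = ((r + 1 : ℕ) : WithBot ℕ∞) := by exact_mod_cast hpd
      exact Nat.succ_ne_zero r (by exact_mod_cast this.symm)
    · obtain ⟨M', _, _, _, _, h1, h2⟩ := exists_step (S := S) N M p hp hpm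
      rw [hpd, hM] at h1
      obtain ⟨n, hn⟩ := DepthKit.exists_nat_supportDim (A := R) (M := M')
      have hnr : n = r := by
        rw [hn] at h1
        have : ((n + 1 : ℕ) : WithBot ℕ∞) = ((r + 1 : ℕ) : WithBot ℕ∞) := by exact_mod_cast h1
        have h3 : n + 1 = r + 1 := by exact_mod_cast this
        omega
      subst hnr
      have h3 := ih M' hn
      refine le_trans (le_of_eq ?_) ((add_le_add_left h3 1).trans h2)
      push_cast
      rw [add_right_comm]

/-- **Dimension formula for a flat local homomorphism** (EGA IV 6.1.2, Matsumura 15.1):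
`dim_S (N ⊗_R M) = dim_R M + dim_S (N / m_R N)`. -/
theorem supportDim_tensor [Nontrivial N] (M : Type u) [AddCommGroup M] [Module R M]
    [Module.Finite R M] [Nontrivial M] :
    supportDim S (N ⊗[R] M) = supportDim R M + supportDim S (fibre R S N) := by
  obtain ⟨r, hr⟩ := DepthKit.exists_nat_supportDim (A := R) (M := M)
  rw [hr]
  exact le_antisymm (supportDim_tensor_le N r M hr.le) (le_supportDim_tensor N r M hr)

end Dim

end Groth.Agent.Lib.Helper21.FlatLocal
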