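import Mathlib
import Groth.Prelude.Def_CAlg
import Groth.Prelude.Def_EGA4b
import Groth.Agent.Lib.Helper21.FlatLocal5

/-!
# Helper21 — FlatLocal6: depth and dimension formulas at a prime `q` of `B` over `p = q ∩ A`, for a
homomorphism `A → B` of Noetherian rings, a finite `A`-module `E` and a finite `B`-module `F` flat over `A`.
-/

namespace Groth.Agent.Lib.Helper21.FlatLocal

open TensorProduct IsLocalRing Pointwise Module

universe u

section FlatLoc

variable {A B : Type u} [CommRing A] [CommRing B] [Algebra A B]
variable {F F' : Type u} [AddCommGroup F] [Module B F] [Module A F] [IsScalarTower A B F]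
  [AddCommGroup F'] [Module B F'] [Module A F'] [IsScalarTower A B F']

/-- A localization (at a submonoid of `B`) of a `B`-module which is flat over `A` is flat over `A`. -/
theorem flat_of_isLocalizedModule [Module.Flat A F] (S : Submonoid B) (f : F →ₗ[B] F')
    [IsLocalizedModule S f] : Module.Flat A F' := by
  have H := (Module.Flat.iff_lTensor_injectiveₛ (R := A) (M := F)).1 inferInstance
  rw [Module.Flat.iff_lTensor_injectiveₛ]
  intro N _ _ N'
  rw [← AlgebraTensorModule.coe_lTensor (A := B)]
  have h1 := IsLocalizedModule.map_injective S (AlgebraTensorModule.rTensor A N' f)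
    (AlgebraTensorModule.rTensor A N f) (AlgebraTensorModule.lTensor B F N'.subtype)
    (by rw [AlgebraTensorModule.coe_lTensor]; exact H N')
  rwa [IsLocalizedModule.map_lTensor] at h1

end FlatLoc

section Setup

variable {A B : Type u} [CommRing A] [CommRing B] [Algebra A B]
variable (p : Ideal A) [p.IsPrime] (q : Ideal B) [q.IsPrime] [q.LiesOver p]
variable (F : Type u) [AddCommGroup F] [Module B F] [Module A F] [IsScalarTower A B F]

attribute [local instance] Localization.AtPrime.algebraOfLiesOver

/-- `A_p`-module structure on `F_q`. -/
noncomputable abbrev moduleLoc : Module (Localization.AtPrime p) (LocalizedModule q.primeCompl F) :=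
  Module.compHom _ (algebraMap (Localization.AtPrime p) (Localization.AtPrime q))

attribute [local instance] moduleLoc

instance towerLoc : IsScalarTower (Localization.AtPrime p) (Localization.AtPrime q)
    (LocalizedModule q.primeCompl F) :=
  IsScalarTower.of_algebraMap_smul fun _ _ => rfl

instance towerBaseLoc : IsScalarTower A (Localization.AtPrime p)
    (LocalizedModule q.primeCompl F) := by
  refine IsScalarTower.of_algebraMap_smul fun a x => ?_
  show (algebraMap (Localization.AtPrime p) (Localization.AtPrime q)
    (algebraMap A (Localization.AtPrime p) a)) • x = a • x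
  rw [← IsScalarTower.algebraMap_apply A (Localization.AtPrime p) (Localization.AtPrime q),
    algebraMap_smul]

theorem flat_loc [Module.Flat A F] :
    Module.Flat (Localization.AtPrime p) (LocalizedModule q.primeCompl F) := by
  rw [Module.flat_iff_of_isLocalization (Localization.AtPrime p) p.primeCompl]
  exact flat_of_isLocalizedModule q.primeCompl (LocalizedModule.mkLinearMap q.primeCompl F)

variable (E : Type u) [AddCommGroup E] [Module A E]

/-- `(F ⊗_A E)_q ≃ F_q ⊗_A E`. -/
noncomputable def locTensorEquiv :
    LocalizedModule q.primeCompl (F ⊗[A] E) ≃ₗ[Localization.AtPrime q]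
      (LocalizedModule q.primeCompl F) ⊗[A] E :=
  (IsLocalizedModule.iso q.primeCompl (AlgebraTensorModule.rTensor A E
    (LocalizedModule.mkLinearMap q.primeCompl F))).extendScalarsOfIsLocalization q.primeCompl
      (Localization.AtPrime q)

/-- `(F ⊗_A E)_q ≃ F_q ⊗_{A_p} (A_p ⊗_A E)`. -/
noncomputable def locTensorEquiv' :
    LocalizedModule q.primeCompl (F ⊗[A] E) ≃ₗ[Localization.AtPrime q]
      (LocalizedModule q.primeCompl F) ⊗[Localization.AtPrime p]
        ((Localization.AtPrime p) ⊗[A] E) :=
  (locTensorEquiv q F E).trans
    (AlgebraTensorModule.cancelBaseChange A (Localization.AtPrime p) (Localization.AtPrime q)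
      (LocalizedModule q.primeCompl F) E).symm

/-- `A_p ⊗_A E ≃ E_p`. -/
noncomputable def baseChangeLocEquiv :
    (Localization.AtPrime p) ⊗[A] E ≃ₗ[Localization.AtPrime p] LocalizedModule p.primeCompl E :=
  (IsLocalizedModule.isBaseChange p.primeCompl (Localization.AtPrime p)
    (LocalizedModule.mkLinearMap p.primeCompl E)).equiv

theorem map_maximalIdeal_loc :
    (maximalIdeal (Localization.AtPrime p)).map
      (algebraMap (Localization.AtPrime p) (Localization.AtPrime q)) =
      p.map (algebraMap A (Localization.AtPrime q)) := by
  rw [← Localization.AtPrime.map_eq_maximalIdeal, Ideal.map_map, ← IsScalarTower.algebraMap_eq]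

instance isLocalHom_loc :
    IsLocalHom (algebraMap (Localization.AtPrime p) (Localization.AtPrime q)) := by
  rw [RingHom.algebraMap_toAlgebra]
  exact Localization.isLocalHom_localRingHom p _ (algebraMap A B) Ideal.LiesOver.over

/-- the closed fibre of `F_q` over `A_p` is `F_q / p F_q`. -/
noncomputable def fibreLocEquiv :
    fibre (Localization.AtPrime p) (Localization.AtPrime q) (LocalizedModule q.primeCompl F)
      ≃ₗ[Localization.AtPrime q]
    (LocalizedModule q.primeCompl F ⧸ (p.map (algebraMap A (Localization.AtPrime q)) •
      (⊤ : Submodule (Localization.AtPrime q) (LocalizedModule q.primeCompl F)))) :=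
  Submodule.quotEquivOfEq _ _ (by rw [map_maximalIdeal_loc])

variable [IsNoetherianRing A] [IsNoetherianRing B] [Module.Finite A E] [Module.Finite B F]
  [Module.Flat A F]

/-- **Depth formula at a prime `q` of `B` over `p`**. -/
theorem depth_loc_tensor :
    LocCoh.depth (Localization.AtPrime q) (LocalizedModule q.primeCompl (F ⊗[A] E)) =
      LocCoh.depth (Localization.AtPrime p) (LocalizedModule p.primeCompl E) +
      LocCoh.depth (Localization.AtPrime q)
        (LocalizedModule q.primeCompl F ⧸ (p.map (algebraMap A (Localization.AtPrime q)) •
          (⊤ : Submodule (Localization.AtPrime q) (LocalizedModule q.primeCompl F)))) := by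
  haveI := flat_loc p q F
  haveI : Module.Finite B (F ⊗[A] E) := FlatKit.finite_tensor F E
  rw [DepthKit.depth_congr (locTensorEquiv' p q F E),
    depth_tensor (R := Localization.AtPrime p) (S := Localization.AtPrime q)
      (LocalizedModule q.primeCompl F) ((Localization.AtPrime p) ⊗[A] E),
    DepthKit.depth_congr (baseChangeLocEquiv p E), DepthKit.depth_congr (fibreLocEquiv p q F)]

/-- **Dimension formula at a prime `q` of `B` over `p`**. -/
theorem supportDim_loc_tensor [Nontrivial (LocalizedModule p.primeCompl E)]
    [Nontrivial (LocalizedModule q.primeCompl F)] :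
    supportDim (Localization.AtPrime q) (LocalizedModule q.primeCompl (F ⊗[A] E)) =
      supportDim (Localization.AtPrime p) (LocalizedModule p.primeCompl E) +
      supportDim (Localization.AtPrime q)
        (LocalizedModule q.primeCompl F ⧸ (p.map (algebraMap A (Localization.AtPrime q)) •
          (⊤ : Submodule (Localization.AtPrime q) (LocalizedModule q.primeCompl F)))) := by
  haveI := flat_loc p q F
  haveI : Nontrivial ((Localization.AtPrime p) ⊗[A] E) :=
    (baseChangeLocEquiv p E).toEquiv.nontrivial
  rw [supportDim_eq_of_equiv (locTensorEquiv' p q F E),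
    supportDim_tensor (R := Localization.AtPrime p) (S := Localization.AtPrime q)
      (LocalizedModule q.primeCompl F) ((Localization.AtPrime p) ⊗[A] E),
    supportDim_eq_of_equiv (baseChangeLocEquiv p E), supportDim_eq_of_equiv (fibreLocEquiv p q F)]

end Setup

end Groth.Agent.Lib.Helper21.FlatLocal
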