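import Mathlib
import Groth.Prelude.Def_CAlg
import Groth.Prelude.Def_EGA4b
import Groth.Agent.Lib.Helper21.FlatLocal6
import Groth.Agent.Lib.Helper21.DepthKit15

/-!
# Helper21 — FlatLocal7: localization of a local ring at its maximal ideal; `(S_k)` inequality at a prime
of `B` from the base and the fibre.
-/

namespace Groth.Agent.Lib.Helper21.FlatLocal

open TensorProduct IsLocalRing Pointwise Module

universe u

section LocMax

variable {R : Type u} [CommRing R] [IsLocalRing R]
variable (X : Type u) [AddCommGroup X] [Module R X]

theorem primeCompl_maximalIdeal_le_isUnit :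
    (maximalIdeal R).primeCompl ≤ IsUnit.submonoid R := by
  intro x hx
  exact (IsLocalRing.notMem_maximalIdeal.1 hx)

theorem surjective_algebraMap_atPrime_maximalIdeal :
    Function.Surjective (algebraMap R (Localization.AtPrime (maximalIdeal R))) :=
  (IsLocalization.atUnits R (maximalIdeal R).primeCompl
    primeCompl_maximalIdeal_le_isUnit).surjective

/-- `X ≃ X_m` for the maximal ideal `m` of a local ring. -/
noncomputable def equivLocalizedMaximal :
    X ≃ₗ[R] LocalizedModule (maximalIdeal R).primeCompl X :=
  haveI : IsLocalization (maximalIdeal R).primeCompl R :=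
    IsLocalization.of_le_isUnit primeCompl_maximalIdeal_le_isUnit
  haveI := isLocalizedModule_id (maximalIdeal R).primeCompl X R
  IsLocalizedModule.linearEquiv (maximalIdeal R).primeCompl (LinearMap.id : X →ₗ[R] X)
    (LocalizedModule.mkLinearMap (maximalIdeal R).primeCompl X)

theorem depth_localized_maximal :
    LocCoh.depth (Localization.AtPrime (maximalIdeal R))
      (LocalizedModule (maximalIdeal R).primeCompl X) = LocCoh.depth R X :=
  (DepthKit.depth_eq_of_semilinear (algebraMap R (Localization.AtPrime (maximalIdeal R)))
    surjective_algebraMap_atPrime_maximalIdeal (equivLocalizedMaximal X).toAddEquiv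
    (fun a x => by
      show (equivLocalizedMaximal X) (a • x) = _
      rw [map_smul, algebraMap_smul]
      rfl)).symm

theorem supportDim_localized_maximal
    [Module.Finite (Localization.AtPrime (maximalIdeal R))
      (LocalizedModule (maximalIdeal R).primeCompl X)] :
    supportDim (Localization.AtPrime (maximalIdeal R))
      (LocalizedModule (maximalIdeal R).primeCompl X) = supportDim R X :=
  (DepthKit.supportDim_eq_of_semilinear (algebraMap R (Localization.AtPrime (maximalIdeal R)))
    surjective_algebraMap_atPrime_maximalIdeal (equivLocalizedMaximal X).toAddEquiv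
    (fun a x => by
      show (equivLocalizedMaximal X) (a • x) = _
      rw [map_smul, algebraMap_smul]
      rfl)).symm

/-- `(S_k)` for a module over a local ring gives the `(S_k)` inequality at the closed point. -/
theorem hasSk_closedPoint {k : ℕ} [IsNoetherianRing R] [Module.Finite R X]
    (h : LocCoh.HasSk k R X) :
    min (k : WithBot ℕ∞) (supportDim R X) ≤ ((LocCoh.depth R X : ℕ∞) : WithBot ℕ∞) := by
  have := h (maximalIdeal R)
  rwa [depth_localized_maximal, supportDim_localized_maximal] at this

end LocMax

section SkStep

variable {A B : Type u} [CommRing A] [CommRing B] [Algebra A B]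
  [IsNoetherianRing A] [IsNoetherianRing B]
variable (q : Ideal B) [q.IsPrime]
variable (F : Type u) [AddCommGroup F] [Module B F] [Module A F] [IsScalarTower A B F]
  [Module.Finite B F] [Module.Flat A F]
variable (E : Type u) [AddCommGroup E] [Module A E] [Module.Finite A E]

attribute [local instance] Localization.AtPrime.algebraOfLiesOver

omit [IsNoetherianRing A] [IsNoetherianRing B] [Module.Finite B F] [Module.Flat A F] in
theorem fibLocIdeal_ne_top :
    (q.under A).map (algebraMap A (Localization.AtPrime q)) ≠ ⊤ := by
  rw [← map_maximalIdeal_loc (q.under A) q]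
  intro h
  have hle := IsLocalRing.map_maximalIdeal_le (algebraMap (Localization.AtPrime (q.under A))
    (Localization.AtPrime q))
  rw [h] at hle
  exact (maximalIdeal.isMaximal (Localization.AtPrime q)).ne_top (top_le_iff.1 hle)

instance nontrivial_fibLocRing : Nontrivial (EGA4.FibLocRing A B q) :=
  Ideal.Quotient.nontrivial_iff.2 (fibLocIdeal_ne_top q)

theorem arith_sk (k a b a' b' : ℕ) (h1 : min k a ≤ a') (h2 : min k b ≤ b') :
    min k (a + b) ≤ a' + b' := by
  omega

/-- the `(S_k)` inequality at `q` from the one for `E` at `p = q ∩ A` and `(S_k)` of the fibre module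
`F_q / p F_q`. -/
theorem sk_ineq_of_fibre (k : ℕ)
    (hfib : LocCoh.HasSk k (EGA4.FibLocRing A B q) (EGA4.FibLocMod A B q F))
    (hE : min (k : WithBot ℕ∞) (supportDim (Localization.AtPrime (q.under A))
        (LocalizedModule (q.under A).primeCompl E)) ≤
      ((LocCoh.depth (Localization.AtPrime (q.under A))
        (LocalizedModule (q.under A).primeCompl E) : ℕ∞) : WithBot ℕ∞)) :
    min (k : WithBot ℕ∞) (supportDim (Localization.AtPrime q)
        (LocalizedModule q.primeCompl (F ⊗[A] E))) ≤
      ((LocCoh.depth (Localization.AtPrime q)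
        (LocalizedModule q.primeCompl (F ⊗[A] E)) : ℕ∞) : WithBot ℕ∞) := by
  have hsurj : Function.Surjective (algebraMap (Localization.AtPrime q) (EGA4.FibLocRing A B q)) :=
    Ideal.Quotient.mk_surjective
  haveI : Module.Finite (EGA4.FibLocRing A B q) (EGA4.FibLocMod A B q F) :=
    Module.Finite.of_restrictScalars_finite (Localization.AtPrime q) _ _
  have hX := hasSk_closedPoint (EGA4.FibLocMod A B q F) hfib
  rw [← DepthKit.supportDim_eq_of_surjective (EGA4.FibLocMod A B q F) hsurj,
    ← DepthKit.depth_eq_of_surjective (EGA4.FibLocMod A B q F) hsurj] at hX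
  have hdep := depth_loc_tensor (q.under A) q F E
  by_cases hE0 : Subsingleton (LocalizedModule (q.under A).primeCompl E)
  · rw [hdep, DepthKit.depth_of_subsingleton, top_add]
    exact le_top
  by_cases hF0 : Subsingleton (LocalizedModule q.primeCompl F)
  · haveI : Subsingleton (EGA4.FibLocMod A B q F) := Quotient.instSubsingletonQuotient _
    rw [hdep]
    show _ ≤ ((_ + LocCoh.depth (Localization.AtPrime q) (EGA4.FibLocMod A B q F) : ℕ∞) :
      WithBot ℕ∞)
    rw [DepthKit.depth_of_subsingleton (M := EGA4.FibLocMod A B q F), add_top]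
    exact le_top
  rw [not_subsingleton_iff_nontrivial] at hE0 hF0
  haveI := flat_loc (q.under A) q F
  haveI : Nontrivial (fibre (Localization.AtPrime (q.under A)) (Localization.AtPrime q)
      (LocalizedModule q.primeCompl F)) :=
    nontrivial_fibre (R := Localization.AtPrime (q.under A)) (S := Localization.AtPrime q)
      (LocalizedModule q.primeCompl F)
  haveI : Nontrivial (EGA4.FibLocMod A B q F) :=
    (fibreLocEquiv (q.under A) q F).symm.toEquiv.nontrivial
  have hdim := supportDim_loc_tensor (q.under A) q F E
  obtain ⟨a, ha⟩ := DepthKit.exists_nat_supportDim (A := Localization.AtPrime (q.under A))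
    (M := LocalizedModule (q.under A).primeCompl E)
  obtain ⟨a', ha'⟩ := DepthKit.exists_nat_depth (A := Localization.AtPrime (q.under A))
    (M := LocalizedModule (q.under A).primeCompl E)
  obtain ⟨b, hb⟩ := DepthKit.exists_nat_supportDim (A := Localization.AtPrime q)
    (M := EGA4.FibLocMod A B q F)
  obtain ⟨b', hb'⟩ := DepthKit.exists_nat_depth (A := Localization.AtPrime q)
    (M := EGA4.FibLocMod A B q F)
  rw [hdep, hdim, ha, ha']
  show min (k : WithBot ℕ∞) (_ + supportDim (Localization.AtPrime q) (EGA4.FibLocMod A B q F)) ≤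
    ((_ + LocCoh.depth (Localization.AtPrime q) (EGA4.FibLocMod A B q F) : ℕ∞) : WithBot ℕ∞)
  rw [hb, hb']
  rw [ha, ha'] at hE
  rw [hb, hb'] at hX
  have h1 : min k a ≤ a' := by
    have : ((min k a : ℕ) : WithBot ℕ∞) ≤ ((a' : ℕ) : WithBot ℕ∞) := by
      push_cast
      exact hE
    exact_mod_cast this
  have h2 : min k b ≤ b' := by
    have : ((min k b : ℕ) : WithBot ℕ∞) ≤ ((b' : ℕ) : WithBot ℕ∞) := by
      push_cast
      exact hX
    exact_mod_cast this
  have h3 := arith_sk k a b a' b' h1 h2
  have : ((min k (a + b) : ℕ) : WithBot ℕ∞) ≤ ((a' + b' : ℕ) : WithBot ℕ∞) := by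
    exact_mod_cast h3
  push_cast at this
  exact this

end SkStep

end Groth.Agent.Lib.Helper21.FlatLocal
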