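import Mathlib
import Groth.Prelude.Def_CAlg
import Groth.Prelude.Def_EGA4b
import Groth.Agent.Lib.Helper21.FlatLocal7

/-!
# Helper21 — FlatLocal8: the local rings of the fibre rings `κ(p) ⊗ S` versus the fibre local rings
`S_q / p S_q`: transfer of depth and dimension.
-/

namespace Groth.Agent.Lib.Helper21.FlatLocal

open TensorProduct IsLocalRing Pointwise Module

universe u

section SelfLoc

variable {C : Type u} [CommRing C] (P : Ideal C) [P.IsPrime]

/-- `C_P` as the localized module of `C`. -/
noncomputable def localizedSelfEquiv :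
    LocalizedModule P.primeCompl C ≃ₗ[Localization.AtPrime P] Localization.AtPrime P :=
  (IsLocalizedModule.iso P.primeCompl
    (Algebra.linearMap C (Localization.AtPrime P))).extendScalarsOfIsLocalization P.primeCompl
      (Localization.AtPrime P)

/-- `C_P / I C_P` as a quotient of the localized module of `C`. -/
noncomputable def localizedSelfQuotEquiv (I : Ideal (Localization.AtPrime P)) :
    (LocalizedModule P.primeCompl C ⧸
      (I • (⊤ : Submodule (Localization.AtPrime P) (LocalizedModule P.primeCompl C))))
      ≃ₗ[Localization.AtPrime P] (Localization.AtPrime P ⧸ I) :=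
  Submodule.Quotient.equiv _ _ (localizedSelfEquiv P) (by
    rw [Submodule.map_smul'', Submodule.map_top, LinearEquiv.range, smul_eq_mul, Ideal.mul_top])

end SelfLoc

section FiberTransfer

variable {R S : Type u} [CommRing R] [CommRing S] [Algebra R S] (p : Ideal R) [p.IsPrime]
variable (Q : Ideal (p.Fiber S)) [Q.IsPrime]

open Algebra.TensorProduct

theorem comap_includeRight_liesOver :
    (Q.comap (includeRight : S →ₐ[R] p.Fiber S)).LiesOver p := by
  constructor
  ext x
  have h2 : p = Ideal.under R Q := Ideal.over_def Q p
  have h3 : x ∈ p ↔ x ∈ Ideal.under R Q := by rw [← h2]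
  rw [h3, Ideal.under_def, Ideal.under_def, Ideal.mem_comap, Ideal.mem_comap, Ideal.mem_comap,
    AlgHom.commutes]

/-- depth of the local ring of the fibre ring at `Q` equals the depth of the fibre module
`S_r / p S_r` over `S_r`, `r = Q ∩ S`. -/
theorem depth_fiber_loc (r : Ideal S) [r.IsPrime]
    (hr : r = Q.comap (includeRight : S →ₐ[R] p.Fiber S)) :
    LocCoh.depth (Localization.AtPrime Q) (LocalizedModule Q.primeCompl (p.Fiber S)) =
      LocCoh.depth (Localization.AtPrime r) (EGA4.FibLocMod R S r S) := by
  subst hr
  haveI hover := comap_includeRight_liesOver p Q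
  have hp : p = (Q.comap (includeRight : S →ₐ[R] p.Fiber S)).under R := Ideal.over_def _ p
  set r := Q.comap (includeRight : S →ₐ[R] p.Fiber S) with hr
  letI := Localization.AtPrime.algebraOfLiesOver p r
  let e := Ideal.Fiber.localizationAlgEquivQuotient p Q
  -- the quotient ring `T = S_r / p S_r`
  haveI : Nontrivial (Localization.AtPrime r ⧸ p.map (algebraMap R (Localization.AtPrime r))) :=
    e.symm.toEquiv.nontrivial
  have h1 : LocCoh.depth (Localization.AtPrime Q) (LocalizedModule Q.primeCompl (p.Fiber S)) =
      LocCoh.depth (Localization.AtPrime Q) (Localization.AtPrime Q) :=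
    DepthKit.idealDepth_congr _ (localizedSelfEquiv Q)
  have h2 : LocCoh.depth (Localization.AtPrime Q) (Localization.AtPrime Q) =
      LocCoh.depth (Localization.AtPrime r ⧸ p.map (algebraMap R (Localization.AtPrime r)))
        (Localization.AtPrime r ⧸ p.map (algebraMap R (Localization.AtPrime r))) :=
    DepthKit.depth_eq_of_semilinear e.toRingEquiv.toRingHom e.surjective e.toAddEquiv
      (fun a x => by
        show e (a * x) = e a * e x
        exact map_mul e a x)
  have h3 : LocCoh.depth (Localization.AtPrime r ⧸ p.map (algebraMap R (Localization.AtPrime r)))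
        (Localization.AtPrime r ⧸ p.map (algebraMap R (Localization.AtPrime r))) =
      LocCoh.depth (Localization.AtPrime r)
        (Localization.AtPrime r ⧸ p.map (algebraMap R (Localization.AtPrime r))) :=
    (DepthKit.depth_eq_of_surjective _ Ideal.Quotient.mk_surjective).symm
  have hI : (r.under R).map (algebraMap R (Localization.AtPrime r)) =
      p.map (algebraMap R (Localization.AtPrime r)) := by rw [← hp]
  have h4 : LocCoh.depth (Localization.AtPrime r) (EGA4.FibLocMod R S r S) =
      LocCoh.depth (Localization.AtPrime r)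
        (Localization.AtPrime r ⧸ p.map (algebraMap R (Localization.AtPrime r))) :=
    DepthKit.idealDepth_congr _ ((Submodule.quotEquivOfEq _ _ (by rw [hI])).trans
      (localizedSelfQuotEquiv r (p.map (algebraMap R (Localization.AtPrime r)))))
  rw [h1, h2, h3, h4]

/-- dimension of the local ring of the fibre ring at `Q` equals the dimension of the fibre module
`S_r / p S_r` over `S_r`, `r = Q ∩ S`. -/
theorem supportDim_fiber_loc (r : Ideal S) [r.IsPrime]
    (hr : r = Q.comap (includeRight : S →ₐ[R] p.Fiber S)) :
    supportDim (Localization.AtPrime Q) (LocalizedModule Q.primeCompl (p.Fiber S)) =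
      supportDim (Localization.AtPrime r) (EGA4.FibLocMod R S r S) := by
  subst hr
  haveI hover := comap_includeRight_liesOver p Q
  have hp : p = (Q.comap (includeRight : S →ₐ[R] p.Fiber S)).under R := Ideal.over_def _ p
  set r := Q.comap (includeRight : S →ₐ[R] p.Fiber S) with hr
  letI := Localization.AtPrime.algebraOfLiesOver p r
  let e := Ideal.Fiber.localizationAlgEquivQuotient p Q
  have hI : (r.under R).map (algebraMap R (Localization.AtPrime r)) =
      p.map (algebraMap R (Localization.AtPrime r)) := by rw [← hp]
  have h4 : supportDim (Localization.AtPrime r) (EGA4.FibLocMod R S r S) =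
      supportDim (Localization.AtPrime r)
        (Localization.AtPrime r ⧸ p.map (algebraMap R (Localization.AtPrime r))) :=
    supportDim_eq_of_equiv ((Submodule.quotEquivOfEq _ _ (by rw [hI])).trans
      (localizedSelfQuotEquiv r (p.map (algebraMap R (Localization.AtPrime r)))))
  rw [supportDim_eq_of_equiv (localizedSelfEquiv Q), supportDim_self_eq_ringKrullDim,
    ringKrullDim_eq_of_ringEquiv e.toRingEquiv, ← supportDim_quotient_eq_ringKrullDim, h4]

/-- `(S_k)` of the fibre ring `κ(p) ⊗ S` gives the `(S_k)` inequality for the fibre module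
`S_r / p S_r` at every prime `r` of `S` over `p`. -/
theorem sk_ineq_fibLocMod_of_fiber (k : ℕ) (h : LocCoh.HasSk k (p.Fiber S) (p.Fiber S))
    (r : Ideal S) [r.IsPrime] (hr : r = Q.comap (includeRight : S →ₐ[R] p.Fiber S)) :
    min (k : WithBot ℕ∞) (supportDim (Localization.AtPrime r) (EGA4.FibLocMod R S r S)) ≤
      ((LocCoh.depth (Localization.AtPrime r) (EGA4.FibLocMod R S r S) : ℕ∞) : WithBot ℕ∞) := by
  rw [← supportDim_fiber_loc p Q r hr, ← depth_fiber_loc p Q r hr]
  exact h Q

end FiberTransfer

section SkStep2

variable {A B : Type u} [CommRing A] [CommRing B] [Algebra A B]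
  [IsNoetherianRing A] [IsNoetherianRing B]
variable (q : Ideal B) [q.IsPrime]
variable (F : Type u) [AddCommGroup F] [Module B F] [Module A F] [IsScalarTower A B F]
  [Module.Finite B F] [Module.Flat A F]
variable (E : Type u) [AddCommGroup E] [Module A E] [Module.Finite A E]

attribute [local instance] Localization.AtPrime.algebraOfLiesOver

/-- the `(S_k)` inequality at `q` from the ones for `E` at `p = q ∩ A` and for the fibre module
`F_q / p F_q`. -/
theorem sk_ineq_of_fibre_ineq (k : ℕ)
    (hX : min (k : WithBot ℕ∞) (supportDim (Localization.AtPrime q) (EGA4.FibLocMod A B q F)) ≤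
      ((LocCoh.depth (Localization.AtPrime q) (EGA4.FibLocMod A B q F) : ℕ∞) : WithBot ℕ∞))
    (hE : min (k : WithBot ℕ∞) (supportDim (Localization.AtPrime (q.under A))
        (LocalizedModule (q.under A).primeCompl E)) ≤
      ((LocCoh.depth (Localization.AtPrime (q.under A))
        (LocalizedModule (q.under A).primeCompl E) : ℕ∞) : WithBot ℕ∞)) :
    min (k : WithBot ℕ∞) (supportDim (Localization.AtPrime q)
        (LocalizedModule q.primeCompl (F ⊗[A] E))) ≤
      ((LocCoh.depth (Localization.AtPrime q)
        (LocalizedModule q.primeCompl (F ⊗[A] E)) : ℕ∞) : WithBot ℕ∞) := by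
  have hdep := depth_loc_tensor (q.under A) q F E
  by_cases hE0 : Subsingleton (LocalizedModule (q.under A).primeCompl E)
  · rw [hdep, DepthKit.depth_of_subsingleton, top_add]
    exact le_top
  by_cases hF0 : Subsingleton (LocalizedModule q.primeCompl F)
  · haveI : Subsingleton (EGA4.FibLocMod A B q F) := Quotient.instSubsingletonQuotient _
    rw [hdep]
    show _ ≤ ((_ + LocCoh.depth (Localization.AtPrime q) (EGA4.FibLocMod A B q F) : ℕ∞) :
      WithBot ℕ∞)
    rw [DepthKit.depth_of_subsingleton (M := EGA4.FibLocMod A B q F), add_top]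
    exact le_top
  rw [not_subsingleton_iff_nontrivial] at hE0 hF0
  haveI := flat_loc (q.under A) q F
  haveI : Nontrivial (fibre (Localization.AtPrime (q.under A)) (Localization.AtPrime q)
      (LocalizedModule q.primeCompl F)) :=
    nontrivial_fibre (R := Localization.AtPrime (q.under A)) (S := Localization.AtPrime q)
      (LocalizedModule q.primeCompl F)
  haveI : Nontrivial (EGA4.FibLocMod A B q F) :=
    (fibreLocEquiv (q.under A) q F).symm.toEquiv.nontrivial
  have hdim := supportDim_loc_tensor (q.under A) q F E
  obtain ⟨a, ha⟩ := DepthKit.exists_nat_supportDim (A := Localization.AtPrime (q.under A))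
    (M := LocalizedModule (q.under A).primeCompl E)
  obtain ⟨a', ha'⟩ := DepthKit.exists_nat_depth (A := Localization.AtPrime (q.under A))
    (M := LocalizedModule (q.under A).primeCompl E)
  obtain ⟨b, hb⟩ := DepthKit.exists_nat_supportDim (A := Localization.AtPrime q)
    (M := EGA4.FibLocMod A B q F)
  obtain ⟨b', hb'⟩ := DepthKit.exists_nat_depth (A := Localization.AtPrime q)
    (M := EGA4.FibLocMod A B q F)
  rw [hdep, hdim, ha, ha']
  show min (k : WithBot ℕ∞) (_ + supportDim (Localization.AtPrime q) (EGA4.FibLocMod A B q F)) ≤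
    ((_ + LocCoh.depth (Localization.AtPrime q) (EGA4.FibLocMod A B q F) : ℕ∞) : WithBot ℕ∞)
  rw [hb, hb']
  rw [ha, ha'] at hE
  rw [hb, hb'] at hX
  have h1 : min k a ≤ a' := by
    have : ((min k a : ℕ) : WithBot ℕ∞) ≤ ((a' : ℕ) : WithBot ℕ∞) := by
      push_cast
      exact hE
    exact_mod_cast this
  have h2 : min k b ≤ b' := by
    have : ((min k b : ℕ) : WithBot ℕ∞) ≤ ((b' : ℕ) : WithBot ℕ∞) := by
      push_cast
      exact hX
    exact_mod_cast this
  have h3 := arith_sk k a b a' b' h1 h2
  have : ((min k (a + b) : ℕ) : WithBot ℕ∞) ≤ ((a' + b' : ℕ) : WithBot ℕ∞) := by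
    exact_mod_cast h3
  push_cast at this
  exact this

end SkStep2

end Groth.Agent.Lib.Helper21.FlatLocal
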