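import Mathlib
import Groth.Prelude.Def_CAlg
import Groth.Prelude.Def_EGA4b
import Groth.Agent.Lib.Helper21.FlatLocal8

/-!
# Helper21 — FlatLocal10: fibre modules of a composite `A → B → C`: the `(S_k)` inequality for
`C_r / p C_r` from those of `B_q / p B_q` and `C_r / q C_r`.
-/

namespace Groth.Agent.Lib.Helper21.FlatLocal

open TensorProduct IsLocalRing Pointwise Module

universe u

section LQ

variable {C : Type u} [CommRing C] (r : Ideal C) [r.IsPrime]

/-- `(C/J)_r ≃ C_r / J C_r` (as a quotient of the localized module of `C`). -/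
noncomputable def localizedQuotEquiv (J : Ideal C) :
    LocalizedModule r.primeCompl (C ⧸ J) ≃ₗ[Localization.AtPrime r]
      (LocalizedModule r.primeCompl C ⧸ (J.map (algebraMap C (Localization.AtPrime r)) •
        (⊤ : Submodule (Localization.AtPrime r) (LocalizedModule r.primeCompl C)))) :=
  (localizedQuotientEquiv r.primeCompl (J : Submodule C C)).symm.trans
    (Submodule.quotEquivOfEq _ _ (by
      have hJ : (J : Submodule C C) = J • (⊤ : Submodule C C) := by
        rw [smul_eq_mul, Ideal.mul_top]
      conv_lhs => rw [hJ]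
      rw [Submodule.localized, Submodule.localized'_smul, Ideal.localized'_eq_map,
        Submodule.localized'_top]))

end LQ

section FiberPrime

variable {R S : Type u} [CommRing R] [CommRing S] [Algebra R S]

/-- a prime of `S` over `p` comes from a prime of the fibre ring `κ(p) ⊗ S`. -/
theorem exists_fiber_prime (p : Ideal R) [p.IsPrime] (q : Ideal S) [hq : q.IsPrime]
    (h : q.under R = p) :
    ∃ (Q : Ideal (p.Fiber S)) (_ : Q.IsPrime),
      q = Q.comap (Algebra.TensorProduct.includeRight : S →ₐ[R] p.Fiber S) := by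
  let P : PrimeSpectrum R := ⟨p, inferInstance⟩
  let x : (PrimeSpectrum.comap (algebraMap R S)) ⁻¹' {P} :=
    ⟨⟨q, hq⟩, PrimeSpectrum.ext h⟩
  let Q := PrimeSpectrum.preimageEquivFiber R S P x
  refine ⟨Q.asIdeal, Q.isPrime, ?_⟩
  have h1 := (PrimeSpectrum.preimageEquivFiber R S P).left_inv x
  have h2 := congrArg (fun y => y.1.asIdeal) h1
  exact h2.symm

end FiberPrime

section Comp

variable {A B C : Type u} [CommRing A] [CommRing B] [CommRing C] [Algebra A B] [Algebra B C]
  [Algebra A C] [IsScalarTower A B C]

/-- `(B / pB)_q ≃ B_q / p B_q` for `p = q ∩ A`. -/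
noncomputable def localizedQuotFibLocModEquiv (q : Ideal B) [q.IsPrime] :
    LocalizedModule q.primeCompl (B ⧸ (q.under A).map (algebraMap A B)) ≃ₗ[Localization.AtPrime q]
      EGA4.FibLocMod A B q B :=
  (localizedQuotEquiv q ((q.under A).map (algebraMap A B))).trans
    (Submodule.quotEquivOfEq _ _ (by
      rw [Ideal.map_map, ← IsScalarTower.algebraMap_eq]))

theorem under_under_eq (r : Ideal C) : (r.under B).under A = r.comap (algebraMap A C) := by
  rw [Ideal.under, Ideal.under, Ideal.comap_comap, ← IsScalarTower.algebraMap_eq]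

/-- `(C ⊗_B (B / pB))_r ≃ C_r / p C_r` for `p = r ∩ A`. -/
noncomputable def localizedTensorQuotEquiv (r : Ideal C) [r.IsPrime] :
    LocalizedModule r.primeCompl (C ⊗[B] (B ⧸ ((r.under B).under A).map (algebraMap A B)))
      ≃ₗ[Localization.AtPrime r] EGA4.FibLocMod A C r C :=
  (IsLocalizedModule.mapEquiv r.primeCompl (LocalizedModule.mkLinearMap r.primeCompl _)
      (LocalizedModule.mkLinearMap r.primeCompl _) (Localization.AtPrime r)
      (Algebra.TensorProduct.quotIdealMapEquivTensorQuot C
        (((r.under B).under A).map (algebraMap A B))).symm.toLinearEquiv).trans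
    ((localizedQuotEquiv r ((((r.under B).under A).map (algebraMap A B)).map (algebraMap B C))).trans
      (Submodule.quotEquivOfEq _ _ (by
        rw [Ideal.map_map, Ideal.map_map, ← IsScalarTower.algebraMap_eq,
          ← IsScalarTower.algebraMap_eq, under_under_eq])))

variable [IsNoetherianRing B] [IsNoetherianRing C] [Module.Flat B C]

/-- the `(S_k)` inequality for `C_r / p C_r` from those of `B_q / p B_q` and `C_r / q C_r`
(`q = r ∩ B`, `p = r ∩ A`). -/
theorem sk_ineq_comp (k : ℕ) (r : Ideal C) [r.IsPrime]
    (hX : min (k : WithBot ℕ∞) (supportDim (Localization.AtPrime r) (EGA4.FibLocMod B C r C)) ≤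
      ((LocCoh.depth (Localization.AtPrime r) (EGA4.FibLocMod B C r C) : ℕ∞) : WithBot ℕ∞))
    (hE : min (k : WithBot ℕ∞) (supportDim (Localization.AtPrime (r.under B))
        (EGA4.FibLocMod A B (r.under B) B)) ≤
      ((LocCoh.depth (Localization.AtPrime (r.under B)) (EGA4.FibLocMod A B (r.under B) B) : ℕ∞) :
        WithBot ℕ∞)) :
    min (k : WithBot ℕ∞) (supportDim (Localization.AtPrime r) (EGA4.FibLocMod A C r C)) ≤
      ((LocCoh.depth (Localization.AtPrime r) (EGA4.FibLocMod A C r C) : ℕ∞) : WithBot ℕ∞) := by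
  have e1 := localizedQuotFibLocModEquiv (A := A) (r.under B)
  have hd1 : LocCoh.depth (Localization.AtPrime (r.under B))
      (LocalizedModule (r.under B).primeCompl (B ⧸ ((r.under B).under A).map (algebraMap A B))) =
      LocCoh.depth (Localization.AtPrime (r.under B)) (EGA4.FibLocMod A B (r.under B) B) :=
    DepthKit.idealDepth_congr _ e1
  rw [← supportDim_eq_of_equiv e1, ← hd1] at hE
  have h1 := sk_ineq_of_fibre_ineq r C (B ⧸ ((r.under B).under A).map (algebraMap A B)) k hX hE
  have e2 := localizedTensorQuotEquiv (A := A) (B := B) r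
  have hd2 : LocCoh.depth (Localization.AtPrime r)
      (LocalizedModule r.primeCompl (C ⊗[B] (B ⧸ ((r.under B).under A).map (algebraMap A B)))) =
      LocCoh.depth (Localization.AtPrime r) (EGA4.FibLocMod A C r C) :=
    DepthKit.idealDepth_congr _ e2
  rw [supportDim_eq_of_equiv e2, hd2] at h1
  exact h1

end Comp

end Groth.Agent.Lib.Helper21.FlatLocal
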