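import Mathlib
import Groth.Prelude.Def_CAlg
import Groth.Prelude.Def_EGA4b
import Groth.Agent.Lib.Helper21.FlatLocal10

/-!
# Helper21 — FlatLocal11: depth and dimension of the fibre modules of a composite `A → B → C`;
Cohen–Macaulay fibre rings.
-/

namespace Groth.Agent.Lib.Helper21.FlatLocal

open TensorProduct IsLocalRing Pointwise Module

universe u

theorem isNoetherianRing_fiber {R S : Type u} [CommRing R] [CommRing S] [Algebra R S]
    [IsNoetherianRing S] (p : Ideal R) [p.IsPrime] : IsNoetherianRing (p.Fiber S) := by
  letI : Algebra S (p.Fiber S) := Algebra.TensorProduct.rightAlgebra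
  exact isNoetherianRing_of_ringEquiv _ (Ideal.Fiber.algEquivQuotient (S := S) p).toRingEquiv.symm

section Nontriv

variable {A B : Type u} [CommRing A] [CommRing B] [Algebra A B] (q : Ideal B) [q.IsPrime]

instance nontrivial_localizedModule_self : Nontrivial (LocalizedModule q.primeCompl B) :=
  (localizedSelfEquiv q).toEquiv.nontrivial

instance nontrivial_fibLocMod_self : Nontrivial (EGA4.FibLocMod A B q B) :=
  (localizedSelfQuotEquiv q
    ((q.comap (algebraMap A B)).map (algebraMap A (Localization.AtPrime q)))).toEquiv.nontrivial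

end Nontriv

section Comp

variable {A B C : Type u} [CommRing A] [CommRing B] [CommRing C] [Algebra A B] [Algebra B C]
  [Algebra A C] [IsScalarTower A B C] [IsNoetherianRing B] [IsNoetherianRing C] [Module.Flat B C]

/-- `depth (C_r / p C_r) = depth (B_q / p B_q) + depth (C_r / q C_r)`. -/
theorem depth_comp (r : Ideal C) [r.IsPrime] :
    LocCoh.depth (Localization.AtPrime r) (EGA4.FibLocMod A C r C) =
      LocCoh.depth (Localization.AtPrime (r.under B)) (EGA4.FibLocMod A B (r.under B) B) +
      LocCoh.depth (Localization.AtPrime r) (EGA4.FibLocMod B C r C) := by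
  have e1 := localizedQuotFibLocModEquiv (A := A) (r.under B)
  have hd1 : LocCoh.depth (Localization.AtPrime (r.under B))
      (LocalizedModule (r.under B).primeCompl (B ⧸ ((r.under B).under A).map (algebraMap A B))) =
      LocCoh.depth (Localization.AtPrime (r.under B)) (EGA4.FibLocMod A B (r.under B) B) :=
    DepthKit.idealDepth_congr _ e1
  have e2 := localizedTensorQuotEquiv (A := A) (B := B) r
  have hd2 : LocCoh.depth (Localization.AtPrime r)
      (LocalizedModule r.primeCompl (C ⊗[B] (B ⧸ ((r.under B).under A).map (algebraMap A B)))) =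
      LocCoh.depth (Localization.AtPrime r) (EGA4.FibLocMod A C r C) :=
    DepthKit.idealDepth_congr _ e2
  rw [← hd2, ← hd1]
  exact depth_loc_tensor (r.under B) r C (B ⧸ ((r.under B).under A).map (algebraMap A B))

/-- `dim (C_r / p C_r) = dim (B_q / p B_q) + dim (C_r / q C_r)`. -/
theorem supportDim_comp (r : Ideal C) [r.IsPrime] :
    supportDim (Localization.AtPrime r) (EGA4.FibLocMod A C r C) =
      supportDim (Localization.AtPrime (r.under B)) (EGA4.FibLocMod A B (r.under B) B) +
      supportDim (Localization.AtPrime r) (EGA4.FibLocMod B C r C) := by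
  have e1 := localizedQuotFibLocModEquiv (A := A) (r.under B)
  have e2 := localizedTensorQuotEquiv (A := A) (B := B) r
  haveI : Nontrivial (LocalizedModule (r.under B).primeCompl
      (B ⧸ ((r.under B).under A).map (algebraMap A B))) := e1.toEquiv.nontrivial
  have hs1 : supportDim (Localization.AtPrime (r.under B))
      (LocalizedModule (r.under B).primeCompl (B ⧸ ((r.under B).under A).map (algebraMap A B))) =
      supportDim (Localization.AtPrime (r.under B)) (EGA4.FibLocMod A B (r.under B) B) :=
    supportDim_eq_of_equiv e1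
  have hs2 : supportDim (Localization.AtPrime r)
      (LocalizedModule r.primeCompl (C ⊗[B] (B ⧸ ((r.under B).under A).map (algebraMap A B)))) =
      supportDim (Localization.AtPrime r) (EGA4.FibLocMod A C r C) :=
    supportDim_eq_of_equiv e2
  rw [← hs2, ← hs1]
  exact supportDim_loc_tensor (r.under B) r C (B ⧸ ((r.under B).under A).map (algebraMap A B))

end Comp

section CMFiber

variable {R S : Type u} [CommRing R] [CommRing S] [Algebra R S] [IsNoetherianRing S]
  (p : Ideal R) [p.IsPrime] (Q : Ideal (p.Fiber S)) [Q.IsPrime]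

/-- the local ring of the fibre ring at `Q` is Cohen–Macaulay iff the fibre module `S_r / p S_r`
(`r = Q ∩ S`) is. -/
theorem isCM_fiber_loc_iff (r : Ideal S) [r.IsPrime]
    (hr : r = Q.comap (Algebra.TensorProduct.includeRight : S →ₐ[R] p.Fiber S)) :
    LocCoh.IsCohenMacaulayLocalRing (Localization.AtPrime Q) ↔
      LocCoh.IsCohenMacaulayModule (Localization.AtPrime r) (EGA4.FibLocMod R S r S) := by
  haveI := isNoetherianRing_fiber (S := S) p
  have h1 : LocCoh.depth (Localization.AtPrime Q) (LocalizedModule Q.primeCompl (p.Fiber S)) =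
      LocCoh.depth (Localization.AtPrime Q) (Localization.AtPrime Q) :=
    DepthKit.idealDepth_congr _ (localizedSelfEquiv Q)
  have h2 := supportDim_eq_of_equiv (localizedSelfEquiv Q)
  unfold LocCoh.IsCohenMacaulayModule
  rw [← supportDim_fiber_loc p Q r hr, ← depth_fiber_loc p Q r hr, h1, h2]
  exact ⟨fun h => h.supportDim_eq_depth, fun h => ⟨h⟩⟩

end CMFiber

end Groth.Agent.Lib.Helper21.FlatLocal
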