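import Mathlib
import Groth.Prelude.Def_CAlg
import Groth.Prelude.Def_EGA4b
import Groth.Agent.Lib.Helper21.FlatLocal11

/-!
# Helper21 — FlatLocal12: descent of flatness along a faithfully flat map; primes of `C` minimal
over `q C` (fibre of dimension zero) and descent of depth/dimension of fibres.
-/

namespace Groth.Agent.Lib.Helper21.FlatLocal

open TensorProduct IsLocalRing Pointwise Module

universe u

section FlatDescent

variable (A B C : Type u) [CommRing A] [CommRing B] [CommRing C] [Algebra A B] [Algebra B C]
  [Algebra A C] [IsScalarTower A B C]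

/-- flatness descends: `A → B → C` with `C` faithfully flat over `B` and flat over `A`. -/
theorem flat_of_faithfullyFlat_comp [Module.FaithfullyFlat B C] [Module.Flat A C] :
    Module.Flat A B := by
  rw [Module.Flat.iff_lTensor_preserves_injective_linearMap]
  intro N P _ _ _ _ f hf
  have h1 : Function.Injective (LinearMap.lTensor C f) :=
    Module.Flat.lTensor_preserves_injective_linearMap f hf
  have h2 : Function.Injective (LinearMap.baseChange B f) := by
    rw [← Module.FaithfullyFlat.lTensor_injective_iff_injective B C]
    have hcomm : (AlgebraTensorModule.cancelBaseChange A B C C P).toLinearMap.restrictScalars B ∘ₗ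
        LinearMap.lTensor C (LinearMap.baseChange B f) =
        ((LinearMap.baseChange C f).restrictScalars B) ∘ₗ
          ((AlgebraTensorModule.cancelBaseChange A B C C N).toLinearMap.restrictScalars B) := by
      ext c n
      simp
    intro x y hxy
    have h3 := congrArg (AlgebraTensorModule.cancelBaseChange A B C C P) hxy
    have h4 := LinearMap.congr_fun hcomm x
    have h5 := LinearMap.congr_fun hcomm y
    simp only [LinearMap.coe_comp, Function.comp_apply, LinearMap.coe_restrictScalars,
      LinearEquiv.coe_coe] at h4 h5
    rw [h4, h5] at h3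
    have h6 : Function.Injective (LinearMap.baseChange C f) := by
      rw [LinearMap.baseChange_eq_ltensor]
      exact h1
    exact (AlgebraTensorModule.cancelBaseChange A B C C N).injective (h6 h3)
  rw [LinearMap.baseChange_eq_ltensor] at h2
  exact h2

end FlatDescent

section GoodPrime

variable {B C : Type u} [CommRing B] [CommRing C] [Algebra B C]

/-- over a prime `q` of `B` in the image of `Spec C`, there is a prime of `C` lying over `q` and
minimal over `q C`. -/
theorem exists_good_prime_of_liesOver (q : Ideal B) [q.IsPrime] (r0 : Ideal C) [r0.IsPrime]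
    (h0 : r0.under B = q) :
    ∃ (r : Ideal C) (_ : r.IsPrime), r.under B = q ∧
      r ∈ (q.map (algebraMap B C)).minimalPrimes := by
  have hle : q.map (algebraMap B C) ≤ r0 := by
    rw [Ideal.map_le_iff_le_comap]
    exact h0.symm.le
  obtain ⟨r, hr, hrr0⟩ := Ideal.exists_minimalPrimes_le hle
  refine ⟨r, hr.1.1, le_antisymm ?_ ?_, hr⟩
  · calc r.under B ≤ r0.under B := Ideal.comap_mono hrr0
      _ = q := h0
  · exact Ideal.map_le_iff_le_comap.1 hr.1.2

theorem exists_good_prime [Module.FaithfullyFlat B C] (q : Ideal B) [q.IsPrime] :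
    ∃ (r : Ideal C) (_ : r.IsPrime), r.under B = q ∧
      r ∈ (q.map (algebraMap B C)).minimalPrimes := by
  obtain ⟨r0, hr0, hr0q⟩ := Ideal.exists_isPrime_liesOver_of_faithfullyFlat (B := C) q
  exact exists_good_prime_of_liesOver q r0 (Ideal.over_def r0 q).symm

theorem krullDimLE_zero_fibLocRing (r : Ideal C) [r.IsPrime]
    (hmin : r ∈ ((r.under B).map (algebraMap B C)).minimalPrimes) :
    Ring.KrullDimLE 0 (EGA4.FibLocRing B C r) := by
  apply Ideal.krullDimLE_zero_quotient_iff_forall_minimalPrimes_isMaximal.2
  intro J hJ
  haveI := hJ.1.1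
  have h1 : J.under C ≤ r := by
    calc J.under C ≤ (maximalIdeal (Localization.AtPrime r)).under C :=
          Ideal.comap_mono (IsLocalRing.le_maximalIdeal hJ.1.1.ne_top)
      _ = r := Localization.AtPrime.under_maximalIdeal
  have h2 : (r.under B).map (algebraMap B C) ≤ J.under C := by
    rw [Ideal.map_le_iff_le_comap]
    have := hJ.1.2
    rw [Ideal.map_le_iff_le_comap] at this
    intro x hx
    have h3 := this hx
    rw [Ideal.mem_comap] at h3 ⊢
    rw [Ideal.under_def, Ideal.mem_comap, ← IsScalarTower.algebraMap_apply]
    exact h3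
  have h3 : r ≤ J.under C := hmin.2 ⟨inferInstance, h2⟩ h1
  have h4 : J = maximalIdeal (Localization.AtPrime r) :=
    Localization.AtPrime.eq_maximalIdeal_iff_under_eq.1 (le_antisymm h1 h3)
  rw [h4]
  infer_instance

variable [IsNoetherianRing C]

theorem supportDim_fibLocMod_eq_zero (r : Ideal C) [r.IsPrime]
    (hmin : r ∈ ((r.under B).map (algebraMap B C)).minimalPrimes) :
    supportDim (Localization.AtPrime r) (EGA4.FibLocMod B C r C) = 0 := by
  have e := localizedSelfQuotEquiv r
    ((r.comap (algebraMap B C)).map (algebraMap B (Localization.AtPrime r)))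
  have h1 : supportDim (Localization.AtPrime r) (EGA4.FibLocMod B C r C) =
      supportDim (Localization.AtPrime r) (EGA4.FibLocRing B C r) := supportDim_eq_of_equiv e
  rw [h1, supportDim_quotient_eq_ringKrullDim]
  exact ringKrullDimZero_iff_ringKrullDim_eq_zero.1 (krullDimLE_zero_fibLocRing r hmin)

theorem depth_fibLocMod_eq_zero (r : Ideal C) [r.IsPrime]
    (hmin : r ∈ ((r.under B).map (algebraMap B C)).minimalPrimes) :
    LocCoh.depth (Localization.AtPrime r) (EGA4.FibLocMod B C r C) = 0 := by
  have h := DepthKit.depth_le_supportDim (A := Localization.AtPrime r)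
    (M := EGA4.FibLocMod B C r C)
  rw [supportDim_fibLocMod_eq_zero r hmin] at h
  have h2 : ((LocCoh.depth (Localization.AtPrime r) (EGA4.FibLocMod B C r C) : ℕ∞) : WithBot ℕ∞) ≤
      ((0 : ℕ∞) : WithBot ℕ∞) := h
  rw [WithBot.coe_le_coe] at h2
  exact le_antisymm h2 bot_le

end GoodPrime

section Descent

variable {A B C : Type u} [CommRing A] [CommRing B] [CommRing C] [Algebra A B] [Algebra B C]
  [Algebra A C] [IsScalarTower A B C] [IsNoetherianRing B] [IsNoetherianRing C] [Module.Flat B C]

theorem depth_descent (r : Ideal C) [r.IsPrime]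
    (hmin : r ∈ ((r.under B).map (algebraMap B C)).minimalPrimes) :
    LocCoh.depth (Localization.AtPrime r) (EGA4.FibLocMod A C r C) =
      LocCoh.depth (Localization.AtPrime (r.under B)) (EGA4.FibLocMod A B (r.under B) B) := by
  rw [depth_comp (A := A) (B := B) r, depth_fibLocMod_eq_zero r hmin, add_zero]

theorem supportDim_descent (r : Ideal C) [r.IsPrime]
    (hmin : r ∈ ((r.under B).map (algebraMap B C)).minimalPrimes) :
    supportDim (Localization.AtPrime r) (EGA4.FibLocMod A C r C) =
      supportDim (Localization.AtPrime (r.under B)) (EGA4.FibLocMod A B (r.under B) B) := by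
  rw [supportDim_comp (A := A) (B := B) r, supportDim_fibLocMod_eq_zero r hmin, add_zero]

end Descent

end Groth.Agent.Lib.Helper21.FlatLocal
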