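import Mathlib
import Groth.Prelude.Def_CAlg
import Groth.Prelude.Def_EGA4b
import Groth.Agent.Lib.Helper21.FlatLocal12

/-!
# Helper21 — FlatLocal13: going down with zero-dimensional fibre for a finite module flat over the base.
-/

namespace Groth.Agent.Lib.Helper21.FlatLocal

open TensorProduct IsLocalRing Pointwise Module

universe u

section GoingDownMod

variable {A B : Type u} [CommRing A] [CommRing B] [Algebra A B]
variable (q : Ideal B) [q.IsPrime]
variable (F : Type u) [AddCommGroup F] [Module B F]

theorem map_under_le_maximalIdeal :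
    (q.under A).map (algebraMap A (Localization.AtPrime q)) ≤
      maximalIdeal (Localization.AtPrime q) := by
  rw [Ideal.map_le_iff_le_comap]
  intro x hx
  rw [Ideal.mem_comap, IsScalarTower.algebraMap_apply A B (Localization.AtPrime q),
    IsLocalization.AtPrime.to_map_mem_maximal_iff (Localization.AtPrime q) q]
  exact hx

theorem nontrivial_fibLocMod [Module.Finite B F] [Nontrivial (LocalizedModule q.primeCompl F)] :
    Nontrivial (EGA4.FibLocMod A B q F) := by
  apply Submodule.Quotient.nontrivial_iff.2
  intro h
  apply DepthKit.maximalIdeal_smul_top_ne_top (A := Localization.AtPrime q)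
    (M := LocalizedModule q.primeCompl F)
  have h1 : ((q.under A).map (algebraMap A (Localization.AtPrime q)) • ⊤ :
      Submodule (Localization.AtPrime q) (LocalizedModule q.primeCompl F)) ≤
      maximalIdeal (Localization.AtPrime q) • ⊤ :=
    Submodule.smul_mono_left (map_under_le_maximalIdeal q)
  exact top_le_iff.1 (h.symm.le.trans h1)

variable [IsNoetherianRing A] [IsNoetherianRing B] [Module A F] [IsScalarTower A B F]
  [Module.Finite B F] [Module.Flat A F]

/-- `q ∈ Supp (F ⊗ E)` when `q ∈ Supp F` and `q ∩ A ∈ Supp E` (`F` flat over `A`). -/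
theorem nontrivial_loc_tensor (E : Type u) [AddCommGroup E] [Module A E] [Module.Finite A E]
    [Nontrivial (LocalizedModule q.primeCompl F)]
    [Nontrivial (LocalizedModule (q.under A).primeCompl E)] :
    Nontrivial (LocalizedModule q.primeCompl (F ⊗[A] E)) := by
  haveI := nontrivial_fibLocMod (A := A) q F
  have hd := supportDim_loc_tensor (q.under A) q F E
  rw [← Module.supportDim_ne_bot_iff_nontrivial (Localization.AtPrime q), hd]
  have h1 := Module.supportDim_ne_bot_of_nontrivial (Localization.AtPrime (q.under A))
    (LocalizedModule (q.under A).primeCompl E)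
  have h2 := Module.supportDim_ne_bot_of_nontrivial (Localization.AtPrime q)
    (EGA4.FibLocMod A B q F)
  exact WithBot.add_ne_bot.2 ⟨h1, h2⟩

/-- **Going down with zero-dimensional fibre** for a finite `B`-module `F` flat over `A`: below a
prime `q ∈ Supp F` and over any `p' ⊆ q ∩ A` there is a prime `q' ∈ Supp F` with `q' ∩ A = p'`
whose fibre module `F_{q'} / p' F_{q'}` has dimension zero. -/
theorem exists_prime_fibre_dim_zero [Nontrivial (LocalizedModule q.primeCompl F)]
    (p' : Ideal A) [p'.IsPrime] (hp' : p' ≤ q.under A) :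
    ∃ (q' : Ideal B) (_ : q'.IsPrime), q' ≤ q ∧ q'.under A = p' ∧
      Nontrivial (LocalizedModule q'.primeCompl F) ∧
      supportDim (Localization.AtPrime q') (EGA4.FibLocMod A B q' F) = 0 := by
  classical
  haveI hE'p : Nontrivial (LocalizedModule (q.under A).primeCompl (A ⧸ p')) := by
    rw [← Module.mem_support_iff (p := ⟨q.under A, inferInstance⟩),
      Module.mem_support_iff_of_finite, Ideal.annihilator_quotient]
    exact hp'
  haveI : Module.Finite B (F ⊗[A] (A ⧸ p')) := FlatKit.finite_tensor F (A ⧸ p')
  have hqT : Module.annihilator B (F ⊗[A] (A ⧸ p')) ≤ q := by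
    have := nontrivial_loc_tensor (A := A) q F (A ⧸ p')
    rw [← Module.mem_support_iff (p := ⟨q, inferInstance⟩), Module.mem_support_iff_of_finite]
      at this
    exact this
  obtain ⟨q', hq'min, hq'q⟩ := Ideal.exists_minimalPrimes_le hqT
  haveI := hq'min.1.1
  have hq'T : (⟨q', inferInstance⟩ : PrimeSpectrum B) ∈
      Module.support B (F ⊗[A] (A ⧸ p')) := by
    rw [Module.mem_support_iff_of_finite]
    exact hq'min.1.2
  have hq'F := mem_support_left_of_mem_support_tensor _ hq'T
  have hp'' := comap_mem_support_of_mem_support_tensor _ hq'T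
  haveI hFq' : Nontrivial (LocalizedModule q'.primeCompl F) := hq'F
  haveI hEp'' : Nontrivial (LocalizedModule (q'.under A).primeCompl (A ⧸ p')) := hp''
  have hle : p' ≤ q'.under A := by
    rw [Module.mem_support_iff_of_finite, Ideal.annihilator_quotient] at hp''
    exact hp''
  haveI := nontrivial_fibLocMod (A := A) q' F
  have hT0 : supportDim (Localization.AtPrime q')
      (LocalizedModule q'.primeCompl (F ⊗[A] (A ⧸ p'))) ≤ 0 := by
    rw [DepthKit.supportDim_localization_le_zero_iff]
    intro Q hQ hQq'
    rw [Module.mem_support_iff_of_finite] at hQ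
    exact le_antisymm hQq' (hq'min.2 ⟨Q.2, hQ⟩ hQq')
  rw [supportDim_loc_tensor (q'.under A) q' F (A ⧸ p')] at hT0
  obtain ⟨a, ha⟩ := DepthKit.exists_nat_supportDim (A := Localization.AtPrime (q'.under A))
    (M := LocalizedModule (q'.under A).primeCompl (A ⧸ p'))
  obtain ⟨b, hb⟩ := DepthKit.exists_nat_supportDim (A := Localization.AtPrime q')
    (M := EGA4.FibLocMod A B q' F)
  have hT0' : (a : WithBot ℕ∞) + (b : WithBot ℕ∞) ≤ 0 := by
    rw [← ha, ← hb]
    exact hT0
  have hab : a + b ≤ 0 := by exact_mod_cast hT0'
  have ha0 : a = 0 := by omega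
  have hb0 : b = 0 := by omega
  refine ⟨q', inferInstance, hq'q, ?_, hFq', ?_⟩
  · have h1 : supportDim (Localization.AtPrime (q'.under A))
        (LocalizedModule (q'.under A).primeCompl (A ⧸ p')) ≤ 0 := by
      rw [ha, ha0]
      rfl
    have := (DepthKit.supportDim_localization_le_zero_iff (M := A ⧸ p') (q'.under A)).1 h1
      ⟨p', inferInstance⟩ (by
        rw [Module.mem_support_iff_of_finite, Ideal.annihilator_quotient]) hle
    exact this.symm
  · show supportDim (Localization.AtPrime q') (EGA4.FibLocMod A B q' F) = 0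
    rw [hb, hb0]
    rfl

end GoingDownMod

end Groth.Agent.Lib.Helper21.FlatLocal
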