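import Mathlib
import Groth.Prelude.Def_CAlg
import Groth.Prelude.Def_EGA4b
import Groth.Agent.Lib.Helper21.FlatLocal13

/-!
# Helper21 — FlatLocal14: depth of a flat module along an ideal from the depths of its fibre modules.
-/

namespace Groth.Agent.Lib.Helper21.FlatLocal

open TensorProduct IsLocalRing Pointwise Module

universe u

section FibreDepthIdeal

variable {A B : Type u} [CommRing A] [CommRing B] [Algebra A B]
variable (q : Ideal B) [q.IsPrime]
variable (E : Type u) [AddCommGroup E] [Module B E]

/-- the ideal `q (B_q / p B_q)` is the maximal ideal image. -/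
theorem map_fibLocRing_eq :
    q.map (algebraMap B (EGA4.FibLocRing A B q)) =
      (maximalIdeal (Localization.AtPrime q)).map
        (algebraMap (Localization.AtPrime q) (EGA4.FibLocRing A B q)) := by
  rw [← Localization.AtPrime.map_eq_maximalIdeal, Ideal.map_map,
    ← IsScalarTower.algebraMap_eq]

/-- the depth of the fibre module over the fibre local ring along `q` is its depth over `B_q`. -/
theorem idealDepth_fibLocMod :
    LocCoh.idealDepth (q.map (algebraMap B (EGA4.FibLocRing A B q))) (EGA4.FibLocMod A B q E) =
      LocCoh.depth (Localization.AtPrime q) (EGA4.FibLocMod A B q E) := by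
  rw [map_fibLocRing_eq]
  unfold LocCoh.depth
  exact (DepthKit.idealDepth_map_of_surjective (R := Localization.AtPrime q)
    (S := EGA4.FibLocRing A B q) (EGA4.FibLocMod A B q E) Ideal.Quotient.mk_surjective
    (maximalIdeal (Localization.AtPrime q))).symm

variable [IsNoetherianRing A] [IsNoetherianRing B] [Module A E] [IsScalarTower A B E]
  [Module.Finite B E] [Module.Flat A E]

/-- `depth E_q = depth A_p + depth (E_q / p E_q)` for `E` flat over `A`. -/
theorem depth_loc_flat :
    LocCoh.depth (Localization.AtPrime q) (LocalizedModule q.primeCompl E) =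
      LocCoh.depth (Localization.AtPrime (q.under A)) (Localization.AtPrime (q.under A)) +
      LocCoh.depth (Localization.AtPrime q) (EGA4.FibLocMod A B q E) := by
  have e : LocalizedModule q.primeCompl (E ⊗[A] A) ≃ₗ[Localization.AtPrime q]
      LocalizedModule q.primeCompl E :=
    IsLocalizedModule.mapEquiv q.primeCompl (LocalizedModule.mkLinearMap q.primeCompl (E ⊗[A] A))
      (LocalizedModule.mkLinearMap q.primeCompl E) (Localization.AtPrime q)
      (AlgebraTensorModule.rid A B E)
  have h1 : LocCoh.depth (Localization.AtPrime q) (LocalizedModule q.primeCompl (E ⊗[A] A)) =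
      LocCoh.depth (Localization.AtPrime q) (LocalizedModule q.primeCompl E) :=
    DepthKit.idealDepth_congr _ e
  have h2 : LocCoh.depth (Localization.AtPrime (q.under A))
      (LocalizedModule (q.under A).primeCompl A) =
      LocCoh.depth (Localization.AtPrime (q.under A)) (Localization.AtPrime (q.under A)) :=
    DepthKit.idealDepth_congr _ (localizedSelfEquiv (q.under A))
  rw [← h1, ← h2]
  exact depth_loc_tensor (q.under A) q E A

/-- fibrewise depth bounds give a bound for `depth_J E` when `E` is flat over `A`. -/
theorem le_idealDepth_of_fibre (J : Ideal B) (n : ℕ∞)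
    (h : ∀ q : PrimeSpectrum B, J ≤ q.asIdeal →
      n ≤ LocCoh.idealDepth (q.asIdeal.map (algebraMap B (EGA4.FibLocRing A B q.asIdeal)))
        (EGA4.FibLocMod A B q.asIdeal E)) :
    n ≤ LocCoh.idealDepth J E := by
  rw [DepthKit.idealDepth_eq_iInf_depth_localization]
  refine le_iInf₂ fun q hq => ?_
  have h1 := h q hq
  rw [idealDepth_fibLocMod] at h1
  rw [depth_loc_flat (A := A)]
  exact h1.trans le_add_self

end FibreDepthIdeal

end Groth.Agent.Lib.Helper21.FlatLocal
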