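import Mathlib
import Groth.Prelude.Def_CAlg
import Groth.Prelude.Def_EGA4b
import Groth.Agent.Lib.Helper21.FlatLocal14

/-!
# Helper21 — FlatLocal15: depth/dimension of a flat module at a prime; descent of `(S_k)` along faithfully flat maps.
-/

namespace Groth.Agent.Lib.Helper21.FlatLocal

open TensorProduct IsLocalRing Pointwise Module

universe u

section LocFlat

variable {A B : Type u} [CommRing A] [CommRing B] [Algebra A B]
variable (q : Ideal B) [q.IsPrime]
variable (E : Type u) [AddCommGroup E] [Module B E]
variable [IsNoetherianRing A] [IsNoetherianRing B] [Module A E] [IsScalarTower A B E]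
  [Module.Finite B E] [Module.Flat A E]

/-- `(E ⊗_A A)_q ≃ E_q`. -/
noncomputable def localizedRidEquiv : LocalizedModule q.primeCompl (E ⊗[A] A) ≃ₗ[Localization.AtPrime q]
    LocalizedModule q.primeCompl E :=
  IsLocalizedModule.mapEquiv q.primeCompl (LocalizedModule.mkLinearMap q.primeCompl (E ⊗[A] A))
    (LocalizedModule.mkLinearMap q.primeCompl E) (Localization.AtPrime q)
    (AlgebraTensorModule.rid A B E)

/-- `depth E_q = depth A_p + depth (E_q / p E_q)` for `E` flat over `A` (with `A_p` as the localized
module of `A`). -/
theorem depth_loc_flat' :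
    LocCoh.depth (Localization.AtPrime q) (LocalizedModule q.primeCompl E) =
      LocCoh.depth (Localization.AtPrime (q.under A)) (LocalizedModule (q.under A).primeCompl A) +
      LocCoh.depth (Localization.AtPrime q) (EGA4.FibLocMod A B q E) := by
  have h1 : LocCoh.depth (Localization.AtPrime q) (LocalizedModule q.primeCompl (E ⊗[A] A)) =
      LocCoh.depth (Localization.AtPrime q) (LocalizedModule q.primeCompl E) :=
    DepthKit.idealDepth_congr _ (localizedRidEquiv q E)
  rw [← h1]
  exact depth_loc_tensor (q.under A) q E A

/-- `dim E_q = dim A_p + dim (E_q / p E_q)` for `E` flat over `A`. -/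
theorem supportDim_loc_flat [Nontrivial (LocalizedModule q.primeCompl E)] :
    supportDim (Localization.AtPrime q) (LocalizedModule q.primeCompl E) =
      supportDim (Localization.AtPrime (q.under A)) (LocalizedModule (q.under A).primeCompl A) +
      supportDim (Localization.AtPrime q) (EGA4.FibLocMod A B q E) := by
  have h1 : supportDim (Localization.AtPrime q) (LocalizedModule q.primeCompl (E ⊗[A] A)) =
      supportDim (Localization.AtPrime q) (LocalizedModule q.primeCompl E) :=
    supportDim_eq_of_equiv (localizedRidEquiv q E)
  rw [← h1]
  exact supportDim_loc_tensor (q.under A) q E A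

end LocFlat

section SkDescent

variable {A B : Type u} [CommRing A] [CommRing B] [Algebra A B] [IsNoetherianRing A]
  [IsNoetherianRing B]

/-- `(S_k)` descends along a faithfully flat homomorphism of Noetherian rings. -/
theorem hasSk_descent [Module.FaithfullyFlat A B] (k : ℕ) (hB : LocCoh.HasSk k B B) :
    LocCoh.HasSk k A A := by
  intro p hp
  obtain ⟨r, hr, hrp, hmin⟩ := exists_good_prime (B := A) (C := B) p
  rw [← hrp] at hmin
  have key : ∀ (p' : Ideal A) [p'.IsPrime], p' = r.under A →
      min (k : WithBot ℕ∞)
        (supportDim (Localization.AtPrime p') (LocalizedModule p'.primeCompl A)) ≤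
      ((LocCoh.depth (Localization.AtPrime p') (LocalizedModule p'.primeCompl A) : ℕ∞) :
        WithBot ℕ∞) := by
    intro p' _ h
    subst h
    have h1 := hB r
    rw [depth_loc_flat' (A := A) r B, supportDim_loc_flat (A := A) r B,
      depth_fibLocMod_eq_zero r hmin, supportDim_fibLocMod_eq_zero r hmin, add_zero, add_zero] at h1
    exact h1
  exact key p hrp.symm

end SkDescent

end Groth.Agent.Lib.Helper21.FlatLocal
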