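import Mathlib
import Groth.Agent.Lib.Helper21.DepthKit5
import Groth.Agent.S5765

/-!
# Depth toolkit, part 6 (helper21): localization of Cohen–Macaulay modules.
-/

namespace Groth.Agent.Lib.Helper21.DepthKit

open RingTheory.Sequence IsLocalRing Module Pointwise

universe u

section Local

variable {A : Type u} [CommRing A] [IsLocalRing A] [IsNoetherianRing A]
variable {M : Type u} [AddCommGroup M] [Module A M] [Module.Finite A M]

/-- For a CM module `M` and `p ∈ Supp M`: `M_p` is CM over `A_p` and
`dim M = dim M/pM + dim M_p`. -/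
theorem isCM_localizedModule_and_dim (hM : LocCoh.IsCohenMacaulayModule A M) (p : PrimeSpectrum A)
    (hp : p ∈ Module.support A M) :
    LocCoh.IsCohenMacaulayModule (Localization.AtPrime p.asIdeal)
      (LocalizedModule p.asIdeal.primeCompl M) ∧
    supportDim A M = supportDim A (M ⧸ (p.asIdeal • (⊤ : Submodule A M))) +
      supportDim (Localization.AtPrime p.asIdeal) (LocalizedModule p.asIdeal.primeCompl M) := by
  have hnt := nontrivial_of_isCM hM
  have hpm : p.asIdeal ≤ maximalIdeal A := IsLocalRing.le_maximalIdeal p.2.ne_top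
  have hntL : Nontrivial (LocalizedModule p.asIdeal.primeCompl M) := Module.mem_support_iff.1 hp
  have hntP : Nontrivial (M ⧸ (p.asIdeal • (⊤ : Submodule A M))) := by
    apply Submodule.Quotient.nontrivial_iff.2
    intro h
    apply maximalIdeal_smul_top_ne_top (A := A) (M := M)
    exact top_le_iff.1 (h.symm.le.trans (Submodule.smul_mono_left hpm))
  obtain ⟨n, hn⟩ := exists_nat_supportDim (A := A) (M := M)
  obtain ⟨c, hc⟩ := exists_nat_supportDim (A := A) (M := M ⧸ (p.asIdeal • (⊤ : Submodule A M)))
  obtain ⟨l, hl⟩ := exists_nat_supportDim (A := Localization.AtPrime p.asIdeal)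
    (M := LocalizedModule p.asIdeal.primeCompl M)
  obtain ⟨k, hk⟩ := exists_nat_depth (A := Localization.AtPrime p.asIdeal)
    (M := LocalizedModule p.asIdeal.primeCompl M)
  have h5765 := Groth.Agent.S5765.result A M p.asIdeal
  rw [hl, hc, hn] at h5765
  have h1 : l + c ≤ n := by exact_mod_cast h5765
  -- regular sequence in p
  have hr : supportDim A (M ⧸ (p.asIdeal • (⊤ : Submodule A M))) + ((n - c : ℕ) : WithBot ℕ∞) =
      supportDim A M := by
    rw [hc, hn]
    have : c + (n - c) = n := by omega
    exact_mod_cast this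
  obtain ⟨xs, hlen, hxs, hreg⟩ := exists_isWeaklyRegular_in_prime_of_isCM (n - c) M hM p hp hr
  have hregL := hreg.isRegular_of_isLocalizedModule_of_mem (Localization.AtPrime p.asIdeal)
    p.asIdeal (LocalizedModule.mkLinearMap p.asIdeal.primeCompl M) hxs
  have hmemL : ∀ y ∈ xs.map (algebraMap A (Localization.AtPrime p.asIdeal)),
      y ∈ maximalIdeal (Localization.AtPrime p.asIdeal) := by
    intro y hy
    obtain ⟨x, hx, rfl⟩ := List.mem_map.1 hy
    exact (IsLocalization.AtPrime.to_map_mem_maximal_iff _ p.asIdeal x).2 (hxs x hx)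
  have h2 := length_le_idealDepth (maximalIdeal (Localization.AtPrime p.asIdeal))
    (xs.map (algebraMap A (Localization.AtPrime p.asIdeal))) hregL.toIsWeaklyRegular hmemL
  have h2' : ((n - c : ℕ) : ℕ∞) ≤ LocCoh.depth (Localization.AtPrime p.asIdeal)
      (LocalizedModule p.asIdeal.primeCompl M) := by
    rw [List.length_map, hlen] at h2
    exact h2
  rw [hk] at h2'
  have h2'' : n - c ≤ k := by exact_mod_cast h2'
  have h3 := depth_le_supportDim (A := Localization.AtPrime p.asIdeal)
    (M := LocalizedModule p.asIdeal.primeCompl M)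
  rw [hk, hl] at h3
  have h3' : k ≤ l := by exact_mod_cast h3
  refine ⟨(isCM_iff_nat hl hk).2 (by omega), ?_⟩
  rw [hn, hc, hl]
  have : n = c + l := by omega
  exact_mod_cast this

end Local

end Groth.Agent.Lib.Helper21.DepthKit
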