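import Mathlib
import Groth.Prelude.Def_CAlg
import Groth.Prelude.Def_EGA4b
import Groth.Agent.Lib.Helper21.FlatLocal15

/-!
# Helper21 — FlatLocal16: heights along a flat homomorphism.
-/

namespace Groth.Agent.Lib.Helper21.FlatLocal

open TensorProduct IsLocalRing Pointwise Module

universe u

section Height

variable {A B : Type u} [CommRing A] [CommRing B] [Algebra A B] [IsNoetherianRing A]
  [IsNoetherianRing B] [Module.Flat A B]

theorem supportDim_localizedModule_self (q : Ideal B) [q.IsPrime] :
    supportDim (Localization.AtPrime q) (LocalizedModule q.primeCompl B) =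
      (q.height : WithBot ℕ∞) := by
  rw [supportDim_eq_of_equiv (localizedSelfEquiv q), supportDim_self_eq_ringKrullDim,
    IsLocalization.AtPrime.ringKrullDim_eq_height q (Localization.AtPrime q)]

/-- `ht q = ht (q ∩ A) + dim (B_q / p B_q)` for flat `A → B`. -/
theorem height_loc_flat (q : Ideal B) [q.IsPrime] :
    (q.height : WithBot ℕ∞) = ((q.under A).height : WithBot ℕ∞) +
      supportDim (Localization.AtPrime q) (EGA4.FibLocMod A B q B) := by
  rw [← supportDim_localizedModule_self q, ← supportDim_localizedModule_self (q.under A)]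
  exact supportDim_loc_flat (A := A) q B

theorem height_under_le (q : Ideal B) [q.IsPrime] : (q.under A).height ≤ q.height := by
  have h := height_loc_flat (A := A) q
  obtain ⟨b, hb⟩ := DepthKit.exists_nat_supportDim (A := Localization.AtPrime q)
    (M := EGA4.FibLocMod A B q B)
  rw [hb] at h
  have h2 : ((q.under A).height : WithBot ℕ∞) ≤ (q.height : WithBot ℕ∞) := by
    rw [h]
    exact le_add_of_nonneg_right (by exact_mod_cast (zero_le : (0 : ℕ∞) ≤ (b : ℕ∞)))
  exact_mod_cast h2

/-- for a prime `r` of `B` minimal over `(r ∩ A) B`, `ht r = ht (r ∩ A)`. -/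
theorem height_eq_of_minimal (r : Ideal B) [r.IsPrime]
    (hmin : r ∈ ((r.under A).map (algebraMap A B)).minimalPrimes) :
    r.height = (r.under A).height := by
  have h := height_loc_flat (A := A) r
  rw [supportDim_fibLocMod_eq_zero r hmin, add_zero] at h
  exact_mod_cast h

end Height

end Groth.Agent.Lib.Helper21.FlatLocal
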