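import Mathlib

/-!
# Helper21 — Torus1: the coaction `R → R[ι]` of a `ι`-graded ring and the twist automorphism of `R[ι]`.
-/

namespace Groth.Agent.Lib.Helper21.Torus

open DirectSum

universe u

section Ring

variable {ι : Type} [AddCommGroup ι] [DecidableEq ι]
variable {R : Type u} [CommRing R] (𝒜 : ι → AddSubgroup R) [GradedRing 𝒜]

/-- two additive maps out of a graded ring agreeing on homogeneous elements are equal -/
theorem eq_of_forall_homogeneous {T : Type*} [AddCommMonoid T] {F : Type*} [FunLike F R T]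
    [AddMonoidHomClass F R T] (f g : F)
    (h : ∀ (i : ι) (r : R), r ∈ 𝒜 i → f r = g r) (r : R) : f r = g r := by
  induction r using DirectSum.Decomposition.inductionOn 𝒜 with
  | zero => rw [map_zero, map_zero]
  | homogeneous m => exact h _ _ m.2
  | add a b ha hb => rw [map_add, map_add, ha, hb]

/-- the coaction twisted by `c : ι →+ ι`: a homogeneous `r` of degree `g` goes to `r T^{c g}`. -/
noncomputable def coactGen (c : ι →+ ι) : R →+* AddMonoidAlgebra R ι :=
  (DirectSum.toSemiring
    (fun g => (AddMonoidAlgebra.singleAddHom (c g)).comp (𝒜 g).subtype)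
    (by
      change AddMonoidAlgebra.single (c 0) (1 : R) = 1
      rw [map_zero]; rfl)
    (by
      intro i j ai aj
      change AddMonoidAlgebra.single (c (i + j)) ((ai : R) * (aj : R)) =
        AddMonoidAlgebra.single (c i) (ai : R) * AddMonoidAlgebra.single (c j) (aj : R)
      rw [AddMonoidAlgebra.single_mul_single, map_add])).comp
    (DirectSum.decomposeRingEquiv 𝒜).toRingHom

theorem coactGen_of_mem (c : ι →+ ι) {g : ι} {r : R} (hr : r ∈ 𝒜 g) :
    coactGen 𝒜 c r = AddMonoidAlgebra.single (c g) r := by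
  unfold coactGen
  rw [RingHom.comp_apply]
  change (DirectSum.toSemiring _ _ _) (DirectSum.decompose 𝒜 r) = _
  rw [DirectSum.decompose_of_mem 𝒜 hr, DirectSum.toSemiring_of]
  rfl

theorem coactGen_zero (r : R) :
    coactGen 𝒜 (0 : ι →+ ι) r = AddMonoidAlgebra.single 0 r := by
  refine eq_of_forall_homogeneous 𝒜 (coactGen 𝒜 (0 : ι →+ ι))
    (AddMonoidAlgebra.singleZeroRingHom (R := R) (M := ι)) ?_ r
  intro i r hr
  rw [coactGen_of_mem 𝒜 _ hr]
  rfl

/-- the twist ring endomorphism `r T^h ↦ (coaction r) T^h`. -/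
noncomputable def twistHom (c : ι →+ ι) : AddMonoidAlgebra R ι →+* AddMonoidAlgebra R ι :=
  AddMonoidAlgebra.liftNCRingHom (coactGen 𝒜 c) (AddMonoidAlgebra.of R ι)
    (fun _ _ => Commute.all _ _)

theorem twistHom_single (c : ι →+ ι) (h : ι) (r : R) :
    twistHom 𝒜 c (AddMonoidAlgebra.single h r) =
      coactGen 𝒜 c r * AddMonoidAlgebra.single h 1 := by
  unfold twistHom
  rw [AddMonoidAlgebra.liftNCRingHom_single]
  rfl

theorem twistHom_single_of_mem (c : ι →+ ι) (h : ι) {g : ι} {r : R} (hr : r ∈ 𝒜 g) :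
    twistHom 𝒜 c (AddMonoidAlgebra.single h r) = AddMonoidAlgebra.single (c g + h) r := by
  rw [twistHom_single, coactGen_of_mem 𝒜 c hr, AddMonoidAlgebra.single_mul_single, mul_one]

theorem twistHom_comp (c c' : ι →+ ι) (x : AddMonoidAlgebra R ι) :
    twistHom 𝒜 c (twistHom 𝒜 c' x) = twistHom 𝒜 (c + c') x := by
  have : (twistHom 𝒜 c).comp (twistHom 𝒜 c') = twistHom 𝒜 (c + c') := by
    apply AddMonoidAlgebra.ringHom_ext
    · intro r
      rw [RingHom.comp_apply]
      refine eq_of_forall_homogeneous 𝒜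
        (((twistHom 𝒜 c).comp (twistHom 𝒜 c')).comp
          (AddMonoidAlgebra.singleZeroRingHom (R := R) (M := ι)))
        ((twistHom 𝒜 (c + c')).comp (AddMonoidAlgebra.singleZeroRingHom (R := R) (M := ι))) ?_ r
      intro i r hr
      change twistHom 𝒜 c (twistHom 𝒜 c' (AddMonoidAlgebra.single 0 r)) =
        twistHom 𝒜 (c + c') (AddMonoidAlgebra.single 0 r)
      rw [twistHom_single_of_mem 𝒜 c' 0 hr, twistHom_single_of_mem 𝒜 c _ hr,
        twistHom_single_of_mem 𝒜 (c + c') 0 hr, AddMonoidHom.add_apply, add_zero, add_zero]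
    · intro m
      rw [RingHom.comp_apply, twistHom_single, map_one, one_mul, twistHom_single, map_one, one_mul,
        twistHom_single, map_one, one_mul]
  exact RingHom.congr_fun this x

theorem twistHom_zero (x : AddMonoidAlgebra R ι) : twistHom 𝒜 (0 : ι →+ ι) x = x := by
  have : twistHom 𝒜 (0 : ι →+ ι) = RingHom.id _ := by
    apply AddMonoidAlgebra.ringHom_ext
    · intro r
      rw [twistHom_single, coactGen_zero, AddMonoidAlgebra.single_mul_single, mul_one, add_zero]
      rfl
    · intro m
      rw [twistHom_single, map_one, one_mul]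
      rfl
  exact RingHom.congr_fun this x

/-- the twist automorphism of `R[ι]`. -/
noncomputable def twist (c : ι →+ ι) : AddMonoidAlgebra R ι ≃+* AddMonoidAlgebra R ι :=
  RingEquiv.ofRingHom (twistHom 𝒜 c) (twistHom 𝒜 (-c))
    (by
      refine RingHom.ext fun x => ?_
      rw [RingHom.comp_apply, RingHom.id_apply, twistHom_comp, add_neg_cancel, twistHom_zero])
    (by
      refine RingHom.ext fun x => ?_
      rw [RingHom.comp_apply, RingHom.id_apply, twistHom_comp, neg_add_cancel, twistHom_zero])

theorem twist_apply (c : ι →+ ι) (x : AddMonoidAlgebra R ι) : twist 𝒜 c x = twistHom 𝒜 c x := rfl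

end Ring

end Groth.Agent.Lib.Helper21.Torus
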