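import Mathlib
import Groth.Agent.Lib.Helper21.Torus1

/-!
# Helper21 — Torus2: the twisted `R`-algebra structure on `R[ι]` (through a copy `Tw 𝒜` of `R`) and the
`R[ι]`-linear isomorphism `R[ι] ⊗[Tw] M ≃ R[ι] ⊗[R] M` for a graded module `M`.
-/

namespace Groth.Agent.Lib.Helper21.Torus

open DirectSum TensorProduct

universe u

section Defs

variable {ι : Type} [AddCommGroup ι] [DecidableEq ι]
variable {R : Type u} [CommRing R] (𝒜 : ι → AddSubgroup R) [GradedRing 𝒜]

/-- a copy of `R`, acting on `R[ι]` through the coaction. -/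
def Tw (𝒜 : ι → AddSubgroup R) [GradedRing 𝒜] : Type u := R

noncomputable instance : CommRing (Tw 𝒜) := inferInstanceAs (CommRing R)

instance [IsNoetherianRing R] : IsNoetherianRing (Tw 𝒜) := inferInstanceAs (IsNoetherianRing R)

/-- the identity `R ≃+* Tw 𝒜`. -/
def toTw : R ≃+* Tw 𝒜 := RingEquiv.refl R

/-- the coaction `r ↦ ∑ r_g T^g`. -/
noncomputable def coact : Tw 𝒜 →+* AddMonoidAlgebra R ι :=
  (coactGen 𝒜 (AddMonoidHom.id ι) : R →+* AddMonoidAlgebra R ι)

noncomputable instance twAlgebra : Algebra (Tw 𝒜) (AddMonoidAlgebra R ι) := (coact 𝒜).toAlgebra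

theorem algebraMap_tw (t : Tw 𝒜) : algebraMap (Tw 𝒜) (AddMonoidAlgebra R ι) t = coact 𝒜 t := rfl

theorem coact_of_mem {g : ι} {r : R} (hr : r ∈ 𝒜 g) :
    coact 𝒜 (r : Tw 𝒜) = AddMonoidAlgebra.single g r :=
  (coactGen_of_mem 𝒜 (AddMonoidHom.id ι) hr :
    coactGen 𝒜 (AddMonoidHom.id ι) r = AddMonoidAlgebra.single g r)

/-- a copy of `M` as a `Tw 𝒜`-module. -/
def TwM (𝒜 : ι → AddSubgroup R) [GradedRing 𝒜] (M : Type u) : Type u := M

variable (M : Type u) [AddCommGroup M] [Module R M]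

noncomputable instance : AddCommGroup (TwM 𝒜 M) := inferInstanceAs (AddCommGroup M)

noncomputable instance : Module (Tw 𝒜) (TwM 𝒜 M) := inferInstanceAs (Module R M)

instance [Module.Finite R M] : Module.Finite (Tw 𝒜) (TwM 𝒜 M) :=
  inferInstanceAs (Module.Finite R M)

end Defs

section Twist

variable {ι : Type} [AddCommGroup ι] [DecidableEq ι]
variable {R : Type u} [CommRing R] (𝒜 : ι → AddSubgroup R) [GradedRing 𝒜]

/-- the twist as an algebra isomorphism from the standard `Tw 𝒜`-algebra `(Tw 𝒜)[ι]` to `R[ι]` with the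
coaction structure. -/
noncomputable def twistAlg : AddMonoidAlgebra (Tw 𝒜) ι ≃ₐ[Tw 𝒜] AddMonoidAlgebra R ι :=
  AlgEquiv.ofRingEquiv (f := ((twist 𝒜 (AddMonoidHom.id ι) :
    AddMonoidAlgebra R ι ≃+* AddMonoidAlgebra R ι) :
    AddMonoidAlgebra (Tw 𝒜) ι ≃+* AddMonoidAlgebra R ι)) (by
    intro t
    have h : twistHom 𝒜 (AddMonoidHom.id ι) (AddMonoidAlgebra.single 0 (t : R)) =
        coactGen 𝒜 (AddMonoidHom.id ι) (t : R) := by
      rw [twistHom_single]
      change coactGen 𝒜 (AddMonoidHom.id ι) t * 1 = _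
      rw [mul_one]
    exact h)

instance flat_tw : Module.Flat (Tw 𝒜) (AddMonoidAlgebra R ι) :=
  Module.Flat.of_linearEquiv (twistAlg 𝒜).symm.toLinearEquiv

end Twist

end Groth.Agent.Lib.Helper21.Torus
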