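import Mathlib
import Groth.Agent.Lib.Helper21.Torus2

/-!
# Helper21 — Torus3: for a graded module `M`, the `R[ι]`-linear isomorphism
`R[ι] ⊗[Tw 𝒜] M ≃ R[ι] ⊗[R] M`.
-/

namespace Groth.Agent.Lib.Helper21.Torus

open DirectSum TensorProduct

universe u

section ModTwist

variable {ι : Type} [AddCommGroup ι] [DecidableEq ι]
variable {R : Type u} [CommRing R] (𝒜 : ι → AddSubgroup R) [GradedRing 𝒜]
variable {M : Type u} [AddCommGroup M] [Module R M] (ℳ : ι → AddSubgroup M)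
  [DirectSum.Decomposition ℳ] [SetLike.GradedSMul 𝒜 ℳ]

local notation "S" => AddMonoidAlgebra R ι

/-- two additive maps out of a graded module agreeing on homogeneous elements are equal -/
theorem eq_of_forall_homogeneousM {T : Type*} [AddCommMonoid T] {F : Type*} [FunLike F M T]
    [AddMonoidHomClass F M T] (f g : F)
    (h : ∀ (i : ι) (m : M), m ∈ ℳ i → f m = g m) (m : M) : f m = g m := by
  induction m using DirectSum.Decomposition.inductionOn ℳ with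
  | zero => rw [map_zero, map_zero]
  | homogeneous m => exact h _ _ m.2
  | add a b ha hb => rw [map_add, map_add, ha, hb]

/-- `m ↦ ∑ T^g ⊗ m_g` into `R[ι] ⊗[R] M`. -/
noncomputable def coactM : M →+ S ⊗[R] M :=
  (DirectSum.toAddMonoid (fun g =>
    ((TensorProduct.mk R S M (AddMonoidAlgebra.single g 1)).toAddMonoidHom).comp
      (ℳ g).subtype)).comp (DirectSum.decomposeAddEquiv ℳ).toAddMonoidHom

theorem coactM_of_mem {g : ι} {m : M} (hm : m ∈ ℳ g) :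
    coactM (R := R) ℳ m = (AddMonoidAlgebra.single g (1 : R)) ⊗ₜ[R] m := by
  unfold coactM
  rw [AddMonoidHom.comp_apply]
  change (DirectSum.toAddMonoid _) (DirectSum.decompose ℳ m) = _
  rw [DirectSum.decompose_of_mem ℳ hm, DirectSum.toAddMonoid_of]
  rfl

/-- the identity `M → TwM 𝒜 M`. -/
def toTwM : M →+ TwM 𝒜 M := AddMonoidHom.id M

/-- `m ↦ ∑ T^{-g} ⊗ m_g` into `R[ι] ⊗[Tw 𝒜] M`. -/
noncomputable def coactM' : M →+ S ⊗[Tw 𝒜] (TwM 𝒜 M) :=
  (DirectSum.toAddMonoid (fun g =>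
    (((TensorProduct.mk (Tw 𝒜) S (TwM 𝒜 M) (AddMonoidAlgebra.single (-g) 1)).toAddMonoidHom).comp
      (toTwM 𝒜)).comp (ℳ g).subtype)).comp (DirectSum.decomposeAddEquiv ℳ).toAddMonoidHom

theorem coactM'_of_mem {g : ι} {m : M} (hm : m ∈ ℳ g) :
    coactM' 𝒜 ℳ m = (AddMonoidAlgebra.single (-g) (1 : R) : S) ⊗ₜ[Tw 𝒜] (toTwM 𝒜 m) := by
  unfold coactM'
  rw [AddMonoidHom.comp_apply]
  change (DirectSum.toAddMonoid _) (DirectSum.decompose ℳ m) = _
  rw [DirectSum.decompose_of_mem ℳ hm, DirectSum.toAddMonoid_of]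
  rfl

theorem smul_mem_add {h g : ι} {r : R} {m : M} (hr : r ∈ 𝒜 h) (hm : m ∈ ℳ g) :
    r • m ∈ ℳ (h + g) := by
  have := SetLike.GradedSMul.smul_mem (A := 𝒜) (B := ℳ) hr hm
  simpa using this

/-- semilinearity of `coactM` -/
theorem coactM_smul (r : R) (m : M) :
    coactM (R := R) ℳ (r • m) = (coactGen 𝒜 (AddMonoidHom.id ι) r) • coactM (R := R) ℳ m := by
  refine eq_of_forall_homogeneous 𝒜
    ((coactM (R := R) ℳ).comp ((smulAddHom R M).flip m))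
    (((smulAddHom S (S ⊗[R] M)).flip (coactM (R := R) ℳ m)).comp
      (coactGen 𝒜 (AddMonoidHom.id ι)).toAddMonoidHom) ?_ r
  intro h r hr
  change coactM (R := R) ℳ (r • m) = (coactGen 𝒜 (AddMonoidHom.id ι) r) • coactM (R := R) ℳ m
  refine eq_of_forall_homogeneousM ℳ
    ((coactM (R := R) ℳ).comp (smulAddHom R M r))
    ((smulAddHom S (S ⊗[R] M) (coactGen 𝒜 (AddMonoidHom.id ι) r)).comp (coactM (R := R) ℳ)) ?_ m
  intro g m hm
  change coactM (R := R) ℳ (r • m) = (coactGen 𝒜 (AddMonoidHom.id ι) r) • coactM (R := R) ℳ m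
  rw [coactM_of_mem ℳ (smul_mem_add 𝒜 ℳ hr hm), coactM_of_mem ℳ hm, coactGen_of_mem 𝒜 _ hr,
    TensorProduct.smul_tmul', smul_eq_mul, AddMonoidAlgebra.single_mul_single, mul_one,
    AddMonoidHom.id_apply, ← TensorProduct.smul_tmul, AddMonoidAlgebra.smul_single, smul_eq_mul,
    mul_one]

/-- semilinearity of `coactM'` -/
theorem coactM'_smul (r : R) (m : M) :
    coactM' 𝒜 ℳ (r • m) = (AddMonoidAlgebra.single 0 r : S) • coactM' 𝒜 ℳ m := by
  refine eq_of_forall_homogeneous 𝒜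
    ((coactM' 𝒜 ℳ).comp ((smulAddHom R M).flip m))
    (((smulAddHom S (S ⊗[Tw 𝒜] (TwM 𝒜 M))).flip (coactM' 𝒜 ℳ m)).comp
      (AddMonoidAlgebra.singleAddHom (R := R) (M := ι) 0)) ?_ r
  intro h r hr
  change coactM' 𝒜 ℳ (r • m) = (AddMonoidAlgebra.single 0 r : S) • coactM' 𝒜 ℳ m
  refine eq_of_forall_homogeneousM ℳ
    ((coactM' 𝒜 ℳ).comp (smulAddHom R M r))
    ((smulAddHom S (S ⊗[Tw 𝒜] (TwM 𝒜 M)) (AddMonoidAlgebra.single 0 r : S)).comp
      (coactM' 𝒜 ℳ)) ?_ m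
  intro g m hm
  change coactM' 𝒜 ℳ (r • m) = (AddMonoidAlgebra.single 0 r : S) • coactM' 𝒜 ℳ m
  rw [coactM'_of_mem 𝒜 ℳ (smul_mem_add 𝒜 ℳ hr hm), coactM'_of_mem 𝒜 ℳ hm]
  have h1 : toTwM 𝒜 (r • m) = (toTw 𝒜 r) • toTwM 𝒜 m := rfl
  have h2 : coact 𝒜 (toTw 𝒜 r) = AddMonoidAlgebra.single h r := coact_of_mem 𝒜 hr
  rw [h1, TensorProduct.tmul_smul, TensorProduct.smul_tmul', TensorProduct.smul_tmul',
    Algebra.smul_def, algebraMap_tw, h2, smul_eq_mul,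
    AddMonoidAlgebra.single_mul_single, AddMonoidAlgebra.single_mul_single, mul_one]
  congr 2
  abel

section Theta

/-- `coactM` as a `Tw 𝒜`-linear map -/
noncomputable def coactLin : TwM 𝒜 M →ₗ[Tw 𝒜] S ⊗[R] M where
  toFun m := coactM (R := R) ℳ m
  map_add' a b := map_add (coactM (R := R) ℳ) a b
  map_smul' t m := by
    rw [RingHom.id_apply, ← algebraMap_smul S t (coactM (R := R) ℳ m), algebraMap_tw]
    exact coactM_smul 𝒜 ℳ t m

/-- `coactM'` as an `R`-linear map -/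
noncomputable def coactLin' : M →ₗ[R] S ⊗[Tw 𝒜] (TwM 𝒜 M) where
  toFun m := coactM' 𝒜 ℳ m
  map_add' a b := map_add (coactM' 𝒜 ℳ) a b
  map_smul' r m := by
    rw [RingHom.id_apply, ← algebraMap_smul S r (coactM' 𝒜 ℳ m), coactM'_smul]
    rfl

/-- `Θ : R[ι] ⊗[Tw] M → R[ι] ⊗[R] M`. -/
noncomputable def theta : S ⊗[Tw 𝒜] (TwM 𝒜 M) →ₗ[S] S ⊗[R] M :=
  (coactLin 𝒜 ℳ).liftBaseChange S

/-- `Θ' : R[ι] ⊗[R] M → R[ι] ⊗[Tw] M`. -/
noncomputable def theta' : S ⊗[R] M →ₗ[S] S ⊗[Tw 𝒜] (TwM 𝒜 M) :=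
  (coactLin' 𝒜 ℳ).liftBaseChange S

theorem theta_tmul (s : S) (m : TwM 𝒜 M) :
    theta 𝒜 ℳ (s ⊗ₜ[Tw 𝒜] m) = s • coactM (R := R) ℳ m := rfl

theorem theta'_tmul (s : S) (m : M) :
    theta' 𝒜 ℳ (s ⊗ₜ[R] m) = s • coactM' 𝒜 ℳ m := rfl

theorem theta_coactM' (m : M) : theta 𝒜 ℳ (coactM' 𝒜 ℳ m) = (1 : S) ⊗ₜ[R] m := by
  refine eq_of_forall_homogeneousM ℳ
    ((theta 𝒜 ℳ).toAddMonoidHom.comp (coactM' 𝒜 ℳ))
    ((TensorProduct.mk R S M 1).toAddMonoidHom) ?_ m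
  intro g m hm
  change theta 𝒜 ℳ (coactM' 𝒜 ℳ m) = (1 : S) ⊗ₜ[R] m
  rw [coactM'_of_mem 𝒜 ℳ hm, theta_tmul]
  change _ • coactM (R := R) ℳ m = _
  rw [coactM_of_mem ℳ hm, TensorProduct.smul_tmul', smul_eq_mul,
    AddMonoidAlgebra.single_mul_single, mul_one, neg_add_cancel]
  rfl

theorem theta'_coactM (m : M) :
    theta' 𝒜 ℳ (coactM (R := R) ℳ m) = (1 : S) ⊗ₜ[Tw 𝒜] (toTwM 𝒜 m) := by
  refine eq_of_forall_homogeneousM ℳ
    ((theta' 𝒜 ℳ).toAddMonoidHom.comp (coactM (R := R) ℳ))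
    (((TensorProduct.mk (Tw 𝒜) S (TwM 𝒜 M) 1).toAddMonoidHom).comp (toTwM 𝒜)) ?_ m
  intro g m hm
  change theta' 𝒜 ℳ (coactM (R := R) ℳ m) = (1 : S) ⊗ₜ[Tw 𝒜] (toTwM 𝒜 m)
  rw [coactM_of_mem ℳ hm, theta'_tmul, coactM'_of_mem 𝒜 ℳ hm, TensorProduct.smul_tmul',
    smul_eq_mul, AddMonoidAlgebra.single_mul_single, mul_one, add_neg_cancel]
  rfl

/-- the twist isomorphism `R[ι] ⊗[Tw 𝒜] M ≃ R[ι] ⊗[R] M`. -/
noncomputable def thetaEquiv : (S ⊗[Tw 𝒜] (TwM 𝒜 M)) ≃ₗ[S] (S ⊗[R] M) :=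
  LinearEquiv.ofLinear (theta 𝒜 ℳ) (theta' 𝒜 ℳ)
    (by
      refine LinearMap.ext fun x => ?_
      rw [LinearMap.comp_apply, LinearMap.id_apply]
      induction x using TensorProduct.induction_on with
      | zero => rw [map_zero, map_zero]
      | add a b ha hb => rw [map_add, map_add, ha, hb]
      | tmul s m =>
        rw [theta'_tmul, map_smul, theta_coactM', TensorProduct.smul_tmul', smul_eq_mul, mul_one])
    (by
      refine LinearMap.ext fun x => ?_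
      rw [LinearMap.comp_apply, LinearMap.id_apply]
      induction x using TensorProduct.induction_on with
      | zero => rw [map_zero, map_zero]
      | add a b ha hb => rw [map_add, map_add, ha, hb]
      | tmul s m =>
        rw [theta_tmul, map_smul]
        change s • theta' 𝒜 ℳ (coactM (R := R) ℳ (m : M)) = _
        rw [theta'_coactM, TensorProduct.smul_tmul', smul_eq_mul, mul_one]
        rfl)

end Theta

end ModTwist

end Groth.Agent.Lib.Helper21.Torus
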