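import Mathlib
import Groth.Agent.Lib.Helper21.Torus3

/-!
# Helper21 — Torus4: the prime `p R[ι]` of `R[ι]`, its contractions under the standard map and the
coaction.
-/

namespace Groth.Agent.Lib.Helper21.Torus

open DirectSum TensorProduct

universe u

section Coeff

variable {ι : Type} [AddCommGroup ι]
variable {R : Type u} [CommRing R]

local notation "S" => AddMonoidAlgebra R ι

theorem ker_mapRingHom_mk (p : Ideal R) :
    RingHom.ker (AddMonoidAlgebra.mapRingHom ι (Ideal.Quotient.mk p)) =
      p.map (algebraMap R S) := by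
  apply le_antisymm
  · intro x hx
    rw [RingHom.mem_ker] at hx
    have hc : ∀ g, x.coeff g ∈ p := by
      intro g
      have := congrArg (fun y => y.coeff g) hx
      simp only [AddMonoidAlgebra.coeff_mapRingHom, AddMonoidAlgebra.coeff_zero,
        Finsupp.coe_zero, Pi.zero_apply] at this
      exact Ideal.Quotient.eq_zero_iff_mem.1 this
    rw [← AddMonoidAlgebra.sum_coeff_single x, Finsupp.sum]
    refine Ideal.sum_mem _ fun g _ => ?_
    have h1 : (AddMonoidAlgebra.single g (x.coeff g) : S) =
        algebraMap R S (x.coeff g) * AddMonoidAlgebra.single g 1 := by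
      rw [AddMonoidAlgebra.coe_algebraMap]
      simp [AddMonoidAlgebra.single_mul_single]
    rw [h1]
    exact Ideal.mul_mem_right _ _ (Ideal.mem_map_of_mem _ (hc g))
  · rw [Ideal.map_le_iff_le_comap]
    intro r hr
    rw [Ideal.mem_comap, RingHom.mem_ker, AddMonoidAlgebra.coe_algebraMap]
    simp [AddMonoidAlgebra.mapRingHom_single, Ideal.Quotient.eq_zero_iff_mem.2 hr]

theorem mem_map_iff (p : Ideal R) (x : S) :
    x ∈ p.map (algebraMap R S) ↔ ∀ g, x.coeff g ∈ p := by
  rw [← ker_mapRingHom_mk, RingHom.mem_ker]
  constructor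
  · intro hx g
    have := congrArg (fun y => y.coeff g) hx
    simp only [AddMonoidAlgebra.coeff_mapRingHom, AddMonoidAlgebra.coeff_zero,
      Finsupp.coe_zero, Pi.zero_apply] at this
    exact Ideal.Quotient.eq_zero_iff_mem.1 this
  · intro h
    ext g
    simp only [AddMonoidAlgebra.coeff_mapRingHom, AddMonoidAlgebra.coeff_zero,
      Finsupp.coe_zero, Pi.zero_apply]
    exact Ideal.Quotient.eq_zero_iff_mem.2 (h g)

end Coeff

section Free

variable {ι : Type} [AddCommGroup ι] [Module.Free ℤ ι]

instance uniqueSums_of_free : UniqueSums ι :=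
  UniqueSums.of_injective_addHom
    ((Module.Free.chooseBasis ℤ ι).repr.toAddEquiv.toAddMonoidHom : ι →+ _).toAddHom
    (Module.Free.chooseBasis ℤ ι).repr.injective inferInstance

variable {R : Type u} [CommRing R]

local notation "S" => AddMonoidAlgebra R ι

instance isPrime_map (p : Ideal R) [p.IsPrime] : (p.map (algebraMap R S)).IsPrime := by
  rw [← ker_mapRingHom_mk]
  exact RingHom.ker_isPrime _

theorem under_map (p : Ideal R) [p.IsPrime] : (p.map (algebraMap R S)).under R = p := by
  ext r
  rw [Ideal.under_def, Ideal.mem_comap, mem_map_iff, AddMonoidAlgebra.coe_algebraMap]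
  constructor
  · intro h
    have := h 0
    simpa using this
  · intro hr g
    simp only [Function.comp_apply, Algebra.algebraMap_self, RingHom.id_apply,
      AddMonoidAlgebra.coeff_single]
    by_cases hg : (0 : ι) = g
    · subst hg; simpa using hr
    · rw [Finsupp.single_eq_of_ne' hg]; exact zero_mem _

instance liesOver_map (p : Ideal R) [p.IsPrime] : (p.map (algebraMap R S)).LiesOver p :=
  ⟨(under_map p).symm⟩

end Free

end Groth.Agent.Lib.Helper21.Torus
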