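import Mathlib
import Groth.Agent.Lib.Helper21.Torus4

/-!
# Helper21 — Torus5: the contraction of `p R[ι]` under the coaction is the homogeneous core of `p`.
-/

namespace Groth.Agent.Lib.Helper21.Torus

open DirectSum TensorProduct

universe u

section Core

variable {ι : Type} [AddCommGroup ι] [DecidableEq ι]
variable {R : Type u} [CommRing R] (𝒜 : ι → AddSubgroup R) [GradedRing 𝒜]

local notation "S" => AddMonoidAlgebra R ι

theorem coeff_coactGen_id (r : R) (g : ι) :
    (coactGen 𝒜 (AddMonoidHom.id ι) r).coeff g = (DirectSum.decompose 𝒜 r g : R) := by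
  refine eq_of_forall_homogeneous 𝒜
    (((Finsupp.applyAddHom g).comp
      (AddMonoidAlgebra.coeffAddEquiv (R := R) (M := ι)).toAddMonoidHom).comp
      (coactGen 𝒜 (AddMonoidHom.id ι)).toAddMonoidHom)
    (((𝒜 g).subtype.comp (DFinsupp.evalAddMonoidHom g)).comp
      (DirectSum.decomposeAddEquiv 𝒜).toAddMonoidHom) ?_ r
  intro h r hr
  change (coactGen 𝒜 (AddMonoidHom.id ι) r).coeff g = (DirectSum.decompose 𝒜 r g : R)
  rw [coactGen_of_mem 𝒜 _ hr, AddMonoidHom.id_apply, AddMonoidAlgebra.coeff_single]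
  by_cases hg : h = g
  · subst hg
    rw [DirectSum.decompose_of_mem_same 𝒜 hr, Finsupp.single_eq_same]
  · rw [DirectSum.decompose_of_mem_ne 𝒜 hr hg, Finsupp.single_eq_of_ne' hg]

theorem mem_homogeneousCore_iff (p : Ideal R) (r : R) :
    r ∈ (Ideal.homogeneousCore 𝒜 p).toIdeal ↔ ∀ g, (DirectSum.decompose 𝒜 r g : R) ∈ p := by
  constructor
  · intro hr g
    exact Ideal.toIdeal_homogeneousCore_le 𝒜 p ((Ideal.homogeneousCore 𝒜 p).isHomogeneous g hr)
  · intro h
    classical
    rw [← DirectSum.sum_support_decompose 𝒜 r]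
    refine Ideal.sum_mem _ fun g _ => ?_
    exact Ideal.mem_homogeneousCore_of_homogeneous_of_mem ⟨g, (DirectSum.decompose 𝒜 r g).2⟩ (h g)

/-- the homogeneous core of `p`, as an ideal of `Tw 𝒜`. -/
def coreTw (p : Ideal R) : Ideal (Tw 𝒜) := (Ideal.homogeneousCore 𝒜 p).toIdeal

instance (p : Ideal R) [h : (Ideal.homogeneousCore 𝒜 p).toIdeal.IsPrime] : (coreTw 𝒜 p).IsPrime := h

theorem under_tw_map (p : Ideal R) :
    (p.map (algebraMap R S)).under (Tw 𝒜) = coreTw 𝒜 p := by
  ext t
  rw [Ideal.under_def, Ideal.mem_comap, mem_map_iff, algebraMap_tw]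
  have key : ∀ r : R, (∀ g, (coactGen 𝒜 (AddMonoidHom.id ι) r).coeff g ∈ p) ↔
      r ∈ (Ideal.homogeneousCore 𝒜 p).toIdeal := by
    intro r
    rw [mem_homogeneousCore_iff]
    simp only [coeff_coactGen_id]
  exact key t

instance liesOver_tw (p : Ideal R) : (p.map (algebraMap R S)).LiesOver (coreTw 𝒜 p) :=
  ⟨(under_tw_map 𝒜 p).symm⟩

/-- the extension of the homogeneous core under the coaction and under the standard map agree -/
theorem map_coreTw (p : Ideal R) :
    (coreTw 𝒜 p).map (algebraMap (Tw 𝒜) S) =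
      ((Ideal.homogeneousCore 𝒜 p).toIdeal).map (algebraMap R S) := by
  apply le_antisymm
  · rw [Ideal.map_le_iff_le_comap]
    intro t ht
    rw [Ideal.mem_comap, mem_map_iff, algebraMap_tw]
    intro g
    have key : ∀ r : R, r ∈ (Ideal.homogeneousCore 𝒜 p).toIdeal →
        (coactGen 𝒜 (AddMonoidHom.id ι) r).coeff g ∈ (Ideal.homogeneousCore 𝒜 p).toIdeal := by
      intro r hr
      rw [coeff_coactGen_id]
      exact (Ideal.homogeneousCore 𝒜 p).isHomogeneous g hr
    exact key t ht
  · rw [Ideal.map_le_iff_le_comap]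
    intro r hr
    rw [Ideal.mem_comap]
    classical
    rw [← DirectSum.sum_support_decompose 𝒜 r, map_sum]
    refine Ideal.sum_mem _ fun g _ => ?_
    have hg : (DirectSum.decompose 𝒜 r g : R) ∈ (Ideal.homogeneousCore 𝒜 p).toIdeal :=
      (Ideal.homogeneousCore 𝒜 p).isHomogeneous g hr
    have h1 : algebraMap R S (DirectSum.decompose 𝒜 r g : R) =
        AddMonoidAlgebra.single (-g) 1 *
          algebraMap (Tw 𝒜) S (toTw 𝒜 (DirectSum.decompose 𝒜 r g : R)) := by
      rw [algebraMap_tw]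
      have : coact 𝒜 (toTw 𝒜 (DirectSum.decompose 𝒜 r g : R)) =
          AddMonoidAlgebra.single g (DirectSum.decompose 𝒜 r g : R) :=
        coact_of_mem 𝒜 (DirectSum.decompose 𝒜 r g).2
      rw [this, AddMonoidAlgebra.single_mul_single, neg_add_cancel, one_mul,
        AddMonoidAlgebra.coe_algebraMap]
      rfl
    rw [h1]
    exact Ideal.mul_mem_left _ _ (Ideal.mem_map_of_mem _ hg)

end Core

end Groth.Agent.Lib.Helper21.Torus
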