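import Mathlib
import Groth.Prelude.Def_CAlg
import Groth.Prelude.Def_EGA4b
import Groth.Agent.Lib.Helper21.FlatLocal16
import Groth.Agent.Lib.Helper21.Torus5

/-!
# Helper21 — Torus6: comparing two flat algebra structures `A → B ← A'` at a prime of `B`.
-/

namespace Groth.Agent.Lib.Helper21.Torus

open TensorProduct Module Groth.Agent.Lib.Helper21.FlatLocal

universe u

section Abstract

variable {A A' B : Type u} [CommRing A] [CommRing A'] [CommRing B] [Algebra A B] [Algebra A' B]
  [IsNoetherianRing A] [IsNoetherianRing A'] [IsNoetherianRing B] [Module.Flat A B]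
  [Module.Flat A' B]
  (E : Type u) [AddCommGroup E] [Module A E] [Module.Finite A E]
  (E' : Type u) [AddCommGroup E'] [Module A' E'] [Module.Finite A' E']
  (θ : (B ⊗[A] E) ≃ₗ[B] (B ⊗[A'] E')) (P : Ideal B) [P.IsPrime]

/-- the localisation of `θ` at `P` -/
noncomputable def locEquiv : LocalizedModule P.primeCompl (B ⊗[A] E) ≃ₗ[Localization.AtPrime P]
    LocalizedModule P.primeCompl (B ⊗[A'] E') :=
  IsLocalizedModule.mapEquiv P.primeCompl (LocalizedModule.mkLinearMap P.primeCompl (B ⊗[A] E))
    (LocalizedModule.mkLinearMap P.primeCompl (B ⊗[A'] E')) (Localization.AtPrime P) θ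

include θ in
theorem depth_two :
    LocCoh.depth (Localization.AtPrime (P.under A)) (LocalizedModule (P.under A).primeCompl E) +
        LocCoh.depth (Localization.AtPrime P) (EGA4.FibLocMod A B P B) =
      LocCoh.depth (Localization.AtPrime (P.under A')) (LocalizedModule (P.under A').primeCompl E') +
        LocCoh.depth (Localization.AtPrime P) (EGA4.FibLocMod A' B P B) := by
  have h1 := depth_loc_tensor (P.under A) P B E
  have h2 := depth_loc_tensor (P.under A') P B E'
  have h3 : LocCoh.depth (Localization.AtPrime P) (LocalizedModule P.primeCompl (B ⊗[A] E)) =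
      LocCoh.depth (Localization.AtPrime P) (LocalizedModule P.primeCompl (B ⊗[A'] E')) :=
    DepthKit.depth_congr (locEquiv E E' θ P)
  rw [h1, h2] at h3
  exact h3

include θ in
theorem nontrivial_two [Nontrivial (LocalizedModule (P.under A).primeCompl E)] :
    Nontrivial (LocalizedModule (P.under A').primeCompl E') := by
  haveI := nontrivial_loc_tensor (A := A) P B E
  haveI : Nontrivial (LocalizedModule P.primeCompl (B ⊗[A'] E')) :=
    (locEquiv E E' θ P).symm.toEquiv.nontrivial
  by_contra hcon
  haveI : Subsingleton (LocalizedModule (P.under A').primeCompl E') :=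
    not_nontrivial_iff_subsingleton.1 hcon
  have h2 := depth_loc_tensor (P.under A') P B E'
  rw [DepthKit.depth_of_subsingleton (A := Localization.AtPrime (P.under A'))
    (M := LocalizedModule (P.under A').primeCompl E'), top_add] at h2
  haveI : Module.Finite B (B ⊗[A'] E') := FlatKit.finite_tensor B E'
  have h3 := DepthKit.depth_le_supportDim (A := Localization.AtPrime P)
    (M := LocalizedModule P.primeCompl (B ⊗[A'] E'))
  rw [h2] at h3
  exact DepthKit.supportDim_ne_top (A := Localization.AtPrime P)
    (M := LocalizedModule P.primeCompl (B ⊗[A'] E')) (top_le_iff.1 h3)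

include θ in
theorem supportDim_two [Nontrivial (LocalizedModule (P.under A).primeCompl E)] :
    supportDim (Localization.AtPrime (P.under A)) (LocalizedModule (P.under A).primeCompl E) +
        supportDim (Localization.AtPrime P) (EGA4.FibLocMod A B P B) =
      supportDim (Localization.AtPrime (P.under A')) (LocalizedModule (P.under A').primeCompl E') +
        supportDim (Localization.AtPrime P) (EGA4.FibLocMod A' B P B) := by
  haveI := nontrivial_two E E' θ P
  have h1 := supportDim_loc_tensor (P.under A) P B E
  have h2 := supportDim_loc_tensor (P.under A') P B E'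
  have h3 : supportDim (Localization.AtPrime P) (LocalizedModule P.primeCompl (B ⊗[A] E)) =
      supportDim (Localization.AtPrime P) (LocalizedModule P.primeCompl (B ⊗[A'] E')) :=
    supportDim_eq_of_equiv (locEquiv E E' θ P)
  rw [h1, h2] at h3
  exact h3

end Abstract

end Groth.Agent.Lib.Helper21.Torus
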