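import Mathlib
import Groth.Prelude.Def_CAlg
import Groth.Prelude.Def_EGA4b
import Groth.Agent.Lib.Helper21.DepthKit12
import Groth.Agent.Lib.Helper21.FlatLocal16
import Groth.Agent.Lib.Helper21.Torus6

/-!
# Helper21 — Torus7: the depth and dimension formulas `X(M_p) = X(M_{p*}) + X((R/p*)_p)` for a graded
module over a graded ring.
-/

namespace Groth.Agent.Lib.Helper21.Torus

open TensorProduct Module Groth.Agent.Lib.Helper21.FlatLocal

universe u

section Transport

variable {A : Type u} [CommRing A] (E : Type u) [AddCommGroup E] [Module A E]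

theorem depth_transport (q q' : Ideal A) [q.IsPrime] [q'.IsPrime] (h : q = q') :
    LocCoh.depth (Localization.AtPrime q) (LocalizedModule q.primeCompl E) =
      LocCoh.depth (Localization.AtPrime q') (LocalizedModule q'.primeCompl E) := by
  subst h; rfl

theorem supportDim_transport (q q' : Ideal A) [q.IsPrime] [q'.IsPrime] (h : q = q') :
    supportDim (Localization.AtPrime q) (LocalizedModule q.primeCompl E) =
      supportDim (Localization.AtPrime q') (LocalizedModule q'.primeCompl E) := by
  subst h; rfl

theorem nontrivial_transport (q q' : Ideal A) [q.IsPrime] [q'.IsPrime] (h : q = q')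
    [hn : Nontrivial (LocalizedModule q.primeCompl E)] :
    Nontrivial (LocalizedModule q'.primeCompl E) := by
  subst h; exact hn

end Transport

section Graded

variable {ι : Type} [AddCommGroup ι] [DecidableEq ι] [Module.Free ℤ ι] [Module.Finite ℤ ι]
variable {R : Type u} [CommRing R] [IsNoetherianRing R] (𝒜 : ι → AddSubgroup R) [GradedRing 𝒜]
variable {M : Type u} [AddCommGroup M] [Module R M] [Module.Finite R M] (ℳ : ι → AddSubgroup M)
  [DirectSum.Decomposition ℳ] [SetLike.GradedSMul 𝒜 ℳ]
variable (p : Ideal R) [p.IsPrime] [hcore : (Ideal.homogeneousCore 𝒜 p).toIdeal.IsPrime]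

local notation "S" => AddMonoidAlgebra R ι

instance isNoetherianRing_laurent : IsNoetherianRing S := by
  haveI : AddGroup.FG ι := Module.Finite.iff_addGroup_fg.1 inferInstance
  haveI : AddMonoid.FG ι := AddGroup.fg_iff_addMonoid_fg.1 inferInstance
  exact Algebra.FiniteType.isNoetherianRing R S

/-- the fibre term for the twisted structure at `P = p R[ι]`. -/
abbrev FibTw : Type u := EGA4.FibLocMod (Tw 𝒜) S (p.map (algebraMap R S)) S

theorem mem_minimalPrimes_map :
    p.map (algebraMap R S) ∈
      (((p.map (algebraMap R S)).under R).map (algebraMap R S)).minimalPrimes := by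
  rw [under_map p, Ideal.minimalPrimes_eq_subsingleton_self]
  rfl

include ℳ in
theorem depth_graded :
    LocCoh.depth (Localization.AtPrime p) (LocalizedModule p.primeCompl M) =
      LocCoh.depth (Localization.AtPrime (coreTw 𝒜 p))
          (LocalizedModule (coreTw 𝒜 p).primeCompl (TwM 𝒜 M)) +
        LocCoh.depth (Localization.AtPrime (p.map (algebraMap R S))) (FibTw 𝒜 p) := by
  have h := depth_two (TwM 𝒜 M) M (thetaEquiv 𝒜 ℳ) (p.map (algebraMap R S))
  rw [depth_fibLocMod_eq_zero (B := R) (p.map (algebraMap R S)) (mem_minimalPrimes_map p),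
    add_zero, depth_transport M _ p (under_map p),
    depth_transport (TwM 𝒜 M) _ (coreTw 𝒜 p) (under_tw_map 𝒜 p)] at h
  exact h.symm

include ℳ in
theorem nontrivial_graded [Nontrivial (LocalizedModule p.primeCompl M)] :
    Nontrivial (LocalizedModule (coreTw 𝒜 p).primeCompl (TwM 𝒜 M)) := by
  haveI : Nontrivial (LocalizedModule ((p.map (algebraMap R S)).under R).primeCompl M) :=
    nontrivial_transport M p _ (under_map p).symm
  haveI := nontrivial_two M (TwM 𝒜 M) (thetaEquiv 𝒜 ℳ).symm (p.map (algebraMap R S))
  exact nontrivial_transport (TwM 𝒜 M) _ (coreTw 𝒜 p) (under_tw_map 𝒜 p)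

include ℳ in
theorem supportDim_graded [Nontrivial (LocalizedModule p.primeCompl M)] :
    supportDim (Localization.AtPrime p) (LocalizedModule p.primeCompl M) =
      supportDim (Localization.AtPrime (coreTw 𝒜 p))
          (LocalizedModule (coreTw 𝒜 p).primeCompl (TwM 𝒜 M)) +
        supportDim (Localization.AtPrime (p.map (algebraMap R S))) (FibTw 𝒜 p) := by
  haveI : Nontrivial (LocalizedModule ((p.map (algebraMap R S)).under R).primeCompl M) :=
    nontrivial_transport M p _ (under_map p).symm
  have h := supportDim_two M (TwM 𝒜 M) (thetaEquiv 𝒜 ℳ).symm (p.map (algebraMap R S))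
  rw [supportDim_fibLocMod_eq_zero (B := R) (p.map (algebraMap R S)) (mem_minimalPrimes_map p),
    add_zero, supportDim_transport M _ p (under_map p),
    supportDim_transport (TwM 𝒜 M) _ (coreTw 𝒜 p) (under_tw_map 𝒜 p)] at h
  exact h

end Graded

end Groth.Agent.Lib.Helper21.Torus
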