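import Mathlib
import Groth.Prelude.Def_CAlg
import Groth.Prelude.Def_EGA4b
import Groth.Agent.Lib.Helper21.DepthKit12
import Groth.Agent.Lib.Helper21.FlatLocal16
import Groth.Agent.Lib.Helper21.Torus7

/-!
# Helper21 — Torus8: the fibre term of the twisted structure is `(R/p*)_p`.
-/

namespace Groth.Agent.Lib.Helper21.Torus

open TensorProduct Module Groth.Agent.Lib.Helper21.FlatLocal

universe u

section Graded

variable {ι : Type} [AddCommGroup ι] [DecidableEq ι] [Module.Free ℤ ι] [Module.Finite ℤ ι]
variable {R : Type u} [CommRing R] [IsNoetherianRing R] (𝒜 : ι → AddSubgroup R) [GradedRing 𝒜]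
variable (p : Ideal R) [p.IsPrime] [hcore : (Ideal.homogeneousCore 𝒜 p).toIdeal.IsPrime]

local notation "S" => AddMonoidAlgebra R ι
local notation "I" => HomogeneousIdeal.toIdeal (Ideal.homogeneousCore 𝒜 p)
local notation "P" => p.map (algebraMap R S)

theorem fibTw_ideal_eq :
    ((P).comap (algebraMap (Tw 𝒜) S)).map (algebraMap (Tw 𝒜) (Localization.AtPrime P)) =
      ((I).map (algebraMap R S)).map (algebraMap S (Localization.AtPrime P)) := by
  have h1 : (P).comap (algebraMap (Tw 𝒜) S) = coreTw 𝒜 p := under_tw_map 𝒜 p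
  rw [h1, ← map_coreTw, Ideal.map_map, ← IsScalarTower.algebraMap_eq]

/-- the fibre term as the localisation of `R[ι] ⊗ R/p*`. -/
noncomputable def fibTwEquiv :
    FibTw 𝒜 p ≃ₗ[Localization.AtPrime P] LocalizedModule (P).primeCompl (S ⊗[R] (R ⧸ I)) :=
  ((Submodule.quotEquivOfEq _ _ (by rw [fibTw_ideal_eq])).trans
    (localizedQuotEquiv (P) ((I).map (algebraMap R S))).symm).trans
    (IsLocalizedModule.mapEquiv (P).primeCompl
      (LocalizedModule.mkLinearMap (P).primeCompl (S ⧸ (I).map (algebraMap R S)))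
      (LocalizedModule.mkLinearMap (P).primeCompl (S ⊗[R] (R ⧸ I))) (Localization.AtPrime P)
      (Algebra.TensorProduct.quotIdealMapEquivTensorQuot S I).toLinearEquiv)

theorem depth_fibTw :
    LocCoh.depth (Localization.AtPrime P) (FibTw 𝒜 p) =
      LocCoh.depth (Localization.AtPrime p) (LocalizedModule p.primeCompl (R ⧸ I)) := by
  have h : LocCoh.depth (Localization.AtPrime P) (FibTw 𝒜 p) =
      LocCoh.depth (Localization.AtPrime P)
        (LocalizedModule (P).primeCompl (S ⊗[R] (R ⧸ I))) :=
    DepthKit.depth_congr (fibTwEquiv 𝒜 p)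
  rw [h, depth_loc_tensor ((P).under R) (P) S (R ⧸ I),
    depth_fibLocMod_eq_zero (B := R) (P) (mem_minimalPrimes_map p), add_zero,
    depth_transport (R ⧸ I) _ p (under_map p)]

theorem supportDim_fibTw [Nontrivial (LocalizedModule p.primeCompl (R ⧸ I))] :
    supportDim (Localization.AtPrime P) (FibTw 𝒜 p) =
      supportDim (Localization.AtPrime p) (LocalizedModule p.primeCompl (R ⧸ I)) := by
  haveI : Nontrivial (LocalizedModule ((P).under R).primeCompl (R ⧸ I)) :=
    nontrivial_transport (R ⧸ I) p _ (under_map p).symm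
  have h : supportDim (Localization.AtPrime P) (FibTw 𝒜 p) =
      supportDim (Localization.AtPrime P)
        (LocalizedModule (P).primeCompl (S ⊗[R] (R ⧸ I))) :=
    supportDim_eq_of_equiv (fibTwEquiv 𝒜 p)
  rw [h, supportDim_loc_tensor ((P).under R) (P) S (R ⧸ I),
    supportDim_fibLocMod_eq_zero (B := R) (P) (mem_minimalPrimes_map p), add_zero,
    supportDim_transport (R ⧸ I) _ p (under_map p)]

end Graded

end Groth.Agent.Lib.Helper21.Torus
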