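import Mathlib
import Groth.Prelude.Def_CAlg
import Groth.Prelude.Def_EGA4b
import Groth.Agent.Lib.Helper21.DepthKit12
import Groth.Agent.Lib.Helper21.FlatLocal16
import Groth.Agent.Lib.Helper21.Torus8

/-!
# Helper21 — Torus9: `(R/I)_p` over `R_p` versus the local ring of `R/I` at `p/I`.
-/

namespace Groth.Agent.Lib.Helper21.Torus

open TensorProduct Module Groth.Agent.Lib.Helper21.FlatLocal

universe u

section Quot

variable {R : Type u} [CommRing R] [IsNoetherianRing R] (I p : Ideal R) [p.IsPrime] (hIp : I ≤ p)

include hIp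

theorem isPrime_map_mk : (p.map (Ideal.Quotient.mk I)).IsPrime :=
  Ideal.map_isPrime_of_surjective Ideal.Quotient.mk_surjective (by rwa [Ideal.mk_ker])

theorem comap_map_mk : (p.map (Ideal.Quotient.mk I)).comap (algebraMap R (R ⧸ I)) = p := by
  change (p.map (Ideal.Quotient.mk I)).comap (Ideal.Quotient.mk I) = p
  rw [Ideal.comap_map_of_surjective _ Ideal.Quotient.mk_surjective, ← RingHom.ker_eq_comap_bot,
    Ideal.mk_ker, sup_eq_left.2 hIp]

theorem supportDim_quot_loc :
    supportDim (Localization.AtPrime p) (LocalizedModule p.primeCompl (R ⧸ I)) =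
      ((p.map (Ideal.Quotient.mk I)).height : WithBot ℕ∞) := by
  haveI := isPrime_map_mk I p hIp
  have h := DepthKit.supportDim_localization_of_surjective (A := R) (B := R ⧸ I) (N := R ⧸ I)
    Ideal.Quotient.mk_surjective (p.map (Ideal.Quotient.mk I))
  rw [supportDim_localizedModule_self] at h
  rw [← h]
  exact supportDim_transport (R ⧸ I) p _ (comap_map_mk I p hIp).symm

theorem nontrivial_quot_loc : Nontrivial (LocalizedModule p.primeCompl (R ⧸ I)) := by
  rw [← Module.supportDim_ne_bot_iff_nontrivial (Localization.AtPrime p),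
    supportDim_quot_loc I p hIp]
  exact WithBot.coe_ne_bot

theorem depth_quot_loc :
    haveI := isPrime_map_mk I p hIp
    LocCoh.depth (Localization.AtPrime p) (LocalizedModule p.primeCompl (R ⧸ I)) =
      LocCoh.depth (Localization.AtPrime (p.map (Ideal.Quotient.mk I)))
        (Localization.AtPrime (p.map (Ideal.Quotient.mk I))) := by
  haveI := isPrime_map_mk I p hIp
  have h := DepthKit.depth_localization_of_surjective (A := R) (B := R ⧸ I) (N := R ⧸ I)
    Ideal.Quotient.mk_surjective (p.map (Ideal.Quotient.mk I))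
  have h2 : LocCoh.depth (Localization.AtPrime (p.map (Ideal.Quotient.mk I)))
      (LocalizedModule (p.map (Ideal.Quotient.mk I)).primeCompl (R ⧸ I)) =
      LocCoh.depth (Localization.AtPrime (p.map (Ideal.Quotient.mk I)))
        (Localization.AtPrime (p.map (Ideal.Quotient.mk I))) :=
    DepthKit.depth_congr (localizedSelfEquiv (p.map (Ideal.Quotient.mk I)))
  rw [← h2, ← h]
  exact depth_transport (R ⧸ I) p _ (comap_map_mk I p hIp).symm

end Quot

end Groth.Agent.Lib.Helper21.Torus
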