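import Mathlib

/-!
# Helper21 — Torus10: the group algebra `A[ι]` of a finitely generated free abelian group over a regular
ring is regular.
-/

namespace Groth.Agent.Lib.Helper21.Torus

universe u

section Loc

variable {A : Type u} [CommRing A] (M : Submonoid A) (B : Type u) [CommRing B] [Algebra A B]
  [IsLocalization M B]

include M in
theorem isRegularRing_of_isLocalization [IsRegularRing A] : IsRegularRing B := by
  haveI : IsNoetherianRing B := IsLocalization.isNoetherianRing M B inferInstance
  rw [isRegularRing_iff]
  intro q hq
  haveI : IsLocalization.AtPrime (Localization.AtPrime q) (q.comap (algebraMap A B)) :=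
    IsLocalization.isLocalization_isLocalization_atPrime_isLocalization M
      (Localization.AtPrime q) q
  exact IsRegularLocalRing.of_ringEquiv
    (IsLocalization.algEquiv (q.comap (algebraMap A B)).primeCompl
      (Localization.AtPrime (q.comap (algebraMap A B))) (Localization.AtPrime q)).toRingEquiv

end Loc

section Laurent

open LaurentPolynomial Polynomial

theorem isRegularRing_laurent (A : Type u) [CommRing A] [IsRegularRing A] :
    IsRegularRing (AddMonoidAlgebra A ℤ) :=
  isRegularRing_of_isLocalization (Submonoid.powers (X : A[X])) (LaurentPolynomial A)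

theorem isRegularRing_pi_int (I : Type) [Finite I] :
    ∀ (A : Type u) [CommRing A] [IsRegularRing A], IsRegularRing (AddMonoidAlgebra A (I → ℤ)) := by
  induction I using Finite.induction_empty_option with
  | of_equiv e H =>
    intro A _ _
    haveI := H A
    exact IsRegularRing.of_ringEquiv
      (AddMonoidAlgebra.mapDomainRingEquiv A (LinearEquiv.funCongrLeft ℤ ℤ e.symm).toAddEquiv)
  | h_empty =>
    intro A _ _
    exact IsRegularRing.of_ringEquiv (AddMonoidAlgebra.uniqueRingEquiv (R := A)
      (M := PEmpty → ℤ)).symm
  | h_option H =>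
    rename_i α _
    intro A _ _
    haveI := H A
    haveI := isRegularRing_laurent (AddMonoidAlgebra A (α → ℤ))
    have e1 : AddMonoidAlgebra A (Option α → ℤ) ≃+* AddMonoidAlgebra A (ℤ × (α → ℤ)) :=
      AddMonoidAlgebra.mapDomainRingEquiv A
        (RingEquiv.piOptionEquivProd (R := fun _ : Option α => ℤ)).toAddEquiv
    have e2 : AddMonoidAlgebra A (ℤ × (α → ℤ)) ≃+*
        AddMonoidAlgebra (AddMonoidAlgebra A (α → ℤ)) ℤ := AddMonoidAlgebra.curryRingEquiv
    exact IsRegularRing.of_ringEquiv (e1.trans e2).symm

theorem isRegularRing_of_free (ι : Type) [AddCommGroup ι] [Module.Free ℤ ι] [Module.Finite ℤ ι]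
    (A : Type u) [CommRing A] [IsRegularRing A] : IsRegularRing (AddMonoidAlgebra A ι) := by
  haveI := isRegularRing_pi_int (Module.Free.ChooseBasisIndex ℤ ι) A
  exact IsRegularRing.of_ringEquiv
    (AddMonoidAlgebra.mapDomainRingEquiv A
      (Module.Free.chooseBasis ℤ ι).equivFun.toAddEquiv).symm

end Laurent

end Groth.Agent.Lib.Helper21.Torus
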