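import Mathlib
import Groth.Prelude.Def_CAlg
import Groth.Prelude.Def_EGA4b
import Groth.Agent.S10834
import Groth.Agent.Lib.Helper21.FlatLocal11
import Groth.Agent.Lib.Helper21.Torus9
import Groth.Agent.Lib.Helper21.Torus10

/-!
# Helper21 — Torus11: the fibre term of the twisted structure is Cohen–Macaulay.
-/

namespace Groth.Agent.Lib.Helper21.Torus

open TensorProduct Module Groth.Agent.Lib.Helper21.FlatLocal

universe u

section CM

variable {ι : Type} [AddCommGroup ι] [DecidableEq ι] [Module.Free ℤ ι] [Module.Finite ℤ ι]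
variable {R : Type u} [CommRing R] [IsNoetherianRing R] (𝒜 : ι → AddSubgroup R) [GradedRing 𝒜]
variable (p : Ideal R) [p.IsPrime] [hcore : (Ideal.homogeneousCore 𝒜 p).toIdeal.IsPrime]

local notation "S" => AddMonoidAlgebra R ι
local notation "P" => p.map (algebraMap R S)

/-- the fibre ring of the coaction over the homogeneous core is a Laurent polynomial ring over a field,
hence regular. -/
theorem isRegularRing_fiber : IsRegularRing ((coreTw 𝒜 p).Fiber S) := by
  haveI : IsRegularRing (AddMonoidAlgebra (coreTw 𝒜 p).ResidueField ι) :=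
    isRegularRing_of_free ι _
  let e1 : (coreTw 𝒜 p).ResidueField ⊗[Tw 𝒜] S ≃ₐ[Tw 𝒜]
      (coreTw 𝒜 p).ResidueField ⊗[Tw 𝒜] (AddMonoidAlgebra (Tw 𝒜) ι) :=
    Algebra.TensorProduct.congr AlgEquiv.refl (twistAlg 𝒜).symm
  let e2 : (coreTw 𝒜 p).ResidueField ⊗[Tw 𝒜] (AddMonoidAlgebra (Tw 𝒜) ι) ≃ₐ[(coreTw 𝒜 p).ResidueField]
      AddMonoidAlgebra (coreTw 𝒜 p).ResidueField ι :=
    AddMonoidAlgebra.scalarTensorEquiv (Tw 𝒜) (coreTw 𝒜 p).ResidueField
  exact IsRegularRing.of_ringEquiv (e1.toRingEquiv.trans e2.toRingEquiv).symm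

theorem isCM_fibTw :
    LocCoh.IsCohenMacaulayModule (Localization.AtPrime P) (FibTw 𝒜 p) := by
  obtain ⟨Q, hQ, hQP⟩ := exists_fiber_prime (coreTw 𝒜 p) (P) (under_tw_map 𝒜 p)
  haveI := hQ
  rw [← isCM_fiber_loc_iff (coreTw 𝒜 p) Q (P) hQP]
  haveI := isRegularRing_fiber 𝒜 p
  have hCM := Groth.Agent.S10834.isCM_of_isRegularLocalRing (Localization.AtPrime Q)
  exact { supportDim_eq_depth := hCM }

theorem depth_fibTw_eq (d : ℕ)
    (hd : (p.map (Ideal.Quotient.mk (Ideal.homogeneousCore 𝒜 p).toIdeal)).height = d) :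
    LocCoh.depth (Localization.AtPrime P) (FibTw 𝒜 p) = d := by
  have hIp : (Ideal.homogeneousCore 𝒜 p).toIdeal ≤ p := Ideal.toIdeal_homogeneousCore_le 𝒜 p
  haveI := nontrivial_quot_loc _ p hIp
  have h1 : supportDim (Localization.AtPrime P) (FibTw 𝒜 p) = ((d : ℕ∞) : WithBot ℕ∞) := by
    rw [supportDim_fibTw, supportDim_quot_loc _ p hIp, hd]
  have h2 := isCM_fibTw 𝒜 p
  unfold LocCoh.IsCohenMacaulayModule at h2
  rw [h1] at h2
  exact (WithBot.coe_injective h2).symm

end CM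

end Groth.Agent.Lib.Helper21.Torus
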