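import Mathlib
import Groth.Prelude.Def_CAlg
import Groth.Agent.S13232
import Groth.Agent.S13234
import Groth.Agent.Lib.Helper21.DepthKit6
import Groth.Agent.Lib.Helper21.DepthKit13
import Groth.Agent.Lib.Helper21.FlatLocal8

set_option autoImplicit false
universe u
open DirectSum

namespace Groth.Agent.Lib.Helper21.GrCMVertex

open Groth.Agent.Lib.Helper21.FlatLocal Groth.Agent.Lib.Helper21 Module

variable {R : Type u} [CommRing R] [IsNoetherianRing R]

/-- `R_q` is Cohen–Macaulay, phrased with the localized module of `R`. -/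
def CMloc (q : Ideal R) [q.IsPrime] : Prop :=
  Module.supportDim (Localization.AtPrime q) (LocalizedModule q.primeCompl R) =
    ((LocCoh.depth (Localization.AtPrime q) (LocalizedModule q.primeCompl R) : ℕ∞) : WithBot ℕ∞)

theorem cmloc_iff (q : Ideal R) [q.IsPrime] :
    CMloc q ↔ LocCoh.IsCohenMacaulayLocalRing (Localization.AtPrime q) := by
  have h1 : LocCoh.depth (Localization.AtPrime q) (LocalizedModule q.primeCompl R) =
      LocCoh.depth (Localization.AtPrime q) (Localization.AtPrime q) :=
    DepthKit.depth_congr (localizedSelfEquiv q)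
  have h2 : Module.supportDim (Localization.AtPrime q) (LocalizedModule q.primeCompl R) =
      Module.supportDim (Localization.AtPrime q) (Localization.AtPrime q) :=
    supportDim_eq_of_equiv (localizedSelfEquiv q)
  unfold CMloc
  rw [h1, h2]
  constructor
  · intro h
    exact { supportDim_eq_depth := h }
  · intro h
    exact h.supportDim_eq_depth

theorem withBot_enat_add_nat_cancel {a b : WithBot ℕ∞} (d : ℕ)
    (h : a + (d : WithBot ℕ∞) = b + (d : WithBot ℕ∞)) : a = b := by
  induction a using WithBot.recBotCoe with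
  | bot =>
    induction b using WithBot.recBotCoe with
    | bot => rfl
    | coe b =>
      rw [WithBot.bot_add] at h
      exact absurd h.symm (by
        have : ((b : WithBot ℕ∞) + (d : WithBot ℕ∞)) = ((b + d : ℕ∞) : WithBot ℕ∞) := by
          push_cast; rfl
        rw [this]; exact WithBot.coe_ne_bot)
  | coe a =>
    induction b using WithBot.recBotCoe with
    | bot =>
      rw [WithBot.bot_add] at h
      exact absurd h (by
        have : ((a : WithBot ℕ∞) + (d : WithBot ℕ∞)) = ((a + d : ℕ∞) : WithBot ℕ∞) := by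
          push_cast; rfl
        rw [this]; exact WithBot.coe_ne_bot)
    | coe b =>
      have h1 : ((a : WithBot ℕ∞) + (d : WithBot ℕ∞)) = ((a + d : ℕ∞) : WithBot ℕ∞) := by
        push_cast; rfl
      have h2 : ((b : WithBot ℕ∞) + (d : WithBot ℕ∞)) = ((b + d : ℕ∞) : WithBot ℕ∞) := by
        push_cast; rfl
      rw [h1, h2, WithBot.coe_inj] at h
      rw [(ENat.add_left_injective_of_ne_top (ENat.coe_ne_top d)) h]

theorem cmloc_of_le (m : Ideal R) [m.IsPrime] (q : Ideal R) [q.IsPrime] (hle : q ≤ m)
    (hm : CMloc m) : CMloc q := by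
  set A := Localization.AtPrime m with hA
  have hdisj : Disjoint (m.primeCompl : Set R) (q : Set R) := by
    rw [Set.disjoint_left]
    intro x hx hxq
    exact hx (hle hxq)
  set P := q.map (algebraMap R A) with hP
  haveI hPprime : P.IsPrime := IsLocalization.isPrime_of_isPrime_disjoint m.primeCompl A q
    inferInstance hdisj
  have hcomap : q = P.comap (algebraMap R A) :=
    (IsLocalization.comap_map_of_isPrime_disjoint m.primeCompl A inferInstance hdisj).symm
  have hCM : LocCoh.IsCohenMacaulayModule A A :=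
    ((cmloc_iff m).1 hm).supportDim_eq_depth
  have hsupp : (⟨P, hPprime⟩ : PrimeSpectrum A) ∈ Module.support A A := by
    rw [Module.mem_support_iff]
    exact (localizedSelfEquiv P).toEquiv.nontrivial
  have h := (DepthKit.isCM_localizedModule_and_dim hCM ⟨P, hPprime⟩ hsupp).1
  have hd := DepthKit.depth_localization_of_isLocalization' m.primeCompl
    (Algebra.linearMap R A) P q hcomap
  have hs := DepthKit.supportDim_localization_of_isLocalization' m.primeCompl
    (Algebra.linearMap R A) P q hcomap
  unfold CMloc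
  rw [hd, hs]
  exact h

section Graded

variable (𝒜 : ℤ → AddSubgroup R) [GradedRing 𝒜]

theorem isPrime_core (q : Ideal R) [hq : q.IsPrime] :
    (Ideal.homogeneousCore 𝒜 q).toIdeal.IsPrime :=
  Ideal.IsPrime.homogeneousCore hq

theorem cmloc_iff_core (q : Ideal R) [q.IsPrime] [(Ideal.homogeneousCore 𝒜 q).toIdeal.IsPrime] :
    CMloc q ↔ CMloc (Ideal.homogeneousCore 𝒜 q).toIdeal := by
  set qs := (Ideal.homogeneousCore 𝒜 q).toIdeal with hqs
  have hle : qs ≤ q := Ideal.toIdeal_homogeneousCore_le 𝒜 q
  haveI : (q.map (Ideal.Quotient.mk qs)).IsPrime :=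
    Ideal.map_isPrime_of_surjective Ideal.Quotient.mk_surjective (by rwa [Ideal.mk_ker])
  have hfin : (q.map (Ideal.Quotient.mk qs)).height ≠ ⊤ :=
    Ideal.height_ne_top (Ideal.IsPrime.ne_top inferInstance)
  obtain ⟨d, hd⟩ := ENat.ne_top_iff_exists.1 hfin
  have hnt : Nontrivial (LocalizedModule q.primeCompl R) :=
    (localizedSelfEquiv q).toEquiv.nontrivial
  have h1 := Groth.Agent.S13232.result R 𝒜 R 𝒜 q d hd.symm hnt
  have h2 := Groth.Agent.S13234.result R 𝒜 R 𝒜 q d hd.symm
  unfold CMloc
  rw [h1, h2]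
  push_cast
  constructor
  · intro h
    exact withBot_enat_add_nat_cancel d h
  · intro h
    rw [h]

theorem core_le_of_homogeneous_mem (q : Ideal R) [q.IsPrime] (m : Ideal R)
    (hmm : ∀ (n : ℤ) (y : R), y ∈ 𝒜 n → ¬ IsUnit y → y ∈ m) :
    (Ideal.homogeneousCore 𝒜 q).toIdeal ≤ m := by
  change Ideal.span _ ≤ m
  rw [Ideal.span_le]
  rintro _ ⟨⟨y, n, hy⟩, hyq, rfl⟩
  refine hmm n y hy fun hu => ?_
  exact (Ideal.IsPrime.ne_top ‹q.IsPrime›) (Ideal.eq_top_of_isUnit_mem q hyq hu)

theorem isCM_iff_vertex (m : Ideal R) [m.IsPrime]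
    (hmm : ∀ (n : ℤ) (y : R), y ∈ 𝒜 n → ¬ IsUnit y → y ∈ m) :
    LocCoh.IsCohenMacaulayRing R ↔
      LocCoh.IsCohenMacaulayLocalRing (Localization.AtPrime m) := by
  constructor
  · intro h
    exact h.isCohenMacaulayLocalRing_localization m
  · intro h
    refine { isCohenMacaulayLocalRing_localization := fun q hq => ?_ }
    haveI := isPrime_core 𝒜 q
    rw [← cmloc_iff, cmloc_iff_core 𝒜 q]
    exact cmloc_of_le m _ (core_le_of_homogeneous_mem 𝒜 q m hmm) ((cmloc_iff m).2 h)

end Graded

end Groth.Agent.Lib.Helper21.GrCMVertex
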