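import Mathlib
import Groth.Prelude.Def_CAlg
import Groth.Agent.Lib.Helper21.GrCMVertex
import Groth.Agent.Lib.Helper21.FlatLocal15
import Groth.Agent.Lib.Helper21.DepthKit12
import Groth.Agent.S10834

set_option autoImplicit false
universe u

namespace Groth.Agent.Lib.Helper21.CMKit

open Groth.Agent.Lib.Helper21.FlatLocal Groth.Agent.Lib.Helper21 Module
open Groth.Agent.Lib.Helper21.GrCMVertex

/-- a regular ring is Cohen–Macaulay. -/
theorem isCM_of_isRegularRing (R : Type u) [CommRing R] [IsRegularRing R] :
    LocCoh.IsCohenMacaulayRing R where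
  isCohenMacaulayLocalRing_localization := fun p _ =>
    { supportDim_eq_depth := Groth.Agent.S10834.isCM_of_isRegularLocalRing (Localization.AtPrime p) }

section Equiv

variable {R R' : Type u} [CommRing R] [CommRing R'] [IsNoetherianRing R] [IsNoetherianRing R']

theorem cmloc_of_ringEquiv (e : R ≃+* R') (P : Ideal R') [P.IsPrime] (p : Ideal R) [p.IsPrime]
    (hp : p = P.comap (e : R →+* R')) (h : CMloc p) : CMloc P := by
  subst hp
  letI : Algebra R R' := (e : R →+* R').toAlgebra
  have hs : Function.Surjective (algebraMap R R') := e.surjective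
  have hd := DepthKit.depth_localization_of_surjective (A := R) (B := R') (N := R') hs P
  have hsd := DepthKit.supportDim_localization_of_surjective (A := R) (B := R') (N := R') hs P
  have hsm : ∀ (a x : R), e (a • x) = a • e x := fun a x => by
    change e (a * x) = (algebraMap R R' a) * e x
    rw [map_mul]; rfl
  let l : R ≃ₗ[R] R' :=
    { e.toAddEquiv with map_smul' := hsm }
  let L := IsLocalizedModule.mapEquiv (P.comap (algebraMap R R')).primeCompl
    (LocalizedModule.mkLinearMap (P.comap (algebraMap R R')).primeCompl R)
    (LocalizedModule.mkLinearMap (P.comap (algebraMap R R')).primeCompl R')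
    (Localization.AtPrime (P.comap (algebraMap R R'))) l
  have hd2 : LocCoh.depth (Localization.AtPrime (P.comap (algebraMap R R')))
      (LocalizedModule (P.comap (algebraMap R R')).primeCompl R) =
      LocCoh.depth (Localization.AtPrime (P.comap (algebraMap R R')))
      (LocalizedModule (P.comap (algebraMap R R')).primeCompl R') := DepthKit.depth_congr L
  have hsd2 : supportDim (Localization.AtPrime (P.comap (algebraMap R R')))
      (LocalizedModule (P.comap (algebraMap R R')).primeCompl R) =
      supportDim (Localization.AtPrime (P.comap (algebraMap R R')))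
      (LocalizedModule (P.comap (algebraMap R R')).primeCompl R') := supportDim_eq_of_equiv L
  unfold CMloc at h ⊢
  rw [← hd, ← hsd, ← hd2, ← hsd2]
  exact h

theorem isCM_of_ringEquiv (e : R ≃+* R') (h : LocCoh.IsCohenMacaulayRing R) :
    LocCoh.IsCohenMacaulayRing R' where
  isCohenMacaulayLocalRing_localization := fun P hP => by
    haveI : (P.comap (e : R →+* R')).IsPrime := Ideal.comap_isPrime _ _
    rw [← cmloc_iff]
    exact cmloc_of_ringEquiv e P _ rfl
      ((cmloc_iff _).2 (h.isCohenMacaulayLocalRing_localization _))

end Equiv

section Ascent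

variable {A B : Type u} [CommRing A] [CommRing B] [Algebra A B] [IsNoetherianRing A]
  [IsNoetherianRing B] [Module.Flat A B]

/-- Cohen–Macaulayness ascends along a flat map all of whose fibres are zero-dimensional. -/
theorem isCM_of_flat_of_minimal (h : LocCoh.IsCohenMacaulayRing A)
    (hmin : ∀ (r : Ideal B) [r.IsPrime], r ∈ ((r.under A).map (algebraMap A B)).minimalPrimes) :
    LocCoh.IsCohenMacaulayRing B where
  isCohenMacaulayLocalRing_localization := fun r hr => by
    rw [← cmloc_iff]
    haveI : Nontrivial (LocalizedModule r.primeCompl B) :=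
      (localizedSelfEquiv r).toEquiv.nontrivial
    unfold CMloc
    rw [depth_loc_flat' (A := A) r B, supportDim_loc_flat (A := A) r B,
      depth_fibLocMod_eq_zero r (hmin r), supportDim_fibLocMod_eq_zero r (hmin r), add_zero,
      add_zero]
    exact (cmloc_iff (r.under A)).2 (h.isCohenMacaulayLocalRing_localization _)

theorem isCM_of_flat_of_isIntegral [Algebra.IsIntegral A B] (h : LocCoh.IsCohenMacaulayRing A) :
    LocCoh.IsCohenMacaulayRing B :=
  isCM_of_flat_of_minimal h fun r _ => Ideal.IsIntegral.mem_minimalPrimes_map_under r

end Ascent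

end Groth.Agent.Lib.Helper21.CMKit
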