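import Mathlib
import Groth.Prelude.Def_CAlg
import Groth.Prelude.Def_EGA4b
import Groth.Agent.Lib.Helper21.CMKit
import Groth.Agent.Lib.Helper21.DepthKit15
import Groth.Agent.Lib.Helper21.FlatLocal15
import Groth.Agent.S2606

set_option autoImplicit false
universe u

namespace Groth.Agent.Lib.Helper21.CMFibKit

open Groth.Agent.Lib.Helper21.FlatLocal Groth.Agent.Lib.Helper21 Module TensorProduct
open Groth.Agent.Lib.Helper21.GrCMVertex

section Congr

variable {R : Type u} [CommRing R] {M N : Type u} [AddCommGroup M] [Module R M]
  [AddCommGroup N] [Module R N]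

/-- the localization of a linear equivalence at a prime. -/
noncomputable def locEquivOfEquiv (e : M ≃ₗ[R] N) (q : Ideal R) [q.IsPrime] :
    LocalizedModule q.primeCompl M ≃ₗ[Localization.AtPrime q] LocalizedModule q.primeCompl N :=
  IsLocalizedModule.mapEquiv q.primeCompl (LocalizedModule.mkLinearMap q.primeCompl M)
    (LocalizedModule.mkLinearMap q.primeCompl N) (Localization.AtPrime q) e

theorem depth_loc_congr (e : M ≃ₗ[R] N) (q : Ideal R) [q.IsPrime] :
    LocCoh.depth (Localization.AtPrime q) (LocalizedModule q.primeCompl M) =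
      LocCoh.depth (Localization.AtPrime q) (LocalizedModule q.primeCompl N) :=
  DepthKit.idealDepth_congr _ (locEquivOfEquiv e q)

theorem supportDim_loc_congr (e : M ≃ₗ[R] N) (q : Ideal R) [q.IsPrime] :
    supportDim (Localization.AtPrime q) (LocalizedModule q.primeCompl M) =
      supportDim (Localization.AtPrime q) (LocalizedModule q.primeCompl N) :=
  supportDim_eq_of_equiv (locEquivOfEquiv e q)

theorem hasSkAt_congr [Module.Finite R M] [Module.Finite R N] (e : M ≃ₗ[R] N) (k : ℕ)
    (p : Ideal R) [p.IsPrime] : EGA4.HasSkAt k R M p ↔ EGA4.HasSkAt k R N p := by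
  rw [DepthKit.hasSkAt_iff, DepthKit.hasSkAt_iff]
  refine forall_congr' fun q => forall_congr' fun hq => forall_congr' fun _ => ?_
  rw [depth_loc_congr e q, supportDim_loc_congr e q]

end Congr

section Fib

variable {A B : Type u} [CommRing A] [CommRing B] [Algebra A B] [IsNoetherianRing A]
  [IsNoetherianRing B] [Module.Flat A B]

/-- ascent of the `(S_n)` inequality along a flat map with Cohen–Macaulay fibres. -/
theorem skIneq_ascent (n : ℕ) (r : Ideal B) [r.IsPrime]
    (hfib : LocCoh.IsCohenMacaulayModule (Localization.AtPrime r) (EGA4.FibLocMod A B r B))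
    (hA : min (n : WithBot ℕ∞) (supportDim (Localization.AtPrime (r.under A))
        (LocalizedModule (r.under A).primeCompl A)) ≤
      ((LocCoh.depth (Localization.AtPrime (r.under A))
        (LocalizedModule (r.under A).primeCompl A) : ℕ∞) : WithBot ℕ∞)) :
    min (n : WithBot ℕ∞) (supportDim (Localization.AtPrime r)
        (LocalizedModule r.primeCompl B)) ≤
      ((LocCoh.depth (Localization.AtPrime r) (LocalizedModule r.primeCompl B) : ℕ∞) :
        WithBot ℕ∞) := by
  have hX : min (n : WithBot ℕ∞) (supportDim (Localization.AtPrime r) (EGA4.FibLocMod A B r B)) ≤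
      ((LocCoh.depth (Localization.AtPrime r) (EGA4.FibLocMod A B r B) : ℕ∞) : WithBot ℕ∞) := by
    unfold LocCoh.IsCohenMacaulayModule at hfib
    rw [hfib]
    exact min_le_right _ _
  have h := sk_ineq_of_fibre_ineq r B A n hX hA
  rw [depth_loc_congr (AlgebraTensorModule.rid A B B) r,
    supportDim_loc_congr (AlgebraTensorModule.rid A B B) r] at h
  exact h

/-- `(S_n)` at `q'` and at `q' ∩ A` are equivalent, for a flat map with Cohen–Macaulay fibres. -/
theorem hasSkAt_iff_of_CM_fibres (n : ℕ)
    (hfib : ∀ (r : Ideal B) [r.IsPrime],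
      LocCoh.IsCohenMacaulayModule (Localization.AtPrime r) (EGA4.FibLocMod A B r B))
    (q' : Ideal B) [q'.IsPrime] :
    EGA4.HasSkAt n A A (q'.comap (algebraMap A B)) ↔ EGA4.HasSkAt n B B q' := by
  constructor
  · intro h
    rw [DepthKit.hasSkAt_iff] at h ⊢
    intro r hr hle
    exact skIneq_ascent n r (hfib r) (h (r.under A) (Ideal.comap_mono hle))
  · intro h
    haveI : Module.Finite B (B ⊗[A] A) := Module.Finite.equiv (AlgebraTensorModule.rid A B B).symm
    have h' : EGA4.HasSkAt n B (B ⊗[A] A) q' :=
      (hasSkAt_congr (AlgebraTensorModule.rid A B B) n q').2 h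
    have hsupp : (⟨q', inferInstance⟩ : PrimeSpectrum B) ∈ Module.support B B := by
      rw [Module.mem_support_iff]
      exact (localizedSelfEquiv q').toEquiv.nontrivial
    exact Groth.Agent.S2606.result n A B A B ⟨q', inferInstance⟩ hsupp h'

/-- equality of codepths for a flat map with Cohen–Macaulay fibres. -/
theorem codepth_eq_of_CM_fibres (q' : Ideal B) [q'.IsPrime]
    (hfib : LocCoh.IsCohenMacaulayModule (Localization.AtPrime q') (EGA4.FibLocMod A B q' B)) :
    ringKrullDim (Localization.AtPrime (q'.comap (algebraMap A B))) +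
        ((LocCoh.depth (Localization.AtPrime q') (Localization.AtPrime q') : ℕ∞) : WithBot ℕ∞) =
      ringKrullDim (Localization.AtPrime q') +
        ((LocCoh.depth (Localization.AtPrime (q'.comap (algebraMap A B)))
          (Localization.AtPrime (q'.comap (algebraMap A B))) : ℕ∞) : WithBot ℕ∞) := by
  haveI : Nontrivial (LocalizedModule q'.primeCompl B) :=
    (localizedSelfEquiv q').toEquiv.nontrivial
  have hd := depth_loc_flat' (A := A) q' B
  have hs := supportDim_loc_flat (A := A) q' B
  have h1 : LocCoh.depth (Localization.AtPrime q') (LocalizedModule q'.primeCompl B) =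
      LocCoh.depth (Localization.AtPrime q') (Localization.AtPrime q') :=
    DepthKit.depth_congr (localizedSelfEquiv q')
  have h2 : supportDim (Localization.AtPrime q') (LocalizedModule q'.primeCompl B) =
      supportDim (Localization.AtPrime q') (Localization.AtPrime q') :=
    supportDim_eq_of_equiv (localizedSelfEquiv q')
  have h3 : LocCoh.depth (Localization.AtPrime (q'.under A))
      (LocalizedModule (q'.under A).primeCompl A) =
      LocCoh.depth (Localization.AtPrime (q'.under A)) (Localization.AtPrime (q'.under A)) :=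
    DepthKit.depth_congr (localizedSelfEquiv (q'.under A))
  have h4 : supportDim (Localization.AtPrime (q'.under A))
      (LocalizedModule (q'.under A).primeCompl A) =
      supportDim (Localization.AtPrime (q'.under A)) (Localization.AtPrime (q'.under A)) :=
    supportDim_eq_of_equiv (localizedSelfEquiv (q'.under A))
  rw [h1, h3] at hd
  rw [h2, h4, supportDim_self_eq_ringKrullDim, supportDim_self_eq_ringKrullDim] at hs
  unfold LocCoh.IsCohenMacaulayModule at hfib
  change ringKrullDim (Localization.AtPrime (q'.under A)) + _ = _ + ((LocCoh.depth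
    (Localization.AtPrime (q'.under A)) (Localization.AtPrime (q'.under A)) : ℕ∞) : WithBot ℕ∞)
  rw [hd, hs, hfib]
  push_cast
  rw [add_assoc]
  congr 1
  exact add_comm _ _

end Fib

end Groth.Agent.Lib.Helper21.CMFibKit
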