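import Mathlib
import Groth.Agent.S2699
import Groth.Agent.Lib.Helper21.DepthKit12
import Groth.Agent.Lib.Helper21.GrCMVertex

set_option autoImplicit false
universe u

namespace Groth.Agent.Lib.Helper21.FibreBCAlg

open Groth.Agent.Lib.Helper21 Groth.Agent.Lib.Helper21.CMKit Groth.Agent.Lib.Helper21.CMFibKit
open Groth.Agent.Lib.Helper21.FlatLocal
open TensorProduct IsLocalRing

/-- the fibre rings of `S → S ⊗_k k'` are Cohen–Macaulay (essentially finite type version). -/
theorem isCM_fiber' (k S k' : Type u) [Field k] [CommRing S] [Algebra k S] [IsNoetherianRing S]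
    [Field k'] [Algebra k k']
    (hft : Algebra.EssFiniteType k S ∨ Algebra.EssFiniteType k k') [IsNoetherianRing (S ⊗[k] k')]
    (p : Ideal S) [p.IsPrime] : LocCoh.IsCohenMacaulayRing (p.Fiber (S ⊗[k] k')) := by
  haveI := isNoetherianRing_fiber (R := S) (S := S ⊗[k] k') p
  let e : p.ResidueField ⊗[S] (S ⊗[k] k') ≃ₐ[p.ResidueField] p.ResidueField ⊗[k] k' :=
    Algebra.TensorProduct.cancelBaseChange k S p.ResidueField p.ResidueField k'
  have h1 : LocCoh.IsCohenMacaulayRing (p.ResidueField ⊗[k] k') := by
    rcases hft with h | h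
    · haveI := h
      haveI : Algebra.EssFiniteType k p.ResidueField := Algebra.EssFiniteType.comp k S _
      exact Groth.Agent.S2614.isCM_tensor_of_essFiniteType k k' p.ResidueField
    · haveI := h
      have h2 := Groth.Agent.S2614.isCM_tensor_of_essFiniteType k p.ResidueField k'
      haveI : IsNoetherianRing (k' ⊗[k] p.ResidueField) := by haveI := h2; infer_instance
      haveI : IsNoetherianRing (p.ResidueField ⊗[k] k') :=
        isNoetherianRing_of_ringEquiv _ (Algebra.TensorProduct.comm k k' p.ResidueField).toRingEquiv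
      exact isCM_of_ringEquiv (Algebra.TensorProduct.comm k k' p.ResidueField).toRingEquiv h2
  haveI : IsNoetherianRing (p.ResidueField ⊗[k] k') := by haveI := h1; infer_instance
  exact isCM_of_ringEquiv e.symm.toRingEquiv h1

theorem isCM_fibLocMod' (k S k' : Type u) [Field k] [CommRing S] [Algebra k S] [IsNoetherianRing S]
    [Field k'] [Algebra k k']
    (hft : Algebra.EssFiniteType k S ∨ Algebra.EssFiniteType k k') [IsNoetherianRing (S ⊗[k] k')]
    (r : Ideal (S ⊗[k] k')) [r.IsPrime] :
    LocCoh.IsCohenMacaulayModule (Localization.AtPrime r)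
      (EGA4.FibLocMod S (S ⊗[k] k') r (S ⊗[k] k')) := by
  obtain ⟨Q, hQ, hr⟩ := exists_fiber_prime (r.under S) r rfl
  have h := isCM_fiber' k S k' hft (r.under S)
  exact (isCM_fiber_loc_iff (r.under S) Q r hr).1 (h.isCohenMacaulayLocalRing_localization Q)

theorem codepth_eq' (k S k' : Type u) [Field k] [CommRing S] [Algebra k S] [IsNoetherianRing S]
    [Field k'] [Algebra k k']
    (hft : Algebra.EssFiniteType k S ∨ Algebra.EssFiniteType k k') [IsNoetherianRing (S ⊗[k] k')]
    (q' : Ideal (S ⊗[k] k')) [q'.IsPrime] :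
    ringKrullDim (Localization.AtPrime (q'.comap (algebraMap S (S ⊗[k] k')))) +
        ((LocCoh.depth (Localization.AtPrime q') (Localization.AtPrime q') : ℕ∞) : WithBot ℕ∞) =
      ringKrullDim (Localization.AtPrime q') +
        ((LocCoh.depth (Localization.AtPrime (q'.comap (algebraMap S (S ⊗[k] k'))))
          (Localization.AtPrime (q'.comap (algebraMap S (S ⊗[k] k')))) : ℕ∞) : WithBot ℕ∞) :=
  codepth_eq_of_CM_fibres q' (isCM_fibLocMod' k S k' hft q')

/-- transport of the Cohen–Macaulay property of a local ring along a ring isomorphism. -/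
theorem isCMLocal_of_ringEquiv {A B : Type u} [CommRing A] [CommRing B] (e : A ≃+* B)
    (h : LocCoh.IsCohenMacaulayLocalRing A) : LocCoh.IsCohenMacaulayLocalRing B := by
  haveI : IsNoetherianRing A := by haveI := h; infer_instance
  haveI : IsLocalRing A := by haveI := h; infer_instance
  haveI : IsNoetherianRing B := isNoetherianRing_of_ringEquiv A e
  haveI : IsLocalRing B := e.isLocalRing
  have h1 : LocCoh.depth A A = LocCoh.depth B B :=
    DepthKit.depth_eq_of_semilinear (e : A →+* B) e.surjective e.toAddEquiv (fun a x => map_mul e a x)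
  have h2 : Module.supportDim A A = Module.supportDim B B :=
    DepthKit.supportDim_eq_of_semilinear (e : A →+* B) e.surjective e.toAddEquiv
      (fun a x => map_mul e a x)
  exact { supportDim_eq_depth := by rw [← h1, ← h2]; exact h.supportDim_eq_depth }

theorem isCMLocal_iff_of_codepth_eq {A B : Type u} [CommRing A] [CommRing B] [IsLocalRing A]
    [IsLocalRing B] [IsNoetherianRing A] [IsNoetherianRing B]
    (h : ringKrullDim A + ((LocCoh.depth B B : ℕ∞) : WithBot ℕ∞) =
      ringKrullDim B + ((LocCoh.depth A A : ℕ∞) : WithBot ℕ∞)) :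
    LocCoh.IsCohenMacaulayLocalRing B ↔ LocCoh.IsCohenMacaulayLocalRing A := by
  obtain ⟨a, ha⟩ := DepthKit.exists_nat_supportDim (A := A) (M := A)
  obtain ⟨b, hb⟩ := DepthKit.exists_nat_supportDim (A := B) (M := B)
  obtain ⟨da, hda⟩ := DepthKit.exists_nat_depth (A := A) (M := A)
  obtain ⟨db, hdb⟩ := DepthKit.exists_nat_depth (A := B) (M := B)
  rw [← Module.supportDim_self_eq_ringKrullDim, ← Module.supportDim_self_eq_ringKrullDim,
    ha, hb, hda, hdb] at h
  have h' : a + db = b + da := by exact_mod_cast h
  constructor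
  · intro hB
    have h1 := hB.supportDim_eq_depth
    rw [hb, hdb] at h1
    have h1' : b = db := by exact_mod_cast h1
    refine { supportDim_eq_depth := ?_ }
    rw [ha, hda]
    have : a = da := by omega
    exact_mod_cast this
  · intro hA
    have h1 := hA.supportDim_eq_depth
    rw [ha, hda] at h1
    have h1' : a = da := by exact_mod_cast h1
    refine { supportDim_eq_depth := ?_ }
    rw [hb, hdb]
    have : b = db := by omega
    exact_mod_cast this

/-- **Cohen–Macaulayness of a local ring and field extension of the base.** -/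
theorem cm_loc_tensor_iff (k F k' : Type u) [Field k] [CommRing F] [IsLocalRing F]
    [IsNoetherianRing F] [Algebra k F] [Field k'] [Algebra k k']
    (hft : Algebra.EssFiniteType k F ∨ Algebra.EssFiniteType k k')
    (Q : Ideal (F ⊗[k] k')) [Q.IsPrime]
    (hQ : Q.comap (Algebra.TensorProduct.includeLeftRingHom : F →+* F ⊗[k] k') =
      maximalIdeal F) :
    LocCoh.IsCohenMacaulayLocalRing (Localization.AtPrime Q) ↔
      LocCoh.IsCohenMacaulayLocalRing F := by
  haveI : IsNoetherianRing (F ⊗[k] k') := by
    rcases hft with h | h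
    · haveI := h
      haveI : Algebra.EssFiniteType k' (k' ⊗[k] F) := inferInstance
      haveI : IsNoetherianRing (k' ⊗[k] F) := Algebra.EssFiniteType.isNoetherianRing k' _
      exact isNoetherianRing_of_ringEquiv _ (Algebra.TensorProduct.comm k k' F).toRingEquiv
    · haveI := h
      haveI : Algebra.EssFiniteType F (F ⊗[k] k') := inferInstance
      exact Algebra.EssFiniteType.isNoetherianRing F _
  have hQ' : Q.comap (algebraMap F (F ⊗[k] k')) = maximalIdeal F := hQ
  have hcd := codepth_eq' k F k' hft Q
  set p := Q.comap (algebraMap F (F ⊗[k] k')) with hp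
  have hunits : ∀ x ∈ p.primeCompl, IsUnit x := by
    intro x hx
    have : x ∉ maximalIdeal F := by rw [← hQ']; exact hx
    exact IsLocalRing.notMem_maximalIdeal.1 this
  let e : F ≃ₐ[F] Localization.AtPrime p := IsLocalization.atUnits F p.primeCompl hunits
  rw [isCMLocal_iff_of_codepth_eq hcd]
  exact ⟨fun h => isCMLocal_of_ringEquiv e.symm.toRingEquiv h,
    fun h => isCMLocal_of_ringEquiv e.toRingEquiv h⟩

end Groth.Agent.Lib.Helper21.FibreBCAlg
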