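import Mathlib
import Groth.Prelude.Def_CAlg
import Groth.Prelude.Def_EGA4b
import Groth.Agent.Lib.Helper21.DepthKit12

set_option autoImplicit false
universe u

namespace Groth.Agent.Lib.Helper21.SkKit

open Groth.Agent.Lib.Helper21 Module

section Equiv

variable {R R' : Type u} [CommRing R] [CommRing R'] [IsNoetherianRing R] [IsNoetherianRing R']

/-- depth and dimension of the local rings correspond under a ring isomorphism. -/
theorem depth_dim_of_ringEquiv (e : R ≃+* R') (P : Ideal R') [P.IsPrime] (p : Ideal R) [p.IsPrime]
    (hp : p = P.comap (e : R →+* R')) :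
    LocCoh.depth (Localization.AtPrime p) (LocalizedModule p.primeCompl R) =
        LocCoh.depth (Localization.AtPrime P) (LocalizedModule P.primeCompl R') ∧
      supportDim (Localization.AtPrime p) (LocalizedModule p.primeCompl R) =
        supportDim (Localization.AtPrime P) (LocalizedModule P.primeCompl R') := by
  subst hp
  letI : Algebra R R' := (e : R →+* R').toAlgebra
  have hs : Function.Surjective (algebraMap R R') := e.surjective
  have hd := DepthKit.depth_localization_of_surjective (A := R) (B := R') (N := R') hs P
  have hsd := DepthKit.supportDim_localization_of_surjective (A := R) (B := R') (N := R') hs P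
  have hsm : ∀ (a x : R), e (a • x) = a • e x := fun a x => by
    change e (a * x) = (algebraMap R R' a) * e x
    rw [map_mul]; rfl
  let l : R ≃ₗ[R] R' :=
    { e.toAddEquiv with map_smul' := hsm }
  let L := IsLocalizedModule.mapEquiv (P.comap (algebraMap R R')).primeCompl
    (LocalizedModule.mkLinearMap (P.comap (algebraMap R R')).primeCompl R)
    (LocalizedModule.mkLinearMap (P.comap (algebraMap R R')).primeCompl R')
    (Localization.AtPrime (P.comap (algebraMap R R'))) l
  have hd2 : LocCoh.depth (Localization.AtPrime (P.comap (algebraMap R R')))
      (LocalizedModule (P.comap (algebraMap R R')).primeCompl R) =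
      LocCoh.depth (Localization.AtPrime (P.comap (algebraMap R R')))
      (LocalizedModule (P.comap (algebraMap R R')).primeCompl R') := DepthKit.depth_congr L
  have hsd2 : supportDim (Localization.AtPrime (P.comap (algebraMap R R')))
      (LocalizedModule (P.comap (algebraMap R R')).primeCompl R) =
      supportDim (Localization.AtPrime (P.comap (algebraMap R R')))
      (LocalizedModule (P.comap (algebraMap R R')).primeCompl R') := supportDim_eq_of_equiv L
  exact ⟨hd2.trans hd, hsd2.trans hsd⟩

/-- Serre's condition `(S_n)` is invariant under ring isomorphisms. -/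
theorem hasSk_of_ringEquiv (e : R ≃+* R') (n : ℕ) (h : LocCoh.HasSk n R R) :
    LocCoh.HasSk n R' R' := by
  intro P hP
  haveI : (P.comap (e : R →+* R')).IsPrime := Ideal.comap_isPrime _ _
  obtain ⟨h1, h2⟩ := depth_dim_of_ringEquiv e P _ rfl
  rw [← h1, ← h2]
  exact h _

end Equiv

end Groth.Agent.Lib.Helper21.SkKit
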