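import Mathlib
import Groth.Prelude.Def_CAlg
import Groth.Prelude.Def_EGA4b
import Groth.Agent.Lib.Helper21.CMFibKit
import Groth.Agent.Lib.Helper21.FibreBCAlg
import Groth.Agent.Lib.Helper21.SkKit

set_option autoImplicit false
universe u

namespace Groth.Agent.Lib.Helper21.SkOpen

open Groth.Agent.Lib.Helper21 Groth.Agent.Lib.Helper21.CMFibKit
open Groth.Agent.Lib.Helper21.FlatLocal Groth.Agent.Lib.Helper21.FibreBCAlg
open TensorProduct IsLocalRing Module

section Basic

variable {R : Type u} [CommRing R] {M N : Type u} [AddCommGroup M] [Module R M]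
  [AddCommGroup N] [Module R N]

theorem hasSk_congr (e : M ≃ₗ[R] N) (k : ℕ) : LocCoh.HasSk k R M ↔ LocCoh.HasSk k R N := by
  unfold LocCoh.HasSk
  refine forall_congr' fun q => forall_congr' fun hq => ?_
  rw [depth_loc_congr e q, supportDim_loc_congr e q]

theorem hasSk_iff_hasSkAt_maximalIdeal [IsLocalRing R] [Module.Finite R M] (k : ℕ) :
    LocCoh.HasSk k R M ↔ EGA4.HasSkAt k R M (maximalIdeal R) := by
  rw [DepthKit.hasSkAt_iff]
  unfold LocCoh.HasSk
  constructor
  · intro h q hq _
    exact h q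
  · intro h q hq
    exact h q (IsLocalRing.le_maximalIdeal hq.ne_top)

theorem hasSkAt_self_iff (Q : Ideal R) [Q.IsPrime] (k : ℕ) :
    EGA4.HasSkAt k R R Q ↔ LocCoh.HasSk k (Localization.AtPrime Q) (Localization.AtPrime Q) := by
  unfold EGA4.HasSkAt
  exact hasSk_congr (localizedSelfEquiv Q) k

end Basic

/-- **`(S_n)` of a local ring and field extension of the base.** -/
theorem sk_loc_tensor_iff (k F k' : Type u) [Field k] [CommRing F] [IsLocalRing F]
    [IsNoetherianRing F] [Algebra k F] [Field k'] [Algebra k k']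
    (hft : Algebra.EssFiniteType k F ∨ Algebra.EssFiniteType k k')
    (Q : Ideal (F ⊗[k] k')) [Q.IsPrime]
    (hQ : Q.comap (Algebra.TensorProduct.includeLeftRingHom : F →+* F ⊗[k] k') =
      maximalIdeal F) (n : ℕ) :
    LocCoh.HasSk n (Localization.AtPrime Q) (Localization.AtPrime Q) ↔ LocCoh.HasSk n F F := by
  haveI : IsNoetherianRing (F ⊗[k] k') := by
    rcases hft with h | h
    · haveI := h
      haveI : Algebra.EssFiniteType k' (k' ⊗[k] F) := inferInstance
      haveI : IsNoetherianRing (k' ⊗[k] F) := Algebra.EssFiniteType.isNoetherianRing k' _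
      exact isNoetherianRing_of_ringEquiv _ (Algebra.TensorProduct.comm k k' F).toRingEquiv
    · haveI := h
      haveI : Algebra.EssFiniteType F (F ⊗[k] k') := inferInstance
      exact Algebra.EssFiniteType.isNoetherianRing F _
  have hQ' : Q.comap (algebraMap F (F ⊗[k] k')) = maximalIdeal F := hQ
  have h1 := hasSkAt_iff_of_CM_fibres (A := F) (B := F ⊗[k] k') n
    (fun r _ => isCM_fibLocMod' k F k' hft r) Q
  rw [← hasSkAt_self_iff, ← h1, hasSk_iff_hasSkAt_maximalIdeal]
  have key : ∀ (p : Ideal F) [p.IsPrime], p = maximalIdeal F →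
      (EGA4.HasSkAt n F F p ↔ EGA4.HasSkAt n F F (maximalIdeal F)) := by
    intro p _ hp
    subst hp
    exact Iff.rfl
  exact key _ hQ'

end Groth.Agent.Lib.Helper21.SkOpen
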