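import Mathlib
import Groth.Agent.Lib.Helper21.DepthKit10

/-!
# Finite restriction of scalars kit (helper21), part 2: dimension.
-/

set_option autoImplicit false

namespace Groth.Agent.Lib.Helper21.FinResKit

open Module Groth.Agent.Lib.Helper21.DepthKit Polynomial

universe u

section SD

variable {R : Type u} [CommRing R] {X : Type u} [AddCommGroup X] [Module R X]

/-- `dim X_P` is the Krull dimension of the poset of primes of `Supp X` below `P`. -/
theorem supportDim_localization_eq (P : Ideal R) [P.IsPrime] :
    Module.supportDim (Localization.AtPrime P) (LocalizedModule P.primeCompl X) =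
      Order.krullDim {P' : PrimeSpectrum R // P' ∈ Module.support R X ∧ P'.asIdeal ≤ P} := by
  unfold Module.supportDim
  apply le_antisymm
  · refine Order.krullDim_le_of_strictMono
      (fun q' => ⟨PrimeSpectrum.comap (algebraMap R (Localization.AtPrime P)) q'.1, ?_,
        comap_le_of_atPrime P q'.1⟩) ?_
    · have h1 : q'.1 ∈ PrimeSpectrum.comap (algebraMap R (Localization.AtPrime P)) ⁻¹'
          Module.support R X := (support_localization (X := X) P) ▸ q'.2
      exact h1
    · intro q1 q2 h
      have hle : q1.1 ≤ q2.1 := le_of_lt h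
      have hne : q1.1 ≠ q2.1 := ne_of_lt h
      refine lt_of_le_of_ne ?_ ?_
      · exact Ideal.comap_mono (show q1.1.asIdeal ≤ q2.1.asIdeal from hle)
      · intro heq
        apply hne
        have := congrArg Subtype.val heq
        exact PrimeSpectrum.localization_comap_injective (Localization.AtPrime P) P.primeCompl this
  · have hdisj : ∀ P' : {P' : PrimeSpectrum R // P' ∈ Module.support R X ∧ P'.asIdeal ≤ P},
        Disjoint (P.primeCompl : Set R) (P'.1.asIdeal : Set R) := by
      intro P'
      rw [Set.disjoint_left]
      intro x hx hx'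
      exact hx (P'.2.2 hx')
    have hcm : ∀ P' : {P' : PrimeSpectrum R // P' ∈ Module.support R X ∧ P'.asIdeal ≤ P},
        Ideal.comap (algebraMap R (Localization.AtPrime P))
          (Ideal.map (algebraMap R (Localization.AtPrime P)) P'.1.asIdeal) = P'.1.asIdeal := by
      intro P'
      have := IsLocalization.comap_map_of_isPrime_disjoint P.primeCompl (Localization.AtPrime P)
        P'.1.isPrime (hdisj P')
      rwa [Ideal.under_def] at this
    refine Order.krullDim_le_of_strictMono
      (fun P' => ⟨⟨Ideal.map (algebraMap R (Localization.AtPrime P)) P'.1.asIdeal,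
        IsLocalization.isPrime_of_isPrime_disjoint P.primeCompl (Localization.AtPrime P) _
          P'.1.isPrime (hdisj P')⟩, ?_⟩) ?_
    · rw [support_localization, Set.mem_preimage]
      have : PrimeSpectrum.comap (algebraMap R (Localization.AtPrime P))
          ⟨Ideal.map (algebraMap R (Localization.AtPrime P)) P'.1.asIdeal,
            IsLocalization.isPrime_of_isPrime_disjoint P.primeCompl (Localization.AtPrime P) _
              P'.1.isPrime (hdisj P')⟩ = P'.1 := by
        ext1; exact hcm P'
      rw [this]; exact P'.2.1
    · intro P1 P2 h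
      have hle : P1.1 ≤ P2.1 := le_of_lt h
      have hne : P1.1 ≠ P2.1 := ne_of_lt h
      refine lt_of_le_of_ne ?_ ?_
      · exact Ideal.map_mono (show P1.1.asIdeal ≤ P2.1.asIdeal from hle)
      · intro heq
        apply hne
        have h1 := congrArg (fun z : ↥(Module.support (Localization.AtPrime P)
          (LocalizedModule P.primeCompl X)) => z.1.asIdeal) heq
        simp only at h1
        ext1
        rw [← hcm P1, ← hcm P2, h1]

end SD


section CH

variable {A B : Type u} [CommRing A] [CommRing B] [Algebra A B]
variable {M : Type u} [AddCommGroup M] [Module B M] [Module A M] [IsScalarTower A B M]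
  [Module.Finite A M]

/-- Cayley–Hamilton: every element of `B` satisfies a monic polynomial over `A` modulo
`Ann_B M`. -/
theorem exists_monic_aeval_mem_annihilator (b : B) :
    ∃ P : A[X], P.Monic ∧ Polynomial.aeval b P ∈ Module.annihilator B M := by
  obtain ⟨P, hP, h0⟩ := LinearMap.exists_monic_and_aeval_eq_zero A
    (Algebra.lsmul A A M b : Module.End A M)
  refine ⟨P, hP, ?_⟩
  rw [Polynomial.aeval_algHom_apply] at h0
  rw [Module.mem_annihilator]
  intro m
  have := LinearMap.congr_fun h0 m
  simpa using this

variable (A M) in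
theorem isIntegral_quotient_annihilator :
    Algebra.IsIntegral A (B ⧸ Module.annihilator B M) := by
  refine ⟨fun c => ?_⟩
  obtain ⟨b, rfl⟩ := Ideal.Quotient.mk_surjective c
  obtain ⟨P, hP, h0⟩ := exists_monic_aeval_mem_annihilator (A := A) (M := M) b
  refine ⟨P, hP, ?_⟩
  have h1 : Polynomial.aeval (Ideal.Quotient.mkₐ A (Module.annihilator B M) b) P =
      Ideal.Quotient.mkₐ A (Module.annihilator B M) (Polynomial.aeval b P) :=
    Polynomial.aeval_algHom_apply _ _ _
  rw [← Polynomial.aeval_def]
  change Polynomial.aeval (Ideal.Quotient.mkₐ A (Module.annihilator B M) b) P = 0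
  rw [h1]
  exact Ideal.Quotient.eq_zero_iff_mem.mpr h0

/-- incomparability for primes containing `Ann_B M`. -/
theorem comap_lt_comap_of_annihilator_le (q1 q2 : Ideal B) [q1.IsPrime]
    (h1 : Module.annihilator B M ≤ q1) (hlt : q1 < q2) :
    q1.comap (algebraMap A B) < q2.comap (algebraMap A B) := by
  obtain ⟨hle, x, hx2, hx1⟩ := SetLike.lt_iff_le_and_exists.mp hlt
  obtain ⟨P, hP, h0⟩ := exists_monic_aeval_mem_annihilator (A := A) (M := M) x
  refine Ideal.comap_lt_comap_of_root_mem_sdiff hle ⟨hx2, hx1⟩ (p := P) ?_ ?_
  · exact Polynomial.map_monic_ne_zero hP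
  · rw [← Polynomial.aeval_def]
    exact h1 h0

end CH


section DimMain

variable {A B : Type u} [CommRing A] [CommRing B] [Algebra A B]

/-- **Dimension under finite restriction of scalars.** -/
theorem supportDim_eq_iSup (p : Ideal A) [p.IsPrime] (M : Type u) [AddCommGroup M] [Module B M]
    [Module A M] [IsScalarTower A B M] [Module.Finite A M] :
    Module.supportDim (Localization.AtPrime p) (LocalizedModule p.primeCompl M) =
      ⨆ q ∈ {q : PrimeSpectrum B | q.asIdeal.comap (algebraMap A B) = p ∧ q ∈ Module.support B M},
        Module.supportDim (Localization.AtPrime q.asIdeal)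
          (LocalizedModule q.asIdeal.primeCompl M) := by
  haveI : Module.Finite B M := Module.Finite.of_restrictScalars_finite A B M
  rw [supportDim_localization_eq]
  apply le_antisymm
  · unfold Order.krullDim
    refine iSup_le fun l => ?_
    set J := Module.annihilator B M with hJ
    haveI := isIntegral_quotient_annihilator A M (B := B)
    have hP0 : Module.annihilator A M ≤ (l.head).1.asIdeal :=
      (Module.mem_support_iff_of_finite).mp (l.head).2.1
    have hker : (⊥ : Ideal (B ⧸ J)).comap (algebraMap A (B ⧸ J)) ≤ (l.head).1.asIdeal := by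
      intro a ha
      apply hP0
      rw [Ideal.mem_comap, Ideal.mem_bot, IsScalarTower.algebraMap_apply A B (B ⧸ J),
        Ideal.Quotient.algebraMap_eq, Ideal.Quotient.eq_zero_iff_mem] at ha
      rw [Module.mem_annihilator] at ha ⊢
      intro m
      rw [← algebraMap_smul B a m]; exact ha m
    obtain ⟨Q0, -, hQ0p, hQ0⟩ :=
      Ideal.exists_ideal_over_prime_of_isIntegral (l.head).1.asIdeal (⊥ : Ideal (B ⧸ J)) hker
    let l' : LTSeries (PrimeSpectrum A) := l.map Subtype.val (fun _ _ h => h)
    haveI : Q0.LiesOver (RelSeries.head l').asIdeal := ⟨by rw [Ideal.under_def, hQ0]; rfl⟩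
    obtain ⟨L, hLlen, -, hLlist⟩ := Ideal.exists_ltSeries_of_hasGoingUp l' Q0
    have hlast : (L.last.asIdeal).comap (algebraMap A (B ⧸ J)) ≤ p := by
      have hmem : PrimeSpectrum.comap (algebraMap A (B ⧸ J)) L.last ∈ l'.toList := by
        rw [← hLlist]
        exact List.mem_map_of_mem (by rw [RelSeries.mem_toList]; exact RelSeries.last_mem L)
      rw [RelSeries.mem_toList, RelSeries.mem_def] at hmem
      obtain ⟨i, hi⟩ := hmem
      have h1 : (l' i).asIdeal ≤ p := (l i).2.2
      rw [hi] at h1
      exact h1
    obtain ⟨Qt, hQtge, hQtp, hQt⟩ :=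
      Ideal.exists_ideal_over_prime_of_isIntegral p L.last.asIdeal hlast
    let q : PrimeSpectrum B := ⟨Qt.comap (Ideal.Quotient.mk J), Ideal.comap_isPrime _ _⟩
    have hJq : ∀ Q : Ideal (B ⧸ J), J ≤ Q.comap (Ideal.Quotient.mk J) := by
      intro Q b hb
      rw [Ideal.mem_comap, Ideal.Quotient.eq_zero_iff_mem.mpr hb]
      exact Q.zero_mem
    have hqmem : q ∈ {q : PrimeSpectrum B | q.asIdeal.comap (algebraMap A B) = p ∧
        q ∈ Module.support B M} := by
      refine ⟨?_, (Module.mem_support_iff_of_finite).mpr (hJq Qt)⟩
      change (Qt.comap (Ideal.Quotient.mk J)).comap (algebraMap A B) = p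
      rw [Ideal.comap_comap, ← hQt]
      rfl
    refine le_trans ?_ (le_iSup₂ (f := fun (q : PrimeSpectrum B) _ =>
      Module.supportDim (Localization.AtPrime q.asIdeal)
        (LocalizedModule q.asIdeal.primeCompl M)) q hqmem)
    rw [supportDim_localization_eq]
    have hle : ∀ i, (L i).asIdeal ≤ Qt := fun i =>
      le_trans (show (L i).asIdeal ≤ L.last.asIdeal from
        (L.strictMono.monotone (Fin.le_last i))) hQtge
    let L' : LTSeries {q' : PrimeSpectrum B //
        q' ∈ Module.support B M ∧ q'.asIdeal ≤ q.asIdeal} :=
      LTSeries.mk L.length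
        (fun i => ⟨PrimeSpectrum.comap (Ideal.Quotient.mk J) (L i),
          (Module.mem_support_iff_of_finite).mpr (hJq _), Ideal.comap_mono (hle i)⟩)
        (by
          intro i j hij
          have h1 : L i < L j := L.strictMono hij
          refine lt_of_le_of_ne ?_ ?_
          · exact Ideal.comap_mono (show (L i).asIdeal ≤ (L j).asIdeal from le_of_lt h1)
          · intro heq
            have h2 := congrArg Subtype.val heq
            exact (ne_of_lt h1) (PrimeSpectrum.comap_injective_of_surjective _
              Ideal.Quotient.mk_surjective h2))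
    have hlen : L'.length = l.length := by
      change L.length = l.length
      rw [hLlen]; rfl
    rw [← hlen]
    exact Order.LTSeries.length_le_krullDim L'
  · refine iSup₂_le fun q hq => ?_
    rw [supportDim_localization_eq]
    refine Order.krullDim_le_of_strictMono
      (fun q' => ⟨PrimeSpectrum.comap (algebraMap A B) q'.1, ?_, ?_⟩) ?_
    · exact Module.support_subset_preimage_comap (R := A) (A := B) (M := M) q'.2.1
    · rw [← hq.1]; exact Ideal.comap_mono q'.2.2
    · intro q1 q2 h
      exact comap_lt_comap_of_annihilator_le (A := A) (M := M) q1.1.asIdeal q2.1.asIdeal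
        ((Module.mem_support_iff_of_finite).mp q1.2.1) h

end DimMain

end Groth.Agent.Lib.Helper21.FinResKit
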