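import Groth.Agent.Lib.Helper4.ProperFinal
import Groth.Agent.Lib.Helper13.AlbTriv
import Groth.Agent.Lib.Helper6.DevRed

set_option autoImplicit false
set_option backward.isDefEq.respectTransparency.types false
set_option linter.style.haveILetI false
universe u
open CategoryTheory AlgebraicGeometry Opposite TopologicalSpace

namespace Groth.Agent.Lib.Helper21.ProperGamma

/-- `Γ(X, O_X)` is a finite `A`-module for `X` proper over a Noetherian ring `A`. -/
theorem finite_toGlobal (A : Type u) [CommRing A] [IsNoetherianRing A] (X : Scheme.{u})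
    (g : X ⟶ Spec (CommRingCat.of A)) [hg : IsProper g] :
    ((Scheme.ΓSpecIso (CommRingCat.of A)).inv ≫ g.appTop).hom.Finite := by
  letI : X.Over (Spec (CommRingCat.of A)) := ⟨g⟩
  haveI : IsProper (X ↘ Spec (CommRingCat.of A)) := hg
  have hfin := Groth.Agent.Lib.Helper4.ProperFinal.finite_HH A X (Coh.structureModule X)
    Groth.Agent.Lib.Helper6.DevRed.isCoh_structureModule 0
  letI : Algebra A Γ(X, ⊤) := ((Scheme.ΓSpecIso (CommRingCat.of A)).inv ≫ g.appTop).hom.toAlgebra
  change Module.Finite A Γ(X, ⊤)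
  let eL : Coh.HH X (Coh.structureModule X) 0 ≃ₗ[A] Γ(X, ⊤) :=
    { toFun := fun x => Groth.Agent.Lib.Helper13.AlbTriv.e0 X x
      invFun := fun y => (Groth.Agent.Lib.Helper13.AlbTriv.e0 X).symm y
      map_add' := fun x y => map_add (Groth.Agent.Lib.Helper13.AlbTriv.e0 X) x y
      map_smul' := fun c x => by
        have h := Groth.Agent.Lib.Helper13.AlbTriv.e0_map X (Coh.toGlobal g c) x
        rw [RingHom.id_apply, Algebra.smul_def]
        exact h
      left_inv := (Groth.Agent.Lib.Helper13.AlbTriv.e0 X).left_inv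
      right_inv := (Groth.Agent.Lib.Helper13.AlbTriv.e0 X).right_inv }
  exact Module.Finite.equiv eL

/-- The same, for a ring given as an object of `CommRingCat`. -/
theorem finite_appTop (R : CommRingCat.{u}) [IsNoetherianRing R] (X : Scheme.{u})
    (g : X ⟶ Spec R) [hg : IsProper g] : ((Scheme.ΓSpecIso R).inv ≫ g.appTop).hom.Finite :=
  finite_toGlobal R X g

lemma app_aux {X S : Scheme.{u}} (f : X ⟶ S) {U V : S.Opens} (h : V = U) {W : X.Opens}
    (h1 : W = f ⁻¹ᵁ V) (h2 : W = f ⁻¹ᵁ U) :
    S.presheaf.map (eqToHom h).op ≫ f.app V ≫ X.presheaf.map (eqToHom h1).op =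
      f.app U ≫ X.presheaf.map (eqToHom h2).op := by
  subst h
  simp

/-- For a proper morphism to a locally Noetherian scheme, the sections over the preimage of an
affine open form a finite module. -/
theorem finite_app_of_isProper {X S : Scheme.{u}} (f : X ⟶ S) [IsProper f] [IsLocallyNoetherian S]
    (U : S.Opens) (hU : IsAffineOpen U) : (f.app U).hom.Finite := by
  haveI : IsNoetherianRing Γ(S, U) := IsLocallyNoetherian.component_noetherian ⟨U, hU⟩
  haveI : IsProper (f ∣_ U) := IsZariskiLocalAtTarget.restrict ‹_› U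
  haveI : IsProper ((f ∣_ U) ≫ hU.isoSpec.hom) := inferInstance
  have h1 := finite_appTop Γ(S, U) _ ((f ∣_ U) ≫ hU.isoSpec.hom)
  have h2 : (Scheme.ΓSpecIso Γ(S, U)).inv ≫ ((f ∣_ U) ≫ hU.isoSpec.hom).appTop =
      f.app U ≫ (f ⁻¹ᵁ U).topIso.inv := by
    rw [Scheme.Hom.comp_appTop, IsAffineOpen.isoSpec_hom_appTop, Category.assoc,
      Iso.inv_hom_id_assoc, morphismRestrict_appTop]
    simp only [Scheme.Opens.topIso, Functor.mapIso_inv, Iso.op_inv, eqToIso.inv]
    exact app_aux f _ _ _
  rw [h2] at h1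
  exact (RingHom.finite_respectsIso.cancel_right_isIso _ _).mp h1

end Groth.Agent.Lib.Helper21.ProperGamma
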