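import Groth.Agent.Lib.Helper21.ZarConn3
import Groth.Agent.S2363

set_option autoImplicit false
set_option backward.isDefEq.respectTransparency.types false
set_option linter.style.haveILetI false
universe u
open CategoryTheory CategoryTheory.Limits AlgebraicGeometry Opposite TopologicalSpace

namespace Groth.Agent.Lib.Helper21.ZarConn

/-- flat base change of global sections to an affine scheme mapping into an affine open. -/
theorem isIso_appTop_pullback_of_flat {X Y T : Scheme.{u}} (f : X ⟶ Y) [QuasiCompact f]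
    [QuasiSeparated f] [IsAffine T] (h : T ⟶ Y) [Flat h] (U : Y.Opens) (hU : IsAffineOpen U)
    (hUST : (⊤ : T.Opens) ≤ h ⁻¹ᵁ U) (hfU : IsIso (f.app U)) :
    IsIso (pullback.snd f h).appTop := by
  have H : IsPullback (pullback.fst f h) (pullback.snd f h) f h := IsPullback.of_hasPullback f h
  have hUSX : f ⁻¹ᵁ U ≤ f ⁻¹ᵁ U := le_rfl
  have hUY : (⊤ : (pullback f h).Opens) =
      (pullback.fst f h) ⁻¹ᵁ (f ⁻¹ᵁ U) ⊓ (pullback.snd f h) ⁻¹ᵁ ⊤ := by
    ext z
    simp only [Opens.coe_top, Set.mem_univ, Opens.coe_inf, Set.mem_inter_iff, true_iff]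
    refine ⟨?_, trivial⟩
    change f (pullback.fst f h z) ∈ U
    rw [← Scheme.Hom.comp_apply, pullback.condition, Scheme.Hom.comp_apply]
    exact hUST (Set.mem_univ _)
  have hiso := isIso_pushoutSection_of_isQuasiSeparated_of_flat_right H hUST hUSX hUY hU
    (isAffineOpen_top _) (f.isCompact_preimage hU.isCompact)
    (f.isQuasiSeparated_preimage hU.isQuasiSeparated)
  have hpo := (isIso_pushoutSection_iff H hUST hUSX hUY).mp hiso
  haveI : IsIso (f.appLE U (f ⁻¹ᵁ U) hUSX) := by
    rw [← Scheme.Hom.app_eq_appLE]; exact hfU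
  have h2 := hpo.isIso_inr_of_isIso
  have h3 : (pullback.snd f h).appLE ⊤ ⊤ (by simp) = (pullback.snd f h).appTop := by
    simp [Scheme.Hom.appLE, Scheme.Hom.appTop]
  rw [← h3]
  exact h2

/-- Connectedness of the closed fibre after a flat local base change. -/
theorem isConnected_closedFibre_of_flat {X Y : Scheme.{u}} (f : X ⟶ Y) [IsProper f]
    (R : CommRingCat.{u}) [IsNoetherianRing R] [IsLocalRing R] (h : Spec R ⟶ Y) [Flat h]
    (U : Y.Opens) (hU : IsAffineOpen U) (hyU : h (IsLocalRing.closedPoint R) ∈ U)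
    (hfU : IsIso (f.app U)) :
    _root_.IsConnected ((pullback.snd f h) ⁻¹' {IsLocalRing.closedPoint R}) := by
  set g := pullback.snd f h with hg
  have hUST : (⊤ : (Spec R).Opens) ≤ h ⁻¹ᵁ U := by
    intro z _
    have hz : z ⤳ IsLocalRing.closedPoint R := IsLocalRing.specializes_closedPoint z
    exact (hz.map h.continuous).mem_open U.2 hyU
  haveI hiso : IsIso g.appTop := isIso_appTop_pullback_of_flat f h U hU hUST hfU
  have hbij := ConcreteCategory.bijective_of_isIso ((Scheme.ΓSpecIso R).inv ≫ g.appTop)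
  have hpre := isPreconnected_closedFibre' R g hbij.2
  refine ⟨?_, hpre⟩
  have hne : Nonempty ↥(pullback f h) := by
    by_contra hemp
    rw [not_nonempty_iff] at hemp
    haveI : Subsingleton Γ(pullback f h, ⊤) := by
      haveI := hemp
      infer_instance
    haveI : Subsingleton R := hbij.1.subsingleton
    exact not_subsingleton R ‹_›
  obtain ⟨z⟩ := hne
  have hcl : IsClosed (Set.range g) := g.isClosedMap.isClosed_range
  have hmem : IsLocalRing.closedPoint R ∈ Set.range g :=
    (IsLocalRing.specializes_closedPoint (g z)).mem_closed hcl ⟨z, rfl⟩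
  obtain ⟨z', hz'⟩ := hmem
  exact ⟨z', hz'⟩

end Groth.Agent.Lib.Helper21.ZarConn
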