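import Mathlib
import Groth.Prelude.Def_CAlg
import Groth.Prelude.Def_EGA4b

/-!
# Helper21 — RedFlat: ascent of reducedness along flat maps with reduced fibres over the minimal primes.
-/

namespace Groth.Agent.Lib.Helper21.RedFlat

open TensorProduct

universe u

section

variable {A B : Type u} [CommRing A] [CommRing B] [Algebra A B]

/-- In a reduced ring, an element lying in all minimal primes is zero. -/
theorem eq_zero_of_forall_mem_minimalPrimes [IsReduced A] (x : A)
    (h : ∀ p ∈ minimalPrimes A, x ∈ p) : x = 0 := by
  have h1 : x ∈ sInf (minimalPrimes A) := by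
    rw [Ideal.mem_sInf]
    intro p hp
    exact h p hp
  have h2 : sInf (minimalPrimes A) = nilradical A := by
    unfold minimalPrimes
    rw [Ideal.sInf_minimalPrimes]
    rfl
  rw [h2, nilradical_eq_zero] at h1
  exact h1

/-- **Ascent of reducedness**: a flat algebra over a reduced ring with finitely many minimal primes,
whose fibres over the minimal primes are reduced, is reduced. -/
theorem isReduced_of_flat_of_fibres [Module.Flat A B] [IsReduced A]
    (hfin : (minimalPrimes A).Finite)
    (hfib : ∀ (p : Ideal A) [p.IsPrime], p ∈ minimalPrimes A → IsReduced (p.Fiber B)) :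
    IsReduced B := by
  classical
  letI : Fintype {p // p ∈ minimalPrimes A} := hfin.fintype
  haveI hprime : ∀ i : {p // p ∈ minimalPrimes A}, i.1.IsPrime := fun i =>
    Ideal.minimalPrimes_isPrime i.2
  let f : A →ₗ[A] (∀ i : {p // p ∈ minimalPrimes A}, i.1.ResidueField) :=
    LinearMap.pi (fun i => Algebra.linearMap A i.1.ResidueField)
  have hf : Function.Injective f := by
    rw [← LinearMap.ker_eq_bot, LinearMap.ker_eq_bot']
    intro x hx
    apply eq_zero_of_forall_mem_minimalPrimes
    intro p hp
    have h1 := congrFun hx ⟨p, hp⟩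
    haveI := hprime ⟨p, hp⟩
    have h2 : algebraMap A p.ResidueField x = 0 := h1
    exact (Ideal.algebraMap_residueField_eq_zero).1 h2
  have hf' : Function.Injective (LinearMap.rTensor B f) :=
    Module.Flat.rTensor_preserves_injective_linearMap f hf
  let e := TensorProduct.piLeft A B (fun i : {p // p ∈ minimalPrimes A} => i.1.ResidueField)
  let g : B →+* (∀ i : {p // p ∈ minimalPrimes A}, i.1.Fiber B) :=
    Pi.ringHom (fun i => (Algebra.TensorProduct.includeRight :
      B →ₐ[A] i.1.ResidueField ⊗[A] B).toRingHom)
  have hg : ∀ b : B, g b = e (LinearMap.rTensor B f ((1 : A) ⊗ₜ[A] b)) := by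
    intro b
    funext i
    simp [g, e, f]
    rfl
  have hginj : Function.Injective g := by
    intro b b' hbb'
    rw [hg, hg] at hbb'
    have h1 := hf' (e.injective hbb')
    have h2 := congrArg (TensorProduct.lid A B) h1
    simpa using h2
  haveI : ∀ i : {p // p ∈ minimalPrimes A}, IsReduced (i.1.Fiber B) := fun i => hfib i.1 i.2
  exact isReduced_of_injective g hginj

end

end Groth.Agent.Lib.Helper21.RedFlat
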