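import Mathlib
import Groth.Prelude.Def_CAlg
import Groth.Prelude.Def_EGA4b
import Groth.Agent.Lib.Helper21.FlatLocal10

/-!
# Helper21 — NormalKit: normal rings (`EGA4.IsNormalRing`): invariance under isomorphism, descent along
faithfully flat maps, normal fibre rings have normal fibre local rings.
-/

namespace Groth.Agent.Lib.Helper21.NormalKit

open TensorProduct IsLocalRing

universe u

section Transport

variable {R S : Type u} [CommRing R] [CommRing S]

/-- normality of a ring is invariant under ring isomorphisms. -/
theorem isNormalRing_of_ringEquiv (e : R ≃+* S) (h : EGA4.IsNormalRing R) : EGA4.IsNormalRing S := by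
  intro K hK
  haveI : (K.comap (e : R →+* S)).IsPrime := Ideal.comap_isPrime _ _
  obtain ⟨h1, h2⟩ := h (K.comap (e : R →+* S))
  let e' : Localization.AtPrime (K.comap (e : R →+* S)) ≃+* Localization.AtPrime K :=
    Localization.localRingEquiv (K.comap (e : R →+* S)) K e rfl
  exact ⟨e'.toMulEquiv.isDomain_iff.1 h1, IsIntegrallyClosed.of_equiv e'⟩

end Transport

section Descent

variable {R S : Type u} [CommRing R] [CommRing S] [Algebra R S]

/-- integrally closed domains descend along faithfully flat maps. -/
theorem isIntegrallyClosed_of_faithfullyFlat [Module.FaithfullyFlat R S] [IsDomain S]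
    [IsIntegrallyClosed S] : IsDomain R ∧ IsIntegrallyClosed R := by
  have hinj : Function.Injective (algebraMap R S) := FaithfulSMul.algebraMap_injective R S
  haveI : IsDomain R := hinj.isDomain (algebraMap R S)
  refine ⟨inferInstance, ?_⟩
  rw [isIntegrallyClosed_iff (FractionRing R)]
  intro x hx
  haveI : FaithfulSMul R (FractionRing S) := by
    rw [faithfulSMul_iff_algebraMap_injective]
    rw [IsScalarTower.algebraMap_eq R S (FractionRing S)]
    exact (IsFractionRing.injective S (FractionRing S)).comp hinj
  letI := FractionRing.liftAlgebra R (FractionRing S)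
  haveI := FractionRing.isScalarTower_liftAlgebra R (FractionRing S)
  have hx' : IsIntegral S (algebraMap (FractionRing R) (FractionRing S) x) :=
    (hx.map (IsScalarTower.toAlgHom R (FractionRing R) (FractionRing S))).tower_top
  obtain ⟨s, hs⟩ := (isIntegrallyClosed_iff (FractionRing S)).1 inferInstance hx'
  obtain ⟨a, b, hb, rfl⟩ := IsFractionRing.div_surjective (A := R) x
  have hb0 : algebraMap R (FractionRing R) b ≠ 0 :=
    IsFractionRing.to_map_ne_zero_of_mem_nonZeroDivisors hb
  have hb0' : algebraMap R S b ≠ 0 := fun h => (nonZeroDivisors.ne_zero hb) (hinj (h.trans (map_zero _).symm))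
  have hbS : algebraMap S (FractionRing S) (algebraMap R S b) ≠ 0 := by
    intro h
    exact hb0' (IsFractionRing.injective S (FractionRing S) (h.trans (map_zero _).symm))
  have h1 : algebraMap S (FractionRing S) (algebraMap R S a) =
      algebraMap S (FractionRing S) (algebraMap R S b * s) := by
    rw [map_mul, hs, map_div₀, ← IsScalarTower.algebraMap_apply R (FractionRing R) (FractionRing S),
      ← IsScalarTower.algebraMap_apply R (FractionRing R) (FractionRing S),
      IsScalarTower.algebraMap_apply R S (FractionRing S) a,
      IsScalarTower.algebraMap_apply R S (FractionRing S) b, mul_div_cancel₀ _ hbS]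
  have h2 : algebraMap R S a = algebraMap R S b * s := IsFractionRing.injective S (FractionRing S) h1
  have h3 : a ∈ ((Ideal.span {b}).map (algebraMap R S)).comap (algebraMap R S) := by
    rw [Ideal.mem_comap, h2]
    exact Ideal.mul_mem_right _ _ (Ideal.mem_map_of_mem _ (Ideal.mem_span_singleton_self b))
  rw [Ideal.comap_map_eq_self_of_faithfullyFlat, Ideal.mem_span_singleton'] at h3
  obtain ⟨r, hr⟩ := h3
  refine ⟨r, ?_⟩
  rw [← hr, map_mul, mul_div_assoc, div_self hb0, mul_one]

/-- normality descends along faithfully flat ring maps. -/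
theorem isNormalRing_of_faithfullyFlat [Module.FaithfullyFlat R S] (h : EGA4.IsNormalRing S) :
    EGA4.IsNormalRing R := by
  intro p hp
  obtain ⟨q, hq, hqp⟩ := Ideal.exists_isPrime_liesOver_of_faithfullyFlat (B := S) p
  letI := Localization.AtPrime.algebraOfLiesOver p q
  haveI : IsLocalHom (algebraMap (Localization.AtPrime p) (Localization.AtPrime q)) :=
    FlatLocal.isLocalHom_loc p q
  haveI : Module.Flat (Localization.AtPrime p) (Localization.AtPrime q) :=
    RingHom.Flat.localRingHom (RingHom.flat_algebraMap_iff.2 inferInstance) q p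
      Ideal.LiesOver.over
  haveI : Module.FaithfullyFlat (Localization.AtPrime p) (Localization.AtPrime q) :=
    Module.FaithfullyFlat.of_flat_of_isLocalHom
  obtain ⟨h1, h2⟩ := h q
  exact isIntegrallyClosed_of_faithfullyFlat (R := Localization.AtPrime p)
    (S := Localization.AtPrime q)

end Descent

section FibreLoc

variable {R S : Type u} [CommRing R] [CommRing S] [Algebra R S] (p : Ideal R) [p.IsPrime]
variable (Q : Ideal (p.Fiber S)) [Q.IsPrime]

/-- the local ring of the fibre ring at `Q` is the fibre local ring `S_r / p S_r`, `r = Q ∩ S`. -/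
theorem nonempty_fibLocRing_ringEquiv (r : Ideal S) [r.IsPrime]
    (hr : r = Q.comap (Algebra.TensorProduct.includeRight : S →ₐ[R] p.Fiber S)) :
    Nonempty (Localization.AtPrime Q ≃+* EGA4.FibLocRing R S r) := by
  subst hr
  haveI hover := FlatLocal.comap_includeRight_liesOver p Q
  have hp : p = (Q.comap (Algebra.TensorProduct.includeRight : S →ₐ[R] p.Fiber S)).under R :=
    Ideal.over_def _ p
  set r := Q.comap (Algebra.TensorProduct.includeRight : S →ₐ[R] p.Fiber S) with hr
  letI := Localization.AtPrime.algebraOfLiesOver p r
  let e := Ideal.Fiber.localizationAlgEquivQuotient p Q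
  have hI : p.map (algebraMap R (Localization.AtPrime r)) =
      (r.comap (algebraMap R S)).map (algebraMap R (Localization.AtPrime r)) := by
    conv_lhs => rw [hp]
  exact ⟨e.toRingEquiv.trans (Ideal.quotEquivOfEq hI)⟩

/-- a normal fibre ring has normal fibre local rings. -/
theorem fibLocRing_normal_of_fiber (h : EGA4.IsNormalRing (p.Fiber S)) (r : Ideal S) [r.IsPrime]
    (hr : r = Q.comap (Algebra.TensorProduct.includeRight : S →ₐ[R] p.Fiber S)) :
    IsDomain (EGA4.FibLocRing R S r) ∧ IsIntegrallyClosed (EGA4.FibLocRing R S r) := by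
  obtain ⟨e⟩ := nonempty_fibLocRing_ringEquiv p Q r hr
  obtain ⟨h1, h2⟩ := h Q
  exact ⟨e.toMulEquiv.isDomain_iff.1 h1, IsIntegrallyClosed.of_equiv (R := Localization.AtPrime Q) e⟩

/-- a geometrically normal algebra over a field is normal. -/
theorem isNormalRing_of_isGeomNormal (k : Type u) [Field k] (X : Type u) [CommRing X] [Algebra k X]
    (h : EGA4.IsGeomNormal k X) : EGA4.IsNormalRing X :=
  isNormalRing_of_ringEquiv (Algebra.TensorProduct.lid k X).toRingEquiv (h k (Module.Finite.self k))

end FibreLoc

end Groth.Agent.Lib.Helper21.NormalKit
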