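import Mathlib
import Groth.Prelude.Def_CAlg
import Groth.Prelude.Def_EGA4b
import Groth.Agent.Lib.Helper21.FlatLocal8
import Groth.Agent.Lib.Helper5.RegFlatFiber

/-!
# Helper21 — FlatLocal9: `(R_k)` ascent along flat maps with `(R_k)` fibre local rings.
-/

namespace Groth.Agent.Lib.Helper21.FlatLocal

open TensorProduct IsLocalRing Pointwise Module

universe u

section RkDown

variable {A : Type u} [CommRing A]

/-- `(R_k)` of `A_p` gives regularity of `A_r` for the generizations `r ≤ p` of height `≤ k`. -/
theorem isRegularLocalRing_of_hasRk_atPrime (k : ℕ) (p : Ideal A) [p.IsPrime]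
    (h : LocCoh.HasRk k (Localization.AtPrime p)) (r : Ideal A) [hr : r.IsPrime] (hrp : r ≤ p)
    (hk : r.height ≤ k) : IsRegularLocalRing (Localization.AtPrime r) := by
  have hdisj : Disjoint (p.primeCompl : Set A) (r : Set A) :=
    Set.disjoint_left.2 fun x hx hxr => hx (hrp hxr)
  set P : Ideal (Localization.AtPrime p) := r.map (algebraMap A (Localization.AtPrime p)) with hP
  haveI hPprime : P.IsPrime :=
    IsLocalization.isPrime_of_isPrime_disjoint p.primeCompl _ r hr hdisj
  have hPc : P.comap (algebraMap A (Localization.AtPrime p)) = r :=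
    IsLocalization.comap_map_of_isPrime_disjoint p.primeCompl _ hr hdisj
  have key : ∀ (r' : Ideal A) [r'.IsPrime], r' = P.comap (algebraMap A (Localization.AtPrime p)) →
      IsRegularLocalRing (Localization.AtPrime r') := by
    intro r' _ hr'
    subst hr'
    have hPk : P.height ≤ k := by
      have := IsLocalization.height_under p.primeCompl P
      rw [Ideal.under, hPc] at this
      rw [← this]
      exact hk
    haveI := h P hPk
    exact IsRegularLocalRing.of_ringEquiv
      (IsLocalization.localizationLocalizationAtPrimeIsoLocalization p.primeCompl P).symm.toRingEquiv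
  exact key r hPc.symm

/-- `(R_k)` of a local ring of dimension `≤ k` means it is regular. -/
theorem isRegularLocalRing_of_hasRk_of_dim_le (k : ℕ) [IsLocalRing A]
    (h : LocCoh.HasRk k A) (hd : ringKrullDim A ≤ k) : IsRegularLocalRing A := by
  have hk : (maximalIdeal A).height ≤ k := by
    have := IsLocalRing.maximalIdeal_height_eq_ringKrullDim (R := A)
    rw [← this] at hd
    exact_mod_cast hd
  haveI := h (maximalIdeal A) hk
  exact IsRegularLocalRing.of_ringEquiv
    (IsLocalization.atUnits A (maximalIdeal A).primeCompl
      (S := Localization.AtPrime (maximalIdeal A))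
      primeCompl_maximalIdeal_le_isUnit).symm.toRingEquiv

end RkDown

section RkStep

variable {A B : Type u} [CommRing A] [CommRing B] [Algebra A B] [IsNoetherianRing A]
  [IsNoetherianRing B] [Module.Flat A B]

omit [IsNoetherianRing A] in
/-- regular base local ring and regular fibre local ring give a regular local ring. -/
theorem isRegularLocalRing_atPrime_of_fibre (Q : Ideal B) [Q.IsPrime]
    (hA : IsRegularLocalRing (Localization.AtPrime (Q.under A)))
    (hT : IsRegularLocalRing (EGA4.FibLocRing A B Q)) :
    IsRegularLocalRing (Localization.AtPrime Q) := by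
  letI := Localization.AtPrime.algebraOfLiesOver (Q.under A) Q
  haveI := isLocalHom_loc (Q.under A) Q
  apply Groth.Agent.Lib.Helper5.RegFlatFiber.regular_of_flat_of_regular_fiber
    (Localization.AtPrime (Q.under A))
  rw [map_maximalIdeal_loc]
  exact hT

/-- `(R_k)` ascends along a flat map with `(R_k)` fibre local rings. -/
theorem hasRkAt_of_fibre (k : ℕ)
    (hfib : ∀ (q : Ideal B) [q.IsPrime], LocCoh.HasRk k (EGA4.FibLocRing A B q))
    (q : Ideal B) [q.IsPrime] (hA : EGA4.HasRkAt k A (q.comap (algebraMap A B))) :
    EGA4.HasRkAt k B q := by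
  intro Q hQ hk
  have hQ'k : (Q.comap (algebraMap B (Localization.AtPrime q))).height ≤ k := by
    have := IsLocalization.height_under q.primeCompl Q
    rw [Ideal.under] at this
    rw [this]
    exact hk
  have hQ'q : Q.comap (algebraMap B (Localization.AtPrime q)) ≤ q := by
    intro x hx
    by_contra hxq
    have hu : IsUnit (algebraMap B (Localization.AtPrime q) x) :=
      IsLocalization.map_units _ (⟨x, hxq⟩ : q.primeCompl)
    exact (Ideal.IsPrime.ne_top hQ) (Ideal.eq_top_of_isUnit_mem Q hx hu)
  set Q' := Q.comap (algebraMap B (Localization.AtPrime q)) with hQ'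
  have hp'k : (Q'.under A).height ≤ k := by
    have := Ideal.height_eq_height_add_of_liesOver_of_hasGoingDown (Q'.under A) Q'
    exact le_trans (by rw [this]; exact le_self_add) hQ'k
  have hA' : IsRegularLocalRing (Localization.AtPrime (Q'.under A)) :=
    isRegularLocalRing_of_hasRk_atPrime k (q.comap (algebraMap A B)) hA (Q'.under A)
      (Ideal.comap_mono hQ'q) hp'k
  have hdim : ringKrullDim (EGA4.FibLocRing A B Q') ≤ k := by
    refine (ringKrullDim_quotient_le _).trans ?_
    rw [IsLocalization.AtPrime.ringKrullDim_eq_height Q' (Localization.AtPrime Q')]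
    exact_mod_cast hQ'k
  have hT' : IsRegularLocalRing (EGA4.FibLocRing A B Q') :=
    isRegularLocalRing_of_hasRk_of_dim_le k (hfib Q') hdim
  haveI := isRegularLocalRing_atPrime_of_fibre Q' hA' hT'
  exact IsRegularLocalRing.of_ringEquiv
    (IsLocalization.localizationLocalizationAtPrimeIsoLocalization q.primeCompl Q).toRingEquiv

end RkStep

end Groth.Agent.Lib.Helper21.FlatLocal
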