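import Mathlib
import Groth.Prelude.Def_Found

/-!
# Catenary toolkit (helper21): saturated chains, coheight as dimension function.
-/

namespace Groth.Agent.Lib.Helper21.CatKit

open Order

universe u

section Ord

variable {α : Type u} [PartialOrder α]

/-- series of covering relations -/
abbrev CovSeries (α : Type u) [PartialOrder α] := RelSeries {(a, b) : α × α | a ⋖ b}

theorem cov_le_lt : ({(a, b) : α × α | a ⋖ b} : SetRel α α) ≤ {(a, b) : α × α | a < b} :=
  fun ⟨_, _⟩ h => CovBy.lt h

/-- a saturated chain of length `coheight x` from `x` to a maximal element -/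
theorem exists_covSeries_of_coheight_eq (n : ℕ) : ∀ x : α, coheight x = n →
    ∃ t : CovSeries α, t.head = x ∧ IsMax t.last ∧ t.length = n := by
  induction n with
  | zero =>
    intro x hx
    refine ⟨RelSeries.singleton _ x, by simp, ?_, rfl⟩
    rw [RelSeries.last_singleton]
    exact coheight_eq_zero.1 (by simpa using hx)
  | succ n ih =>
    intro x hx
    obtain ⟨hfin, ⟨y, hxy, hy⟩, hall⟩ := coheight_eq_coe_add_one_iff.1 (by simpa using hx)
    obtain ⟨t, ht1, ht2, ht3⟩ := ih y hy
    have hcov : x ⋖ y := by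
      refine ⟨hxy, fun z hxz hzy => ?_⟩
      have h1 : coheight z ≤ n := hall z hxz
      have h2 : coheight y < coheight z :=
        coheight_strictAnti hzy (by rw [hy]; exact ENat.natCast_lt_top n)
      rw [hy] at h2
      exact absurd h1 (not_le.2 h2)
    refine ⟨t.cons x (by rw [ht1]; exact hcov), by simp, by simpa using ht2, ?_⟩
    change 0 + t.length + 1 = n + 1
    omega

/-- the "saturated chains have equal length" half of catenarity -/
def SatEq (α : Type u) [PartialOrder α] : Prop :=
  ∀ s t : LTSeries α, s.head = t.head → s.last = t.last →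
    (∀ i : Fin s.length, s (Fin.castSucc i) ⋖ s (Fin.succ i)) →
    (∀ i : Fin t.length, t (Fin.castSucc i) ⋖ t (Fin.succ i)) →
    s.length = t.length

theorem length_eq_of_satEq (h : SatEq α) (s t : CovSeries α) (hh : s.head = t.head)
    (hl : s.last = t.last) : s.length = t.length :=
  h (s.ofLE cov_le_lt) (t.ofLE cov_le_lt) hh hl (fun i => s.step i) (fun i => t.step i)

/-- In a catenary poset with a unique maximal element, `coheight` drops by one along covers. -/
theorem coheight_eq_of_covBy (h : SatEq α) (hmax : ∀ a b : α, IsMax a → IsMax b → a = b)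
    {p q : α} (hpq : p ⋖ q) (hfin : coheight p < ⊤) : coheight p = coheight q + 1 := by
  have hq : coheight q < ⊤ := lt_of_le_of_lt (coheight_anti hpq.lt.le) hfin
  obtain ⟨k, hk⟩ := ENat.ne_top_iff_exists.1 hfin.ne
  obtain ⟨n, hn⟩ := ENat.ne_top_iff_exists.1 hq.ne
  obtain ⟨tp, hp1, hp2, hp3⟩ := exists_covSeries_of_coheight_eq k p hk.symm
  obtain ⟨tq, hq1, hq2, hq3⟩ := exists_covSeries_of_coheight_eq n q hn.symm
  have hlen := length_eq_of_satEq h tp (tq.cons p (by rw [hq1]; exact hpq))
    (by simp [hp1]) (by rw [RelSeries.last_cons]; exact hmax _ _ hp2 hq2)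
  have h2 : (tq.cons p (by rw [hq1]; exact hpq)).length = n + 1 := by
    change 0 + tq.length + 1 = n + 1
    omega
  rw [← hk, ← hn, hp3.symm.trans (hlen.trans h2)]
  simp

end Ord

section Ring

variable {A : Type u} [CommRing A]

theorem ringKrullDim_quotient_eq_coheight (p : PrimeSpectrum A) :
    ringKrullDim (A ⧸ p.asIdeal) = (coheight p : ℕ∞) := by
  rw [ringKrullDim_quotient, coheight_eq_krullDim_Ici]
  have : PrimeSpectrum.zeroLocus (p.asIdeal : Set A) = Set.Ici p := by
    ext q
    simp [PrimeSpectrum.mem_zeroLocus, ← PrimeSpectrum.asIdeal_le_asIdeal]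
  rw [this]

theorem isMax_eq [IsLocalRing A] (a b : PrimeSpectrum A) (ha : IsMax a) (hb : IsMax b) : a = b := by
  have h1 : a = IsLocalRing.closedPoint A :=
    le_antisymm (IsLocalRing.le_maximalIdeal a.2.ne_top) (ha (IsLocalRing.le_maximalIdeal a.2.ne_top))
  have h2 : b = IsLocalRing.closedPoint A :=
    le_antisymm (IsLocalRing.le_maximalIdeal b.2.ne_top) (hb (IsLocalRing.le_maximalIdeal b.2.ne_top))
  rw [h1, h2]

/-- In a catenary Noetherian local ring, `dim A/p = dim A/q + 1` when `q` covers `p`. -/
theorem ringKrullDim_quotient_of_covBy [IsLocalRing A] [IsNoetherianRing A]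
    (hc : CAlg.IsCatenary A) {p q : PrimeSpectrum A} (hpq : p ⋖ q) :
    ringKrullDim (A ⧸ p.asIdeal) = ringKrullDim (A ⧸ q.asIdeal) + 1 := by
  rw [ringKrullDim_quotient_eq_coheight, ringKrullDim_quotient_eq_coheight,
    coheight_eq_of_covBy hc.2 isMax_eq hpq (coheight_lt_top p)]
  rfl

end Ring

end Groth.Agent.Lib.Helper21.CatKit
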