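import Mathlib
import Groth.Prelude.Def_Found
import Groth.Agent.Lib.Helper21.CatKit

/-!
# Catenary toolkit, part 2 (helper21): `height + coheight` in catenary posets.
-/

namespace Groth.Agent.Lib.Helper21.CatKit

open Order

universe u

section Ord

variable {α : Type u} [PartialOrder α]

/-- a saturated chain of length `height x` from a minimal element to `x` -/
theorem exists_covSeries_of_height_eq (n : ℕ) : ∀ x : α, height x = n →
    ∃ t : CovSeries α, t.last = x ∧ IsMin t.head ∧ t.length = n := by
  induction n with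
  | zero =>
    intro x hx
    refine ⟨RelSeries.singleton _ x, by simp, ?_, rfl⟩
    rw [RelSeries.head_singleton]
    exact height_eq_zero.1 (by simpa using hx)
  | succ n ih =>
    intro x hx
    obtain ⟨hfin, ⟨y, hyx, hy⟩, hall⟩ := height_eq_coe_add_one_iff.1 (by simpa using hx)
    obtain ⟨t, ht1, ht2, ht3⟩ := ih y hy
    have hcov : y ⋖ x := by
      refine ⟨hyx, fun z hyz hzx => ?_⟩
      have h1 : height z ≤ n := hall z hzx
      have h2 : height y < height z :=
        height_strictMono hyz (by rw [hy]; exact ENat.natCast_lt_top n)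
      rw [hy] at h2
      exact absurd h1 (not_le.2 h2)
    refine ⟨t.snoc x (by rw [ht1]; exact hcov), by simp, by simpa using ht2, ?_⟩
    change t.length + 0 + 1 = n + 1
    omega

/-- In a catenary poset with a unique maximal element and finite coheights:
`height q + coheight q = coheight p₀` for some minimal `p₀ ≤ q`. -/
theorem exists_isMin_height_add_coheight_eq (h : SatEq α)
    (hmax : ∀ a b : α, IsMax a → IsMax b → a = b) (hfin : ∀ x : α, coheight x < ⊤)
    (q : α) (hq : height q < ⊤) :
    ∃ p₀ : α, IsMin p₀ ∧ p₀ ≤ q ∧ height q + coheight q = coheight p₀ := by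
  obtain ⟨n, hn⟩ := ENat.ne_top_iff_exists.1 hq.ne
  obtain ⟨c, hc⟩ := ENat.ne_top_iff_exists.1 (hfin q).ne
  obtain ⟨t1, h11, h12, h13⟩ := exists_covSeries_of_height_eq n q hn.symm
  obtain ⟨t2, h21, h22, h23⟩ := exists_covSeries_of_coheight_eq c q hc.symm
  obtain ⟨m, hm⟩ := ENat.ne_top_iff_exists.1 (hfin t1.head).ne
  obtain ⟨t3, h31, h32, h33⟩ := exists_covSeries_of_coheight_eq m t1.head hm.symm
  have hconn : t1.last = t2.head := by rw [h11, h21]
  have hlen := length_eq_of_satEq h (t1.smash t2 hconn) t3 (by rw [RelSeries.head_smash, h31])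
    (by rw [RelSeries.last_smash]; exact hmax _ _ h22 h32)
  have hlen' : n + c = m := by
    have : (t1.smash t2 hconn).length = t1.length + t2.length := rfl
    omega
  refine ⟨t1.head, h12, ?_, ?_⟩
  · rw [← h11]
    exact LTSeries.head_le_last (t1.ofLE cov_le_lt)
  · rw [← hn, ← hc, ← hm, ← hlen']
    simp

end Ord

section Ring

variable {A : Type u} [CommRing A] [IsNoetherianRing A] [IsLocalRing A]

/-- In a catenary Noetherian local ring, every prime `q` contains a minimal prime `p₀` with
`ht q + dim A/q = dim A/p₀`. -/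
theorem exists_minimalPrimes_height_add_dim (hc : CAlg.IsCatenary A) (q : PrimeSpectrum A) :
    ∃ p₀ : PrimeSpectrum A, p₀.asIdeal ∈ minimalPrimes A ∧ p₀ ≤ q ∧
      ((q.asIdeal.height : ℕ∞) : WithBot ℕ∞) + ringKrullDim (A ⧸ q.asIdeal) =
        ringKrullDim (A ⧸ p₀.asIdeal) := by
  obtain ⟨p₀, h1, h2, h3⟩ := exists_isMin_height_add_coheight_eq hc.2 isMax_eq
    (fun x => coheight_lt_top x) q
    (by rw [← PrimeSpectrum.height_eq_orderHeight]; exact Ideal.height_lt_top q.2.ne_top)
  refine ⟨p₀, ?_, h2, ?_⟩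
  · rw [minimalPrimes_eq_minimals]
    exact ⟨p₀.2, fun J hJ hle => h1 (b := ⟨J, hJ⟩) hle⟩
  · rw [ringKrullDim_quotient_eq_coheight, ringKrullDim_quotient_eq_coheight,
      PrimeSpectrum.height_eq_orderHeight, ← h3]
    rfl

end Ring

end Groth.Agent.Lib.Helper21.CatKit
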