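import Mathlib
import Groth.Prelude.Def_CAlg
import Groth.Prelude.Def_EGA4b
import Groth.Agent.Lib.Helper21.RedFlat
import Groth.Agent.Lib.Helper21.FlatLocal11

/-!
# Helper21 — GeomRed: geometrically reduced fibres: finite-extension criterion, residue fields of
`K ⊗_A B`, composition of flat maps with geometrically reduced fibres.
-/

namespace Groth.Agent.Lib.Helper21.GeomRed

open TensorProduct

universe u

section Criterion

variable (k : Type u) [Field k] (X : Type u) [CommRing X] [Algebra k X]

/-- geometric reducedness can be tested on finite field extensions. -/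
theorem isGeometricallyReduced_of_forall_finite
    (h : ∀ (K : Type u) [Field K] [Algebra k K], Module.Finite k K → IsReduced (K ⊗[k] X)) :
    Algebra.IsGeometricallyReduced k X := by
  rw [Algebra.isGeometricallyReduced_field_iff]
  have h1 : IsReduced (X ⊗[k] AlgebraicClosure k) := by
    apply IsReduced.tensorProduct_of_flat_of_forall_fg
    intro D hD
    have hfield : IsField D := Subalgebra.isField_of_algebraic D
    letI : Field D := hfield.toField
    haveI : Algebra.FiniteType k D := ⟨(Subalgebra.fg_top D).2 hD⟩
    haveI : Algebra.IsIntegral k D := Algebra.IsIntegral.of_injective D.val Subtype.val_injective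
    have hfin : Module.Finite k D := Algebra.IsIntegral.finite
    haveI := h D hfin
    exact isReduced_of_injective (Algebra.TensorProduct.comm k X D).toRingHom
      (Algebra.TensorProduct.comm k X D).injective
  exact isReduced_of_injective (Algebra.TensorProduct.comm k (AlgebraicClosure k) X).toRingHom
    (Algebra.TensorProduct.comm k (AlgebraicClosure k) X).injective

end Criterion

section Alg

variable {A B K : Type u} [CommRing A] [CommRing B] [Algebra A B] (p : Ideal A) [p.IsPrime]
  [Field K] [Algebra p.ResidueField K] [Algebra A K] [IsScalarTower A p.ResidueField K]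

/-- the contraction to `A` of a prime of `K ⊗_A B` is `p`, when `K` is a field extension of `κ(p)`. -/
theorem comap_tensor_eq (P : Ideal (K ⊗[A] B)) [P.IsPrime] :
    p = (P.comap (Algebra.TensorProduct.includeRight : B →ₐ[A] K ⊗[A] B).toRingHom).comap
      (algebraMap A B) := by
  ext a
  rw [Ideal.mem_comap, Ideal.mem_comap]
  have h1 : (Algebra.TensorProduct.includeRight : B →ₐ[A] K ⊗[A] B).toRingHom (algebraMap A B a) =
      (Algebra.TensorProduct.includeLeft : K →ₐ[A] K ⊗[A] B) (algebraMap A K a) := by
    simp
  rw [h1]
  constructor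
  · intro ha
    have : algebraMap A K a = 0 := by
      rw [IsScalarTower.algebraMap_apply A p.ResidueField K,
        (Ideal.algebraMap_residueField_eq_zero).2 ha, map_zero]
    rw [this, map_zero]
    exact P.zero_mem
  · intro ha
    by_contra hap
    have hne : algebraMap A K a ≠ 0 := by
      rw [IsScalarTower.algebraMap_apply A p.ResidueField K]
      intro h0
      have := (algebraMap p.ResidueField K).injective (h0.trans (map_zero _).symm)
      exact hap ((Ideal.algebraMap_residueField_eq_zero).1 this)
    have hunit : IsUnit ((Algebra.TensorProduct.includeLeft : K →ₐ[A] K ⊗[A] B)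
        (algebraMap A K a)) := (IsUnit.mk0 _ hne).map _
    exact (Ideal.IsPrime.ne_top ‹P.IsPrime›) (Ideal.eq_top_of_isUnit_mem _ ha hunit)


/-- For a prime `P` of `K ⊗_A B` (`K` an algebraic extension of `κ(p)`) with contraction `q` to `B`,
the residue field `κ(P)` is algebraic over `κ(q)`. -/
theorem isAlgebraic_residueField_tensor [Algebra.IsAlgebraic p.ResidueField K]
    (P : Ideal (K ⊗[A] B)) [P.IsPrime] (q : Ideal B) [q.IsPrime]
    (hq : q = P.comap (Algebra.TensorProduct.includeRight : B →ₐ[A] K ⊗[A] B).toRingHom)
    (hp : p = q.comap (algebraMap A B)) :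
    letI := (Ideal.ResidueField.map q P
      (Algebra.TensorProduct.includeRight : B →ₐ[A] K ⊗[A] B).toRingHom hq).toAlgebra
    Algebra.IsAlgebraic q.ResidueField P.ResidueField := by
  letI algqP : Algebra q.ResidueField P.ResidueField := (Ideal.ResidueField.map q P
      (Algebra.TensorProduct.includeRight : B →ₐ[A] K ⊗[A] B).toRingHom hq).toAlgebra
  letI algpq : Algebra p.ResidueField q.ResidueField :=
    (Ideal.ResidueField.map p q (algebraMap A B) hp).toAlgebra
  letI algpP : Algebra p.ResidueField P.ResidueField :=
    ((algebraMap q.ResidueField P.ResidueField).comp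
      (algebraMap p.ResidueField q.ResidueField)).toAlgebra
  haveI : IsScalarTower p.ResidueField q.ResidueField P.ResidueField :=
    IsScalarTower.of_algebraMap_eq fun _ => rfl
  -- the map `K → κ(P)` is a `κ(p)`-algebra map
  let φ0 : K →+* P.ResidueField :=
    (algebraMap (K ⊗[A] B) P.ResidueField).comp
      (Algebra.TensorProduct.includeLeft : K →ₐ[A] K ⊗[A] B).toRingHom
  have hφ0 : φ0.comp (algebraMap p.ResidueField K) =
      algebraMap p.ResidueField P.ResidueField := by
    apply Ideal.ResidueField.ringHom_ext
    ext a
    simp only [RingHom.coe_comp, Function.comp_apply]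
    rw [← IsScalarTower.algebraMap_apply A p.ResidueField K]
    show (algebraMap (K ⊗[A] B) P.ResidueField) ((algebraMap A K a) ⊗ₜ[A] (1 : B)) =
      (Ideal.ResidueField.map q P _ hq) ((Ideal.ResidueField.map p q (algebraMap A B) hp)
        (algebraMap A p.ResidueField a))
    rw [Ideal.ResidueField.map_algebraMap, Ideal.ResidueField.map_algebraMap]
    congr 1
    simp [Algebra.algebraMap_eq_smul_one, TensorProduct.smul_tmul]
  let φ : K →ₐ[p.ResidueField] P.ResidueField :=
    { φ0 with commutes' := fun x => congrFun (congrArg DFunLike.coe hφ0) x }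
  -- all images of `K ⊗ B` are algebraic
  have himg : ∀ t : K ⊗[A] B,
      algebraMap (K ⊗[A] B) P.ResidueField t ∈ algebraicClosure q.ResidueField P.ResidueField := by
    intro t
    induction t using TensorProduct.induction_on with
    | zero => rw [map_zero]; exact zero_mem _
    | tmul c b =>
      have h1 : c ⊗ₜ[A] b = (Algebra.TensorProduct.includeLeft : K →ₐ[A] K ⊗[A] B) c *
          (Algebra.TensorProduct.includeRight : B →ₐ[A] K ⊗[A] B) b := by
        simp
      rw [h1, map_mul]
      apply mul_mem
      · rw [mem_algebraicClosure_iff]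
        have hc : IsAlgebraic p.ResidueField c := Algebra.IsAlgebraic.isAlgebraic c
        have := (hc.algHom φ).tower_top q.ResidueField
        exact this
      · have : algebraMap (K ⊗[A] B) P.ResidueField
            ((Algebra.TensorProduct.includeRight : B →ₐ[A] K ⊗[A] B) b) =
            algebraMap q.ResidueField P.ResidueField (algebraMap B q.ResidueField b) :=
          (Ideal.ResidueField.map_algebraMap q P _ hq b).symm
        rw [this]
        exact (algebraicClosure q.ResidueField P.ResidueField).algebraMap_mem _
    | add x y hx hy => rw [map_add]; exact add_mem hx hy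
  refine ⟨fun x => ?_⟩
  rw [← mem_algebraicClosure_iff]
  obtain ⟨a, b, -, rfl⟩ := IsFractionRing.div_surjective (A := (K ⊗[A] B) ⧸ P) x
  obtain ⟨a, rfl⟩ := Ideal.Quotient.mk_surjective a
  obtain ⟨b, rfl⟩ := Ideal.Quotient.mk_surjective b
  apply div_mem
  · have := himg a
    rwa [IsScalarTower.algebraMap_apply (K ⊗[A] B) ((K ⊗[A] B) ⧸ P) P.ResidueField] at this
  · have := himg b
    rwa [IsScalarTower.algebraMap_apply (K ⊗[A] B) ((K ⊗[A] B) ⧸ P) P.ResidueField] at this

end Alg

section Core

variable {A B C : Type u} [CommRing A] [CommRing B] [CommRing C] [Algebra A B] [Algebra B C]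
  [Algebra A C] [IsScalarTower A B C]
variable (K : Type u) [Field K] [Algebra A K]

attribute [local instance] Algebra.TensorProduct.rightAlgebra

/-- `K ⊗_A C` is reduced as soon as `K ⊗_A B` is reduced with finitely many minimal primes, `C` is
flat over `B`, and the fibres `κ(P) ⊗_B C` over the primes of `K ⊗_A B` are reduced. -/
theorem isReduced_tensor_of_fibres [Module.Flat B C] [IsReduced (K ⊗[A] B)]
    (hfin : (minimalPrimes (K ⊗[A] B)).Finite)
    (hfib : ∀ (P : Ideal (K ⊗[A] B)) [P.IsPrime], IsReduced (P.ResidueField ⊗[B] C)) :
    IsReduced (K ⊗[A] C) := by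
  have hU' : IsReduced ((K ⊗[A] B) ⊗[B] C) := by
    apply RedFlat.isReduced_of_flat_of_fibres (A := K ⊗[A] B) hfin
    intro P _ hP
    have e := Algebra.TensorProduct.cancelBaseChange B (K ⊗[A] B) P.ResidueField P.ResidueField C
    haveI := hfib P
    exact isReduced_of_injective e.toRingHom e.injective
  have e2 := Algebra.IsPushout.cancelBaseChangeAlg A K B (K ⊗[A] B) C
  exact isReduced_of_injective e2.symm.toRingHom e2.symm.injective

end Core

section Fibre

variable {A : Type u} [CommRing A] (p : Ideal A) [p.IsPrime] (B : Type u) [CommRing B] [Algebra A B]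

/-- `K ⊗_A B` is reduced for every algebraic extension `K` of `κ(p)` when the fibre at `p` is
geometrically reduced. -/
theorem isReduced_tensor_of_isAlgebraic
    [Algebra.IsGeometricallyReduced p.ResidueField (p.Fiber B)]
    (K : Type u) [Field K] [Algebra p.ResidueField K] [Algebra A K]
    [IsScalarTower A p.ResidueField K] [Algebra.IsAlgebraic p.ResidueField K] :
    IsReduced (K ⊗[A] B) := by
  have e := Algebra.TensorProduct.cancelBaseChange A p.ResidueField K K B
  haveI : IsReduced (K ⊗[p.ResidueField] (p.Fiber B)) := inferInstance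
  exact isReduced_of_injective e.symm.toRingHom e.symm.injective

/-- the fibre at `p` is geometrically reduced as soon as `K ⊗_A B` is reduced for all finite
extensions `K` of `κ(p)`. -/
theorem isGeometricallyReduced_fiber_of_forall
    (h : ∀ (K : Type u) [Field K] [Algebra p.ResidueField K] [Algebra A K]
      [IsScalarTower A p.ResidueField K], Module.Finite p.ResidueField K → IsReduced (K ⊗[A] B)) :
    Algebra.IsGeometricallyReduced p.ResidueField (p.Fiber B) := by
  apply isGeometricallyReduced_of_forall_finite
  intro K _ _ hfin
  letI : Algebra A K :=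
    ((algebraMap p.ResidueField K).comp (algebraMap A p.ResidueField)).toAlgebra
  haveI : IsScalarTower A p.ResidueField K := IsScalarTower.of_algebraMap_eq fun _ => rfl
  haveI := h K hfin
  have e := Algebra.TensorProduct.cancelBaseChange A p.ResidueField K K B
  exact isReduced_of_injective e.toRingHom e.injective

/-- `K ⊗_A B` is Noetherian for `K` finite over `κ(p)` and `B` Noetherian. -/
theorem isNoetherianRing_tensor_of_finite [IsNoetherianRing B]
    (K : Type u) [Field K] [Algebra p.ResidueField K] [Algebra A K]
    [IsScalarTower A p.ResidueField K] [Module.Finite p.ResidueField K] :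
    IsNoetherianRing (K ⊗[A] B) := by
  haveI := FlatLocal.isNoetherianRing_fiber (S := B) p
  haveI : IsNoetherianRing ((p.Fiber B) ⊗[p.ResidueField] K) :=
    IsNoetherianRing.of_finite (p.Fiber B) _
  have e1 := Algebra.TensorProduct.cancelBaseChange A p.ResidueField K K B
  have e2 := Algebra.TensorProduct.comm p.ResidueField (p.Fiber B) K
  exact isNoetherianRing_of_ringEquiv _ (e2.toRingEquiv.trans e1.toRingEquiv)

end Fibre

section Fin

variable {A B K : Type u} [CommRing A] [CommRing B] [Algebra A B] (p : Ideal A) [p.IsPrime]
  [Field K] [Algebra p.ResidueField K] [Algebra A K] [IsScalarTower A p.ResidueField K]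

/-- For a prime `P` of `K ⊗_A B` (`K` a finite extension of `κ(p)`) with contraction `q` to `B`,
the residue field `κ(P)` is finite over `κ(q)`. -/
theorem finite_residueField_tensor [Module.Finite p.ResidueField K]
    (P : Ideal (K ⊗[A] B)) [P.IsPrime] (q : Ideal B) [q.IsPrime]
    (hq : q = P.comap (Algebra.TensorProduct.includeRight : B →ₐ[A] K ⊗[A] B).toRingHom)
    (hp : p = q.comap (algebraMap A B)) :
    letI := (Ideal.ResidueField.map q P
      (Algebra.TensorProduct.includeRight : B →ₐ[A] K ⊗[A] B).toRingHom hq).toAlgebra
    Module.Finite q.ResidueField P.ResidueField := by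
  haveI : Algebra.IsAlgebraic p.ResidueField K := Algebra.IsAlgebraic.of_finite _ _
  letI algqP : Algebra q.ResidueField P.ResidueField := (Ideal.ResidueField.map q P
      (Algebra.TensorProduct.includeRight : B →ₐ[A] K ⊗[A] B).toRingHom hq).toAlgebra
  haveI halg : Algebra.IsAlgebraic q.ResidueField P.ResidueField :=
    isAlgebraic_residueField_tensor p P q hq hp
  letI algpq : Algebra p.ResidueField q.ResidueField :=
    (Ideal.ResidueField.map p q (algebraMap A B) hp).toAlgebra
  letI algpP : Algebra p.ResidueField P.ResidueField :=
    ((algebraMap q.ResidueField P.ResidueField).comp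
      (algebraMap p.ResidueField q.ResidueField)).toAlgebra
  haveI : IsScalarTower p.ResidueField q.ResidueField P.ResidueField :=
    IsScalarTower.of_algebraMap_eq fun _ => rfl
  let φ0 : K →+* P.ResidueField :=
    (algebraMap (K ⊗[A] B) P.ResidueField).comp
      (Algebra.TensorProduct.includeLeft : K →ₐ[A] K ⊗[A] B).toRingHom
  have hφ0 : φ0.comp (algebraMap p.ResidueField K) =
      algebraMap p.ResidueField P.ResidueField := by
    apply Ideal.ResidueField.ringHom_ext
    ext a
    simp only [RingHom.coe_comp, Function.comp_apply]
    rw [← IsScalarTower.algebraMap_apply A p.ResidueField K]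
    show (algebraMap (K ⊗[A] B) P.ResidueField) ((algebraMap A K a) ⊗ₜ[A] (1 : B)) =
      (Ideal.ResidueField.map q P _ hq) ((Ideal.ResidueField.map p q (algebraMap A B) hp)
        (algebraMap A p.ResidueField a))
    rw [Ideal.ResidueField.map_algebraMap, Ideal.ResidueField.map_algebraMap]
    congr 1
    simp [Algebra.algebraMap_eq_smul_one, TensorProduct.smul_tmul]
  let φ : K →ₐ[p.ResidueField] P.ResidueField :=
    { φ0 with commutes' := fun x => congrFun (congrArg DFunLike.coe hφ0) x }
  let ψ : q.ResidueField ⊗[p.ResidueField] K →ₐ[q.ResidueField] P.ResidueField :=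
    Algebra.TensorProduct.lift (Algebra.ofId q.ResidueField P.ResidueField) φ
      (fun _ _ => Commute.all _ _)
  -- the range of ψ contains the image of `K ⊗ B`
  have himg : ∀ t : K ⊗[A] B, algebraMap (K ⊗[A] B) P.ResidueField t ∈ ψ.range := by
    intro t
    induction t using TensorProduct.induction_on with
    | zero => rw [map_zero]; exact zero_mem _
    | tmul c b =>
      refine ⟨(algebraMap B q.ResidueField b) ⊗ₜ[p.ResidueField] c, ?_⟩
      have h1 : c ⊗ₜ[A] b = (Algebra.TensorProduct.includeLeft : K →ₐ[A] K ⊗[A] B) c *
          (Algebra.TensorProduct.includeRight : B →ₐ[A] K ⊗[A] B) b := by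
        simp
      have h2 : algebraMap (K ⊗[A] B) P.ResidueField
            ((Algebra.TensorProduct.includeRight : B →ₐ[A] K ⊗[A] B) b) =
            algebraMap q.ResidueField P.ResidueField (algebraMap B q.ResidueField b) :=
        (Ideal.ResidueField.map_algebraMap q P _ hq b).symm
      rw [h1, map_mul, h2]
      simp only [ψ, Algebra.TensorProduct.lift_tmul, AlgHom.coe_toRingHom]
      rw [mul_comm]
      rfl
    | add x y hx hy => rw [map_add]; exact add_mem hx hy
  have hsurj : Function.Surjective ψ := by
    intro x
    obtain ⟨a, b, -, rfl⟩ := IsFractionRing.div_surjective (A := (K ⊗[A] B) ⧸ P) x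
    obtain ⟨a, rfl⟩ := Ideal.Quotient.mk_surjective a
    obtain ⟨b, rfl⟩ := Ideal.Quotient.mk_surjective b
    have ha := himg a
    have hb := himg b
    rw [IsScalarTower.algebraMap_apply (K ⊗[A] B) ((K ⊗[A] B) ⧸ P) P.ResidueField] at ha hb
    have hb' := ψ.range.inv_mem_of_algebraic (x := ⟨_, hb⟩) (Algebra.IsAlgebraic.isAlgebraic _)
    have := mul_mem ha hb'
    rw [← div_eq_mul_inv] at this
    exact this
  exact Module.Finite.of_surjective ψ.toLinearMap hsurj

end Fin

end Groth.Agent.Lib.Helper21.GeomRed
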