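import Mathlib
import Groth.Agent.Lib.Helper21.FlatKit2

/-!
# Tor-free flatness toolkit, part 3 (helper21): elementwise criteria modulo an ideal,
four-term complexes
-/

namespace Groth.Agent.Lib.Helper21.FlatKit

open TensorProduct Function

universe u v

section Elementwise

variable {A : Type*} [CommRing A] (I : Ideal A)
variable {P Q R : Type*} [AddCommGroup P] [Module A P] [AddCommGroup Q] [Module A Q]
  [AddCommGroup R] [Module A R]

theorem one_tmul_eq_zero_iff (x : Q) :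
    (1 : A ⧸ I) ⊗ₜ[A] x = 0 ↔ x ∈ I • (⊤ : Submodule A Q) := by
  rw [← (TensorProduct.quotTensorEquivQuotSMul Q I).map_eq_zero_iff,
    TensorProduct.quotTensorEquivQuotSMul_mk_one_tmul, Submodule.Quotient.mk_eq_zero]

theorem exists_one_tmul (z : (A ⧸ I) ⊗[A] Q) : ∃ x : Q, z = (1 : A ⧸ I) ⊗ₜ[A] x := by
  obtain ⟨x, rfl⟩ := TensorProduct.mk_surjective A Q (A ⧸ I) Ideal.Quotient.mk_surjective z
  exact ⟨x, rfl⟩

theorem injective_lTensor_quotient_of (f : P →ₗ[A] Q)
    (h : ∀ p, f p ∈ I • (⊤ : Submodule A Q) → p ∈ I • (⊤ : Submodule A P)) :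
    Injective (f.lTensor (A ⧸ I)) := by
  rw [injective_iff_map_eq_zero]
  intro z hz
  obtain ⟨p, rfl⟩ := exists_one_tmul I z
  rw [LinearMap.lTensor_tmul, one_tmul_eq_zero_iff] at hz
  rw [one_tmul_eq_zero_iff]
  exact h p hz

theorem exact_lTensor_quotient_of (f : P →ₗ[A] Q) (g : Q →ₗ[A] R) (hfg : g ∘ₗ f = 0)
    (h : ∀ q, g q ∈ I • (⊤ : Submodule A R) → ∃ p, q - f p ∈ I • (⊤ : Submodule A Q)) :
    Exact (f.lTensor (A ⧸ I)) (g.lTensor (A ⧸ I)) := by
  intro z
  constructor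
  · intro hz
    obtain ⟨q, rfl⟩ := exists_one_tmul I z
    rw [LinearMap.lTensor_tmul, one_tmul_eq_zero_iff] at hz
    obtain ⟨p, hp⟩ := h q hz
    refine ⟨(1 : A ⧸ I) ⊗ₜ[A] p, ?_⟩
    rw [LinearMap.lTensor_tmul]
    have := (one_tmul_eq_zero_iff I (q - f p)).2 hp
    rw [TensorProduct.tmul_sub, sub_eq_zero] at this
    exact this.symm
  · rintro ⟨w, rfl⟩
    rw [← LinearMap.comp_apply, ← LinearMap.lTensor_comp, hfg, LinearMap.lTensor_zero,
      LinearMap.zero_apply]

end Elementwise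

section FourTerm

variable {A : Type u} [CommRing A] {I : Ideal A}

/-- `0 → P → Q → R → M → 0` complex of flat modules exact at `R`, `M`, whose reduction mod the
nilpotent ideal `I` is exact at `P`, `Q` (and `M/IM` flat over `A/I`). Then `M` is flat and the
complex is exact. -/
theorem flat_and_exact_of_complex' (hI : IsNilpotent I) {P Q R M : Type v}
    [AddCommGroup P] [Module A P] [AddCommGroup Q] [Module A Q]
    [AddCommGroup R] [Module A R] [AddCommGroup M] [Module A M]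
    [Module.Flat A P] [Module.Flat A Q] [Module.Flat A R]
    (f : P →ₗ[A] Q) (g : Q →ₗ[A] R) (h : R →ₗ[A] M)
    (hfg : g ∘ₗ f = 0) (hgh : Exact g h) (hh : Surjective h)
    [Module.Flat (A ⧸ I) ((A ⧸ I) ⊗[A] M)]
    (hinj : Injective (f.lTensor (A ⧸ I)))
    (hred : Exact (f.lTensor (A ⧸ I)) (g.lTensor (A ⧸ I))) :
    Module.Flat A M ∧ Exact f g ∧ Injective f := by
  obtain ⟨hM, hex⟩ := flat_and_exact_of_complex hI f g h hfg hgh hh hred
  refine ⟨hM, hex, ?_⟩
  -- `range g = ker h` is flat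
  have hZh : Exact (LinearMap.range g).subtype h := by
    intro r
    rw [hgh r]
    constructor
    · rintro ⟨q, rfl⟩; exact ⟨⟨g q, ⟨q, rfl⟩⟩, rfl⟩
    · rintro ⟨⟨_, ⟨q, rfl⟩⟩, rfl⟩; exact ⟨q, rfl⟩
  have hZflat : Module.Flat A (LinearMap.range g) :=
    flat_of_exact_of_flat (LinearMap.range g).subtype h (LinearMap.range g).injective_subtype hh hZh
  have hker : LinearMap.ker g = LinearMap.range f := (LinearMap.exact_iff.1 hex)
  have hQ1 : Module.Flat A (Q ⧸ LinearMap.ker g) :=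
    Module.Flat.of_linearEquiv (LinearMap.quotKerEquivRange g)
  have hQ2 : Module.Flat A (Q ⧸ LinearMap.range f) := by
    rw [← hker]; exact hQ1
  have : Module.Flat (A ⧸ I) ((A ⧸ I) ⊗[A] (Q ⧸ LinearMap.range f)) := inferInstance
  exact injective_of_lTensor_quotient_injective hI f hinj

end FourTerm

end Groth.Agent.Lib.Helper21.FlatKit
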