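import Mathlib
import Groth.Agent.Lib.Helper21.FlatKit3
import Groth.Agent.Lib.Helper21.FlatKit2
import Groth.Agent.Lib.Helper21.FlatLocal6

/-!
# Helper21 — FlatDescA: general lemmas for the descent of flatness to a finite stage

* `lTensor_injective_of_flat_coker`: `0 → N → F → M → 0` exact with `M` flat stays exact after `Q ⊗ -`.
* `exists_smul_mem_smul_top`, `mk_mem_smul_top`: `I • ⊤` in a localized module.
* `TorCond`, `torCond_of_flat`, `rTensor_injective_of_torCond`: elementwise form of
  `Tor₁^A(A/I, M_T) = 0` for a presentation `F → M` with `F` flat over `A`.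
* `exists_pow_smul_mem_range_rTensor`, `exists_pow_smul_mem_range_lTensor`: kernel of `Q ⊗ θ` when
  `coker θ` is flat after inverting `t`.
-/

namespace Groth.Agent.Lib.Helper21.FlatDesc

open TensorProduct Function Groth.Agent.Lib.Helper21

universe u v

section Snake

variable {A : Type*} [CommRing A] {N F M : Type*} [AddCommGroup N] [Module A N]
  [AddCommGroup F] [Module A F] [AddCommGroup M] [Module A M]

/-- If `0 → N → F → M → 0` is exact and `M` is flat, then `Q ⊗ N → Q ⊗ F` is injective for every `Q`. -/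
theorem lTensor_injective_of_flat_coker (j : N →ₗ[A] F) (π : F →ₗ[A] M) (hj : Injective j)
    (hex : Exact j π) (hπ : Surjective π) [Module.Flat A M]
    (Q : Type*) [AddCommGroup Q] [Module A Q] : Injective (j.lTensor Q) := by
  -- free presentation of `Q`
  let p : (Q →₀ A) →ₗ[A] Q := Finsupp.linearCombination A id
  have hp : Surjective p := Finsupp.linearCombination_id_surjective A Q
  let K := LinearMap.ker p
  have h1 : Injective (j.rTensor (Q →₀ A)) :=
    Module.Flat.rTensor_preserves_injective_linearMap j hj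
  have h2 : Injective (K.subtype.lTensor M) :=
    Module.Flat.lTensor_preserves_injective_linearMap K.subtype K.injective_subtype
  have h3 : Injective (j.rTensor Q) :=
    FlatKit.snake_injective (N' := K) (N := Q →₀ A) (N'' := Q) j π hex hπ K.subtype p
      (LinearMap.exact_subtype_ker_map p) hp h1 h2
  have : j.lTensor Q = (TensorProduct.comm A F Q).toLinearMap ∘ₗ j.rTensor Q ∘ₗ
      (TensorProduct.comm A Q N).toLinearMap := by
    ext q n; simp
  rw [this]
  exact (TensorProduct.comm A F Q).injective.comp (h3.comp (TensorProduct.comm A Q N).injective)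

end Snake

section LocSmul

variable {A B : Type*} [CommRing A] [CommRing B] [Algebra A B] (T : Submonoid B)
  {X : Type*} [AddCommGroup X] [Module B X] [Module A X] [IsScalarTower A B X] (I : Ideal A)

/-- `I • ⊤` is stable under the `B`-action. -/
theorem smul_mem_smul_top (b : B) {x : X} (hx : x ∈ I • (⊤ : Submodule A X)) :
    b • x ∈ I • (⊤ : Submodule A X) := by
  refine Submodule.smul_induction_on hx (fun i hi m _ => ?_) (fun x y hx hy => ?_)
  · rw [smul_comm]
    exact Submodule.smul_mem_smul hi trivial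
  · rw [smul_add]; exact add_mem hx hy

theorem smul_mk (i : A) (m : X) (s : T) :
    i • LocalizedModule.mk m s = LocalizedModule.mk (i • m) s := by
  rw [← algebraMap_smul B i (LocalizedModule.mk m s), LocalizedModule.smul'_mk, algebraMap_smul]

/-- Every element of `I • ⊤` in the localized module is of the form `n / s` with `n ∈ I • ⊤`. -/
theorem exists_mk_of_mem_smul_top {y : LocalizedModule T X}
    (hy : y ∈ I • (⊤ : Submodule A (LocalizedModule T X))) :
    ∃ n ∈ I • (⊤ : Submodule A X), ∃ s : T, y = LocalizedModule.mk n s := by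
  refine Submodule.smul_induction_on hy (fun i hi m _ => ?_) (fun x y hx hy => ?_)
  · induction m using LocalizedModule.induction_on with
    | h m s =>
      exact ⟨i • m, Submodule.smul_mem_smul hi trivial, s, smul_mk T i m s⟩
  · obtain ⟨n₁, hn₁, s₁, rfl⟩ := hx
    obtain ⟨n₂, hn₂, s₂, rfl⟩ := hy
    refine ⟨(s₂ : B) • n₁ + (s₁ : B) • n₂, add_mem (smul_mem_smul_top I _ hn₁)
      (smul_mem_smul_top I _ hn₂), s₁ * s₂, ?_⟩
    rw [LocalizedModule.mk_add_mk]
    simp only [Submonoid.smul_def]

theorem exists_smul_mem_smul_top (x : X)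
    (hx : LocalizedModule.mk x (1 : T) ∈ I • (⊤ : Submodule A (LocalizedModule T X))) :
    ∃ u ∈ T, u • x ∈ I • (⊤ : Submodule A X) := by
  obtain ⟨n, hn, s, hs⟩ := exists_mk_of_mem_smul_top T I hx
  rw [LocalizedModule.mk_eq] at hs
  obtain ⟨u, hu⟩ := hs
  refine ⟨u * s, mul_mem u.2 s.2, ?_⟩
  have : ((u : B) * (s : B)) • x = (u : B) • n := by
    have h := hu
    simp only [Submonoid.smul_def, one_smul] at h
    rw [mul_smul]; exact h
  rw [this]
  exact smul_mem_smul_top I _ hn

theorem mk_mem_smul_top {x : X} (hx : x ∈ I • (⊤ : Submodule A X)) (s : T) :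
    LocalizedModule.mk x s ∈ I • (⊤ : Submodule A (LocalizedModule T X)) := by
  refine Submodule.smul_induction_on hx (fun i hi m _ => ?_) (fun x y hx hy => ?_)
  · rw [← smul_mk]
    exact Submodule.smul_mem_smul hi trivial
  · have : LocalizedModule.mk (x + y) s = LocalizedModule.mk x s + LocalizedModule.mk y s := by
      rw [LocalizedModule.mk_add_mk]
      rw [LocalizedModule.mk_eq]
      refine ⟨1, ?_⟩
      simp only [Submonoid.smul_def, Submonoid.coe_mul, one_smul, smul_add, mul_smul]
    rw [this]; exact add_mem hx hy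

end LocSmul

section TorCond

variable {A B : Type u} [CommRing A] [CommRing B] [Algebra A B] (T : Submonoid B)
  {F M : Type u} [AddCommGroup F] [Module B F] [Module A F] [IsScalarTower A B F]
  [AddCommGroup M] [Module B M] [Module A M] [IsScalarTower A B M]
  (π : F →ₗ[B] M) (I : Ideal A)

/-- The elementwise form of `Tor₁^A(A/I, M_T) = 0` for a presentation `π : F → M` with `F` flat:
every element of `ker π ∩ I F` is, up to an element of `T`, in `I • ker π`. -/
def TorCond : Prop :=
  ∀ x : LinearMap.ker π, (x : F) ∈ I • (⊤ : Submodule A F) →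
    ∃ u ∈ T, u • x ∈ I • (⊤ : Submodule A (LinearMap.ker π))

variable {π}

/-- the localized inclusion `(ker π)_T → F_T`. -/
noncomputable abbrev jLoc : LocalizedModule T (LinearMap.ker π) →ₗ[A] LocalizedModule T F :=
  (IsLocalizedModule.map T (LocalizedModule.mkLinearMap T (LinearMap.ker π))
    (LocalizedModule.mkLinearMap T F) (LinearMap.ker π).subtype).restrictScalars A

noncomputable abbrev πLoc : LocalizedModule T F →ₗ[A] LocalizedModule T M :=
  (IsLocalizedModule.map T (LocalizedModule.mkLinearMap T F)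
    (LocalizedModule.mkLinearMap T M) π).restrictScalars A

theorem jLoc_mk (x : LinearMap.ker π) (s : T) :
    jLoc (A := A) T (π := π) (LocalizedModule.mk x s) = LocalizedModule.mk (x : F) s :=
  IsLocalizedModule.map_LocalizedModules T _ x s

theorem jLoc_injective : Injective (jLoc (A := A) T (π := π)) :=
  IsLocalizedModule.map_injective T _ _ _ (LinearMap.ker π).injective_subtype

theorem exact_jLoc_πLoc : Exact (jLoc (A := A) T (π := π)) (πLoc (A := A) T (π := π)) :=
  LocalizedModule.map_exact T _ _ (LinearMap.exact_subtype_ker_map π)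

theorem πLoc_surjective (hπ : Surjective π) : Surjective (πLoc (A := A) T (π := π)) :=
  IsLocalizedModule.map_surjective T _ _ _ hπ

/-- Flatness of `M_T` over `A` implies the Tor condition. -/
theorem torCond_of_flat (hπ : Surjective π) [Module.Flat A (LocalizedModule T M)] :
    TorCond T π I := by
  intro x hx
  have hinj : Injective ((jLoc (A := A) T (π := π)).lTensor (A ⧸ I)) :=
    lTensor_injective_of_flat_coker _ _ (jLoc_injective T) (exact_jLoc_πLoc T)
      (πLoc_surjective T hπ) (A ⧸ I)
  have h1 : (jLoc (A := A) T (π := π)).lTensor (A ⧸ I)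
      ((1 : A ⧸ I) ⊗ₜ[A] LocalizedModule.mk x (1 : T)) = 0 := by
    rw [LinearMap.lTensor_tmul, jLoc_mk, FlatKit.one_tmul_eq_zero_iff]
    exact mk_mem_smul_top T I hx 1
  have h2 : (1 : A ⧸ I) ⊗ₜ[A] LocalizedModule.mk x (1 : T) = 0 :=
    hinj (by rw [h1, map_zero])
  rw [FlatKit.one_tmul_eq_zero_iff] at h2
  exact exists_smul_mem_smul_top T I x h2

/-- The Tor condition implies the injectivity of `I ⊗ M_T → M_T`, if `F` is flat over `A`. -/
theorem rTensor_injective_of_torCond (hπ : Surjective π) [Module.Flat A F]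
    (h : TorCond T π I) : Injective (I.subtype.rTensor (LocalizedModule T M)) := by
  have : Module.Flat A (LocalizedModule T F) :=
    FlatLocal.flat_of_isLocalizedModule T (LocalizedModule.mkLinearMap T F)
  refine FlatKit.rTensor_subtype_injective_of_exact I (jLoc (A := A) T (π := π))
    (πLoc (A := A) T (π := π)) (exact_jLoc_πLoc T) (πLoc_surjective T hπ) ?_
  apply FlatKit.injective_lTensor_quotient_of
  intro y hy
  induction y using LocalizedModule.induction_on with
  | h x s =>
    rw [jLoc_mk] at hy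
    -- `x / s ∈ I F_T`, so `x / 1 ∈ I F_T`
    have hy1 : LocalizedModule.mk (x : F) (1 : T) ∈ I • (⊤ : Submodule A (LocalizedModule T F)) := by
      have : LocalizedModule.mk (x : F) (1 : T) = (s : B) • LocalizedModule.mk (x : F) s := by
        rw [LocalizedModule.smul'_mk, LocalizedModule.mk_eq]
        exact ⟨1, by simp [Submonoid.smul_def]⟩
      rw [this]
      exact smul_mem_smul_top I _ hy
    obtain ⟨u, hu, hux⟩ := exists_smul_mem_smul_top T I (x : F) hy1
    obtain ⟨u', hu', hu'x⟩ := h (u • x) (by simpa using hux)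
    have : LocalizedModule.mk x s =
        LocalizedModule.mk (u' • u • x) (⟨u', hu'⟩ * ⟨u, hu⟩ * s) := by
      rw [LocalizedModule.mk_eq]
      refine ⟨1, ?_⟩
      simp only [Submonoid.smul_def, one_smul, Submonoid.coe_mul, mul_smul]
      rw [smul_comm (s : B) u', smul_comm (s : B) u]
    rw [this]
    exact mk_mem_smul_top T I hu'x _

end TorCond

section FT

variable {D : Type*} [CommRing D] {N F C : Type*} [AddCommGroup N] [Module D N]
  [AddCommGroup F] [Module D F] [AddCommGroup C] [Module D C]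

/-- If the cokernel `C` of `θ : N → F` becomes flat after inverting `t`, then for every `Q` the
kernel of `θ ⊗ Q` is, up to powers of `t`, the image of `ker θ ⊗ Q`. (rTensor form) -/
theorem exists_pow_smul_mem_range_rTensor (θ : N →ₗ[D] F) (πC : F →ₗ[D] C) (hex : Exact θ πC)
    (hπ : Surjective πC) (t : D) [Module.Flat D (LocalizedModule (Submonoid.powers t) C)]
    (Q : Type*) [AddCommGroup Q] [Module D Q] (ξ : N ⊗[D] Q) (hξ : θ.rTensor Q ξ = 0) :
    ∃ k : ℕ, t ^ k • ξ ∈ LinearMap.range ((LinearMap.ker θ).subtype.rTensor Q) := by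
  set S := Submonoid.powers t
  let L := LinearMap.range θ
  let θ' : N →ₗ[D] L := θ.rangeRestrict
  have hθ' : Surjective θ' := LinearMap.surjective_rangeRestrict θ
  have hθ : θ = L.subtype ∘ₗ θ' := by ext x; rfl
  -- the image `z` of `ξ` in `L ⊗ Q`
  set z := θ'.rTensor Q ξ with hz
  have hz0 : L.subtype.rTensor Q z = 0 := by
    rw [hz, ← LinearMap.comp_apply, ← LinearMap.rTensor_comp, ← hθ, hξ]
  -- localize
  let jS : LocalizedModule S L →ₗ[D] LocalizedModule S F :=
    IsLocalizedModule.map S (LocalizedModule.mkLinearMap S L) (LocalizedModule.mkLinearMap S F)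
      L.subtype
  let pS : LocalizedModule S F →ₗ[D] LocalizedModule S C :=
    IsLocalizedModule.map S (LocalizedModule.mkLinearMap S F) (LocalizedModule.mkLinearMap S C) πC
  have hjS : Injective jS := IsLocalizedModule.map_injective S _ _ _ L.injective_subtype
  have hexL : Exact L.subtype πC := by
    intro y
    rw [hex y]
    simp [L]
  have hexS : Exact jS pS := LocalizedModule.map_exact S _ _ hexL
  have hpS : Surjective pS := IsLocalizedModule.map_surjective S _ _ _ hπ
  have hinj : Injective (jS.lTensor Q) :=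
    lTensor_injective_of_flat_coker jS pS hjS hexS hpS Q
  have hinj' : Injective (jS.rTensor Q) := by
    have : jS.rTensor Q = (TensorProduct.comm D Q _).toLinearMap ∘ₗ jS.lTensor Q ∘ₗ
        (TensorProduct.comm D _ Q).toLinearMap := by
      ext a b; simp
    rw [this]
    exact (TensorProduct.comm D Q _).injective.comp (hinj.comp (TensorProduct.comm D _ Q).injective)
  -- `z` dies in `L_S ⊗ Q`
  have hcomm : jS ∘ₗ LocalizedModule.mkLinearMap S L = LocalizedModule.mkLinearMap S F ∘ₗ L.subtype :=
    IsLocalizedModule.map_comp S _ _ _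
  have hz1 : (LocalizedModule.mkLinearMap S L).rTensor Q z = 0 := by
    apply hinj'
    rw [map_zero, ← LinearMap.comp_apply, ← LinearMap.rTensor_comp, hcomm, LinearMap.rTensor_comp,
      LinearMap.comp_apply, hz0, map_zero]
  have hz2 : AlgebraTensorModule.rTensor D Q (LocalizedModule.mkLinearMap S L) z = 0 := hz1
  rw [IsLocalizedModule.eq_zero_iff S] at hz2
  obtain ⟨⟨_, k, rfl⟩, hk⟩ := hz2
  refine ⟨k, ?_⟩
  have hk' : t ^ k • z = 0 := hk
  have h3 : θ'.rTensor Q (t ^ k • ξ) = 0 := by rw [map_smul, ← hz, hk']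
  have hex' : Exact ((LinearMap.ker θ').subtype.rTensor Q) (θ'.rTensor Q) :=
    rTensor_exact Q (LinearMap.exact_subtype_ker_map θ') hθ'
  have hker : LinearMap.ker θ' = LinearMap.ker θ := LinearMap.ker_rangeRestrict θ
  obtain ⟨w, hw⟩ := (hex' _).1 h3
  have hrange : ∀ (K K' : Submodule D N), K = K' →
      LinearMap.range (K.subtype.rTensor Q) = LinearMap.range (K'.subtype.rTensor Q) := by
    rintro K _ rfl; rfl
  rw [← hrange _ _ hker, ← hw]
  exact ⟨w, rfl⟩

end FT

section FTp

variable {R₀ : Type*} [CommRing R₀] (p₀ : Ideal R₀) {N₀ F₀ M₀ : Type*} [AddCommGroup N₀] [Module R₀ N₀]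
  [AddCommGroup F₀] [Module R₀ F₀] [AddCommGroup M₀] [Module R₀ M₀]
  (j : N₀ →ₗ[R₀] F₀) (π : F₀ →ₗ[R₀] M₀)

/-- the elements of `N₀` mapping into `p₀ F₀`. -/
def Ktil : Submodule R₀ N₀ := (p₀ • (⊤ : Submodule R₀ F₀)).comap j

theorem mem_Ktil {n : N₀} : n ∈ Ktil p₀ j ↔ j n ∈ p₀ • (⊤ : Submodule R₀ F₀) := Iff.rfl

variable {j π}

/-- If `(M₀ / p₀ M₀)_t` is flat over `R₀ / p₀`, then for every `R₀ / p₀`-module `Q` the kernel of
`Q ⊗ N₀ → Q ⊗ F₀` is, up to powers of `t`, the image of `Q ⊗ Ktil`. -/
theorem exists_pow_smul_mem_range_lTensor (hex : Exact j π) (hπ : Surjective π) (t : R₀)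
    [Module.Flat (R₀ ⧸ p₀) (LocalizedModule (Submonoid.powers (Ideal.Quotient.mk p₀ t))
      ((R₀ ⧸ p₀) ⊗[R₀] M₀))]
    (Q : Type*) [AddCommGroup Q] [Module R₀ Q] [Module (R₀ ⧸ p₀) Q] [IsScalarTower R₀ (R₀ ⧸ p₀) Q]
    (ξ : Q ⊗[R₀] N₀) (hξ : j.lTensor Q ξ = 0) :
    ∃ k : ℕ, t ^ k • ξ ∈ LinearMap.range ((Ktil p₀ j).subtype.lTensor Q) := by
  let D := R₀ ⧸ p₀
  let θ : D ⊗[R₀] N₀ →ₗ[D] D ⊗[R₀] F₀ := j.baseChange D
  let πC : D ⊗[R₀] F₀ →ₗ[D] D ⊗[R₀] M₀ := π.baseChange D
  have hexD : Exact θ πC := lTensor_exact D hex hπ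
  have hπD : Surjective πC := LinearMap.lTensor_surjective D hπ
  let eN := AlgebraTensorModule.cancelBaseChange R₀ D D Q N₀
  let eF := AlgebraTensorModule.cancelBaseChange R₀ D D Q F₀
  -- the transported element
  let ξ' : (D ⊗[R₀] N₀) ⊗[D] Q := TensorProduct.comm D Q _ (eN.symm ξ)
  have hnat : ∀ y : Q ⊗[D] (D ⊗[R₀] N₀), eF (θ.lTensor Q y) = j.lTensor Q (eN y) := by
    intro y
    induction y with
    | zero => simp
    | add a b ha hb => simp only [map_add, ha, hb]
    | tmul q w =>
      induction w with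
      | zero => simp
      | add a b ha hb => simp only [tmul_add, map_add, ha, hb]
      | tmul d n => simp [θ, eF, eN]
  have h0 : θ.lTensor Q (eN.symm ξ) = 0 := by
    apply eF.injective
    rw [hnat, LinearEquiv.apply_symm_apply, hξ, map_zero]
  have hξ' : θ.rTensor Q ξ' = 0 := by
    have : θ.rTensor Q ξ' = TensorProduct.comm D Q _ (θ.lTensor Q (eN.symm ξ)) := by
      simp only [ξ']
      generalize eN.symm ξ = y
      induction y with
      | zero => simp
      | add a b ha hb => simp only [map_add, ha, hb]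
      | tmul q w => simp
    rw [this, h0, map_zero]
  obtain ⟨k, hk⟩ := exists_pow_smul_mem_range_rTensor θ πC hexD hπD (Ideal.Quotient.mk p₀ t) Q ξ' hξ'
  refine ⟨k, ?_⟩
  -- transport back
  let Ψ : (D ⊗[R₀] N₀) ⊗[D] Q →ₗ[D] Q ⊗[R₀] N₀ :=
    eN.toLinearMap ∘ₗ (TensorProduct.comm D _ Q).toLinearMap
  have hΨξ : Ψ ξ' = ξ := by simp [Ψ, ξ']
  have hΨ : ∀ y ∈ LinearMap.range ((LinearMap.ker θ).subtype.rTensor Q),
      Ψ y ∈ LinearMap.range ((Ktil p₀ j).subtype.lTensor Q) := by
    rintro _ ⟨w, rfl⟩
    induction w with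
    | zero => simp
    | add a b ha hb => simp only [map_add]; exact add_mem ha hb
    | tmul w q =>
      obtain ⟨w, hw⟩ := w
      obtain ⟨n, rfl⟩ := FlatKit.exists_one_tmul p₀ w
      have hn : n ∈ Ktil p₀ j := by
        rw [mem_Ktil, ← FlatKit.one_tmul_eq_zero_iff]
        have : θ ((1 : D) ⊗ₜ[R₀] n) = 0 := hw
        simpa [θ] using this
      refine ⟨q ⊗ₜ ⟨n, hn⟩, ?_⟩
      simp [Ψ, eN]
  have h1 := hΨ _ hk
  rw [map_smul, hΨξ] at h1
  have h2 : (Ideal.Quotient.mk p₀ t) ^ k • ξ = t ^ k • ξ := by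
    rw [← map_pow]
    exact algebraMap_smul D (t ^ k) ξ
  rwa [h2] at h1

end FTp

end Groth.Agent.Lib.Helper21.FlatDesc
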