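import Mathlib
import Groth.Agent.Lib.Helper17.LocalFlat
import Groth.Agent.Lib.Helper21.FlatKit

/-!
# Tor-free flatness toolkit, part 6 (helper21): the local criterion of flatness
(Noetherian, idealwise separated case), following Matsumura 22.3.
-/

namespace Groth.Agent.Lib.Helper21.FlatKit

open TensorProduct Function
open Groth.Agent.Lib.Helper17.LocalFlat

universe u v

section LC

variable {A : Type u} [CommRing A] {B : Type*} [CommRing B] [Algebra A B]
variable (M : Type v) [AddCommGroup M] [Module A M] [Module B M] [IsScalarTower A B M]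

/-- helper17's key step, exported: `(𝔞 ⊔ I^k) ⊗ M → M` is injective. -/
theorem key_sup_pow {I : Ideal A} [Module.Flat (A ⧸ I) ((A ⧸ I) ⊗[A] M)]
    (hIM : Injective (I.subtype.rTensor M)) (𝔞 : Ideal A) :
    ∀ k, Injective ((𝔞 ⊔ I ^ k).subtype.rTensor M) := by
  intro k
  induction k with
  | zero =>
    have h0 : 𝔞 ⊔ I ^ 0 = ⊤ := by rw [pow_zero, Ideal.one_eq_top, sup_top_eq]
    have : ∀ J : Ideal A, J = ⊤ → Injective (J.subtype.rTensor M) := by
      rintro _ rfl
      have : (⊤ : Ideal A).subtype = (Submodule.topEquiv (R := A) (M := A)).toLinearMap := by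
        ext x; rfl
      rw [this]
      exact (LinearEquiv.rTensor M (Submodule.topEquiv (R := A) (M := A))).injective
    exact this _ h0
  | succ k ih =>
    refine good_trans_sub M _ _ (sup_le_sup_left (Ideal.pow_le_pow_right (Nat.le_succ k)) _) ih ?_
    apply good_of_smul_le M hIM
    rw [Submodule.smul_le]
    intro a ha x _
    show ((a • x : ↥(𝔞 ⊔ I ^ k)) : A) ∈ 𝔞 ⊔ I ^ (k + 1)
    obtain ⟨y, hy, z, hz, hyz⟩ := Submodule.mem_sup.1 x.2
    rw [Submodule.coe_smul, ← hyz, smul_add]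
    refine Submodule.add_mem_sup (𝔞.mul_mem_left a hy) ?_
    rw [pow_succ', smul_eq_mul]
    exact Ideal.mul_mem_mul ha hz

/-- Step A: an element of `𝔞 ⊗ M` dying in `M` comes from `(𝔞 ∩ I^k) ⊗ M`. -/
theorem mem_range_of_rTensor_eq_zero {I : Ideal A} [Module.Flat (A ⧸ I) ((A ⧸ I) ⊗[A] M)]
    (hIM : Injective (I.subtype.rTensor M)) (𝔞 : Ideal A) (x : 𝔞 ⊗[A] M)
    (hx : (𝔞.subtype.rTensor M) x = 0) (k : ℕ) :
    x ∈ LinearMap.range ((Submodule.comap 𝔞.subtype (I ^ k)).subtype.rTensor M) := by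
  set N : Ideal A := 𝔞 ⊔ I ^ k with hN
  let T : Submodule A N := Submodule.comap N.subtype (I ^ k)
  let p' : N →ₗ[A] (N ⧸ T) := T.mkQ
  let p : A →ₗ[A] (A ⧸ I ^ k) := (I ^ k).mkQ
  let q : (N ⧸ T) →ₗ[A] (A ⧸ I ^ k) := Submodule.mapQ T (I ^ k) N.subtype (le_refl _)
  have hq : q ∘ₗ p' = p ∘ₗ N.subtype := by ext y; rfl
  have hqinj : Injective (q.rTensor M) := by
    refine good_quot M N.subtype (key_sup_pow M hIM 𝔞 k) p' T.mkQ_surjective p
      (I ^ k).mkQ_surjective q hq ?_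
    intro y hy
    have hy' : y ∈ I ^ k := by
      have : p y = 0 := hy
      exact (Submodule.Quotient.mk_eq_zero _).1 this
    refine ⟨⟨y, le_sup_right (a := 𝔞) hy'⟩, ?_, rfl⟩
    show p' _ = 0
    exact (Submodule.Quotient.mk_eq_zero _).2 hy'
  let ι : 𝔞 →ₗ[A] N := Submodule.inclusion le_sup_left
  let c : 𝔞 →ₗ[A] (N ⧸ T) := p' ∘ₗ ι
  have hqc : q ∘ₗ c = p ∘ₗ 𝔞.subtype := by ext y; rfl
  have hc0 : (c.rTensor M) x = 0 := by
    apply hqinj
    rw [map_zero, ← LinearMap.comp_apply, ← LinearMap.rTensor_comp, hqc, LinearMap.rTensor_comp,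
      LinearMap.comp_apply, hx, map_zero]
  have hcsurj : Surjective c := by
    intro z
    obtain ⟨y, rfl⟩ := T.mkQ_surjective z
    obtain ⟨a, ha, i, hi, hai⟩ := Submodule.mem_sup.1 y.2
    refine ⟨⟨a, ha⟩, ?_⟩
    show p' (ι ⟨a, ha⟩) = p' y
    rw [← sub_eq_zero, ← map_sub]
    apply (Submodule.Quotient.mk_eq_zero _).2
    show ((ι ⟨a, ha⟩ - y : N) : A) ∈ I ^ k
    have : ((ι ⟨a, ha⟩ - y : N) : A) = - i := by
      rw [Submodule.coe_sub, ← hai]
      show a - (a + i) = -i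
      ring
    rw [this]
    exact neg_mem hi
  have hex : Exact (Submodule.comap 𝔞.subtype (I ^ k)).subtype c := by
    intro a
    constructor
    · intro ha
      have : (ι a : N) ∈ T := (Submodule.Quotient.mk_eq_zero _).1 ha
      exact ⟨⟨a, this⟩, rfl⟩
    · rintro ⟨⟨a, ha⟩, rfl⟩
      exact (Submodule.Quotient.mk_eq_zero _).2 ha
  exact (rTensor_exact M hex hcsurj x).1 hc0

end LC


section LC2

variable {A : Type u} [CommRing A] {B : Type*} [CommRing B] [Algebra A B]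
variable (M : Type v) [AddCommGroup M] [Module A M] [Module B M] [IsScalarTower A B M]

/-- Step B: Artin–Rees. -/
theorem exists_comap_pow_le [IsNoetherianRing A] (I 𝔞 : Ideal A) :
    ∃ k₀ : ℕ, ∀ n : ℕ, Submodule.comap 𝔞.subtype (I ^ (n + k₀)) ≤
      I ^ n • (⊤ : Submodule A 𝔞) := by
  obtain ⟨k₀, hk₀⟩ := Ideal.exists_pow_inf_eq_pow_smul I (𝔞 : Submodule A A)
  refine ⟨k₀, fun n a ha => ?_⟩
  have ha' : (a : A) ∈ I ^ (n + k₀) := ha
  have h1 : (a : A) ∈ (I ^ (n + k₀) • ⊤ ⊓ 𝔞 : Submodule A A) := by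
    refine ⟨?_, a.2⟩
    rw [smul_eq_mul, Ideal.mul_top]
    exact ha'
  rw [hk₀ (n + k₀) (Nat.le_add_left _ _), Nat.add_sub_cancel] at h1
  have h2 : (I ^ n • (I ^ k₀ • ⊤ ⊓ 𝔞 : Submodule A A)) ≤ I ^ n • (𝔞 : Submodule A A) :=
    Submodule.smul_mono le_rfl inf_le_right
  have h3 : Submodule.map 𝔞.subtype (I ^ n • (⊤ : Submodule A 𝔞)) = I ^ n • (𝔞 : Submodule A A) := by
    rw [Submodule.map_smul'', Submodule.map_top, Submodule.range_subtype]
  have h4 := h2 h1
  rw [← h3] at h4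
  obtain ⟨a', ha', haa'⟩ := h4
  have : a' = a := Subtype.ext haa'
  rw [← this]
  exact ha'

/-- Step C -/
theorem comm_rTensor_mem (I 𝔞 : Ideal A) (n : ℕ) (T : Submodule A 𝔞)
    (hT : T ≤ I ^ n • (⊤ : Submodule A 𝔞)) (w : T ⊗[A] M) :
    (TensorProduct.comm A 𝔞 M) ((T.subtype.rTensor M) w) ∈
      ((I.map (algebraMap A B)) ^ n • (⊤ : Submodule B (M ⊗[A] 𝔞))) := by
  induction w using TensorProduct.induction_on with
  | zero => simp
  | add x y hx hy => rw [map_add, map_add]; exact add_mem hx hy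
  | tmul t m =>
    rw [LinearMap.rTensor_tmul, TensorProduct.comm_tmul, Submodule.subtype_apply]
    have ht := hT t.2
    generalize (t : 𝔞) = t' at ht
    induction ht using Submodule.smul_induction_on' with
    | smul i hi a _ =>
      rw [TensorProduct.tmul_smul, TensorProduct.smul_tmul', ← algebraMap_smul B i m,
        ← TensorProduct.smul_tmul']
      refine Submodule.smul_mem_smul ?_ Submodule.mem_top
      rw [← Ideal.map_pow]
      exact Ideal.mem_map_of_mem _ hi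
    | add a _ b _ ha hb =>
      rw [TensorProduct.tmul_add]
      exact add_mem ha hb

/-- **Local criterion of flatness** (Matsumura 22.3), Tor-free form. -/
theorem flat_of_localCriterion [IsNoetherianRing A] [IsNoetherianRing B] (I : Ideal A)
    (hIB : I.map (algebraMap A B) ≤ Ideal.jacobson ⊥) [Module.Finite B M]
    [Module.Flat (A ⧸ I) ((A ⧸ I) ⊗[A] M)]
    (hIM : Injective (I.subtype.rTensor M)) : Module.Flat A M := by
  rw [Module.Flat.iff_rTensor_injective']
  intro 𝔞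
  rw [injective_iff_map_eq_zero]
  intro x hx
  obtain ⟨k₀, hk₀⟩ := exists_comap_pow_le I 𝔞
  have : Module.Finite B (M ⊗[A] 𝔞) := finite_tensor M 𝔞
  have hmem : ∀ n, (TensorProduct.comm A 𝔞 M) x ∈
      ((I.map (algebraMap A B)) ^ n • (⊤ : Submodule B (M ⊗[A] 𝔞))) := by
    intro n
    obtain ⟨w, rfl⟩ := mem_range_of_rTensor_eq_zero M hIM 𝔞 x hx (n + k₀)
    exact comm_rTensor_mem M I 𝔞 n _ (hk₀ n) w
  have h0 : (TensorProduct.comm A 𝔞 M) x ∈
      (⨅ i : ℕ, (I.map (algebraMap A B)) ^ i • ⊤ : Submodule B (M ⊗[A] 𝔞)) := by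
    rw [Submodule.mem_iInf]; exact hmem
  rw [Ideal.iInf_pow_smul_eq_bot_of_le_jacobson _ hIB, Submodule.mem_bot] at h0
  exact (TensorProduct.comm A 𝔞 M).map_eq_zero_iff.1 h0

end LC2

end Groth.Agent.Lib.Helper21.FlatKit
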