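import Mathlib
import Groth.Agent.Lib.Helper21.FlatKit6
import Groth.Agent.Lib.Helper21.FlatLocal6
import Groth.Agent.Lib.helper11.GenFreeTools

/-!
# Helper21 — FlatOpen: openness of the flat locus in the Noetherian case (EGA IV 11.1.1, Matsumura 24.3).

For a Noetherian ring `A`, an `A`-algebra `B` of finite type and a finite `B`-module `M`, the set of
primes `q` of `B` such that `M_q` is flat over `A` is open in `Spec B` (`isOpen_flatLocus`).

Ingredients: a topological openness criterion in Noetherian spectra (`isOpen_of_forall_nhd`),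
localization in stages (`isLocalizedModule_of_comp`, `flat_of_le`), the local criterion of flatness
(`FlatKit.flat_of_localCriterion`) and generic freeness (helper11).
-/

universe u

namespace Groth.Agent.Lib.Helper21.FlatOpen

open TensorProduct Function Groth.Agent.Lib.Helper21 PrimeSpectrum

/-- Openness criterion in the spectrum of a Noetherian ring: a set stable under generization which
contains, with each point `q`, a nonempty open part `D(g) ∩ V(q)` of its closure, is open. -/
theorem isOpen_of_forall_nhd {B : Type u} [CommRing B] [IsNoetherianRing B]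
    (U : Set (PrimeSpectrum B))
    (hgen : ∀ q ∈ U, ∀ q' : PrimeSpectrum B, q' ≤ q → q' ∈ U)
    (hnhd : ∀ q ∈ U, ∃ g : B, g ∉ q.asIdeal ∧
      ∀ q' : PrimeSpectrum B, q ≤ q' → g ∉ q'.asIdeal → q' ∈ U) :
    IsOpen U := by
  classical
  rw [← isClosed_compl_iff]
  set Z := Uᶜ with hZ
  set I := vanishingIdeal Z with hI
  have hcl : closure Z = zeroLocus (I : Set B) := (zeroLocus_vanishingIdeal_eq_closure Z).symm
  refine closure_subset_iff_isClosed.mp ?_
  intro x hx
  rw [hcl, mem_zeroLocus] at hx
  have hIx : I ≤ x.asIdeal := hx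
  obtain ⟨P, hPmin, hPx⟩ := Ideal.exists_minimalPrimes_le hIx
  haveI hPprime : P.IsPrime := hPmin.1.1
  -- it suffices that `P ∉ U`
  by_contra hxZ
  have hxU : x ∈ U := not_not.mp hxZ
  have hPU : (⟨P, hPprime⟩ : PrimeSpectrum B) ∈ U := hgen x hxU ⟨P, hPprime⟩ hPx
  obtain ⟨g, hgP, hg⟩ := hnhd _ hPU
  -- the other minimal primes
  have hfin : (I.minimalPrimes).Finite := Ideal.finite_minimalPrimes_of_isNoetherianRing B I
  let s : Finset (Ideal B) := hfin.toFinset.erase P
  have hK : ¬ (s.inf id ≤ P) := by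
    rw [Ideal.IsPrime.inf_le' hPprime]
    rintro ⟨P', hP's, hP'P⟩
    have hP'min : P' ∈ I.minimalPrimes := hfin.mem_toFinset.mp (Finset.mem_of_mem_erase hP's)
    have hne : P' ≠ P := Finset.ne_of_mem_erase hP's
    exact hne (le_antisymm hP'P (hPmin.2 hP'min.1 hP'P))
  obtain ⟨k, hkK, hkP⟩ := Set.not_subset.mp hK
  -- `g * k` vanishes on `Z` but is not in `P`
  have hmem : g * k ∈ I := by
    rw [hI, mem_vanishingIdeal]
    intro z hz
    have hzcl : z ∈ zeroLocus (I : Set B) := hcl ▸ subset_closure hz
    have hIz : I ≤ z.asIdeal := hzcl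
    obtain ⟨P', hP'min, hP'z⟩ := Ideal.exists_minimalPrimes_le hIz
    by_cases hPP : P' = P
    · subst hPP
      have : g ∈ z.asIdeal := by
        by_contra hgz
        exact hz (hg z hP'z hgz)
      exact Ideal.mul_mem_right _ _ this
    · have : k ∈ P' := by
        have : s.inf id ≤ P' := Finset.inf_le (f := id) (Finset.mem_erase.mpr ⟨hPP, hfin.mem_toFinset.mpr hP'min⟩)
        exact this hkK
      exact Ideal.mul_mem_left _ _ (hP'z this)
  have : g * k ∈ P := hPmin.1.2 hmem
  rcases hPprime.mem_or_mem this with h | h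
  · exact hgP h
  · exact hkP h

section LL
variable {R : Type u} [CommRing R] {M M1 M2 : Type u} [AddCommGroup M] [Module R M]
  [AddCommGroup M1] [Module R M1] [AddCommGroup M2] [Module R M2]

/-- Localization in stages: if `f1 : M → M1` is the localization at `S`, `f2 : M → M2` the one at `S' ≥ S`,
and `g ∘ f1 = f2`, then `g` is a localization at `S'`. -/
theorem isLocalizedModule_of_comp (S S' : Submonoid R) (hSS : S ≤ S') (f1 : M →ₗ[R] M1) (f2 : M →ₗ[R] M2)
    [IsLocalizedModule S f1] [IsLocalizedModule S' f2] (g : M1 →ₗ[R] M2) (hg : g ∘ₗ f1 = f2) :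
    IsLocalizedModule S' g := by
  have hg' : ∀ m, g (f1 m) = f2 m := fun m => by rw [← hg]; rfl
  refine ⟨fun s => IsLocalizedModule.map_units f2 s, fun y => ?_, @fun x₁ x₂ h => ?_⟩
  · obtain ⟨⟨m, s⟩, hms⟩ := IsLocalizedModule.surj S' f2 y
    exact ⟨⟨f1 m, s⟩, by rw [hg']; exact hms⟩
  · obtain ⟨⟨m₁, s₁⟩, h₁⟩ := IsLocalizedModule.surj S f1 x₁
    obtain ⟨⟨m₂, s₂⟩, h₂⟩ := IsLocalizedModule.surj S f1 x₂
    have h₁' : (s₁ : R) • x₁ = f1 m₁ := h₁
    have h₂' : (s₂ : R) • x₂ = f1 m₂ := h₂
    have e : f2 ((s₂ : R) • m₁) = f2 ((s₁ : R) • m₂) := by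
      rw [map_smul, map_smul, ← hg', ← hg', ← h₁', ← h₂', map_smul, map_smul, h, smul_comm]
    obtain ⟨c, hc⟩ := IsLocalizedModule.exists_of_eq (S := S') (f := f2) e
    refine ⟨c * ⟨s₁, hSS s₁.2⟩ * ⟨s₂, hSS s₂.2⟩, ?_⟩
    have hc' : (c : R) • (s₂ : R) • m₁ = (c : R) • (s₁ : R) • m₂ := hc
    change ((c : R) * (s₁ : R) * (s₂ : R)) • x₁ = ((c : R) * (s₁ : R) * (s₂ : R)) • x₂
    have e1 : ((c : R) * (s₁ : R) * (s₂ : R)) • x₁ = f1 ((c : R) • (s₂ : R) • m₁) := by
      rw [map_smul, map_smul, ← h₁', smul_smul, smul_smul]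
      congr 1; ring
    have e2 : ((c : R) * (s₁ : R) * (s₂ : R)) • x₂ = f1 ((c : R) • (s₁ : R) • m₂) := by
      rw [map_smul, map_smul, ← h₂', smul_smul, smul_smul]
    rw [e1, e2, hc']

end LL

section Core

variable {A' C' : Type u} [CommRing A'] [CommRing C'] [Algebra A' C']
  {P P1 P2 : Type u} [AddCommGroup P] [Module C' P]
  [AddCommGroup P1] [Module C' P1] [Module A' P1] [IsScalarTower A' C' P1]
  [AddCommGroup P2] [Module C' P2] [Module A' P2] [IsScalarTower A' C' P2]

/-- Flatness (over a base `A'`) passes to the localization at a larger submonoid of `C'`. -/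
theorem flat_of_le (S S' : Submonoid C') (hSS : S ≤ S') (f1 : P →ₗ[C'] P1) (f2 : P →ₗ[C'] P2)
    [IsLocalizedModule S f1] [IsLocalizedModule S' f2] [Module.Flat A' P1] : Module.Flat A' P2 := by
  have hu : ∀ x : S, IsUnit ((algebraMap C' (Module.End C' P2)) x) := fun x =>
    IsLocalizedModule.map_units f2 ⟨x.1, hSS x.2⟩
  let g : P1 →ₗ[C'] P2 := IsLocalizedModule.lift S f1 f2 hu
  have hg : g ∘ₗ f1 = f2 := IsLocalizedModule.lift_comp S f1 f2 hu
  haveI := isLocalizedModule_of_comp S S' hSS f1 f2 g hg
  exact FlatLocal.flat_of_isLocalizedModule S' g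

end Core

section Tor

variable {A B : Type u} [CommRing A] [CommRing B] [Algebra A B]
  (M : Type u) [AddCommGroup M] [Module B M] [Module A M] [IsScalarTower A B M]

/-- Flatness at a prime passes to generizations. -/
theorem flat_generization (q q' : Ideal B) [q.IsPrime] [q'.IsPrime] (hqq : q' ≤ q)
    [Module.Flat A (LocalizedModule q.primeCompl M)] :
    Module.Flat A (LocalizedModule q'.primeCompl M) :=
  flat_of_le q.primeCompl q'.primeCompl (fun x hx hxq => hx (hqq hxq))
    (LocalizedModule.mkLinearMap q.primeCompl M) (LocalizedModule.mkLinearMap q'.primeCompl M)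

variable [IsNoetherianRing A] [IsNoetherianRing B] [Module.Finite B M]

/-- The `Tor₁(M, A/I)`-part of the local criterion spreads out: if `M_q` is `A`-flat there is
`b ∉ q` such that `I ⊗ M_{q'} → M_{q'}` is injective for all primes `q' ∌ b`. -/
theorem exists_notMem_forall_injective (I : Ideal A) (q : Ideal B) [q.IsPrime]
    [Module.Flat A (LocalizedModule q.primeCompl M)] :
    ∃ b : B, b ∉ q ∧ ∀ (q' : Ideal B) [q'.IsPrime], b ∉ q' →
      Injective (I.subtype.rTensor (LocalizedModule q'.primeCompl M)) := by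
  classical
  let φ : M ⊗[A] I →ₗ[B] M ⊗[A] A := AlgebraTensorModule.lTensor B M I.subtype
  haveI : Module.Finite B (M ⊗[A] I) := FlatKit.finite_tensor M I
  let K : Submodule B (M ⊗[A] I) := LinearMap.ker φ
  haveI : Module.Finite B K := Module.Finite.of_injective K.subtype K.injective_subtype
  -- for any prime, describe the kernel of the localized map
  have key : ∀ (q' : Ideal B) [q'.IsPrime], ∀ x ∈ LinearMap.ker
      (AlgebraTensorModule.lTensor B (LocalizedModule q'.primeCompl M) I.subtype),
      ∃ m ∈ K, ∃ s : q'.primeCompl, IsLocalizedModule.mk'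
        (AlgebraTensorModule.rTensor A I (LocalizedModule.mkLinearMap q'.primeCompl M)) m s = x := by
    intro q' _ x hx
    have h1 := LinearMap.ker_localizedMap_eq_localized₀_ker q'.primeCompl
      (AlgebraTensorModule.rTensor A I (LocalizedModule.mkLinearMap q'.primeCompl M))
      (AlgebraTensorModule.rTensor A A (LocalizedModule.mkLinearMap q'.primeCompl M)) φ
    rw [IsLocalizedModule.map_lTensor] at h1
    rw [h1] at hx
    exact hx
  -- `K_q = 0`
  have hKq : (⟨q, inferInstance⟩ : PrimeSpectrum B) ∉ Module.support B K := by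
    rw [Module.notMem_support_iff']
    intro m
    have hinj : Injective (AlgebraTensorModule.lTensor B (LocalizedModule q.primeCompl M) I.subtype) := by
      rw [AlgebraTensorModule.coe_lTensor]
      exact Module.Flat.lTensor_preserves_injective_linearMap I.subtype Subtype.val_injective
    have hzero : (AlgebraTensorModule.rTensor A I (LocalizedModule.mkLinearMap q.primeCompl M)) m.1 = 0 := by
      apply hinj
      rw [map_zero]
      have := IsLocalizedModule.map_apply q.primeCompl
        (AlgebraTensorModule.rTensor A I (LocalizedModule.mkLinearMap q.primeCompl M))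
        (AlgebraTensorModule.rTensor A A (LocalizedModule.mkLinearMap q.primeCompl M)) φ m.1
      rw [IsLocalizedModule.map_lTensor] at this
      rw [this, show φ m.1 = 0 from m.2, map_zero]
    obtain ⟨s, hs⟩ := (IsLocalizedModule.eq_zero_iff q.primeCompl
      (AlgebraTensorModule.rTensor A I (LocalizedModule.mkLinearMap q.primeCompl M))).mp hzero
    exact ⟨s.1, s.2, Subtype.ext hs⟩
  rw [Module.mem_support_iff_of_finite, SetLike.not_le_iff_exists] at hKq
  obtain ⟨b, hbK, hbq⟩ := hKq
  refine ⟨b, hbq, fun q' _ hbq' => ?_⟩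
  rw [← LinearMap.lTensor_inj_iff_rTensor_inj, ← AlgebraTensorModule.coe_lTensor (A := B),
    injective_iff_map_eq_zero]
  intro x hx
  obtain ⟨m, hmK, s, rfl⟩ := key q' x (LinearMap.mem_ker.mpr hx)
  rw [IsLocalizedModule.mk'_eq_zero]
  have hbm : b • m = 0 := by
    have := Module.mem_annihilator.mp hbK ⟨m, hmK⟩
    exact congrArg Subtype.val this
  have hu := IsLocalizedModule.map_units
    (AlgebraTensorModule.rTensor A I (LocalizedModule.mkLinearMap q'.primeCompl M))
    (⟨b, hbq'⟩ : q'.primeCompl)
  rw [Module.End.isUnit_iff] at hu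
  apply hu.injective
  simp only [Module.algebraMap_end_apply, smul_zero]
  rw [← map_smul, hbm, map_zero]

end Tor

section GenFlat
variable {A B : Type u} [CommRing A] [CommRing B] [Algebra A B]
  (M : Type u) [AddCommGroup M] [Module B M] [Module A M] [IsScalarTower A B M] [Module.Finite B M]

/-- Abstract form: `Rb` a domain, `S = Rb ⊗_A B` a pushout, of finite type over `Rb`. -/
theorem exists_ne_zero_forall_flat (Rb S : Type u) [CommRing Rb] [IsDomain Rb] [Algebra A Rb]
    [CommRing S] [Algebra Rb S] [Algebra B S] [Algebra A S] [IsScalarTower A Rb S] [IsScalarTower A B S]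
    [Algebra.IsPushout A Rb B S] [Algebra.FiniteType Rb S] :
    ∃ fb : Rb, fb ≠ 0 ∧ ∀ a : A, algebraMap A Rb a = fb → ∀ (q' : Ideal B) [q'.IsPrime],
      algebraMap A B a ∉ q' → Module.Flat Rb (Rb ⊗[A] LocalizedModule q'.primeCompl M) := by
  classical
  haveI : Module.Finite S (S ⊗[B] M) := Module.Finite.base_change B S M
  obtain ⟨fb, hfb, H⟩ := helper11.GenFreeTools.genFree_of_finiteType (R := Rb) S (S ⊗[B] M)
  haveI hfree := H fb (dvd_refl fb) hfb
  refine ⟨fb, hfb, fun a hafb q' _ haq' => ?_⟩
  haveI : Module.Flat Rb (LocalizedModule (Submonoid.powers fb) (S ⊗[B] M)) :=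
    Module.Flat.trans Rb (Localization.Away fb) _
  -- the `S`-localization at the image of the powers of `fb`
  let T1 : Submonoid S := Algebra.algebraMapSubmonoid S (Submonoid.powers fb)
  let f1 : (S ⊗[B] M) →ₗ[S] LocalizedModule T1 (S ⊗[B] M) := LocalizedModule.mkLinearMap T1 _
  haveI : IsLocalizedModule (Submonoid.powers fb) (f1.restrictScalars Rb) :=
    IsLocalizedModule.restrictScalars (Submonoid.powers fb) f1
  haveI : Module.Flat Rb (LocalizedModule T1 (S ⊗[B] M)) :=
    Module.Flat.of_linearEquiv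
      (IsLocalizedModule.iso (Submonoid.powers fb) (f1.restrictScalars Rb)).symm
  -- the localization at `q'`
  let T2 : Submonoid S := Algebra.algebraMapSubmonoid S q'.primeCompl
  let g : M →ₗ[B] LocalizedModule q'.primeCompl M := LocalizedModule.mkLinearMap q'.primeCompl M
  let f2 : (S ⊗[B] M) →ₗ[S] S ⊗[B] LocalizedModule q'.primeCompl M :=
    AlgebraTensorModule.lTensor S S g
  have hf2 : f2.restrictScalars B =
      (TensorProduct.comm B (LocalizedModule q'.primeCompl M) S).toLinearMap ∘ₗ
        (AlgebraTensorModule.rTensor B S g) ∘ₗ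
        (TensorProduct.comm B S M).toLinearMap := by
    ext x m
    simp [f2]
  haveI : IsLocalizedModule q'.primeCompl (f2.restrictScalars B) := by
    rw [hf2]
    infer_instance
  haveI : IsLocalizedModule T2 f2 := IsLocalizedModule.of_restrictScalars q'.primeCompl f2
  have hle : T1 ≤ T2 := by
    rintro x ⟨y, ⟨k, rfl⟩, rfl⟩
    refine ⟨(algebraMap A B a) ^ k, ?_, ?_⟩
    · intro h
      exact haq' (Ideal.IsPrime.mem_of_pow_mem inferInstance k h)
    · show algebraMap B S ((algebraMap A B a) ^ k) = algebraMap Rb S (fb ^ k)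
      rw [← hafb, ← map_pow, ← map_pow, ← IsScalarTower.algebraMap_apply A B,
        ← IsScalarTower.algebraMap_apply A Rb]
  haveI : Module.Flat Rb (S ⊗[B] LocalizedModule q'.primeCompl M) :=
    flat_of_le (P := S ⊗[B] M) (P1 := LocalizedModule T1 (S ⊗[B] M))
      (P2 := S ⊗[B] LocalizedModule q'.primeCompl M) T1 T2 hle f1 f2
  exact Module.Flat.of_linearEquiv
    (Algebra.IsPushout.cancelBaseChange A Rb B S (LocalizedModule q'.primeCompl M)).symm

attribute [local instance] Algebra.TensorProduct.rightAlgebra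

/-- Generic flatness in the form needed for the local criterion: there is `a ∉ p` such that
`(A/p) ⊗ M_{q'}` is flat over `A/p` for every prime `q'` of `B` not containing `a`. -/
theorem exists_notMem_forall_flat_quotient [Algebra.FiniteType A B] (p : Ideal A) [p.IsPrime] :
    ∃ a : A, a ∉ p ∧ ∀ (q' : Ideal B) [q'.IsPrime], algebraMap A B a ∉ q' →
      Module.Flat (A ⧸ p) ((A ⧸ p) ⊗[A] LocalizedModule q'.primeCompl M) := by
  obtain ⟨fb, hfb, H⟩ := exists_ne_zero_forall_flat (A := A) (B := B) M (A ⧸ p) ((A ⧸ p) ⊗[A] B)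
  obtain ⟨a, rfl⟩ := Ideal.Quotient.mk_surjective fb
  have hap : a ∉ p := fun h => hfb (Ideal.Quotient.eq_zero_iff_mem.mpr h)
  exact ⟨a, hap, fun q' _ haq' => H a rfl q' haq'⟩

end GenFlat

section Main

variable {A B : Type u} [CommRing A] [CommRing B] [Algebra A B] [IsNoetherianRing A]
  [Algebra.FiniteType A B]
  (M : Type u) [AddCommGroup M] [Module B M] [Module A M] [IsScalarTower A B M] [Module.Finite B M]

/-- If `M_q` is `A`-flat, then `M` is `A`-flat at all primes of `V(q) ∩ D(g)` for some `g ∉ q`. -/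
theorem exists_nhd_in_closure (q : Ideal B) [q.IsPrime]
    [Module.Flat A (LocalizedModule q.primeCompl M)] :
    ∃ g : B, g ∉ q ∧ ∀ (q' : Ideal B) [q'.IsPrime], q ≤ q' → g ∉ q' →
      Module.Flat A (LocalizedModule q'.primeCompl M) := by
  haveI : IsNoetherianRing B := Algebra.FiniteType.isNoetherianRing A B
  obtain ⟨b, hbq, hb⟩ := exists_notMem_forall_injective M (q.comap (algebraMap A B)) q
  obtain ⟨a, hap, ha⟩ := exists_notMem_forall_flat_quotient (A := A) (B := B) M (q.comap (algebraMap A B))
  refine ⟨b * algebraMap A B a, ?_, fun q' _ hqq' hg => ?_⟩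
  · intro h
    rcases Ideal.IsPrime.mem_or_mem inferInstance h with h | h
    · exact hbq h
    · exact hap h
  · have hbq' : b ∉ q' := fun h => hg (Ideal.mul_mem_right _ _ h)
    have haq' : algebraMap A B a ∉ q' := fun h => hg (Ideal.mul_mem_left _ _ h)
    haveI := ha q' haq'
    have hIB : (q.comap (algebraMap A B)).map (algebraMap A (Localization.AtPrime q')) ≤
        Ideal.jacobson ⊥ := by
      rw [IsLocalRing.jacobson_eq_maximalIdeal ⊥ bot_ne_top, Ideal.map_le_iff_le_comap]
      intro x hx
      have hx' : algebraMap A B x ∈ q' := hqq' hx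
      rw [Ideal.mem_comap, IsScalarTower.algebraMap_apply A B (Localization.AtPrime q')]
      exact (IsLocalization.AtPrime.to_map_mem_maximal_iff (Localization.AtPrime q') q' _).2 hx'
    exact FlatKit.flat_of_localCriterion (A := A) (B := Localization.AtPrime q')
      (LocalizedModule q'.primeCompl M) (q.comap (algebraMap A B)) hIB (hb q' hbq')

/-- **Openness of the flat locus** (Noetherian case, EGA IV 11.1.1): for a Noetherian ring `A`, a finite
type `A`-algebra `B` and a finite `B`-module `M`, the set of primes `q` of `B` with `M_q` flat over `A`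
is open. -/
theorem isOpen_flatLocus :
    IsOpen {q : PrimeSpectrum B | Module.Flat A (LocalizedModule q.asIdeal.primeCompl M)} := by
  haveI : IsNoetherianRing B := Algebra.FiniteType.isNoetherianRing A B
  apply isOpen_of_forall_nhd
  · intro q hq q' hq'q
    haveI : Module.Flat A (LocalizedModule q.asIdeal.primeCompl M) := hq
    exact flat_generization (A := A) M q.asIdeal q'.asIdeal hq'q
  · intro q hq
    haveI : Module.Flat A (LocalizedModule q.asIdeal.primeCompl M) := hq
    obtain ⟨g, hgq, hg⟩ := exists_nhd_in_closure (A := A) M q.asIdeal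
    exact ⟨g, hgq, fun q' hqq' hgq' => hg q'.asIdeal hqq' hgq'⟩

/-- Basic-open form: if `M_n` is `A`-flat, `M` is `A`-flat at every prime of some `D(s) ∋ n`. -/
theorem exists_basicOpen_flat (n : Ideal B) [n.IsPrime]
    [Module.Flat A (LocalizedModule n.primeCompl M)] :
    ∃ s : B, s ∉ n ∧ ∀ (q : Ideal B) [q.IsPrime], s ∉ q →
      Module.Flat A (LocalizedModule q.primeCompl M) := by
  have hopen := isOpen_flatLocus (A := A) (B := B) M
  have hn : (⟨n, inferInstance⟩ : PrimeSpectrum B) ∈
      {q : PrimeSpectrum B | Module.Flat A (LocalizedModule q.asIdeal.primeCompl M)} :=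
    (inferInstance : Module.Flat A (LocalizedModule n.primeCompl M))
  obtain ⟨_, ⟨s, rfl⟩, hns, hsub⟩ :=
    PrimeSpectrum.isTopologicalBasis_basic_opens.exists_subset_of_mem_open hn hopen
  exact ⟨s, hns, fun q _ hsq => hsub (show (⟨q, inferInstance⟩ : PrimeSpectrum B) ∈ _ from hsq)⟩

end Main

end Groth.Agent.Lib.Helper21.FlatOpen
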