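import Mathlib
import Groth.Agent.Lib.Helper21.FlatDescA
import Groth.Agent.Lib.Helper21.FlatOpen
import Groth.Agent.Lib.helper11.GenFreeCore

/-!
# Helper21 — FlatDescB: base change of flatness at primes; the polynomial family of stage modules

* `flat_localized_of_isPushout`: base change of flatness at a prime of a pushout.
* `flat_fibre_of_flat_localized_aux`: generic flatness over `D`, base changed to a stage.
* `St R₀ n M₀ A = A[X₁..Xₙ] ⊗_{R₀[X]} M₀`, the stage modules.
-/

namespace Groth.Agent.Lib.Helper21.FlatDesc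

open TensorProduct Function MvPolynomial

universe u

section BCF

variable {A' A B' B : Type u} [CommRing A'] [CommRing A] [CommRing B'] [CommRing B]
  [Algebra A' A] [Algebra A' B'] [Algebra A' B] [Algebra A B] [Algebra B' B]
  [IsScalarTower A' A B] [IsScalarTower A' B' B] [Algebra.IsPushout A' A B' B]
  (M' : Type u) [AddCommGroup M'] [Module B' M'] [Module A' M'] [IsScalarTower A' B' M']

/-- Base change of flatness at a prime: if `M'` is `A'`-flat at the prime `Q ∩ B'`, then (any model `Y`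
of) `B ⊗_{B'} M'` is `A`-flat at `Q`, where `B = A ⊗_{A'} B'`. -/
theorem flat_localized_of_isPushout (Q : Ideal B) [Q.IsPrime]
    [Module.Flat A' (LocalizedModule (Q.comap (algebraMap B' B)).primeCompl M')]
    {Y : Type u} [AddCommGroup Y] [Module B Y] [Module A Y] [IsScalarTower A B Y]
    (e : B ⊗[B'] M' ≃ₗ[B] Y) : Module.Flat A (LocalizedModule Q.primeCompl Y) := by
  set Q' : Ideal B' := Q.comap (algebraMap B' B)
  let T2 : Submonoid B := Algebra.algebraMapSubmonoid B Q'.primeCompl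
  let g : M' →ₗ[B'] LocalizedModule Q'.primeCompl M' := LocalizedModule.mkLinearMap Q'.primeCompl M'
  let f2 : (B ⊗[B'] M') →ₗ[B] B ⊗[B'] LocalizedModule Q'.primeCompl M' :=
    AlgebraTensorModule.lTensor B B g
  have hf2 : f2.restrictScalars B' =
      (TensorProduct.comm B' (LocalizedModule Q'.primeCompl M') B).toLinearMap ∘ₗ
        (AlgebraTensorModule.rTensor B' B g) ∘ₗ
        (TensorProduct.comm B' B M').toLinearMap := by
    ext x m
    simp [f2]
  haveI : IsLocalizedModule Q'.primeCompl (f2.restrictScalars B') := by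
    rw [hf2]
    infer_instance
  haveI : IsLocalizedModule T2 f2 := IsLocalizedModule.of_restrictScalars Q'.primeCompl f2
  haveI : Module.Flat A (B ⊗[B'] LocalizedModule Q'.primeCompl M') :=
    Module.Flat.of_linearEquiv
      (Algebra.IsPushout.cancelBaseChange A' A B' B (LocalizedModule Q'.primeCompl M'))
  have hle : T2 ≤ Q.primeCompl := by
    rintro x ⟨y, hy, rfl⟩
    exact hy
  let f3 : (B ⊗[B'] M') →ₗ[B] LocalizedModule Q.primeCompl Y :=
    LocalizedModule.mkLinearMap Q.primeCompl Y ∘ₗ e.toLinearMap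
  haveI : IsLocalizedModule Q.primeCompl f3 := inferInstance
  exact FlatOpen.flat_of_le (A' := A) T2 Q.primeCompl hle f2 f3

end BCF

section H1gen

variable {R₀ : Type u} [CommRing R₀] {B₀ : Type u} [CommRing B₀] [Algebra R₀ B₀]
  {M₀ : Type u} [AddCommGroup M₀] [Module B₀ M₀] [Module R₀ M₀] [IsScalarTower R₀ B₀ M₀]
  {D : Type u} [CommRing D] [Algebra R₀ D] (tD : D)
  (A' : Type u) [CommRing A'] [Algebra R₀ A']
  (Q : Type u) [CommRing Q] [Algebra R₀ Q] [Algebra D Q] [Algebra A' Q]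
  [IsScalarTower R₀ D Q] [IsScalarTower R₀ A' Q]
  (B' : Type u) [CommRing B'] [Algebra A' B'] [Algebra B₀ B']
  (S : Type u) [CommRing S] [Algebra Q S] [Algebra B' S] [Algebra B₀ S] [Algebra R₀ S] [Algebra A' S]
  [IsScalarTower B₀ B' S] [IsScalarTower R₀ Q S] [IsScalarTower R₀ B₀ S]
  [IsScalarTower A' Q S] [IsScalarTower A' B' S]
  [Algebra.IsPushout R₀ Q B₀ S] [Algebra.IsPushout A' Q B' S]

local notation "X" => S ⊗[B'] (B' ⊗[B₀] M₀)
local notation "G" => LocalizedModule (Submonoid.powers tD) (D ⊗[R₀] M₀)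

theorem flat_fibre_of_flat_localized_aux
    [Module.Flat D (LocalizedModule (Submonoid.powers tD) (D ⊗[R₀] M₀))]
    (q' : Ideal B') [q'.IsPrime] (t' : B') (ht' : t' ∉ q')
    (htt : algebraMap B' S t' = algebraMap Q S (algebraMap D Q tD)) :
    Module.Flat Q (Q ⊗[A'] LocalizedModule q'.primeCompl (B' ⊗[B₀] M₀)) := by
  classical
  let tQ : Q := algebraMap D Q tD
  -- the `S`-localization at the image of the powers of `tQ`
  let T1 : Submonoid S := Algebra.algebraMapSubmonoid S (Submonoid.powers tQ)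
  let f1 : X →ₗ[S] LocalizedModule T1 X := LocalizedModule.mkLinearMap T1 X
  haveI : IsLocalizedModule (Submonoid.powers tQ) (f1.restrictScalars Q) :=
    IsLocalizedModule.restrictScalars (Submonoid.powers tQ) f1
  -- identify `X` with `Q ⊗_D (D ⊗ M₀)`
  let e₁ : X ≃ₗ[S] S ⊗[B₀] M₀ := AlgebraTensorModule.cancelBaseChange B₀ B' S S M₀
  let e₂ : S ⊗[B₀] M₀ ≃ₗ[Q] Q ⊗[R₀] M₀ := Algebra.IsPushout.cancelBaseChange R₀ Q B₀ S M₀
  let e₃ : Q ⊗[D] (D ⊗[R₀] M₀) ≃ₗ[Q] Q ⊗[R₀] M₀ := AlgebraTensorModule.cancelBaseChange R₀ D Q Q M₀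
  let e : X ≃ₗ[Q] Q ⊗[D] (D ⊗[R₀] M₀) := (e₁.restrictScalars Q) ≪≫ₗ e₂ ≪≫ₗ e₃.symm
  -- the localization of `Q ⊗_D (D ⊗ M₀)`
  let mkG : (D ⊗[R₀] M₀) →ₗ[D] G := LocalizedModule.mkLinearMap (Submonoid.powers tD) _
  let lam : Q ⊗[D] (D ⊗[R₀] M₀) →ₗ[Q] Q ⊗[D] G := AlgebraTensorModule.lTensor Q Q mkG
  have hlam : lam.restrictScalars D =
      (TensorProduct.comm D G Q).toLinearMap ∘ₗ (AlgebraTensorModule.rTensor D Q mkG) ∘ₗ
        (TensorProduct.comm D Q (D ⊗[R₀] M₀)).toLinearMap := by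
    ext x m
    simp [lam]
  haveI : IsLocalizedModule (Submonoid.powers tD) (lam.restrictScalars D) := by
    rw [hlam]; infer_instance
  haveI h1 : IsLocalizedModule (Algebra.algebraMapSubmonoid Q (Submonoid.powers tD)) lam :=
    IsLocalizedModule.of_restrictScalars (Submonoid.powers tD) lam
  have hsub : Algebra.algebraMapSubmonoid Q (Submonoid.powers tD) = Submonoid.powers tQ :=
    Algebra.algebraMapSubmonoid_powers tD
  haveI h2 : IsLocalizedModule (Submonoid.powers tQ) lam := hsub ▸ h1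
  let Φ : X →ₗ[Q] Q ⊗[D] G := lam ∘ₗ e.toLinearMap
  haveI : IsLocalizedModule (Submonoid.powers tQ) Φ := inferInstance
  haveI : Module.Flat Q (LocalizedModule T1 X) :=
    Module.Flat.of_linearEquiv
      (IsLocalizedModule.linearEquiv (Submonoid.powers tQ) (f1.restrictScalars Q) Φ)
  -- the localization at `q'`
  let T2 : Submonoid S := Algebra.algebraMapSubmonoid S q'.primeCompl
  let g : (B' ⊗[B₀] M₀) →ₗ[B'] LocalizedModule q'.primeCompl (B' ⊗[B₀] M₀) :=
    LocalizedModule.mkLinearMap q'.primeCompl _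
  let f2 : X →ₗ[S] S ⊗[B'] LocalizedModule q'.primeCompl (B' ⊗[B₀] M₀) :=
    AlgebraTensorModule.lTensor S S g
  have hf2 : f2.restrictScalars B' =
      (TensorProduct.comm B' (LocalizedModule q'.primeCompl (B' ⊗[B₀] M₀)) S).toLinearMap ∘ₗ
        (AlgebraTensorModule.rTensor B' S g) ∘ₗ
        (TensorProduct.comm B' S (B' ⊗[B₀] M₀)).toLinearMap := by
    ext x m
    simp [f2]
  haveI : IsLocalizedModule q'.primeCompl (f2.restrictScalars B') := by
    rw [hf2]; infer_instance
  haveI : IsLocalizedModule T2 f2 := IsLocalizedModule.of_restrictScalars q'.primeCompl f2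
  have hle : T1 ≤ T2 := by
    rintro x ⟨y, ⟨k, rfl⟩, rfl⟩
    refine ⟨t' ^ k, ?_, ?_⟩
    · intro h
      exact ht' (Ideal.IsPrime.mem_of_pow_mem inferInstance k h)
    · show algebraMap B' S (t' ^ k) = algebraMap Q S (tQ ^ k)
      rw [map_pow, map_pow, htt]
  haveI : Module.Flat Q (S ⊗[B'] LocalizedModule q'.primeCompl (B' ⊗[B₀] M₀)) :=
    FlatOpen.flat_of_le (A' := Q) (P := X) (P1 := LocalizedModule T1 X)
      (P2 := S ⊗[B'] LocalizedModule q'.primeCompl (B' ⊗[B₀] M₀)) T1 T2 hle f1 f2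
  exact Module.Flat.of_linearEquiv
    (Algebra.IsPushout.cancelBaseChange A' Q B' S
      (LocalizedModule q'.primeCompl (B' ⊗[B₀] M₀))).symm

end H1gen

end Groth.Agent.Lib.Helper21.FlatDesc
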