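import Mathlib
import Groth.Agent.Lib.Helper21.FlatDescB

/-!
# Helper21 — FlatDescC: the polynomial family of stage modules; generic flatness at every stage
-/

namespace Groth.Agent.Lib.Helper21.FlatDesc

open TensorProduct Function MvPolynomial

attribute [local instance] MvPolynomial.algebraMvPolynomial

universe u

section Inst

variable {σ : Type*} {R₀ A' A : Type*} [CommRing R₀] [CommRing A'] [CommRing A]
  [Algebra R₀ A'] [Algebra A' A] [Algebra R₀ A] [IsScalarTower R₀ A' A]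

instance polTower : IsScalarTower (MvPolynomial σ R₀) (MvPolynomial σ A') (MvPolynomial σ A) :=
  IsScalarTower.of_algebraMap_eq' (by
    rw [MvPolynomial.algebraMap_def, MvPolynomial.algebraMap_def, MvPolynomial.algebraMap_def,
      IsScalarTower.algebraMap_eq R₀ A' A]
    exact RingHom.ext fun p => (MvPolynomial.map_map _ _ p).symm)

end Inst

section Fam

variable (R₀ : Type u) [CommRing R₀] (n : ℕ)
  (M₀ : Type u) [AddCommGroup M₀] [Module (MvPolynomial (Fin n) R₀) M₀]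

/-- the stage module `A[X] ⊗_{R₀[X]} M₀`. -/
abbrev St (A : Type u) [CommRing A] [Algebra R₀ A] : Type u :=
  MvPolynomial (Fin n) A ⊗[MvPolynomial (Fin n) R₀] M₀

end Fam

section H1

variable {R₀ : Type u} [CommRing R₀] {n : ℕ}
  {M₀ : Type u} [AddCommGroup M₀] [Module (MvPolynomial (Fin n) R₀) M₀] [Module R₀ M₀]
  [IsScalarTower R₀ (MvPolynomial (Fin n) R₀) M₀]

/-- Generic flatness of `M₀ / p₀ M₀` over `R₀ / p₀`. -/
theorem exists_flat_localized (p₀ : Ideal R₀) [p₀.IsPrime]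
    [Module.Finite (MvPolynomial (Fin n) R₀) M₀] :
    ∃ t : R₀, t ∉ p₀ ∧ Module.Flat (R₀ ⧸ p₀)
      (LocalizedModule (Submonoid.powers (Ideal.Quotient.mk p₀ t)) ((R₀ ⧸ p₀) ⊗[R₀] M₀)) := by
  let D := R₀ ⧸ p₀
  let N := St R₀ n M₀ D
  haveI : Module.Finite (MvPolynomial (Fin n) D) N := Module.Finite.base_change _ _ _
  obtain ⟨f, hf, H⟩ := helper11.GenFreeCore.genFree_of_finite (R := D) n N
  obtain ⟨t, rfl⟩ := Ideal.Quotient.mk_surjective f
  refine ⟨t, fun h => hf (Ideal.Quotient.eq_zero_iff_mem.mpr h), ?_⟩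
  haveI := H _ (dvd_refl _) hf
  haveI : Module.Flat D (LocalizedModule (Submonoid.powers (Ideal.Quotient.mk p₀ t)) N) :=
    Module.Flat.trans D (Localization.Away (Ideal.Quotient.mk p₀ t)) _
  let e : N ≃ₗ[D] D ⊗[R₀] M₀ :=
    Algebra.IsPushout.cancelBaseChange R₀ D (MvPolynomial (Fin n) R₀) (MvPolynomial (Fin n) D) M₀
  let φ : N →ₗ[D] LocalizedModule (Submonoid.powers (Ideal.Quotient.mk p₀ t)) (D ⊗[R₀] M₀) :=
    LocalizedModule.mkLinearMap _ _ ∘ₗ e.toLinearMap
  haveI : IsLocalizedModule (Submonoid.powers (Ideal.Quotient.mk p₀ t)) φ := inferInstance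
  exact Module.Flat.of_linearEquiv
    (IsLocalizedModule.linearEquiv (Submonoid.powers (Ideal.Quotient.mk p₀ t))
      (LocalizedModule.mkLinearMap (Submonoid.powers (Ideal.Quotient.mk p₀ t)) N) φ).symm

/-- Flatness of the fibre modulo `p₀ A'` at every stage. -/
theorem flat_fibre_stage (p₀ : Ideal R₀) (t : R₀)
    [Module.Flat (R₀ ⧸ p₀)
      (LocalizedModule (Submonoid.powers (Ideal.Quotient.mk p₀ t)) ((R₀ ⧸ p₀) ⊗[R₀] M₀))]
    (A' : Type u) [CommRing A'] [Algebra R₀ A']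
    (q' : Ideal (MvPolynomial (Fin n) A')) [q'.IsPrime]
    (ht : algebraMap R₀ (MvPolynomial (Fin n) A') t ∉ q') :
    Module.Flat (A' ⧸ p₀.map (algebraMap R₀ A'))
      ((A' ⧸ p₀.map (algebraMap R₀ A')) ⊗[A'] LocalizedModule q'.primeCompl (St R₀ n M₀ A')) := by
  refine flat_fibre_of_flat_localized_aux (R₀ := R₀) (B₀ := MvPolynomial (Fin n) R₀) (M₀ := M₀)
    (D := R₀ ⧸ p₀) (Ideal.Quotient.mk p₀ t) A' (A' ⧸ p₀.map (algebraMap R₀ A'))
    (MvPolynomial (Fin n) A') (MvPolynomial (Fin n) (A' ⧸ p₀.map (algebraMap R₀ A')))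
    q' (algebraMap R₀ (MvPolynomial (Fin n) A') t) ht ?_
  simp [MvPolynomial.algebraMap_eq, IsScalarTower.algebraMap_apply R₀ A' (MvPolynomial (Fin n) A')]

end H1

end Groth.Agent.Lib.Helper21.FlatDesc
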