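import Mathlib
import Groth.Agent.Lib.Helper21.FlatDescC

/-!
# Helper21 — FlatDescD: the `Tor₁` generation statement at every stage (EGA IV 11.2.6, key step)

* `satSmul T I K`: the `T`-saturation of `I • K`; `torCond_iff`.
* `gen_stage`: at every stage `A`, up to a power of `t`, `ker π_A ∩ I F_A` is generated modulo
  `I • ker π_A` by the images of the elements of `N₀` mapping into `p₀ F₀`.
-/

namespace Groth.Agent.Lib.Helper21.FlatDesc

open TensorProduct Function MvPolynomial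

attribute [local instance] MvPolynomial.algebraMvPolynomial

universe u

section Sat

variable {A B : Type*} [CommRing A] [CommRing B] [Algebra A B] (T : Submonoid B)
  {X : Type*} [AddCommGroup X] [Module B X] [Module A X] [IsScalarTower A B X] (I : Ideal A)

theorem mem_smul_top_subtype_iff {K : Submodule B X} (x : K) :
    x ∈ I • (⊤ : Submodule A K) ↔ (x : X) ∈ I • K.restrictScalars A := by
  have h : (I • (⊤ : Submodule A K)).map (K.subtype.restrictScalars A) = I • K.restrictScalars A := by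
    rw [Submodule.map_smul'', Submodule.map_top]
    congr 1
    ext y
    simp
  rw [← h]
  constructor
  · intro hx; exact ⟨x, hx, rfl⟩
  · rintro ⟨y, hy, hyx⟩
    have : y = x := Subtype.ext hyx
    rwa [← this]

/-- `I • K` is stable under the `B`-action. -/
theorem smul_mem_smul_restrictScalars (K : Submodule B X) (b : B) {x : X}
    (hx : x ∈ I • K.restrictScalars A) : b • x ∈ I • K.restrictScalars A := by
  refine Submodule.smul_induction_on hx (fun i hi m hm => ?_) (fun x y hx hy => ?_)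
  · rw [smul_comm]
    exact Submodule.smul_mem_smul hi (K.smul_mem b hm)
  · rw [smul_add]; exact add_mem hx hy

/-- the `T`-saturation of `I • K` in a `B`-module. -/
def satSmul (K : Submodule B X) : Submodule B X where
  carrier := {x | ∃ s ∈ T, s • x ∈ I • K.restrictScalars A}
  add_mem' := by
    rintro x y ⟨s, hs, hx⟩ ⟨s', hs', hy⟩
    refine ⟨s * s', mul_mem hs hs', ?_⟩
    rw [smul_add]
    refine add_mem ?_ ?_
    · rw [mul_comm, mul_smul]; exact smul_mem_smul_restrictScalars I K _ hx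
    · rw [mul_smul]; exact smul_mem_smul_restrictScalars I K _ hy
  zero_mem' := ⟨1, one_mem T, by simp⟩
  smul_mem' := by
    rintro b x ⟨s, hs, hx⟩
    refine ⟨s, hs, ?_⟩
    rw [smul_comm]; exact smul_mem_smul_restrictScalars I K _ hx

theorem mem_satSmul {K : Submodule B X} {x : X} :
    x ∈ satSmul T I K ↔ ∃ s ∈ T, s • x ∈ I • K.restrictScalars A := Iff.rfl

theorem smul_le_satSmul (K : Submodule B X) :
    (I • K.restrictScalars A) ≤ (satSmul T I K).restrictScalars A :=
  fun x hx => ⟨1, one_mem T, by simpa using hx⟩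

theorem mem_satSmul_of_smul_mem {K : Submodule B X} {x : X} {u : B} (hu : u ∈ T)
    (h : u • x ∈ satSmul T I K) : x ∈ satSmul T I K := by
  obtain ⟨s, hs, hx⟩ := h
  exact ⟨s * u, mul_mem hs hu, by rwa [mul_smul]⟩

end Sat

section TorCond'

variable {A B : Type u} [CommRing A] [CommRing B] [Algebra A B] (T : Submonoid B)
  {F M : Type u} [AddCommGroup F] [Module B F] [Module A F] [IsScalarTower A B F]
  [AddCommGroup M] [Module B M] [Module A M] [IsScalarTower A B M]
  (π : F →ₗ[B] M) (I : Ideal A)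

theorem torCond_iff : TorCond T π I ↔
    ∀ x ∈ LinearMap.ker π, x ∈ I • (⊤ : Submodule A F) → x ∈ satSmul T I (LinearMap.ker π) := by
  constructor
  · intro h x hx hxI
    obtain ⟨u, hu, hux⟩ := h ⟨x, hx⟩ hxI
    exact ⟨u, hu, (mem_smul_top_subtype_iff I (u • (⟨x, hx⟩ : LinearMap.ker π))).1 hux⟩
  · intro h x hxI
    obtain ⟨u, hu, hux⟩ := h x x.2 hxI
    exact ⟨u, hu, (mem_smul_top_subtype_iff I (u • x)).2 hux⟩

end TorCond'

section Gen

variable {R₀ : Type u} [CommRing R₀] {n : ℕ}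
  {N₀ F₀ M₀ : Type u} [AddCommGroup N₀] [Module (MvPolynomial (Fin n) R₀) N₀] [Module R₀ N₀]
  [IsScalarTower R₀ (MvPolynomial (Fin n) R₀) N₀]
  [AddCommGroup F₀] [Module (MvPolynomial (Fin n) R₀) F₀] [Module R₀ F₀]
  [IsScalarTower R₀ (MvPolynomial (Fin n) R₀) F₀]
  [AddCommGroup M₀] [Module (MvPolynomial (Fin n) R₀) M₀] [Module R₀ M₀]
  [IsScalarTower R₀ (MvPolynomial (Fin n) R₀) M₀]
  (j : N₀ →ₗ[MvPolynomial (Fin n) R₀] F₀) (π : F₀ →ₗ[MvPolynomial (Fin n) R₀] M₀)
  (A : Type u) [CommRing A] [Algebra R₀ A]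

/-- the presentation map at the stage `A`. -/
noncomputable abbrev πSt : St R₀ n F₀ A →ₗ[MvPolynomial (Fin n) A] St R₀ n M₀ A :=
  π.baseChange (MvPolynomial (Fin n) A)

noncomputable abbrev jSt : St R₀ n N₀ A →ₗ[MvPolynomial (Fin n) A] St R₀ n F₀ A :=
  j.baseChange (MvPolynomial (Fin n) A)

variable {j π}

theorem exact_jSt_πSt (hex : Exact j π) (hπ : Surjective π) : Exact (jSt j A) (πSt π A) :=
  lTensor_exact _ hex hπ

theorem πSt_surjective (hπ : Surjective π) : Surjective (πSt π A) :=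
  LinearMap.lTensor_surjective _ hπ

/-- the element `1 ⊗ j κ` of `ker π_A`. -/
noncomputable def ySt (hex : Exact j π) (κ : N₀) : LinearMap.ker (πSt π A) :=
  ⟨(1 : MvPolynomial (Fin n) A) ⊗ₜ j κ, by
    rw [LinearMap.mem_ker, LinearMap.baseChange_tmul, (hex (j κ)).2 ⟨κ, rfl⟩, tmul_zero]⟩

theorem jSt_cancel_symm (z : A ⊗[R₀] N₀) :
    jSt j A ((Algebra.IsPushout.cancelBaseChange R₀ A (MvPolynomial (Fin n) R₀)
      (MvPolynomial (Fin n) A) N₀).symm z) =
    (Algebra.IsPushout.cancelBaseChange R₀ A (MvPolynomial (Fin n) R₀)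
      (MvPolynomial (Fin n) A) F₀).symm ((j.restrictScalars R₀).lTensor A z) := by
  induction z with
  | zero => simp
  | add a b ha hb => simp only [map_add, ha, hb]
  | tmul a m => simp

/-- `I • ⊤` of `A ⊗ X` is killed by `A ⊗ X → (A/I) ⊗ X`. -/
theorem rTensor_mkQ_eq_zero_of_mem {X : Type*} [AddCommGroup X] [Module R₀ X] (I : Ideal A)
    {y : A ⊗[R₀] X} (hy : y ∈ I • (⊤ : Submodule A (A ⊗[R₀] X))) :
    AlgebraTensorModule.rTensor R₀ X (Submodule.mkQ I) y = 0 := by
  refine Submodule.smul_induction_on hy (fun i hi m _ => ?_) (fun x y hx hy => ?_)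
  · rw [map_smul]
    induction (AlgebraTensorModule.rTensor R₀ X (Submodule.mkQ I)) m with
    | zero => simp
    | add a b ha hb => rw [smul_add, ha, hb, add_zero]
    | tmul q x =>
      obtain ⟨a, rfl⟩ := Submodule.mkQ_surjective I q
      rw [TensorProduct.smul_tmul', ← map_smul, smul_eq_mul]
      have : I.mkQ (i * a) = 0 := by
        rw [Submodule.mkQ_apply, Submodule.Quotient.mk_eq_zero]
        exact I.mul_mem_right a hi
      rw [this, zero_tmul]
  · rw [map_add, hx, hy, add_zero]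

/-- Elements of the range of `I ⊗ X → A ⊗ X` lie in `I • ⊤`. -/
theorem mem_smul_top_of_mem_range {X : Type*} [AddCommGroup X] [Module R₀ X] (I : Ideal A)
    (w : (I.restrictScalars R₀) ⊗[R₀] X) :
    ((I.restrictScalars R₀).subtype.rTensor X) w ∈ I • (⊤ : Submodule A (A ⊗[R₀] X)) := by
  induction w with
  | zero => simp
  | add a b ha hb => rw [map_add]; exact add_mem ha hb
  | tmul i x =>
    have : ((I.restrictScalars R₀).subtype.rTensor X) (i ⊗ₜ x) = (i : A) • ((1 : A) ⊗ₜ[R₀] x) := by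
      rw [LinearMap.rTensor_tmul, TensorProduct.smul_tmul', smul_eq_mul, mul_one]
      rfl
    rw [this]
    exact Submodule.smul_mem_smul i.2 trivial

theorem gen_stage (hex : Exact j π) (hπ : Surjective π) (p₀ : Ideal R₀) (t : R₀)
    [Module.Flat (R₀ ⧸ p₀)
      (LocalizedModule (Submonoid.powers (Ideal.Quotient.mk p₀ t)) ((R₀ ⧸ p₀) ⊗[R₀] M₀))]
    (x : St R₀ n F₀ A) (hxk : x ∈ LinearMap.ker (πSt π A))
    (hx : x ∈ (p₀.map (algebraMap R₀ A)) • (⊤ : Submodule A (St R₀ n F₀ A))) :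
    ∃ k : ℕ, (algebraMap R₀ (MvPolynomial (Fin n) A) t) ^ k • x ∈
      (p₀.map (algebraMap R₀ A) • (LinearMap.ker (πSt π A)).restrictScalars A) ⊔
      (Submodule.span (MvPolynomial (Fin n) A)
        (Set.range fun κ : Ktil p₀ (j.restrictScalars R₀) =>
          (1 : MvPolynomial (Fin n) A) ⊗ₜ[MvPolynomial (Fin n) R₀] j κ)).restrictScalars A := by
  classical
  set I : Ideal A := p₀.map (algebraMap R₀ A) with hI
  let j₀ : N₀ →ₗ[R₀] F₀ := j.restrictScalars R₀
  let π₀ : F₀ →ₗ[R₀] M₀ := π.restrictScalars R₀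
  let cN := Algebra.IsPushout.cancelBaseChange R₀ A (MvPolynomial (Fin n) R₀)
    (MvPolynomial (Fin n) A) N₀
  let cF := Algebra.IsPushout.cancelBaseChange R₀ A (MvPolynomial (Fin n) R₀)
    (MvPolynomial (Fin n) A) F₀
  -- write `x = j_A ξ̂`
  obtain ⟨ξh, hξh⟩ := (exact_jSt_πSt A hex hπ x).1 hxk
  set ξt : A ⊗[R₀] N₀ := cN ξh with hξt
  have h1 : j₀.lTensor A ξt = cF x := by
    have := jSt_cancel_symm (j := j) A ξt
    rw [hξt, LinearEquiv.symm_apply_apply, hξh] at this
    rw [this, LinearEquiv.apply_symm_apply]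
  have h2 : j₀.lTensor A ξt ∈ I • (⊤ : Submodule A (A ⊗[R₀] F₀)) := by
    rw [h1]
    have : (I • (⊤ : Submodule A (St R₀ n F₀ A))).map cF.toLinearMap ≤ I • ⊤ := by
      rw [Submodule.map_smul'']
      exact Submodule.smul_mono le_rfl le_top
    exact this ⟨_, hx, rfl⟩
  -- pass to `Q = A / I`
  let Q := A ⧸ I
  let mkN : A ⊗[R₀] N₀ →ₗ[A] Q ⊗[R₀] N₀ := AlgebraTensorModule.rTensor R₀ N₀ (Submodule.mkQ I)
  let mkF : A ⊗[R₀] F₀ →ₗ[A] Q ⊗[R₀] F₀ := AlgebraTensorModule.rTensor R₀ F₀ (Submodule.mkQ I)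
  have h3 : j₀.lTensor Q (mkN ξt) = 0 := by
    have hc : j₀.lTensor Q (mkN ξt) = mkF (j₀.lTensor A ξt) := by
      generalize ξt = z
      induction z with
      | zero => simp
      | add a b ha hb => simp only [map_add, ha, hb]
      | tmul a m => simp [mkN, mkF]
    rw [hc]
    exact rTensor_mkQ_eq_zero_of_mem A I h2
  have hex₀ : Exact j₀ π₀ := hex
  have hπ₀ : Surjective π₀ := hπ
  obtain ⟨k, ζ, hζ⟩ := exists_pow_smul_mem_range_lTensor p₀ hex₀ hπ₀ t Q (mkN ξt) h3
  refine ⟨k, ?_⟩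
  let mkK : A ⊗[R₀] (Ktil p₀ j₀) →ₗ[A] Q ⊗[R₀] (Ktil p₀ j₀) := AlgebraTensorModule.rTensor R₀ (Ktil p₀ j₀) (Submodule.mkQ I)
  have hmkK : Surjective mkK :=
    LinearMap.rTensor_surjective (Ktil p₀ j₀) (g := (Submodule.mkQ I).restrictScalars R₀)
      (Submodule.mkQ_surjective I)
  obtain ⟨ζt, rfl⟩ := hmkK ζ
  -- the difference lies in `I • ⊤`
  set wt : A ⊗[R₀] N₀ := t ^ k • ξt - (Ktil p₀ j₀).subtype.lTensor A ζt with hwt
  have h4 : mkN wt = 0 := by
    have hc : mkN ((Ktil p₀ j₀).subtype.lTensor A ζt) = (Ktil p₀ j₀).subtype.lTensor Q (mkK ζt) := by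
      generalize ζt = z
      induction z with
      | zero => simp
      | add a b ha hb => simp only [map_add, ha, hb]
      | tmul a m => simp [mkN, mkK]
    rw [hwt, map_sub, hc, hζ]
    have : mkN (t ^ k • ξt) = t ^ k • mkN ξt := by
      rw [← algebraMap_smul A (t ^ k) ξt, map_smul, algebraMap_smul]
    rw [this, sub_self]
  have h5 : wt ∈ I • (⊤ : Submodule A (A ⊗[R₀] N₀)) := by
    have hexI : Exact ((I.restrictScalars R₀).subtype.rTensor N₀)
        (((Submodule.mkQ I).restrictScalars R₀).rTensor N₀) :=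
      rTensor_exact N₀ (fun a => by
        simp only [LinearMap.coe_restrictScalars, Submodule.mkQ_apply, Submodule.Quotient.mk_eq_zero]
        constructor
        · intro h; exact ⟨⟨a, h⟩, rfl⟩
        · rintro ⟨b, rfl⟩; exact b.2) (Submodule.mkQ_surjective I)
    obtain ⟨w, hw⟩ := (hexI wt).1 h4
    rw [← hw]
    exact mem_smul_top_of_mem_range A I w
  -- map back
  let Λ : A ⊗[R₀] N₀ →ₗ[A] St R₀ n F₀ A := (jSt j A).restrictScalars A ∘ₗ cN.symm.toLinearMap
  have hΛker : LinearMap.range Λ ≤ (LinearMap.ker (πSt π A)).restrictScalars A := by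
    rintro _ ⟨z, rfl⟩
    exact (exact_jSt_πSt A hex hπ _).2 ⟨_, rfl⟩
  have hΛx : Λ ξt = x := by
    simp only [Λ, LinearMap.comp_apply, LinearEquiv.coe_coe, hξt, LinearEquiv.symm_apply_apply]
    exact hξh
  have hΛt : Λ (t ^ k • ξt) = (algebraMap R₀ (MvPolynomial (Fin n) A) t) ^ k • x := by
    rw [← algebraMap_smul A (t ^ k) ξt, map_smul, hΛx, ← map_pow,
      IsScalarTower.algebraMap_apply R₀ A (MvPolynomial (Fin n) A), algebraMap_smul]
  have hsplit : t ^ k • ξt = wt + (Ktil p₀ j₀).subtype.lTensor A ζt := by rw [hwt]; abel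
  rw [← hΛt, hsplit, map_add]
  refine Submodule.add_mem_sup ?_ ?_
  · have : (I • (⊤ : Submodule A (A ⊗[R₀] N₀))).map Λ ≤
        I • (LinearMap.ker (πSt π A)).restrictScalars A := by
      rw [Submodule.map_smul'', Submodule.map_top]
      exact Submodule.smul_mono le_rfl hΛker
    exact this ⟨_, h5, rfl⟩
  · generalize ζt = z
    induction z with
    | zero => simp
    | add a b ha hb => rw [map_add, map_add]; exact add_mem ha hb
    | tmul a κ =>
      have : Λ ((Ktil p₀ j₀).subtype.lTensor A (a ⊗ₜ κ)) =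
          (algebraMap A (MvPolynomial (Fin n) A) a) •
            ((1 : MvPolynomial (Fin n) A) ⊗ₜ[MvPolynomial (Fin n) R₀] j (κ : N₀)) := by
        simp [Λ, cN, TensorProduct.smul_tmul']
      rw [this, Submodule.restrictScalars_mem]
      refine Submodule.smul_mem _ _ (Submodule.subset_span ?_)
      exact Set.mem_range_self κ

end Gen

end Groth.Agent.Lib.Helper21.FlatDesc
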