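import Mathlib
import Groth.Agent.Lib.Helper21.FlatDescD

/-!
# Helper21 — FlatDescE: descent of the `Tor` equations from `A` to a finitely generated subalgebra
-/

namespace Groth.Agent.Lib.Helper21.FlatDesc

open TensorProduct Function MvPolynomial

attribute [local instance] MvPolynomial.algebraMvPolynomial

universe u

section Trans

variable {B₀ B' B : Type*} [CommRing B₀] [CommRing B'] [CommRing B] [Algebra B₀ B'] [Algebra B' B]
  [Algebra B₀ B] [IsScalarTower B₀ B' B]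
  (V W : Type*) [AddCommGroup V] [Module B₀ V] [AddCommGroup W] [Module B₀ W]

/-- the transition map `B' ⊗ V → B ⊗ V`. -/
noncomputable def trans : B' ⊗[B₀] V →ₗ[B₀] B ⊗[B₀] V :=
  (IsScalarTower.toAlgHom B₀ B' B).toLinearMap.rTensor V

variable {V W}

@[simp] theorem trans_tmul (p : B') (v : V) :
    trans (B := B) V (p ⊗ₜ[B₀] v) = algebraMap B' B p ⊗ₜ v := rfl

theorem trans_smul (p : B') (w : B' ⊗[B₀] V) :
    trans (B := B) V (p • w) = algebraMap B' B p • trans (B := B) V w := by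
  induction w with
  | zero => simp
  | add a b ha hb => simp only [smul_add, map_add, ha, hb]
  | tmul a v => simp [TensorProduct.smul_tmul', Algebra.smul_def]

theorem trans_baseChange (f : V →ₗ[B₀] W) (w : B' ⊗[B₀] V) :
    trans (B := B) W (f.baseChange B' w) = f.baseChange B (trans (B := B) V w) := by
  induction w with
  | zero => simp
  | add a b ha hb => simp only [map_add, ha, hb]
  | tmul a v => simp

theorem trans_injective [Module.Flat B₀ V] (h : Injective (algebraMap B' B)) :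
    Injective (trans (B₀ := B₀) (B' := B') (B := B) V) :=
  Module.Flat.rTensor_preserves_injective_linearMap (R := B₀)
    (IsScalarTower.toAlgHom B₀ B' B).toLinearMap h

variable (V) in
/-- elements of `B ⊗ V` coming from the submodule `D ⊆ B`. -/
def definedOver (D : Submodule B₀ B) : Submodule B₀ (B ⊗[B₀] V) :=
  LinearMap.range (D.subtype.rTensor V)

theorem definedOver_mono {D D' : Submodule B₀ B} (h : D ≤ D') :
    definedOver V D ≤ definedOver V D' := by
  rintro _ ⟨w, rfl⟩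
  refine ⟨(Submodule.inclusion h).rTensor V w, ?_⟩
  rw [← LinearMap.comp_apply, ← LinearMap.rTensor_comp]
  rfl

theorem range_trans :
    LinearMap.range (trans (B' := B') (B := B) V) =
      definedOver V (LinearMap.range (IsScalarTower.toAlgHom B₀ B' B).toLinearMap) := by
  set f := (IsScalarTower.toAlgHom B₀ B' B).toLinearMap
  have hf : f = (LinearMap.range f).subtype ∘ₗ f.rangeRestrict := by ext x; rfl
  apply le_antisymm
  · rintro _ ⟨w, rfl⟩
    refine ⟨f.rangeRestrict.rTensor V w, ?_⟩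
    rw [← LinearMap.comp_apply, ← LinearMap.rTensor_comp, ← hf]
    rfl
  · rintro _ ⟨w, rfl⟩
    obtain ⟨w', rfl⟩ := LinearMap.rTensor_surjective V (LinearMap.surjective_rangeRestrict f) w
    refine ⟨w', ?_⟩
    rw [← LinearMap.comp_apply, ← LinearMap.rTensor_comp, ← hf]
    rfl

end Trans

section PolLift

variable {R₀ A : Type u} [CommRing R₀] [CommRing A] [Algebra R₀ A] (n : ℕ)

/-- polynomials with coefficients in the subalgebra `A'`. -/
noncomputable def polDef (A' : Subalgebra R₀ A) :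
    Submodule (MvPolynomial (Fin n) R₀) (MvPolynomial (Fin n) A) :=
  LinearMap.range (IsScalarTower.toAlgHom (MvPolynomial (Fin n) R₀) (MvPolynomial (Fin n) A')
    (MvPolynomial (Fin n) A)).toLinearMap

variable {n}

theorem mem_polDef {A' : Subalgebra R₀ A} {p : MvPolynomial (Fin n) A} :
    p ∈ polDef n A' ↔ (p.coeffs : Set A) ⊆ A' := by
  have : p ∈ polDef n A' ↔ p ∈ Set.range (MvPolynomial.map (algebraMap A' A)) := Iff.rfl
  rw [this, MvPolynomial.mem_range_map_iff_coeffs_subset]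
  have : Set.range (algebraMap A' A) = (A' : Set A) := by
    ext x
    constructor
    · rintro ⟨y, rfl⟩; exact y.2
    · intro hx; exact ⟨⟨x, hx⟩, rfl⟩
  rw [this]

theorem polDef_mono {A' A'' : Subalgebra R₀ A} (h : A' ≤ A'') : polDef n A' ≤ polDef n A'' := by
  intro p hp
  rw [mem_polDef] at hp ⊢
  exact hp.trans h

theorem exists_fg_mem_polDef (p : MvPolynomial (Fin n) A) :
    ∃ A' : Subalgebra R₀ A, A'.FG ∧ p ∈ polDef n A' :=
  ⟨Algebra.adjoin R₀ (p.coeffs : Set A), ⟨p.coeffs, rfl⟩, mem_polDef.2 Algebra.subset_adjoin⟩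

theorem exists_fg_mem_definedOver (V : Type*) [AddCommGroup V] [Module (MvPolynomial (Fin n) R₀) V]
    (z : MvPolynomial (Fin n) A ⊗[MvPolynomial (Fin n) R₀] V) :
    ∃ A' : Subalgebra R₀ A, A'.FG ∧ z ∈ definedOver V (polDef n A') := by
  induction z with
  | zero => exact ⟨⊥, Subalgebra.fg_bot, zero_mem _⟩
  | add a b ha hb =>
    obtain ⟨A₁, h₁, ha⟩ := ha
    obtain ⟨A₂, h₂, hb⟩ := hb
    exact ⟨A₁ ⊔ A₂, h₁.sup h₂, add_mem (definedOver_mono (polDef_mono le_sup_left) ha)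
      (definedOver_mono (polDef_mono le_sup_right) hb)⟩
  | tmul p v =>
    obtain ⟨A', h, hp⟩ := exists_fg_mem_polDef (R₀ := R₀) p
    exact ⟨A', h, ⟨(⟨p, hp⟩ : polDef n A') ⊗ₜ v, rfl⟩⟩

end PolLift

section DL

variable {R₀ : Type u} [CommRing R₀] {n : ℕ}
  {N₀ F₀ M₀ : Type u} [AddCommGroup N₀] [Module (MvPolynomial (Fin n) R₀) N₀] [Module R₀ N₀]
  [IsScalarTower R₀ (MvPolynomial (Fin n) R₀) N₀]
  [AddCommGroup F₀] [Module (MvPolynomial (Fin n) R₀) F₀] [Module R₀ F₀]
  [IsScalarTower R₀ (MvPolynomial (Fin n) R₀) F₀]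
  [AddCommGroup M₀] [Module (MvPolynomial (Fin n) R₀) M₀] [Module R₀ M₀]
  [IsScalarTower R₀ (MvPolynomial (Fin n) R₀) M₀]
  {j : N₀ →ₗ[MvPolynomial (Fin n) R₀] F₀} {π : F₀ →ₗ[MvPolynomial (Fin n) R₀] M₀}
  {A : Type u} [CommRing A] [Algebra R₀ A]

/-- the transition map `F[A'] → F[A]` for a subalgebra `A'` of `A`. -/
noncomputable abbrev τ (V : Type u) [AddCommGroup V] [Module (MvPolynomial (Fin n) R₀) V]
    (A' : Subalgebra R₀ A) : St R₀ n V A' →ₗ[MvPolynomial (Fin n) R₀] St R₀ n V A :=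
  trans (B₀ := MvPolynomial (Fin n) R₀) (B' := MvPolynomial (Fin n) A')
    (B := MvPolynomial (Fin n) A) V

theorem τ_smul_base (V : Type u) [AddCommGroup V] [Module (MvPolynomial (Fin n) R₀) V]
    (A' : Subalgebra R₀ A) (a : A') (z : St R₀ n V A') :
    τ V A' (a • z) = (a : A) • τ V A' z := by
  rw [← algebraMap_smul (MvPolynomial (Fin n) A') a z, trans_smul,
    ← IsScalarTower.algebraMap_apply, IsScalarTower.algebraMap_apply A' A (MvPolynomial (Fin n) A),
    algebraMap_smul]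
  rfl

/-- the property of being the image of an element of `p₀ A' • ker π_{A'}` for all large `A'`. -/
def DescProp (π : F₀ →ₗ[MvPolynomial (Fin n) R₀] M₀) (p₀ : Ideal R₀) (x : St R₀ n F₀ A) : Prop :=
  ∃ A₁ : Subalgebra R₀ A, A₁.FG ∧ ∀ A' : Subalgebra R₀ A, A₁ ≤ A' →
    ∃ w ∈ (p₀.map (algebraMap R₀ A')) • (LinearMap.ker (πSt π A')).restrictScalars A',
      τ F₀ A' w = x

theorem DescProp.add {p₀ : Ideal R₀} {x y : St R₀ n F₀ A} (hx : DescProp π p₀ x)
    (hy : DescProp π p₀ y) : DescProp π p₀ (x + y) := by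
  obtain ⟨A₁, h₁, H₁⟩ := hx
  obtain ⟨A₂, h₂, H₂⟩ := hy
  refine ⟨A₁ ⊔ A₂, h₁.sup h₂, fun A' hA' => ?_⟩
  obtain ⟨w₁, hw₁, rfl⟩ := H₁ A' (le_sup_left.trans hA')
  obtain ⟨w₂, hw₂, rfl⟩ := H₂ A' (le_sup_right.trans hA')
  exact ⟨w₁ + w₂, add_mem hw₁ hw₂, map_add _ _ _⟩

theorem descProp_of_mem (hex : Exact j π) (hπ : Surjective π) (p₀ : Ideal R₀) {x : St R₀ n F₀ A}
    (hx : x ∈ (p₀.map (algebraMap R₀ A)) • (LinearMap.ker (πSt π A)).restrictScalars A) :
    DescProp π p₀ x := by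
  -- inner induction on the ideal element
  have inner : ∀ i ∈ p₀.map (algebraMap R₀ A), ∀ y : St R₀ n N₀ A,
      DescProp π p₀ (i • jSt j A y) := by
    intro i hi
    refine Submodule.span_induction (p := fun i _ => ∀ y : St R₀ n N₀ A,
      DescProp π p₀ (i • jSt j A y)) ?_ ?_ ?_ ?_ hi
    · rintro _ ⟨ϖ, hϖ, rfl⟩ y
      obtain ⟨A₁, h₁, hy⟩ := exists_fg_mem_definedOver (R₀ := R₀) N₀ y
      refine ⟨A₁, h₁, fun A' hA' => ?_⟩
      have hy' : y ∈ LinearMap.range (τ N₀ A') := by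
        rw [range_trans]
        exact definedOver_mono (polDef_mono hA') hy
      obtain ⟨y', rfl⟩ := hy'
      refine ⟨(algebraMap R₀ A' ϖ) • jSt j A' y', Submodule.smul_mem_smul
        (Ideal.mem_map_of_mem _ hϖ) ((exact_jSt_πSt A' hex hπ _).2 ⟨_, rfl⟩), ?_⟩
      rw [τ_smul_base, trans_baseChange]
      rfl
    · intro y
      refine ⟨⊥, Subalgebra.fg_bot, fun A' _ => ⟨0, zero_mem _, ?_⟩⟩
      exact (map_zero _).trans (zero_smul A (jSt j A y)).symm
    · intro i₁ i₂ _ _ h₁ h₂ y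
      have h : (i₁ + i₂) • jSt j A y = i₁ • jSt j A y + i₂ • jSt j A y :=
        add_smul i₁ i₂ (jSt j A y)
      rw [h]
      exact (h₁ y).add (h₂ y)
    · intro a i _ h y
      have : (a • i) • jSt j A y = i • jSt j A (a • y) := by
        rw [smul_eq_mul, mul_comm]
        exact (mul_smul i a (jSt j A y)).trans
          (congrArg (fun z => i • z) (LinearMap.map_smul_of_tower (jSt j A) a y).symm)
      rw [this]
      exact h _
  refine Submodule.smul_induction_on hx (fun i hi k hk => ?_) (fun x y hx hy => hx.add hy)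
  obtain ⟨y, rfl⟩ := (exact_jSt_πSt A hex hπ k).1 hk
  exact inner i hi y

/-- **Descent of the saturation condition**: if `1 ⊗ j κ` lies in the `q`-saturation of
`p₀ A • ker π_A`, the same holds over every sufficiently large subalgebra `A'` of `A`
(with a finitely generated bound). -/
theorem exists_fg_forall_mem_satSmul [Module.Flat (MvPolynomial (Fin n) R₀) F₀]
    (hex : Exact j π) (hπ : Surjective π) (p₀ : Ideal R₀)
    (q : Ideal (MvPolynomial (Fin n) A)) [q.IsPrime] (κ : N₀)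
    (h : ((1 : MvPolynomial (Fin n) A) ⊗ₜ[MvPolynomial (Fin n) R₀] j κ : St R₀ n F₀ A) ∈
      satSmul q.primeCompl (p₀.map (algebraMap R₀ A)) (LinearMap.ker (πSt π A))) :
    ∃ A₁ : Subalgebra R₀ A, A₁.FG ∧ ∀ A' : Subalgebra R₀ A, A₁ ≤ A' →
      ((1 : MvPolynomial (Fin n) A') ⊗ₜ[MvPolynomial (Fin n) R₀] j κ : St R₀ n F₀ A') ∈
        satSmul (q.comap (algebraMap (MvPolynomial (Fin n) A') (MvPolynomial (Fin n) A))).primeCompl
          (p₀.map (algebraMap R₀ A')) (LinearMap.ker (πSt π A')) := by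
  obtain ⟨s, hsq, hs⟩ := h
  obtain ⟨A₁, h₁, H⟩ := descProp_of_mem hex hπ p₀ hs
  obtain ⟨A₂, h₂, hs₂⟩ := exists_fg_mem_polDef (R₀ := R₀) s
  refine ⟨A₁ ⊔ A₂, h₁.sup h₂, fun A' hA' => ?_⟩
  obtain ⟨w, hw, hτw⟩ := H A' (le_sup_left.trans hA')
  obtain ⟨s', rfl⟩ := polDef_mono (le_sup_right.trans hA') hs₂
  have hinj : Injective (τ (R₀ := R₀) (n := n) F₀ A') :=
    trans_injective (MvPolynomial.map_injective _ Subtype.val_injective)
  have hw' : w = s' • ((1 : MvPolynomial (Fin n) A') ⊗ₜ[MvPolynomial (Fin n) R₀] j κ) := by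
    apply hinj
    rw [hτw, trans_smul, trans_tmul, map_one]
    rfl
  refine ⟨s', ?_, hw' ▸ hw⟩
  exact hsq

end DL

end Groth.Agent.Lib.Helper21.FlatDesc
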