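import Mathlib
import Groth.Agent.Lib.Helper21.FlatKit2

/-!
# Tor-free flatness toolkit, part 4 (helper21): endomorphisms of flat modules over Artinian local
rings; socle trick.
-/

namespace Groth.Agent.Lib.Helper21.FlatKit

open TensorProduct Function IsLocalRing

universe u v

section Socle

variable {A : Type u} [CommRing A] [IsLocalRing A] [IsArtinianRing A]

/-- a socle element modulo a proper ideal -/
theorem exists_socle (I : Ideal A) (hI : I ≠ ⊤) :
    ∃ s : A, s ∉ I ∧ ∀ a ∈ maximalIdeal A, a * s ∈ I := by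
  obtain ⟨n, hn⟩ := isNilpotent_maximalIdeal (A := A)
  have hex : ∃ k : ℕ, (maximalIdeal A) ^ k ≤ I := ⟨n, by rw [hn]; exact bot_le⟩
  classical
  let k := Nat.find hex
  have hk : (maximalIdeal A) ^ k ≤ I := Nat.find_spec hex
  have hk0 : k ≠ 0 := by
    intro h0
    rw [h0, pow_zero, Ideal.one_eq_top, top_le_iff] at hk
    exact hI hk
  obtain ⟨j, hj⟩ := Nat.exists_eq_succ_of_ne_zero hk0
  have hjlt : ¬ (maximalIdeal A) ^ j ≤ I := Nat.find_min hex (by omega)
  obtain ⟨s, hs, hsI⟩ := SetLike.not_le_iff_exists.1 hjlt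
  refine ⟨s, hsI, fun a ha => hk ?_⟩
  rw [hj, pow_succ']
  exact Ideal.mul_mem_mul ha hs

/-- the embedding of the residue field given by an element killed by the maximal ideal -/
noncomputable def socleMap {X : Type*} [AddCommGroup X] [Module A X] (x : X)
    (hx : ∀ a ∈ maximalIdeal A, a • x = 0) : (A ⧸ maximalIdeal A) →ₗ[A] X :=
  Submodule.liftQ (maximalIdeal A) (LinearMap.toSpanSingleton A X x) (by
    intro a ha
    rw [LinearMap.mem_ker, LinearMap.toSpanSingleton_apply]
    exact hx a ha)

omit [IsArtinianRing A] in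
theorem socleMap_injective {X : Type*} [AddCommGroup X] [Module A X] (x : X)
    (hx : ∀ a ∈ maximalIdeal A, a • x = 0) (hx0 : x ≠ 0) : Injective (socleMap x hx) := by
  rw [injective_iff_map_eq_zero]
  intro c hc
  obtain ⟨a, rfl⟩ := Submodule.Quotient.mk_surjective _ c
  rw [socleMap, Submodule.liftQ_apply, LinearMap.toSpanSingleton_apply] at hc
  rw [Submodule.Quotient.mk_eq_zero]
  by_contra ha
  have hu : IsUnit a := by
    by_contra hnu
    exact ha ((IsLocalRing.mem_maximalIdeal a).2 hnu)
  obtain ⟨u, rfl⟩ := hu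
  apply hx0
  have := congrArg (fun y => (↑u⁻¹ : A) • y) hc
  simpa [smul_smul] using this

end Socle

section Endo

variable {A : Type u} [CommRing A] [IsLocalRing A] [IsArtinianRing A]
variable {M : Type v} [AddCommGroup M] [Module A M] [Module.Flat A M]

/-- from injectivity mod a proper ideal to injectivity mod the maximal ideal -/
theorem lTensor_residue_injective_of_lTensor_quotient_injective (I : Ideal A) (hI : I ≠ ⊤)
    (h : M →ₗ[A] M) (hi : Injective (h.lTensor (A ⧸ I))) :
    Injective (h.lTensor (A ⧸ maximalIdeal A)) := by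
  obtain ⟨s, hsI, hs⟩ := exists_socle I hI
  let x : A ⧸ I := Submodule.Quotient.mk s
  have hx : ∀ a ∈ maximalIdeal A, a • x = 0 := by
    intro a ha
    rw [← Submodule.Quotient.mk_smul, Submodule.Quotient.mk_eq_zero]
    exact hs a ha
  have hx0 : x ≠ 0 := by
    intro h0
    exact hsI ((Submodule.Quotient.mk_eq_zero I).1 h0)
  have hι : Injective ((socleMap x hx).rTensor M) :=
    Module.Flat.rTensor_preserves_injective_linearMap _ (socleMap_injective x hx hx0)
  have hsq : (h.lTensor (A ⧸ I)) ∘ₗ ((socleMap x hx).rTensor M) =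
      ((socleMap x hx).rTensor M) ∘ₗ (h.lTensor (A ⧸ maximalIdeal A)) := by
    rw [LinearMap.lTensor_comp_rTensor, LinearMap.rTensor_comp_lTensor]
  have hcomp : Injective (((socleMap x hx).rTensor M) ∘ₗ (h.lTensor (A ⧸ maximalIdeal A))) := by
    rw [← hsq]
    exact hi.comp hι
  exact Injective.of_comp hcomp

theorem lTensor_residue_injective_of_injective (h : M →ₗ[A] M) (hi : Injective h) :
    Injective (h.lTensor (A ⧸ maximalIdeal A)) := by
  obtain ⟨s, hsI, hs⟩ := exists_socle (⊥ : Ideal A) bot_ne_top
  have hx : ∀ a ∈ maximalIdeal A, a • s = 0 := fun a ha => by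
    simpa using hs a ha
  have hx0 : s ≠ 0 := fun h0 => hsI (by rw [h0]; exact zero_mem _)
  have hι : Injective ((socleMap s hx).rTensor M) :=
    Module.Flat.rTensor_preserves_injective_linearMap _ (socleMap_injective s hx hx0)
  have hA : Injective (h.lTensor A) := Module.Flat.lTensor_preserves_injective_linearMap h hi
  have hsq : (h.lTensor A) ∘ₗ ((socleMap s hx).rTensor M) =
      ((socleMap s hx).rTensor M) ∘ₗ (h.lTensor (A ⧸ maximalIdeal A)) := by
    rw [LinearMap.lTensor_comp_rTensor, LinearMap.rTensor_comp_lTensor]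
  have hcomp : Injective (((socleMap s hx).rTensor M) ∘ₗ (h.lTensor (A ⧸ maximalIdeal A))) := by
    rw [← hsq]
    exact hA.comp hι
  exact Injective.of_comp hcomp

/-- main statement for endomorphisms of flat modules over an Artinian local ring -/
theorem endo_injective_iff (I : Ideal A) (hI : I ≠ ⊤) (h : M →ₗ[A] M) :
    (Injective h ↔ Injective (h.lTensor (A ⧸ I))) ∧
    (Injective h → Module.Flat A (M ⧸ LinearMap.range h)) := by
  have key : Injective (h.lTensor (A ⧸ maximalIdeal A)) →
      Injective h ∧ Module.Flat A (M ⧸ LinearMap.range h) := by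
    intro hk
    exact ⟨artin_injective h hk,
      artin_flat_coker h (LinearMap.range h).mkQ (LinearMap.range h).mkQ_surjective
        (LinearMap.exact_map_mkQ_range h) hk⟩
  refine ⟨⟨fun hi => ?_, fun hi => ?_⟩, fun hi => ?_⟩
  · obtain ⟨-, hfl⟩ := key (lTensor_residue_injective_of_injective h hi)
    exact LinearMap.lTensor_injective_of_exact_of_flat (LinearMap.range h).mkQ
      (LinearMap.range h).mkQ_surjective h hi (LinearMap.exact_map_mkQ_range h) _
  · exact (key (lTensor_residue_injective_of_lTensor_quotient_injective I hI h hi)).1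
  · exact (key (lTensor_residue_injective_of_injective h hi)).2

end Endo

end Groth.Agent.Lib.Helper21.FlatKit
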