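import Mathlib
import Groth.Agent.Lib.Helper21.FlatKit
import Groth.Agent.Lib.Helper21.FlatKit3
import Groth.Agent.Lib.Helper21.FlatKit4

/-!
# Tor-free flatness toolkit, part 5 (helper21): regular sequences on flat modules over an
Artinian local ring can be tested modulo a proper ideal.
-/

namespace Groth.Agent.Lib.Helper21.FlatKit

open TensorProduct Function IsLocalRing

universe u v w

section QuotIso

variable {B : Type*} [CommRing B] (M : Type*) [AddCommGroup M] [Module B M]

open Pointwise in
/-- `(M / fM) / 𝔟 (M / fM) ≃ (M / 𝔟 M) / f (M / 𝔟 M)` -/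
noncomputable def quotSMulTopQuotEquiv (f : B) (𝔟 : Ideal B) :
    (QuotSMulTop f M ⧸ (𝔟 • ⊤ : Submodule B (QuotSMulTop f M))) ≃ₗ[B]
      QuotSMulTop f (M ⧸ (𝔟 • ⊤ : Submodule B M)) :=
  have h1 : (𝔟 • ⊤ : Submodule B (QuotSMulTop f M)) =
      Submodule.map (f • ⊤ : Submodule B M).mkQ (𝔟 • ⊤ : Submodule B M) := by
    rw [Submodule.map_smul'', Submodule.map_top, Submodule.range_mkQ]
  have h2 : (f • ⊤ : Submodule B (M ⧸ (𝔟 • ⊤ : Submodule B M))) =
      Submodule.map (𝔟 • ⊤ : Submodule B M).mkQ (f • ⊤ : Submodule B M) := by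
    rw [Submodule.map_pointwise_smul, Submodule.map_top, Submodule.range_mkQ]
  Submodule.quotEquivOfEq _ _ h1 ≪≫ₗ
    (Submodule.quotientQuotientEquivQuotientSup (f • ⊤ : Submodule B M) (𝔟 • ⊤)) ≪≫ₗ
    Submodule.quotEquivOfEq _ _ (sup_comm _ _) ≪≫ₗ
    (Submodule.quotientQuotientEquivQuotientSup (𝔟 • ⊤ : Submodule B M) (f • ⊤)).symm ≪≫ₗ
    (Submodule.quotEquivOfEq _ _ h2).symm

end QuotIso


section Restrict

variable {A : Type*} [CommRing A] {B : Type*} [CommRing B] [Algebra A B]
variable (M : Type*) [AddCommGroup M] [Module A M] [Module B M] [IsScalarTower A B M]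

theorem smul_top_restrictScalars (I : Ideal A) :
    ((I.map (algebraMap A B)) • (⊤ : Submodule B M)).restrictScalars A =
      I • (⊤ : Submodule A M) := by
  apply le_antisymm
  · intro x hx
    have hx' : x ∈ (I.map (algebraMap A B)) • (⊤ : Submodule B M) := hx
    have key : ∀ b ∈ I.map (algebraMap A B), ∀ m : M, b • m ∈ I • (⊤ : Submodule A M) := by
      intro b hb
      induction hb using Submodule.span_induction with
      | mem b hb =>
        obtain ⟨a, ha, rfl⟩ := hb
        intro m
        rw [algebraMap_smul]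
        exact Submodule.smul_mem_smul ha Submodule.mem_top
      | zero => intro m; rw [zero_smul]; exact zero_mem _
      | add b₁ b₂ _ _ h₁ h₂ => intro m; rw [add_smul]; exact add_mem (h₁ m) (h₂ m)
      | smul c b _ hb =>
        intro m
        rw [smul_eq_mul, mul_comm, mul_smul]
        exact hb (c • m)
    clear hx
    induction hx' using Submodule.smul_induction_on' with
    | smul b hb m _ => exact key b hb m
    | add x _ y _ hx hy => exact add_mem hx hy
  · rw [Submodule.smul_le]
    intro a ha m _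
    show a • m ∈ (I.map (algebraMap A B)) • (⊤ : Submodule B M)
    rw [← algebraMap_smul B a m]
    exact Submodule.smul_mem_smul (Ideal.mem_map_of_mem _ ha) Submodule.mem_top

end Restrict

section RegSeqArtin

variable {A : Type u} [CommRing A] [IsLocalRing A] [IsArtinianRing A] (I : Ideal A) (hI : I ≠ ⊤)
variable {B : Type w} [CommRing B] [Algebra A B]

include hI in
open Pointwise in
theorem isSMulRegular_iff_reduction (M : Type v) [AddCommGroup M] [Module A M] [Module B M]
    [IsScalarTower A B M] [Module.Flat A M] (f : B) :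
    (IsSMulRegular M f ↔
      IsSMulRegular (M ⧸ ((I.map (algebraMap A B)) • ⊤ : Submodule B M)) f) ∧
    (IsSMulRegular M f → Module.Flat A (QuotSMulTop f M)) := by
  let h : M →ₗ[A] M := (LinearMap.lsmul B M f).restrictScalars A
  have hh : ∀ m, h m = f • m := fun m => rfl
  obtain ⟨h1, h2⟩ := endo_injective_iff I hI h
  have h0 : IsSMulRegular M f ↔ Injective h := Iff.rfl
  set P : Submodule B M := (I.map (algebraMap A B)) • ⊤ with hP
  let e : (A ⧸ I) ⊗[A] M ≃ₗ[A] M ⧸ P :=
    (TensorProduct.quotTensorEquivQuotSMul M I) ≪≫ₗ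
      (Submodule.quotEquivOfEq _ _ (smul_top_restrictScalars M I).symm) ≪≫ₗ
      (Submodule.Quotient.restrictScalarsEquiv A P)
  have he : ∀ m : M, e ((1 : A ⧸ I) ⊗ₜ[A] m) = Submodule.Quotient.mk m := by
    intro m
    simp only [e, LinearEquiv.trans_apply, TensorProduct.quotTensorEquivQuotSMul_mk_one_tmul]
    rfl
  have hcomm : ∀ z, e (h.lTensor (A ⧸ I) z) = f • e z := by
    intro z
    obtain ⟨m, rfl⟩ := exists_one_tmul I z
    rw [LinearMap.lTensor_tmul, he, he, hh, Submodule.Quotient.mk_smul]
  have h3 : Injective (h.lTensor (A ⧸ I)) ↔ IsSMulRegular (M ⧸ P) f := by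
    constructor
    · intro hi x y hxy
      obtain ⟨x, rfl⟩ := e.surjective x
      obtain ⟨y, rfl⟩ := e.surjective y
      simp only [← hcomm] at hxy
      rw [hi (e.injective hxy)]
    · intro hr x y hxy
      apply e.injective
      apply hr
      simp only [← hcomm]
      rw [hxy]
  refine ⟨h0.trans (h1.trans h3), fun hf => ?_⟩
  have hfl := h2 (h0.1 hf)
  have hrange : LinearMap.range h = (f • ⊤ : Submodule B M).restrictScalars A := by
    ext x
    simp only [LinearMap.mem_range, Submodule.restrictScalars_mem,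
      Submodule.mem_smul_pointwise_iff_exists, Submodule.mem_top, true_and]
    rfl
  exact Module.Flat.of_linearEquiv
    (((Submodule.quotEquivOfEq _ _ hrange).trans
      (Submodule.Quotient.restrictScalarsEquiv A (f • ⊤ : Submodule B M))).symm)

include hI in
theorem isWeaklyRegular_iff_reduction (fs : List B) :
    ∀ (M : Type v) [AddCommGroup M] [Module A M] [Module B M]
      [IsScalarTower A B M] [Module.Flat A M],
      (RingTheory.Sequence.IsWeaklyRegular M fs ↔
        RingTheory.Sequence.IsWeaklyRegular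
          (M ⧸ ((I.map (algebraMap A B)) • ⊤ : Submodule B M)) fs) ∧
      (RingTheory.Sequence.IsWeaklyRegular M fs →
        Module.Flat A (M ⧸ (Ideal.ofList fs • ⊤ : Submodule B M))) := by
  induction fs with
  | nil =>
    intro M _ _ _ _ hfl
    refine ⟨⟨fun _ => RingTheory.Sequence.IsWeaklyRegular.nil B _,
      fun _ => RingTheory.Sequence.IsWeaklyRegular.nil B _⟩, fun _ => ?_⟩
    exact quot_bot_flat_of_flat M hfl
  | cons f fs ih =>
    intro M _ _ _ _ hfl
    obtain ⟨h1, h2⟩ := isSMulRegular_iff_reduction I hI M f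
    rw [RingTheory.Sequence.isWeaklyRegular_cons_iff, RingTheory.Sequence.isWeaklyRegular_cons_iff]
    have step : IsSMulRegular M f →
        ((RingTheory.Sequence.IsWeaklyRegular (QuotSMulTop f M) fs ↔
          RingTheory.Sequence.IsWeaklyRegular
            (QuotSMulTop f (M ⧸ ((I.map (algebraMap A B)) • ⊤ : Submodule B M))) fs) ∧
        (RingTheory.Sequence.IsWeaklyRegular (QuotSMulTop f M) fs →
          Module.Flat A (M ⧸ (Ideal.ofList (f :: fs) • ⊤ : Submodule B M)))) := by
      intro hf
      have hfl' : Module.Flat A (QuotSMulTop f M) := h2 hf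
      obtain ⟨i1, i2⟩ := ih (QuotSMulTop f M)
      refine ⟨i1.trans
        ((quotSMulTopQuotEquiv M f (I.map (algebraMap A B))).isWeaklyRegular_congr fs), ?_⟩
      intro hfs
      have := i2 hfs
      exact Module.Flat.of_linearEquiv
        ((Submodule.quotOfListConsSMulTopEquivQuotSMulTopInner M f fs).restrictScalars A)
    refine ⟨⟨fun ⟨hf, hfs⟩ => ⟨h1.1 hf, (step hf).1.1 hfs⟩,
      fun ⟨hf', hfs'⟩ => ⟨h1.2 hf', (step (h1.2 hf')).1.2 hfs'⟩⟩, fun ⟨hf, hfs⟩ => ?_⟩
    exact (step hf).2 hfs

end RegSeqArtin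

end Groth.Agent.Lib.Helper21.FlatKit
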