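import Mathlib
import Groth.Agent.Lib.Helper21.FlatDescE
import Groth.Agent.Lib.Helper21.FlatKit5

/-!
# Helper21 — FlatDescF: descent of flatness at a prime to a finitely generated subalgebra
(EGA IV 11.2.6 / Stacks 00R6, pointwise form, polynomial ring case)
-/

namespace Groth.Agent.Lib.Helper21.FlatDesc

open TensorProduct Function MvPolynomial

attribute [local instance] MvPolynomial.algebraMvPolynomial

universe u

section Stage

variable {R₀ : Type u} [CommRing R₀] {n : ℕ}
  {N₀ F₀ M₀ : Type u} [AddCommGroup N₀] [Module (MvPolynomial (Fin n) R₀) N₀] [Module R₀ N₀]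
  [IsScalarTower R₀ (MvPolynomial (Fin n) R₀) N₀]
  [AddCommGroup F₀] [Module (MvPolynomial (Fin n) R₀) F₀] [Module R₀ F₀]
  [IsScalarTower R₀ (MvPolynomial (Fin n) R₀) F₀]
  [AddCommGroup M₀] [Module (MvPolynomial (Fin n) R₀) M₀] [Module R₀ M₀]
  [IsScalarTower R₀ (MvPolynomial (Fin n) R₀) M₀]
  {j : N₀ →ₗ[MvPolynomial (Fin n) R₀] F₀} {π : F₀ →ₗ[MvPolynomial (Fin n) R₀] M₀}

theorem one_tmul_mem_smul_top (A : Type u) [CommRing A] [Algebra R₀ A] (p₀ : Ideal R₀) {f : F₀}
    (hf : f ∈ p₀ • (⊤ : Submodule R₀ F₀)) :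
    ((1 : MvPolynomial (Fin n) A) ⊗ₜ[MvPolynomial (Fin n) R₀] f : St R₀ n F₀ A) ∈
      (p₀.map (algebraMap R₀ A)) • (⊤ : Submodule A (St R₀ n F₀ A)) := by
  refine Submodule.smul_induction_on hf (fun r hr m _ => ?_) (fun x y hx hy => ?_)
  · have : ((1 : MvPolynomial (Fin n) A) ⊗ₜ[MvPolynomial (Fin n) R₀] (r • m) : St R₀ n F₀ A) =
        (algebraMap R₀ A r) • ((1 : MvPolynomial (Fin n) A) ⊗ₜ[MvPolynomial (Fin n) R₀] m) := by
      rw [← algebraMap_smul (MvPolynomial (Fin n) R₀) r m, ← TensorProduct.smul_tmul,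
        TensorProduct.smul_tmul']
      congr 1
      simp [Algebra.smul_def, MvPolynomial.algebraMap_eq]
    rw [this]
    exact Submodule.smul_mem_smul (Ideal.mem_map_of_mem _ hr) trivial
  · rw [tmul_add]; exact add_mem hx hy

theorem flat_St_free (A : Type u) [CommRing A] [Algebra R₀ A] [Module.Flat R₀ F₀] :
    Module.Flat A (St R₀ n F₀ A) :=
  Module.Flat.of_linearEquiv
    (Algebra.IsPushout.cancelBaseChange R₀ A (MvPolynomial (Fin n) R₀) (MvPolynomial (Fin n) A) F₀)

/-- **Flatness at a Noetherian stage** from the saturation conditions (local criterion). -/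
theorem flat_stage (hex : Exact j π) (hπ : Surjective π) [Module.Flat R₀ F₀]
    [Module.Finite (MvPolynomial (Fin n) R₀) M₀] (p₀ : Ideal R₀) (t : R₀)
    [Module.Flat (R₀ ⧸ p₀)
      (LocalizedModule (Submonoid.powers (Ideal.Quotient.mk p₀ t)) ((R₀ ⧸ p₀) ⊗[R₀] M₀))]
    (A' : Type u) [CommRing A'] [Algebra R₀ A'] [IsNoetherianRing A']
    (q' : Ideal (MvPolynomial (Fin n) A')) [q'.IsPrime]
    (ht : algebraMap R₀ (MvPolynomial (Fin n) A') t ∉ q')
    (hp : p₀ ≤ q'.comap (algebraMap R₀ (MvPolynomial (Fin n) A')))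
    (hb : ∀ κ ∈ Ktil p₀ (j.restrictScalars R₀),
      ((1 : MvPolynomial (Fin n) A') ⊗ₜ[MvPolynomial (Fin n) R₀] j κ : St R₀ n F₀ A') ∈
        satSmul q'.primeCompl (p₀.map (algebraMap R₀ A')) (LinearMap.ker (πSt π A'))) :
    Module.Flat A' (LocalizedModule q'.primeCompl (St R₀ n M₀ A')) := by
  set I : Ideal A' := p₀.map (algebraMap R₀ A') with hI
  haveI : Module.Flat A' (St R₀ n F₀ A') := flat_St_free A'
  haveI : Module.Finite (MvPolynomial (Fin n) A') (St R₀ n M₀ A') := Module.Finite.base_change _ _ _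
  -- the Tor condition
  have htor : TorCond q'.primeCompl (πSt π A') I := by
    rw [torCond_iff]
    intro x hxk hxI
    obtain ⟨k, hk⟩ := gen_stage A' hex hπ p₀ t x hxk hxI
    have hle : (I • (LinearMap.ker (πSt π A')).restrictScalars A') ⊔
        (Submodule.span (MvPolynomial (Fin n) A')
          (Set.range fun κ : Ktil p₀ (j.restrictScalars R₀) =>
            (1 : MvPolynomial (Fin n) A') ⊗ₜ[MvPolynomial (Fin n) R₀] j κ)).restrictScalars A' ≤
        (satSmul q'.primeCompl I (LinearMap.ker (πSt π A'))).restrictScalars A' := by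
      refine sup_le (smul_le_satSmul _ _ _) ?_
      intro y hy
      have : Submodule.span (MvPolynomial (Fin n) A')
          (Set.range fun κ : Ktil p₀ (j.restrictScalars R₀) =>
            (1 : MvPolynomial (Fin n) A') ⊗ₜ[MvPolynomial (Fin n) R₀] j κ) ≤
          satSmul q'.primeCompl I (LinearMap.ker (πSt π A')) := by
        rw [Submodule.span_le]
        rintro _ ⟨κ, rfl⟩
        exact hb κ κ.2
      exact this hy
    have h1 := hle hk
    refine mem_satSmul_of_smul_mem q'.primeCompl I (u := (algebraMap R₀ (MvPolynomial (Fin n) A') t) ^ k)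
      ?_ h1
    intro h
    exact ht (Ideal.IsPrime.mem_of_pow_mem inferInstance k h)
  have hIM : Injective (I.subtype.rTensor (LocalizedModule q'.primeCompl (St R₀ n M₀ A'))) :=
    rTensor_injective_of_torCond q'.primeCompl I (πSt_surjective A' hπ) htor
  haveI := flat_fibre_stage (M₀ := M₀) p₀ t A' q' ht
  have hIB : I.map (algebraMap A' (Localization.AtPrime q')) ≤ Ideal.jacobson ⊥ := by
    rw [IsLocalRing.jacobson_eq_maximalIdeal ⊥ bot_ne_top, hI, Ideal.map_map, Ideal.map_le_iff_le_comap]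
    intro x hx
    have hx' : algebraMap R₀ (MvPolynomial (Fin n) A') x ∈ q' := hp hx
    rw [Ideal.mem_comap, RingHom.comp_apply,
      IsScalarTower.algebraMap_apply A' (MvPolynomial (Fin n) A') (Localization.AtPrime q'),
      ← IsScalarTower.algebraMap_apply R₀ A' (MvPolynomial (Fin n) A')]
    exact (IsLocalization.AtPrime.to_map_mem_maximal_iff (Localization.AtPrime q') q' _).2 hx'
  exact FlatKit.flat_of_localCriterion (A := A') (B := Localization.AtPrime q')
    (LocalizedModule q'.primeCompl (St R₀ n M₀ A')) I hIB hIM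


/-- the saturation condition at `A` for the elements of `Ktil`, from flatness at `q`. -/
theorem mem_satSmul_of_flat (hex : Exact j π) (hπ : Surjective π) (p₀ : Ideal R₀)
    (A : Type u) [CommRing A] [Algebra R₀ A] (q : Ideal (MvPolynomial (Fin n) A)) [q.IsPrime]
    [Module.Flat A (LocalizedModule q.primeCompl (St R₀ n M₀ A))]
    (κ : N₀) (hκ : κ ∈ Ktil p₀ (j.restrictScalars R₀)) :
    ((1 : MvPolynomial (Fin n) A) ⊗ₜ[MvPolynomial (Fin n) R₀] j κ : St R₀ n F₀ A) ∈
      satSmul q.primeCompl (p₀.map (algebraMap R₀ A)) (LinearMap.ker (πSt π A)) := by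
  have htor : TorCond q.primeCompl (πSt π A) (p₀.map (algebraMap R₀ A)) :=
    torCond_of_flat q.primeCompl _ (πSt_surjective A hπ)
  rw [torCond_iff] at htor
  refine htor _ ?_ (one_tmul_mem_smul_top A p₀ hκ)
  rw [LinearMap.mem_ker, LinearMap.baseChange_tmul, (hex (j κ)).2 ⟨κ, rfl⟩, tmul_zero]

/-- **Pointwise descent of flatness**, for a given presentation. -/
theorem exists_fg_flat_localized_aux [IsNoetherianRing R₀] (hex : Exact j π) (hπ : Surjective π)
    [Module.Flat R₀ F₀] [Module.Flat (MvPolynomial (Fin n) R₀) F₀]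
    [IsNoetherian (MvPolynomial (Fin n) R₀) N₀]
    [Module.Finite (MvPolynomial (Fin n) R₀) M₀]
    (A : Type u) [CommRing A] [Algebra R₀ A] (q : Ideal (MvPolynomial (Fin n) A)) [q.IsPrime]
    [Module.Flat A (LocalizedModule q.primeCompl (St R₀ n M₀ A))] :
    ∃ A₁ : Subalgebra R₀ A, A₁.FG ∧ ∀ A' : Subalgebra R₀ A, A₁ ≤ A' → A'.FG →
      Module.Flat A' (LocalizedModule
        (q.comap (algebraMap (MvPolynomial (Fin n) A') (MvPolynomial (Fin n) A))).primeCompl
        (St R₀ n M₀ A')) := by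
  classical
  set p₀ : Ideal R₀ := q.comap (algebraMap R₀ (MvPolynomial (Fin n) A)) with hp₀
  obtain ⟨t, htp, hflat⟩ := exists_flat_localized (n := n) (M₀ := M₀) p₀
  -- finite generation of `Ktil`
  let KP : Submodule (MvPolynomial (Fin n) R₀) N₀ :=
    Submodule.comap j ((p₀.map (algebraMap R₀ (MvPolynomial (Fin n) R₀))) •
      (⊤ : Submodule (MvPolynomial (Fin n) R₀) F₀))
  have hKP : ∀ κ : N₀, κ ∈ KP ↔ κ ∈ Ktil p₀ (j.restrictScalars R₀) := by
    intro κ
    have := FlatKit.smul_top_restrictScalars (A := R₀) (B := MvPolynomial (Fin n) R₀) F₀ p₀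
    constructor
    · intro h
      have h' : j κ ∈ ((p₀.map (algebraMap R₀ (MvPolynomial (Fin n) R₀))) •
          (⊤ : Submodule (MvPolynomial (Fin n) R₀) F₀)).restrictScalars R₀ := h
      rw [this] at h'
      exact h'
    · intro h
      have h' : j κ ∈ p₀ • (⊤ : Submodule R₀ F₀) := h
      rw [← this] at h'
      exact h'
  obtain ⟨G, hG⟩ := (IsNoetherian.noetherian KP : KP.FG)
  -- descend each generator
  have hdesc : ∀ κ ∈ G, ∃ A₁ : Subalgebra R₀ A, A₁.FG ∧ ∀ A' : Subalgebra R₀ A, A₁ ≤ A' →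
      ((1 : MvPolynomial (Fin n) A') ⊗ₜ[MvPolynomial (Fin n) R₀] j κ : St R₀ n F₀ A') ∈
        satSmul (q.comap (algebraMap (MvPolynomial (Fin n) A') (MvPolynomial (Fin n) A))).primeCompl
          (p₀.map (algebraMap R₀ A')) (LinearMap.ker (πSt π A')) := by
    intro κ hκ
    have hκK : κ ∈ KP := hG ▸ Submodule.subset_span hκ
    exact exists_fg_forall_mem_satSmul hex hπ p₀ q κ
      (mem_satSmul_of_flat hex hπ p₀ A q κ ((hKP κ).1 hκK))
  choose! A₁ hA₁fg hA₁ using hdesc
  refine ⟨G.sup A₁, ?_, fun A' hA' hA'fg => ?_⟩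
  · refine Finset.sup_induction Subalgebra.fg_bot (fun a ha b hb => ha.sup hb) ?_
    intro κ hκ; exact hA₁fg κ hκ
  · haveI : Algebra.FiniteType R₀ A' := (Subalgebra.fg_iff_finiteType A').1 hA'fg
    haveI : IsNoetherianRing A' := Algebra.FiniteType.isNoetherianRing R₀ A'
    set q' := q.comap (algebraMap (MvPolynomial (Fin n) A') (MvPolynomial (Fin n) A)) with hq'
    have hcomp : ∀ r : R₀, algebraMap (MvPolynomial (Fin n) A') (MvPolynomial (Fin n) A)
        (algebraMap R₀ (MvPolynomial (Fin n) A') r) = algebraMap R₀ (MvPolynomial (Fin n) A) r := by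
      intro r
      simp [MvPolynomial.algebraMap_eq, IsScalarTower.algebraMap_apply R₀ A' (MvPolynomial (Fin n) A'),
        ← IsScalarTower.algebraMap_apply R₀ A' A]
    have ht : algebraMap R₀ (MvPolynomial (Fin n) A') t ∉ q' := by
      intro h
      rw [hq', Ideal.mem_comap, hcomp] at h
      exact htp h
    have hp : p₀ ≤ q'.comap (algebraMap R₀ (MvPolynomial (Fin n) A')) := by
      intro r hr
      rw [Ideal.mem_comap, hq', Ideal.mem_comap, hcomp]
      exact hr
    refine flat_stage hex hπ p₀ t A' q' ht hp ?_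
    intro κ hκ
    have hκK : κ ∈ KP := (hKP κ).2 hκ
    rw [← hG] at hκK
    refine Submodule.span_induction (p := fun κ _ =>
      ((1 : MvPolynomial (Fin n) A') ⊗ₜ[MvPolynomial (Fin n) R₀] j κ : St R₀ n F₀ A') ∈
        satSmul q'.primeCompl (p₀.map (algebraMap R₀ A')) (LinearMap.ker (πSt π A')))
      ?_ ?_ ?_ ?_ hκK
    · intro κ hκ
      exact hA₁ κ hκ A' ((Finset.le_sup hκ).trans hA')
    · rw [map_zero, tmul_zero]; exact zero_mem _
    · intro x y _ _ hx hy
      rw [map_add, tmul_add]; exact add_mem hx hy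
    · intro g x _ hx
      have : ((1 : MvPolynomial (Fin n) A') ⊗ₜ[MvPolynomial (Fin n) R₀] j (g • x) : St R₀ n F₀ A') =
          (algebraMap (MvPolynomial (Fin n) R₀) (MvPolynomial (Fin n) A') g) •
            ((1 : MvPolynomial (Fin n) A') ⊗ₜ[MvPolynomial (Fin n) R₀] j x) := by
        rw [map_smul, ← TensorProduct.smul_tmul, TensorProduct.smul_tmul', Algebra.smul_def,
          mul_one, smul_eq_mul, mul_one]
      rw [this]
      exact Submodule.smul_mem _ _ hx

end Stage

section Pointwise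

variable {R₀ : Type u} [CommRing R₀] [IsNoetherianRing R₀] {n : ℕ}
  (M₀ : Type u) [AddCommGroup M₀] [Module (MvPolynomial (Fin n) R₀) M₀] [Module R₀ M₀]
  [IsScalarTower R₀ (MvPolynomial (Fin n) R₀) M₀] [Module.Finite (MvPolynomial (Fin n) R₀) M₀]

/-- **Pointwise descent of flatness** (EGA IV 11.2.6, Stacks 00R6): `R₀` Noetherian, `M₀` a finite
`R₀[X₁..Xₙ]`-module, `A` any `R₀`-algebra, `q` a prime of `A[X]` at which `A[X] ⊗ M₀` is `A`-flat.
Then for all sufficiently large finitely generated subalgebras `A'` of `A`, `A'[X] ⊗ M₀` is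
`A'`-flat at `q ∩ A'[X]`. -/
theorem exists_fg_flat_localized
    (A : Type u) [CommRing A] [Algebra R₀ A] (q : Ideal (MvPolynomial (Fin n) A)) [q.IsPrime]
    [Module.Flat A (LocalizedModule q.primeCompl (St R₀ n M₀ A))] :
    ∃ A₁ : Subalgebra R₀ A, A₁.FG ∧ ∀ A' : Subalgebra R₀ A, A₁ ≤ A' → A'.FG →
      Module.Flat A' (LocalizedModule
        (q.comap (algebraMap (MvPolynomial (Fin n) A') (MvPolynomial (Fin n) A))).primeCompl
        (St R₀ n M₀ A')) := by
  obtain ⟨b, π, hπ⟩ := Module.Finite.exists_fin' (MvPolynomial (Fin n) R₀) M₀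
  haveI : IsNoetherian (MvPolynomial (Fin n) R₀) (Fin b → MvPolynomial (Fin n) R₀) :=
    isNoetherian_of_isNoetherianRing_of_finite _ _
  exact exists_fg_flat_localized_aux (j := (LinearMap.ker π).subtype) (π := π)
    (LinearMap.exact_subtype_ker_map π) hπ A q

end Pointwise

end Groth.Agent.Lib.Helper21.FlatDesc
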