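import Mathlib
import Groth.Agent.Lib.Helper21.FlatDescF

/-!
# Helper21 — FlatDescG: openness of the flat locus and global descent of flatness for the
polynomial family `A ↦ A[X₁..Xₙ] ⊗_{R₀[X]} M₀` (`R₀` Noetherian, `M₀` finite), over arbitrary `A`.

* `stage_baseChange`, `stage_mono`: base change of pointwise flatness between stages.
* `isOpen_flatLocus_St`: the flat locus in `Spec A[X]` is open.
* `exists_fg_flat_St`: `A[X] ⊗ M₀` flat over `A` ⇒ flat over a f.g. subalgebra stage.
-/

namespace Groth.Agent.Lib.Helper21.FlatDesc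

open TensorProduct Function MvPolynomial

attribute [local instance] MvPolynomial.algebraMvPolynomial

universe u

section Global

variable {R₀ : Type u} [CommRing R₀] {n : ℕ}
  (M₀ : Type u) [AddCommGroup M₀] [Module (MvPolynomial (Fin n) R₀) M₀] [Module R₀ M₀]
  [IsScalarTower R₀ (MvPolynomial (Fin n) R₀) M₀]

/-- Base change of flatness at a prime between two stages. -/
theorem stage_baseChange (A₁ A₂ : Type u) [CommRing A₁] [CommRing A₂] [Algebra R₀ A₁] [Algebra R₀ A₂]
    [Algebra A₁ A₂] [IsScalarTower R₀ A₁ A₂] (Q : Ideal (MvPolynomial (Fin n) A₂)) [Q.IsPrime]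
    [Module.Flat A₁ (LocalizedModule
      (Q.comap (algebraMap (MvPolynomial (Fin n) A₁) (MvPolynomial (Fin n) A₂))).primeCompl
      (St R₀ n M₀ A₁))] :
    Module.Flat A₂ (LocalizedModule Q.primeCompl (St R₀ n M₀ A₂)) :=
  flat_localized_of_isPushout (A' := A₁) (A := A₂) (B' := MvPolynomial (Fin n) A₁)
    (B := MvPolynomial (Fin n) A₂) (St R₀ n M₀ A₁) Q
    (AlgebraTensorModule.cancelBaseChange (MvPolynomial (Fin n) R₀) (MvPolynomial (Fin n) A₁)
      (MvPolynomial (Fin n) A₂) (MvPolynomial (Fin n) A₂) M₀)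

/-- Base change of flatness at a prime between two subalgebras. -/
theorem stage_mono {A : Type u} [CommRing A] [Algebra R₀ A] {A₁ A₂ : Subalgebra R₀ A} (h : A₁ ≤ A₂)
    (Q : Ideal (MvPolynomial (Fin n) A₂)) [Q.IsPrime]
    (hflat : Module.Flat A₁ (LocalizedModule
      (Q.comap (MvPolynomial.map (Subalgebra.inclusion h).toRingHom)).primeCompl
      (St R₀ n M₀ A₁))) :
    Module.Flat A₂ (LocalizedModule Q.primeCompl (St R₀ n M₀ A₂)) := by
  letI : Algebra A₁ A₂ := (Subalgebra.inclusion h).toRingHom.toAlgebra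
  haveI : IsScalarTower R₀ A₁ A₂ := IsScalarTower.of_algebraMap_eq fun r => rfl
  haveI : Module.Flat A₁ (LocalizedModule
      (Q.comap (algebraMap (MvPolynomial (Fin n) A₁) (MvPolynomial (Fin n) A₂))).primeCompl
      (St R₀ n M₀ A₁)) := hflat
  exact stage_baseChange M₀ A₁ A₂ Q

variable [IsNoetherianRing R₀] [Module.Finite (MvPolynomial (Fin n) R₀) M₀]

/-- Around a prime `q` of `A[X]` at which `A[X] ⊗ M₀` is `A`-flat, there is a finitely generated
subalgebra `A'` and a basic open `D(g)` of `Spec A'[X]` containing `q ∩ A'[X]` on which `A'[X] ⊗ M₀`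
is `A'`-flat. -/
theorem exists_fg_basicOpen_flat (A : Type u) [CommRing A] [Algebra R₀ A]
    (q : Ideal (MvPolynomial (Fin n) A)) [q.IsPrime]
    [Module.Flat A (LocalizedModule q.primeCompl (St R₀ n M₀ A))] :
    ∃ (A' : Subalgebra R₀ A) (g : MvPolynomial (Fin n) A'), A'.FG ∧
      algebraMap (MvPolynomial (Fin n) A') (MvPolynomial (Fin n) A) g ∉ q ∧
      ∀ (Q' : Ideal (MvPolynomial (Fin n) A')) [Q'.IsPrime], g ∉ Q' →
        Module.Flat A' (LocalizedModule Q'.primeCompl (St R₀ n M₀ A')) := by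
  obtain ⟨A', hfg, H⟩ := exists_fg_flat_localized (R₀ := R₀) M₀ A q
  haveI := H A' le_rfl hfg
  haveI : Algebra.FiniteType R₀ A' := (Subalgebra.fg_iff_finiteType A').1 hfg
  haveI : IsNoetherianRing A' := Algebra.FiniteType.isNoetherianRing R₀ A'
  haveI : Module.Finite (MvPolynomial (Fin n) A') (St R₀ n M₀ A') := Module.Finite.base_change _ _ _
  obtain ⟨g, hg, Hg⟩ := FlatOpen.exists_basicOpen_flat (A := A') (B := MvPolynomial (Fin n) A')
    (St R₀ n M₀ A') (q.comap (algebraMap (MvPolynomial (Fin n) A') (MvPolynomial (Fin n) A)))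
  exact ⟨A', g, hfg, hg, fun Q' _ hQ' => Hg Q' hQ'⟩

/-- **Openness of the flat locus** for `A[X₁..Xₙ] ⊗ M₀` over an arbitrary `R₀`-algebra `A`. -/
theorem isOpen_flatLocus_St (A : Type u) [CommRing A] [Algebra R₀ A] :
    IsOpen {q : PrimeSpectrum (MvPolynomial (Fin n) A) |
      Module.Flat A (LocalizedModule q.asIdeal.primeCompl (St R₀ n M₀ A))} := by
  rw [isOpen_iff_forall_mem_open]
  intro q hq
  haveI : Module.Flat A (LocalizedModule q.asIdeal.primeCompl (St R₀ n M₀ A)) := hq
  obtain ⟨A', g, -, hg, Hg⟩ := exists_fg_basicOpen_flat (R₀ := R₀) M₀ A q.asIdeal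
  refine ⟨PrimeSpectrum.basicOpen
    (algebraMap (MvPolynomial (Fin n) A') (MvPolynomial (Fin n) A) g), ?_,
    (PrimeSpectrum.basicOpen _).isOpen, hg⟩
  intro Q hQ
  haveI := Hg (Q.asIdeal.comap (algebraMap (MvPolynomial (Fin n) A') (MvPolynomial (Fin n) A))) hQ
  exact stage_baseChange M₀ A' A Q.asIdeal

/-- **Global descent of flatness** (EGA IV 11.2.6): if `A[X] ⊗ M₀` is flat over `A`, then
`A'[X] ⊗ M₀` is flat over `A'` for some finitely generated `R₀`-subalgebra `A'` of `A`. -/
theorem exists_fg_flat_St (A : Type u) [CommRing A] [Algebra R₀ A] [Module.Flat A (St R₀ n M₀ A)] :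
    ∃ A' : Subalgebra R₀ A, A'.FG ∧ Module.Flat A' (St R₀ n M₀ A') := by
  classical
  -- local data at every prime
  have hloc : ∀ q : PrimeSpectrum (MvPolynomial (Fin n) A),
      ∃ (A' : Subalgebra R₀ A) (g : MvPolynomial (Fin n) A'), A'.FG ∧
      algebraMap (MvPolynomial (Fin n) A') (MvPolynomial (Fin n) A) g ∉ q.asIdeal ∧
      ∀ (Q' : Ideal (MvPolynomial (Fin n) A')) [Q'.IsPrime], g ∉ Q' →
        Module.Flat A' (LocalizedModule Q'.primeCompl (St R₀ n M₀ A')) := by
    intro q
    haveI : Module.Flat A (LocalizedModule q.asIdeal.primeCompl (St R₀ n M₀ A)) :=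
      FlatLocal.flat_of_isLocalizedModule (A := A) (B := MvPolynomial (Fin n) A)
        (F := St R₀ n M₀ A) (F' := LocalizedModule q.asIdeal.primeCompl (St R₀ n M₀ A))
        q.asIdeal.primeCompl
        (LocalizedModule.mkLinearMap q.asIdeal.primeCompl (St R₀ n M₀ A))
    exact exists_fg_basicOpen_flat (R₀ := R₀) M₀ A q.asIdeal
  choose Aq g hfg hg Hg using hloc
  let gh : PrimeSpectrum (MvPolynomial (Fin n) A) → MvPolynomial (Fin n) A := fun q =>
    algebraMap (MvPolynomial (Fin n) (Aq q)) (MvPolynomial (Fin n) A) (g q)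
  have hspan : Ideal.span (Set.range gh) = ⊤ := by
    by_contra hne
    obtain ⟨m, hm, hle⟩ := Ideal.exists_le_maximal _ hne
    exact hg ⟨m, hm.isPrime⟩ (hle (Ideal.subset_span ⟨⟨m, hm.isPrime⟩, rfl⟩))
  have h1 : (1 : MvPolynomial (Fin n) A) ∈ Submodule.span (MvPolynomial (Fin n) A) (Set.range gh) := by
    have : (1 : MvPolynomial (Fin n) A) ∈ Ideal.span (Set.range gh) := by rw [hspan]; trivial
    exact this
  obtain ⟨c, hc⟩ := Finsupp.mem_span_range_iff_exists_finsupp.1 h1
  -- a subalgebra over which all the coefficients `c q` are defined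
  have hcdef : ∀ p : MvPolynomial (Fin n) A, ∃ A' : Subalgebra R₀ A, A'.FG ∧ p ∈ polDef n A' :=
    fun p => exists_fg_mem_polDef p
  choose Ac hAcfg hAc using hcdef
  let A'' : Subalgebra R₀ A := c.support.sup fun q => Aq q ⊔ Ac (c q)
  have hA''fg : A''.FG := by
    refine Finset.sup_induction Subalgebra.fg_bot (fun a ha b hb => ha.sup hb) ?_
    intro q _; exact (hfg q).sup (hAcfg _)
  have hle : ∀ q ∈ c.support, Aq q ≤ A'' := fun q hq =>
    le_sup_left.trans (Finset.le_sup (f := fun q => Aq q ⊔ Ac (c q)) hq)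
  have hle' : ∀ q ∈ c.support, Ac (c q) ≤ A'' := fun q hq =>
    le_sup_right.trans (Finset.le_sup (f := fun q => Aq q ⊔ Ac (c q)) hq)
  refine ⟨A'', hA''fg, ?_⟩
  -- lift the partition of unity to `A''[X]`
  have hc'' : ∀ q ∈ c.support, ∃ c'' : MvPolynomial (Fin n) A'',
      algebraMap (MvPolynomial (Fin n) A'') (MvPolynomial (Fin n) A) c'' = c q :=
    fun q hq => polDef_mono (hle' q hq) (hAc (c q))
  let g'' : ∀ q ∈ c.support, MvPolynomial (Fin n) A'' := fun q hq =>
    MvPolynomial.map (Subalgebra.inclusion (hle q hq)).toRingHom (g q)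
  have hg'' : ∀ q (hq : q ∈ c.support),
      algebraMap (MvPolynomial (Fin n) A'') (MvPolynomial (Fin n) A) (g'' q hq) = gh q := by
    intro q hq
    simp only [g'', gh, MvPolynomial.algebraMap_def, MvPolynomial.map_map]
    rfl
  have hinj : Injective (algebraMap (MvPolynomial (Fin n) A'') (MvPolynomial (Fin n) A)) :=
    MvPolynomial.map_injective _ Subtype.val_injective
  -- flatness at every maximal ideal
  refine Module.flat_of_isLocalized_maximal (MvPolynomial (Fin n) A'') (St R₀ n M₀ A'')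
    (fun P _ => LocalizedModule P.primeCompl (St R₀ n M₀ A''))
    (fun P _ => LocalizedModule.mkLinearMap P.primeCompl (St R₀ n M₀ A'')) ?_
  intro P hP
  haveI : P.IsPrime := hP.isPrime
  -- some `g'' q` is not in `P`
  have hex : ∃ q, ∃ hq : q ∈ c.support, g'' q hq ∉ P := by
    by_contra hall
    push Not at hall
    apply hP.ne_top
    rw [Ideal.eq_top_iff_one]
    choose! c'' hc''eq using hc''
    have hsum : (1 : MvPolynomial (Fin n) A'') =
        ∑ q ∈ c.support.attach, c'' q.1 * g'' q.1 q.2 := by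
      apply hinj
      rw [map_one, map_sum, ← hc, Finsupp.sum, ← Finset.sum_attach]
      refine Finset.sum_congr rfl fun q _ => ?_
      rw [map_mul, hc''eq q.1 q.2, hg'' q.1 q.2, smul_eq_mul]
    rw [hsum]
    exact Ideal.sum_mem _ fun q _ => Ideal.mul_mem_left _ _ (hall q.1 q.2)
  obtain ⟨q, hq, hgP⟩ := hex
  refine stage_mono M₀ (hle q hq) P ?_
  exact Hg q (P.comap (MvPolynomial.map (Subalgebra.inclusion (hle q hq)).toRingHom)) hgP

end Global

end Groth.Agent.Lib.Helper21.FlatDesc
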