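import Groth.Prelude.Def_Flat
import Mathlib

/-! Helper lemmas on the local combinatorial dimension `FlatMor.localDim` (helper21). -/

set_option autoImplicit false

namespace Groth.Agent.Lib.Helper21.TopDim

open TopologicalSpace

/-- A chain of irreducible closed sets whose smallest member contains `x` bounds the local
dimension at `x` from below. -/
theorem length_le_localDim {X : Type*} [TopologicalSpace X] (x : X)
    (p : LTSeries (IrreducibleCloseds X)) (hx : x ∈ (p 0 : Set X)) :
    (p.length : WithBot ℕ∞) ≤ FlatMor.localDim X x := by
  unfold FlatMor.localDim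
  refine le_iInf ?_
  rintro ⟨U, hxU⟩
  have hf : Topology.IsOpenEmbedding (Subtype.val : ↥(U : Set X) → X) :=
    U.isOpen.isOpenEmbedding_subtypeVal
  let e := IrreducibleCloseds.orderIsoOfIsOpenEmbedding (Subtype.val : ↥(U : Set X) → X) hf
  have hmeets : ∀ i : Fin (p.length + 1),
      ((Subtype.val : ↥(U : Set X) → X) ⁻¹' (p i : Set X)).Nonempty := by
    intro i
    refine ⟨⟨x, hxU⟩, ?_⟩
    have : p 0 ≤ p i := p.monotone (Fin.zero_le i)
    exact this hx
  let q : LTSeries (IrreducibleCloseds ↥(U : Set X)) :=
    { length := p.length
      toFun := fun i => e.symm ⟨p i, hmeets i⟩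
      step := fun i => by
        apply e.symm.strictMono
        exact p.step i }
  exact Order.LTSeries.length_le_krullDim q

theorem localDim_le {X : Type*} [TopologicalSpace X] (x : X) :
    FlatMor.localDim X x ≤ topologicalKrullDim X := by
  unfold FlatMor.localDim
  exact (iInf_le _ ⟨⊤, trivial⟩).trans (topologicalKrullDim_subspace_le X _)

end Groth.Agent.Lib.Helper21.TopDim
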