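import Mathlib

set_option autoImplicit false
universe u

open AlgebraicGeometry CategoryTheory Limits IsLocalRing

namespace Groth.Agent.Lib.Helper21.FibreStalk

/-- the stalks of the spectrum of a field have zero maximal ideal -/
theorem eq_zero_of_mem_maximalIdeal_stalk_field (R : CommRingCat.{u}) (hR : IsField R)
    (p : (Spec R)) (t : (Spec R).presheaf.stalk p)
    (ht : t ∈ maximalIdeal ((Spec R).presheaf.stalk p)) : t = 0 := by
  letI : Field R := hR.toField
  haveI : IsLocalRing R := inferInstance
  obtain rfl : p = closedPoint R := Subsingleton.elim (α := PrimeSpectrum R) _ _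
  let e := (stalkClosedPointIso R).commRingCatIsoToRingEquiv
  by_contra h
  have h1 : e t ≠ 0 := fun h0 => h (by simpa using h0)
  have h2 : IsUnit (e t) := IsUnit.mk0 (G₀ := R) _ h1
  have h3 : IsUnit t := by
    have := h2.map e.symm
    simpa using this
  exact (mem_maximalIdeal t).1 ht h3

variable {X Y : Scheme.{u}} (f : X ⟶ Y) (x : X)

/-- the ideal of the fibre in the local ring of `X` at `x`. -/
noncomputable abbrev fibIdeal : Ideal (X.presheaf.stalk x) :=
  (maximalIdeal (Y.presheaf.stalk (f x))).map (f.stalkMap x).hom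

/-- the comparison map from the local ring of `X` at `x` to the local ring of the fibre at a point
`z` over `x`. -/
noncomputable def toFibStalk (z : f.fiber (f x)) (hz : f.fiberι (f x) z = x) :
    X.presheaf.stalk x ⟶ (f.fiber (f x)).presheaf.stalk z :=
  X.presheaf.stalkSpecializes (specializes_of_eq hz) ≫ (f.fiberι (f x)).stalkMap z

theorem toFibStalk_surjective (z : f.fiber (f x)) (hz : f.fiberι (f x) z = x) :
    Function.Surjective (toFibStalk f x z hz).hom := by
  unfold toFibStalk
  have h1 : Function.Surjective ((f.fiberι (f x)).stalkMap z).hom :=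
    (f.fiberι (f x)).stalkMap_surjective z
  have h2 : Function.Surjective (X.presheaf.stalkSpecializes (specializes_of_eq hz)).hom := by
    have : IsIso (X.presheaf.stalkSpecializes (specializes_of_eq hz)) :=
      (X.presheaf.stalkCongr (Inseparable.of_eq hz.symm)).isIso_hom
    exact ((ConcreteCategory.isIso_iff_bijective _).1 this).2
  rw [CommRingCat.hom_comp]
  exact h1.comp h2

theorem isIso_stalkSpecializes_of_eq {Z : Scheme.{u}} {a b : Z} (h : a = b) :
    IsIso (Z.presheaf.stalkSpecializes (specializes_of_eq h)) :=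
  (Z.presheaf.stalkCongr (Inseparable.of_eq h.symm)).isIso_hom

theorem toFibStalk_stalkMap_eq_zero (z : f.fiber (f x)) (hz : f.fiberι (f x) z = x)
    (a : Y.presheaf.stalk (f x)) (ha : a ∈ maximalIdeal (Y.presheaf.stalk (f x))) :
    (toFibStalk f x z hz).hom ((f.stalkMap x).hom a) = 0 := by
  have hins : Inseparable (f.base ((f.fiberι (f x)) z))
      ((Y.fromSpecResidueField (f x)) ((f.fiberToSpecResidueField (f x)) z)) :=
    .of_eq (congr($(f.fiber_fac (f x)) z))
  let θ : Y.presheaf.stalk (f x) ⟶
      (Spec (Y.residueField (f x))).presheaf.stalk ((f.fiberToSpecResidueField (f x)) z) :=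
    Y.presheaf.stalkSpecializes (f.base.hom.map_specializes (specializes_of_eq hz)) ≫
      ((Y.presheaf.stalkCongr hins).hom ≫
        (Y.fromSpecResidueField (f x)).stalkMap ((f.fiberToSpecResidueField (f x)) z))
  have key : f.stalkMap x ≫ toFibStalk f x z hz =
      θ ≫ (f.fiberToSpecResidueField (f x)).stalkMap z := by
    unfold toFibStalk
    rw [← Scheme.Hom.stalkSpecializes_stalkMap_assoc, ← Scheme.Hom.stalkMap_comp,
      Scheme.Hom.stalkMap_congr_hom _ _ (f.fiber_fac (f x)), Scheme.Hom.stalkMap_comp]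
    simp only [θ, Category.assoc]
    rfl
  haveI hloc : IsLocalHom θ.hom := by
    haveI := isIso_stalkSpecializes_of_eq (Z := Y) (congrArg f.base hz)
    haveI h1 : IsLocalHom (Y.presheaf.stalkSpecializes
        (f.base.hom.map_specializes (specializes_of_eq hz))).hom := isLocalHom_of_isIso _
    haveI h2 : IsLocalHom (Y.presheaf.stalkCongr hins).hom.hom := isLocalHom_of_iso _
    haveI h3 : IsLocalHom ((Y.presheaf.stalkCongr hins).hom ≫
        (Y.fromSpecResidueField (f x)).stalkMap ((f.fiberToSpecResidueField (f x)) z)).hom :=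
      CommRingCat.isLocalHom_comp _ _
    exact CommRingCat.isLocalHom_comp _ _
  have h0 := congrArg (fun g => g.hom a) key
  simp only [CommRingCat.hom_comp, RingHom.comp_apply] at h0
  rw [h0]
  have hm : θ.hom a ∈ maximalIdeal _ := by
    rw [mem_maximalIdeal, mem_nonunits_iff] at ha ⊢
    intro hu
    exact ha (isUnit_of_map_unit θ.hom a hu)
  rw [eq_zero_of_mem_maximalIdeal_stalk_field _ (Field.toIsField _) _ _ hm, map_zero]

section Lift

theorem fibIdeal_le_maximalIdeal : fibIdeal f x ≤ maximalIdeal (X.presheaf.stalk x) :=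
  ((IsLocalRing.local_hom_TFAE (f.stalkMap x).hom).out 0 2).mp
    (inferInstance : IsLocalHom (f.stalkMap x).hom)

instance nontrivial_quot : Nontrivial (X.presheaf.stalk x ⧸ fibIdeal f x) :=
  Ideal.Quotient.nontrivial_iff.2
    (ne_top_of_le_ne_top (maximalIdeal.isMaximal _).ne_top (fibIdeal_le_maximalIdeal f x))

/-- the local ring `O_{X,x} / m_y O_{X,x}` -/
noncomputable abbrev fibQuot : CommRingCat.{u} := CommRingCat.of (X.presheaf.stalk x ⧸ fibIdeal f x)

instance isLocalRing_quot : IsLocalRing (X.presheaf.stalk x ⧸ fibIdeal f x) :=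
  .of_surjective' (Ideal.Quotient.mk (fibIdeal f x)) Ideal.Quotient.mk_surjective

instance : IsLocalRing (fibQuot f x) :=
  inferInstanceAs (IsLocalRing (X.presheaf.stalk x ⧸ fibIdeal f x))

/-- the quotient map -/
noncomputable def quotMap : X.presheaf.stalk x ⟶ fibQuot f x :=
  CommRingCat.ofHom (Ideal.Quotient.mk (fibIdeal f x))

/-- the structure map from the residue field -/
noncomputable def resMap : Y.residueField (f x) ⟶ fibQuot f x :=
  CommRingCat.ofHom (Ideal.Quotient.lift (maximalIdeal (Y.presheaf.stalk (f x)))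
    ((Ideal.Quotient.mk (fibIdeal f x)).comp (f.stalkMap x).hom)
    (fun a ha => Ideal.Quotient.eq_zero_iff_mem.2 (Ideal.mem_map_of_mem _ ha)))

theorem residue_resMap : Y.residue (f x) ≫ resMap f x = f.stalkMap x ≫ quotMap f x := by
  ext a
  rfl

/-- the section `Spec (O_{X,x}/m_y O_{X,x}) ⟶ X_y`. -/
noncomputable def sectionToFiber : Spec (fibQuot f x) ⟶ f.fiber (f x) :=
  pullback.lift (Spec.map (quotMap f x) ≫ X.fromSpecStalk x) (Spec.map (resMap f x)) (by
    rw [Category.assoc, ← Scheme.SpecMap_stalkMap_fromSpecStalk, ← Spec.map_comp_assoc,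
      Scheme.fromSpecResidueField, ← Spec.map_comp_assoc, residue_resMap])

theorem sectionToFiber_fiberι :
    sectionToFiber f x ≫ f.fiberι (f x) = Spec.map (quotMap f x) ≫ X.fromSpecStalk x :=
  pullback.lift_fst _ _ _

instance isLocalHom_quotMap : IsLocalHom (quotMap f x).hom :=
  IsLocalHom.of_surjective (Ideal.Quotient.mk (fibIdeal f x)) Ideal.Quotient.mk_surjective

/-- the point of the fibre hit by the closed point -/
noncomputable def zpt : f.fiber (f x) := (sectionToFiber f x) (closedPoint (fibQuot f x))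

theorem fiberι_zpt : f.fiberι (f x) (zpt f x) = x := by
  have h := congr($(sectionToFiber_fiberι f x) (closedPoint (fibQuot f x)))
  rw [Scheme.Hom.comp_apply, Scheme.Hom.comp_apply, Spec_closedPoint,
    Scheme.fromSpecStalk_closedPoint] at h
  exact h

theorem stalkClosedPointTo_congr {R : CommRingCat.{u}} [IsLocalRing R] {Z : Scheme.{u}}
    (q₁ q₂ : Spec R ⟶ Z) (e : q₁ = q₂) :
    Scheme.stalkClosedPointTo q₁ =
      Z.presheaf.stalkSpecializes (specializes_of_eq (congr($e (closedPoint R))).symm) ≫
        Scheme.stalkClosedPointTo q₂ := by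
  subst e
  rw [TopCat.Presheaf.stalkSpecializes_refl, Category.id_comp]

/-- the retraction: composing the comparison map with the map induced by the section gives the
quotient map. -/
theorem toFibStalk_stalkClosedPointTo :
    toFibStalk f x (zpt f x) (fiberι_zpt f x) ≫ Scheme.stalkClosedPointTo (sectionToFiber f x) =
      quotMap f x := by
  unfold toFibStalk
  rw [Category.assoc]
  have h1 : (f.fiberι (f x)).stalkMap (zpt f x) ≫ Scheme.stalkClosedPointTo (sectionToFiber f x) =
      Scheme.stalkClosedPointTo (sectionToFiber f x ≫ f.fiberι (f x)) :=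
    (Scheme.stalkClosedPointTo_comp (sectionToFiber f x) (f.fiberι (f x))).symm
  rw [h1, stalkClosedPointTo_congr _ _ (sectionToFiber_fiberι f x)]
  have h2 := (SpecToEquivOfLocalRing X (fibQuot f x)).right_inv ⟨x, quotMap f x, inferInstance⟩
  obtain ⟨h3, h4⟩ := SpecToEquivOfLocalRing_eq_iff.1 h2
  change Scheme.stalkClosedPointTo (Spec.map (quotMap f x) ≫ X.fromSpecStalk x) = _ at h4
  rw [h4, TopCat.Presheaf.stalkCongr_hom]
  erw [TopCat.Presheaf.stalkSpecializes_comp_assoc, TopCat.Presheaf.stalkSpecializes_comp_assoc,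
    TopCat.Presheaf.stalkSpecializes_refl, Category.id_comp]

theorem ker_toFibStalk :
    RingHom.ker (toFibStalk f x (zpt f x) (fiberι_zpt f x)).hom = fibIdeal f x := by
  apply le_antisymm
  · intro c hc
    have h := congrArg (fun g => g.hom c) (toFibStalk_stalkClosedPointTo f x)
    simp only [CommRingCat.hom_comp, RingHom.comp_apply] at h
    rw [RingHom.mem_ker.1 hc, map_zero] at h
    exact Ideal.Quotient.eq_zero_iff_mem.1 h.symm
  · rw [Ideal.map_le_iff_le_comap]
    intro a ha
    exact toFibStalk_stalkMap_eq_zero f x _ _ a ha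

theorem nonempty_equiv_zpt :
    Nonempty ((f.fiber (f x)).presheaf.stalk (zpt f x) ≃+*
      (X.presheaf.stalk x ⧸ fibIdeal f x)) :=
  ⟨((Ideal.quotEquivOfEq (ker_toFibStalk f x)).symm.trans
    (RingHom.quotientKerEquivOfSurjective
      (toFibStalk_surjective f x (zpt f x) (fiberι_zpt f x)))).symm⟩

theorem zpt_eq : zpt f x = f.asFiber x :=
  (f.fiberι (f x)).isEmbedding.injective (by rw [fiberι_zpt, Scheme.Hom.fiberι_asFiber])

/-- **The local ring of the fibre**: `O_{X_y, x} ≃ O_{X,x} / m_y O_{X,x}`. -/
theorem nonempty_fibreStalkEquiv :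
    Nonempty ((f.fiber (f x)).presheaf.stalk (f.asFiber x) ≃+*
      (X.presheaf.stalk x ⧸ fibIdeal f x)) := by
  rw [← zpt_eq]
  exact nonempty_equiv_zpt f x

end Lift

end Groth.Agent.Lib.Helper21.FibreStalk
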