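import Mathlib
import Groth.Prelude.Def_MoreMor
import Groth.Agent.Lib.Helper21.FibreStalk

/-!
# Helper21 — FibreStalkSq: the map of fibres `X_s → Y_s` on local rings: the commutative square
with the comparison maps `O_{X,x} → O_{X_s,x}`, `O_{Y,y} → O_{Y_s,y}`; kernels.
-/

open AlgebraicGeometry CategoryTheory Limits TopologicalSpace IsLocalRing

namespace Groth.Agent.Lib.Helper21.FibreStalk

universe u

section Square

variable {X Y S : Scheme.{u}} (f : X ⟶ Y) (g : Y ⟶ S)

theorem fiberMap_fiberι (s : S) :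
    MoreMor.fiberMap f g s ≫ g.fiberι s = (f ≫ g).fiberι s ≫ f :=
  pullback.lift_fst _ _ _

theorem fiberι_fiberMap (s : S) (z : (f ≫ g).fiber s) :
    g.fiberι s (MoreMor.fiberMap f g s z) = f ((f ≫ g).fiberι s z) := by
  have := congr($(fiberMap_fiberι f g s) z)
  simpa using this

/-- the comparison maps to the stalks of the fibres are compatible with the map of fibres. -/
theorem stalkMap_fiberMap_square (s : S) (z : (f ≫ g).fiber s) :
    f.stalkMap ((f ≫ g).fiberι s z) ≫ ((f ≫ g).fiberι s).stalkMap z =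
      Y.presheaf.stalkSpecializes (specializes_of_eq (fiberι_fiberMap f g s z)) ≫
        (g.fiberι s).stalkMap (MoreMor.fiberMap f g s z) ≫
          (MoreMor.fiberMap f g s).stalkMap z := by
  rw [← Scheme.Hom.stalkMap_comp, ← Scheme.Hom.stalkMap_comp,
    Scheme.Hom.stalkMap_congr_hom _ _ (fiberMap_fiberι f g s), TopCat.Presheaf.stalkCongr_hom]
  erw [TopCat.Presheaf.stalkSpecializes_comp_assoc, TopCat.Presheaf.stalkSpecializes_refl,
    Category.id_comp]

/-- the kernel of the comparison map, for any point of the fibre over `x`. -/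
theorem ker_toFibStalk' (x : X) (z : f.fiber (f x)) (hz : f.fiberι (f x) z = x) :
    RingHom.ker (toFibStalk f x z hz).hom = fibIdeal f x := by
  have : z = zpt f x := (f.fiberι (f x)).isEmbedding.injective (by rw [hz, fiberι_zpt])
  subst this
  exact ker_toFibStalk f x

theorem fiberι_fiberMap_asFiber (x : X) :
    g.fiberι (g (f x)) (MoreMor.fiberMap f g (g (f x)) ((f ≫ g).asFiber x)) = f x := by
  rw [fiberι_fiberMap]
  exact congrArg f ((f ≫ g).fiberι_asFiber x)

/-- **the square of local rings** `O_{Y,y} → O_{X,x}` over `O_{Y_s,y} → O_{X_s,x}`. -/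
theorem toFibStalk_square (x : X) :
    f.stalkMap x ≫ toFibStalk (f ≫ g) x ((f ≫ g).asFiber x) ((f ≫ g).fiberι_asFiber x) =
      toFibStalk g (f x) (MoreMor.fiberMap f g (g (f x)) ((f ≫ g).asFiber x))
        (fiberι_fiberMap_asFiber f g x) ≫
        (MoreMor.fiberMap f g (g (f x))).stalkMap ((f ≫ g).asFiber x) := by
  unfold toFibStalk
  rw [← Scheme.Hom.stalkSpecializes_stalkMap_assoc]
  erw [stalkMap_fiberMap_square f g (g (f x)) ((f ≫ g).asFiber x)]
  erw [TopCat.Presheaf.stalkSpecializes_comp_assoc]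
  rfl

end Square

end Groth.Agent.Lib.Helper21.FibreStalk
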