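import Mathlib
import Groth.Agent.Lib.Helper21.FlatDescG

/-!
# Helper21 — FlatDescH: finitely presented modules over `R[X₁..Xₙ]` descend to finitely generated
subrings; openness of the flat locus for finitely presented modules over polynomial rings.
-/

namespace Groth.Agent.Lib.Helper21.FlatDesc

open TensorProduct Function

attribute [local instance] MvPolynomial.algebraMvPolynomial

universe u

section PresBC

variable {B' B : Type*} [CommRing B'] [CommRing B] [Algebra B' B] {m b : ℕ}

/-- the presentation matrix map `c ↦ ∑ c_k v_k`. -/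
noncomputable abbrev presMap {B : Type*} [CommRing B] (v : Fin m → Fin b → B) :
    (Fin m → B) →ₗ[B] (Fin b → B) := Fintype.linearCombination B v

/-- the module presented by `v`. -/
abbrev PresMod {B : Type*} [CommRing B] (v : Fin m → Fin b → B) : Type _ :=
  (Fin b → B) ⧸ LinearMap.range (presMap v)

variable (B) in
/-- base change of the generators. -/
def mapGen (v' : Fin m → Fin b → B') : Fin m → Fin b → B := fun k i => algebraMap B' B (v' k i)

variable (B) in
/-- the comparison map of presented modules. -/
noncomputable def presComp (v' : Fin m → Fin b → B') : PresMod v' →ₗ[B'] PresMod (mapGen B v') :=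
  Submodule.liftQ _ (((LinearMap.range (presMap (mapGen B v'))).mkQ.restrictScalars B') ∘ₗ
    (Algebra.linearMap B' B).compLeft (Fin b)) (by
      rintro _ ⟨c, rfl⟩
      rw [LinearMap.mem_ker, LinearMap.comp_apply, LinearMap.restrictScalars_apply,
        Submodule.mkQ_apply, Submodule.Quotient.mk_eq_zero]
      refine ⟨fun k => algebraMap B' B (c k), ?_⟩
      ext i
      simp [presMap, Fintype.linearCombination_apply, mapGen, Finset.sum_apply, Algebra.smul_def])

theorem presComp_isBaseChange (v' : Fin m → Fin b → B') : IsBaseChange B (presComp B v') := by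
  refine IsBaseChange.of_right_exact B
    (h₁ := (Algebra.linearMap B' B).compLeft (Fin m))
    (h₂ := (Algebra.linearMap B' B).compLeft (Fin b))
    (h₃ := presComp B v')
    (f := presMap v') (g := (LinearMap.range (presMap v')).mkQ)
    (f' := presMap (mapGen B v')) (g' := (LinearMap.range (presMap (mapGen B v'))).mkQ)
    ?_ ?_ (IsBaseChange.finitePow _ (IsBaseChange.linearMap B' B))
    (IsBaseChange.finitePow _ (IsBaseChange.linearMap B' B))
    (LinearMap.exact_map_mkQ_range _) (Submodule.mkQ_surjective _)
    (LinearMap.exact_map_mkQ_range _) (Submodule.mkQ_surjective _)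
  · ext c i
    simp [presMap, Fintype.linearCombination_apply, mapGen, Finset.sum_apply, Algebra.smul_def]
  · ext x
    simp [presComp]

end PresBC

section Model

variable (R : Type u) [CommRing R] (n : ℕ) (M : Type u) [AddCommGroup M]
  [Module (MvPolynomial (Fin n) R) M] [Module.FinitePresentation (MvPolynomial (Fin n) R) M]

/-- A finitely presented module over `R[X₁..Xₙ]` is the base change of a presented module over
`R₀[X₁..Xₙ]` for a finitely generated subring `R₀` of `R` containing a given finite set. -/
theorem exists_fg_model_pol (s : Finset R) :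
    ∃ (R₀ : Subalgebra ℤ R) (m b : ℕ) (v' : Fin m → Fin b → MvPolynomial (Fin n) R₀),
      R₀.FG ∧ (s : Set R) ⊆ R₀ ∧
      Nonempty (MvPolynomial (Fin n) R ⊗[MvPolynomial (Fin n) R₀] PresMod v'
        ≃ₗ[MvPolynomial (Fin n) R] M) := by
  classical
  obtain ⟨b, K, e, hK⟩ := Module.FinitePresentation.exists_fin (MvPolynomial (Fin n) R) M
  obtain ⟨m, v, hv⟩ := Submodule.fg_iff_exists_fin_generating_family.1 hK
  let T : Set R := (⋃ k : Fin m, ⋃ i : Fin b, ((v k i).coeffs : Set R)) ∪ s
  have hT : T.Finite := by
    refine Set.Finite.union ?_ s.finite_toSet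
    exact Set.finite_iUnion fun k => Set.finite_iUnion fun i => (v k i).coeffs.finite_toSet
  let R₀ : Subalgebra ℤ R := Algebra.adjoin ℤ T
  have hR₀ : R₀.FG := ⟨hT.toFinset, by simp [R₀]⟩
  have hmem : ∀ k i, v k i ∈ Set.range (MvPolynomial.map (algebraMap R₀ R)) := by
    intro k i
    rw [MvPolynomial.mem_range_map_iff_coeffs_subset]
    intro x hx
    have : x ∈ T := Or.inl (Set.mem_iUnion.2 ⟨k, Set.mem_iUnion.2 ⟨i, hx⟩⟩)
    exact ⟨⟨x, Algebra.subset_adjoin this⟩, rfl⟩
  choose v' hv' using hmem
  refine ⟨R₀, m, b, v', hR₀, fun x hx => Algebra.subset_adjoin (Or.inr hx), ⟨?_⟩⟩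
  have hgen : mapGen (MvPolynomial (Fin n) R) v' = v := by
    funext k i; exact hv' k i
  have hrange : LinearMap.range (presMap v) = K := by
    rw [← hv]; exact Fintype.range_linearCombination _ _
  have e1 := (presComp_isBaseChange (B := MvPolynomial (Fin n) R) v').equiv
  rw [hgen] at e1
  exact e1 ≪≫ₗ Submodule.quotEquivOfEq _ _ hrange ≪≫ₗ e.symm

end Model

section OpenPol

variable (R : Type u) [CommRing R] (n : ℕ) (M : Type u) [AddCommGroup M]
  [Module (MvPolynomial (Fin n) R) M] [Module R M] [IsScalarTower R (MvPolynomial (Fin n) R) M]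
  [Module.FinitePresentation (MvPolynomial (Fin n) R) M]

theorem noetherian_of_fg_int {R : Type u} [CommRing R] (R₀ : Subalgebra ℤ R) (h : R₀.FG) :
    IsNoetherianRing R₀ := by
  haveI : Algebra.FiniteType ℤ R₀ := (Subalgebra.fg_iff_finiteType R₀).1 h
  exact Algebra.FiniteType.isNoetherianRing ℤ R₀

/-- flatness of a localization is invariant under linear equivalences of the module. -/
theorem flat_localized_congr {B : Type u} [CommRing B] [Algebra R B] {X Y : Type u}
    [AddCommGroup X] [Module B X] [Module R X] [IsScalarTower R B X]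
    [AddCommGroup Y] [Module B Y] [Module R Y] [IsScalarTower R B Y] (e : X ≃ₗ[B] Y)
    (T : Submonoid B) [Module.Flat R (LocalizedModule T X)] :
    Module.Flat R (LocalizedModule T Y) := by
  let φ : X →ₗ[B] LocalizedModule T Y := LocalizedModule.mkLinearMap T Y ∘ₗ e.toLinearMap
  haveI : IsLocalizedModule T φ := inferInstance
  exact Module.Flat.of_linearEquiv
    ((IsLocalizedModule.linearEquiv T (LocalizedModule.mkLinearMap T X) φ).restrictScalars R).symm

/-- **Openness of the flat locus**: `M` finitely presented over `R[X₁..Xₙ]`, `R` arbitrary. -/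
theorem isOpen_flatLocus_pol :
    IsOpen {Q : PrimeSpectrum (MvPolynomial (Fin n) R) |
      Module.Flat R (LocalizedModule Q.asIdeal.primeCompl M)} := by
  obtain ⟨R₀, m, b, v', hfg, -, ⟨e⟩⟩ := exists_fg_model_pol R n M ∅
  haveI := noetherian_of_fg_int R₀ hfg
  have hopen := isOpen_flatLocus_St (R₀ := R₀) (n := n) (PresMod v') R
  convert hopen using 2
  ext Q
  constructor
  · intro h
    haveI : Module.Flat R (LocalizedModule Q.asIdeal.primeCompl M) := h
    exact flat_localized_congr R e.symm Q.asIdeal.primeCompl
  · intro h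
    haveI : Module.Flat R (LocalizedModule Q.asIdeal.primeCompl (St R₀ n (PresMod v') R)) := h
    exact flat_localized_congr R e Q.asIdeal.primeCompl

end OpenPol

end Groth.Agent.Lib.Helper21.FlatDesc
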