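import Mathlib
import Groth.Agent.Lib.Helper21.FlatDescH

/-!
# Helper21 — FlatDescI: openness of the flat locus for finitely presented algebras and modules
(EGA IV 11.3.1, algebra form): `isOpen_flatLocus_of_finitePresentation`.
-/

namespace Groth.Agent.Lib.Helper21.FlatDesc

open TensorProduct Function

attribute [local instance] MvPolynomial.algebraMvPolynomial

universe u

section Surj

variable {R P S M : Type u} [CommRing R] [CommRing P] [CommRing S] [Algebra R P] [Algebra R S]
  [Algebra P S] [IsScalarTower R P S] [AddCommGroup M] [Module S M] [Module P M] [Module R M]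
  [IsScalarTower R S M] [IsScalarTower P S M] [IsScalarTower R P M]

/-- Along a surjection `P → S`, the localization of an `S`-module at a prime `q` of `S` is flat over `R`
iff its localization (as a `P`-module) at the preimage of `q` is. -/
theorem flat_localized_comap_iff (hsurj : Surjective (algebraMap P S)) (q : Ideal S) [q.IsPrime] :
    Module.Flat R (LocalizedModule q.primeCompl M) ↔
      Module.Flat R (LocalizedModule (q.comap (algebraMap P S)).primeCompl M) := by
  set Q := q.comap (algebraMap P S)
  have hsub : Algebra.algebraMapSubmonoid S Q.primeCompl = q.primeCompl := by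
    ext x
    constructor
    · rintro ⟨y, hy, rfl⟩; exact hy
    · intro hx
      obtain ⟨y, rfl⟩ := hsurj x
      exact ⟨y, hx, rfl⟩
  let f : M →ₗ[S] LocalizedModule q.primeCompl M := LocalizedModule.mkLinearMap q.primeCompl M
  haveI h1 : IsLocalizedModule (Algebra.algebraMapSubmonoid S Q.primeCompl) f := by
    rw [hsub]; infer_instance
  haveI : IsScalarTower P S (LocalizedModule q.primeCompl M) := inferInstance
  haveI : IsLocalizedModule Q.primeCompl (f.restrictScalars P) :=
    IsLocalizedModule.restrictScalars Q.primeCompl f
  let e : LocalizedModule Q.primeCompl M ≃ₗ[P] LocalizedModule q.primeCompl M :=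
    IsLocalizedModule.linearEquiv Q.primeCompl (LocalizedModule.mkLinearMap Q.primeCompl M)
      (f.restrictScalars P)
  have hlin : ∀ (r : R) (x : LocalizedModule Q.primeCompl M), e (r • x) = r • e x := by
    intro r x
    rw [← algebraMap_smul P r x, map_smul, ← algebraMap_smul S (algebraMap R P r) (e x),
      ← IsScalarTower.algebraMap_apply, algebraMap_smul]
  let eR : LocalizedModule Q.primeCompl M ≃ₗ[R] LocalizedModule q.primeCompl M :=
    { e.toAddEquiv with map_smul' := hlin }
  exact ⟨fun _ => Module.Flat.of_linearEquiv eR, fun _ => Module.Flat.of_linearEquiv eR.symm⟩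

end Surj

section Main

/-- **Openness of the flat locus** (EGA IV 11.3.1, algebra form): `S` a finitely presented `R`-algebra,
`M` a finitely presented `S`-module. -/
theorem isOpen_flatLocus_of_finitePresentation {R S M : Type u} [CommRing R] [CommRing S]
    [Algebra R S] [Algebra.FinitePresentation R S] [AddCommGroup M] [Module S M] [Module R M]
    [IsScalarTower R S M] [Module.FinitePresentation S M] :
    IsOpen {q : PrimeSpectrum S | Module.Flat R (LocalizedModule q.asIdeal.primeCompl M)} := by
  obtain ⟨n, f, hf, hker⟩ := Algebra.FinitePresentation.out (R := R) (A := S)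
  letI : Algebra (MvPolynomial (Fin n) R) S := f.toRingHom.toAlgebra
  letI : Module (MvPolynomial (Fin n) R) M := Module.compHom M f.toRingHom
  haveI : IsScalarTower (MvPolynomial (Fin n) R) S M :=
    IsScalarTower.of_algebraMap_smul fun _ _ => rfl
  haveI : IsScalarTower R (MvPolynomial (Fin n) R) S :=
    IsScalarTower.of_algebraMap_eq fun r => (f.commutes r).symm
  haveI : IsScalarTower R (MvPolynomial (Fin n) R) M := ⟨fun r p m => by
    show f (r • p) • m = r • (f p • m)
    rw [map_smul, smul_assoc]⟩
  haveI : Module.FinitePresentation (MvPolynomial (Fin n) R) S := by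
    refine Module.finitePresentation_of_surjective
      (Algebra.linearMap (MvPolynomial (Fin n) R) S) hf ?_
    have : LinearMap.ker (Algebra.linearMap (MvPolynomial (Fin n) R) S) =
        RingHom.ker f.toRingHom := by
      ext x; rfl
    rw [this]; exact hker
  haveI : Module.FinitePresentation (MvPolynomial (Fin n) R) M :=
    Module.FinitePresentation.trans (MvPolynomial (Fin n) R) M S
  have hV := isOpen_flatLocus_pol R n M
  have hcont : Continuous (PrimeSpectrum.comap (algebraMap (MvPolynomial (Fin n) R) S)) :=
    PrimeSpectrum.continuous_comap _
  convert hV.preimage hcont using 1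
  ext q
  exact flat_localized_comap_iff (R := R) (P := MvPolynomial (Fin n) R) hf q.asIdeal

end Main

end Groth.Agent.Lib.Helper21.FlatDesc
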