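import Mathlib
import Groth.Agent.Lib.Helper21.FlatDescI

open AlgebraicGeometry CategoryTheory Limits TopologicalSpace

/-!
# Helper21 — FlatDescK: openness of the flat locus of a morphism of schemes locally of finite
presentation (structure sheaf form): `isOpen_flat_locus`; `flat_stalkMap_iff` (affine dictionary).
-/

namespace Groth.Agent.Lib.Helper21.FlatDesc

universe u

variable {X Y : Scheme.{u}}

set_option backward.defeqAttrib.useBackward true in
set_option backward.isDefEq.respectTransparency false in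
lemma flat_stalkMap_iff {f : X ⟶ Y} {x : X} (U : Y.Opens)
      (hU : IsAffineOpen U) (V : X.Opens) (hV : IsAffineOpen V) (hVU : V ≤ f ⁻¹ᵁ U)
      (hx : x ∈ V) :
    letI := (f.appLE U V hVU).hom.toAlgebra
    (f.stalkMap x).hom.Flat ↔
      Module.Flat Γ(Y, U) (LocalizedModule (hV.primeIdealOf ⟨x, hx⟩).asIdeal.primeCompl Γ(X, V)) := by
  let := (f.appLE U V hVU).hom.toAlgebra
  let p := (hU.primeIdealOf ⟨f x, hVU hx⟩).asIdeal
  let q := (hV.primeIdealOf ⟨x, hx⟩).asIdeal
  have : q.LiesOver p :=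
    ⟨congr($(IsAffineOpen.comap_primeIdealOf_appLE U hU V hV hVU hx).1).symm⟩
  let := Localization.AtPrime.algebraOfLiesOver p q
  trans Module.Flat (Localization.AtPrime p) (Localization.AtPrime q)
  · refine Iff.trans ?_ (RingHom.flat_algebraMap_iff (R := Localization.AtPrime p)
      (S := Localization.AtPrime q))
    exact RingHom.Flat.respectsIso.arrow_mk_iso_iff
      (IsAffineOpen.arrowStalkMapIso f U hU V hV hVU hx)
  · rw [Module.flat_iff_of_isLocalization (R := Γ(Y, U)) (Localization.AtPrime p) p.primeCompl]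


/-- **Openness of the flat locus** of a morphism locally of finite presentation. -/
theorem isOpen_flat_locus (f : X ⟶ Y) [LocallyOfFinitePresentation f] :
    IsOpen {x : X | (f.stalkMap x).hom.Flat} := by
  rw [isOpen_iff_forall_mem_open]
  intro x hx
  obtain ⟨_, ⟨U, hU : IsAffineOpen U, rfl⟩, hfxU, -⟩ :=
    Y.isBasis_affineOpens.exists_subset_of_mem_open (Set.mem_univ (f x)) isOpen_univ
  obtain ⟨_, ⟨V, hV : IsAffineOpen V, rfl⟩, hxV, hVU⟩ :=
    X.isBasis_affineOpens.exists_subset_of_mem_open (show x ∈ (f ⁻¹ᵁ U : Set X) from hfxU)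
      (f ⁻¹ᵁ U).isOpen
  letI := (f.appLE U V hVU).hom.toAlgebra
  haveI : Algebra.FinitePresentation Γ(Y, U) Γ(X, V) :=
    (HasRingHomProperty.appLE @LocallyOfFinitePresentation f inferInstance ⟨U, hU⟩ ⟨V, hV⟩ hVU :
      RingHom.FinitePresentation _)
  have hopen := isOpen_flatLocus_of_finitePresentation (R := Γ(Y, U)) (S := Γ(X, V))
    (M := Γ(X, V))
  refine ⟨Subtype.val '' ((fun y : V => hV.primeIdealOf y) ⁻¹'
    {q : PrimeSpectrum Γ(X, V) |
      Module.Flat Γ(Y, U) (LocalizedModule q.asIdeal.primeCompl Γ(X, V))}), ?_, ?_, ?_⟩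
  · rintro _ ⟨y, hy, rfl⟩
    exact (flat_stalkMap_iff U hU V hV hVU y.2).2 hy
  · exact V.2.isOpenMap_subtype_val _ (hopen.preimage hV.isoSpec.hom.continuous)
  · exact ⟨⟨x, hxV⟩, (flat_stalkMap_iff U hU V hV hVU hxV).1 hx, rfl⟩

end Groth.Agent.Lib.Helper21.FlatDesc
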