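import Mathlib
import Groth.Agent.Lib.Helper21.FlatDescI

/-!
# Helper21 — FlatDescM: flatness of `T⁻¹M` from flatness at primes disjoint from `T`; the locus in
`Spec B` of primes `q` with `M_q` flat over `A` (for `A → B → C`, `M` a `C`-module) is open as soon as
the flat locus in `Spec C` is (EGA IV 11.3.2, algebra form).
-/

namespace Groth.Agent.Lib.Helper21.FlatDesc

open TensorProduct Function

universe u

section LocPrime

variable {A C : Type u} [CommRing A] [CommRing C] [Algebra A C]
  (M : Type u) [AddCommGroup M] [Module C M] [Module A M] [IsScalarTower A C M]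

/-- A localization `T⁻¹M` of a `C`-module is `A`-flat as soon as `M_Q` is `A`-flat for all primes
`Q` of `C` disjoint from `T`. -/
theorem flat_localizedModule_of_forall_prime (T : Submonoid C)
    (H : ∀ (Q : Ideal C) [Q.IsPrime], Disjoint (Q : Set C) T →
      Module.Flat A (LocalizedModule Q.primeCompl M)) :
    Module.Flat A (LocalizedModule T M) := by
  classical
  rw [Module.Flat.iff_lTensor_injective']
  intro I
  let φ : M ⊗[A] I →ₗ[C] M ⊗[A] A := AlgebraTensorModule.lTensor C M I.subtype
  rw [← AlgebraTensorModule.coe_lTensor (A := C), injective_iff_map_eq_zero]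
  intro x hx
  have h1 := LinearMap.ker_localizedMap_eq_localized₀_ker T
      (AlgebraTensorModule.rTensor A I (LocalizedModule.mkLinearMap T M))
      (AlgebraTensorModule.rTensor A A (LocalizedModule.mkLinearMap T M)) φ
  rw [IsLocalizedModule.map_lTensor] at h1
  have hx' : x ∈ LinearMap.ker (AlgebraTensorModule.lTensor C (LocalizedModule T M) I.subtype) := hx
  rw [h1] at hx'
  obtain ⟨m, hmK, s, rfl⟩ := hx'
  rw [IsLocalizedModule.mk'_eq_zero]
  by_contra hne
  let 𝔞 : Ideal C := LinearMap.ker (LinearMap.toSpanSingleton C (M ⊗[A] I) m)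
  have hdisj : Disjoint (𝔞 : Set C) T := by
    rw [Set.disjoint_left]
    intro t ht𝔞 htT
    apply hne
    rw [IsLocalizedModule.eq_zero_iff T]
    exact ⟨⟨t, htT⟩, ht𝔞⟩
  obtain ⟨Q, hQ, h𝔞Q, hQT⟩ := Ideal.exists_le_prime_disjoint 𝔞 T hdisj
  haveI := H Q hQT
  have hinj : Injective (AlgebraTensorModule.lTensor C (LocalizedModule Q.primeCompl M) I.subtype) := by
    rw [AlgebraTensorModule.coe_lTensor]
    exact Module.Flat.lTensor_preserves_injective_linearMap I.subtype Subtype.val_injective
  have hzero : (AlgebraTensorModule.rTensor A I (LocalizedModule.mkLinearMap Q.primeCompl M)) m = 0 := by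
    apply hinj
    rw [map_zero]
    have := IsLocalizedModule.map_apply Q.primeCompl
      (AlgebraTensorModule.rTensor A I (LocalizedModule.mkLinearMap Q.primeCompl M))
      (AlgebraTensorModule.rTensor A A (LocalizedModule.mkLinearMap Q.primeCompl M)) φ m
    rw [IsLocalizedModule.map_lTensor] at this
    rw [this, show φ m = 0 from hmK, map_zero]
  obtain ⟨s', hs'⟩ := (IsLocalizedModule.eq_zero_iff Q.primeCompl
    (AlgebraTensorModule.rTensor A I (LocalizedModule.mkLinearMap Q.primeCompl M))).mp hzero
  exact s'.2 (h𝔞Q hs')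

end LocPrime


section OverBase

variable {A B C : Type u} [CommRing A] [CommRing B] [CommRing C]
  [Algebra A B] [Algebra B C] [Algebra A C] [IsScalarTower A B C]
  (M : Type u) [AddCommGroup M] [Module C M] [Module B M] [Module A M]
  [IsScalarTower B C M] [IsScalarTower A C M] [IsScalarTower A B M]

/-- localizing at a submonoid of `B` or at its image in `C` gives the same flatness over `A`. -/
theorem flat_localized_algebraMapSubmonoid_iff (T₀ : Submonoid B) :
    Module.Flat A (LocalizedModule T₀ M) ↔
      Module.Flat A (LocalizedModule (Algebra.algebraMapSubmonoid C T₀) M) := by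
  let f : M →ₗ[C] LocalizedModule (Algebra.algebraMapSubmonoid C T₀) M :=
    LocalizedModule.mkLinearMap (Algebra.algebraMapSubmonoid C T₀) M
  haveI : IsScalarTower B C (LocalizedModule (Algebra.algebraMapSubmonoid C T₀) M) := inferInstance
  haveI : IsLocalizedModule T₀ (f.restrictScalars B) :=
    IsLocalizedModule.restrictScalars T₀ f
  let e : LocalizedModule T₀ M ≃ₗ[B] LocalizedModule (Algebra.algebraMapSubmonoid C T₀) M :=
    IsLocalizedModule.linearEquiv T₀ (LocalizedModule.mkLinearMap T₀ M) (f.restrictScalars B)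
  have hlin : ∀ (r : A) (x : LocalizedModule T₀ M), e (r • x) = r • e x := by
    intro r x
    rw [← algebraMap_smul B r x, map_smul, ← algebraMap_smul C (algebraMap A B r) (e x),
      ← IsScalarTower.algebraMap_apply, algebraMap_smul]
  let eA : LocalizedModule T₀ M ≃ₗ[A] LocalizedModule (Algebra.algebraMapSubmonoid C T₀) M :=
    { e.toAddEquiv with map_smul' := hlin }
  exact ⟨fun _ => Module.Flat.of_linearEquiv eA.symm, fun _ => Module.Flat.of_linearEquiv eA⟩

/-- `M_q` (`q` a prime of `B`) is `A`-flat iff `M_Q` is `A`-flat for all primes `Q` of `C` with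
`Q ∩ B ⊆ q`. -/
theorem flat_localized_iff_forall_prime (q : Ideal B) [q.IsPrime] :
    Module.Flat A (LocalizedModule q.primeCompl M) ↔
      ∀ (Q : Ideal C) [Q.IsPrime], Q.comap (algebraMap B C) ≤ q →
        Module.Flat A (LocalizedModule Q.primeCompl M) := by
  rw [flat_localized_algebraMapSubmonoid_iff (C := C) M q.primeCompl]
  constructor
  · intro h Q _ hQ
    haveI := h
    refine FlatOpen.flat_of_le (A' := A) (Algebra.algebraMapSubmonoid C q.primeCompl) Q.primeCompl ?_
      (LocalizedModule.mkLinearMap (Algebra.algebraMapSubmonoid C q.primeCompl) M)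
      (LocalizedModule.mkLinearMap Q.primeCompl M)
    rintro _ ⟨b, hb, rfl⟩ hbQ
    exact hb (hQ hbQ)
  · intro H
    refine flat_localizedModule_of_forall_prime M _ fun Q _ hdisj => H Q ?_
    intro b hb
    by_contra hbq
    exact Set.disjoint_left.mp hdisj hb ⟨b, hbq, rfl⟩

/-- Openness over the base: if the `A`-flat locus of `M` in `Spec C` is open, so is the locus in
`Spec B` of the primes `q` with `M_q` flat over `A`. -/
theorem isOpen_flatLocus_over_base
    (hW : IsOpen {Q : PrimeSpectrum C | Module.Flat A (LocalizedModule Q.asIdeal.primeCompl M)}) :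
    IsOpen {q : PrimeSpectrum B | Module.Flat A (LocalizedModule q.asIdeal.primeCompl M)} := by
  obtain ⟨J, hJ⟩ := (PrimeSpectrum.isClosed_iff_zeroLocus_ideal _).1 hW.isClosed_compl
  have hmem : ∀ Q : PrimeSpectrum C,
      Module.Flat A (LocalizedModule Q.asIdeal.primeCompl M) ↔ ¬ J ≤ Q.asIdeal := by
    intro Q
    have : Q ∈ ({Q : PrimeSpectrum C |
        Module.Flat A (LocalizedModule Q.asIdeal.primeCompl M)})ᶜ ↔ J ≤ Q.asIdeal := by
      rw [hJ]; exact PrimeSpectrum.mem_zeroLocus _ _
    rw [← this]; simp
  have : {q : PrimeSpectrum B | Module.Flat A (LocalizedModule q.asIdeal.primeCompl M)} =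
      (PrimeSpectrum.zeroLocus (J.comap (algebraMap B C) : Set B))ᶜ := by
    ext q
    rw [Set.mem_setOf_eq, Set.mem_compl_iff, PrimeSpectrum.mem_zeroLocus,
      flat_localized_iff_forall_prime (C := C) M q.asIdeal]
    constructor
    · intro H hle
      obtain ⟨Q, hJQ, hQ, hQq⟩ := q.asIdeal.exists_ideal_comap_le_prime J hle
      exact (hmem ⟨Q, hQ⟩).1 (H Q hQq) hJQ
    · intro H Q _ hQq
      refine (hmem ⟨Q, inferInstance⟩).2 fun hJQ => H ?_
      exact (Ideal.comap_mono hJQ).trans hQq
  rw [this]
  exact (PrimeSpectrum.isClosed_zeroLocus _).isOpen_compl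

end OverBase

end Groth.Agent.Lib.Helper21.FlatDesc
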