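import Mathlib
import Groth.Agent.Lib.Helper21.FlatDescI
import Groth.Agent.Lib.Helper17.ColimSysProps

/-!
# Helper21 — FlatDescJ: descent of flatness to a stage of a directed colimit of rings
(EGA IV 11.2.6.1): `exists_flat_stage`.
-/

namespace Groth.Agent.Lib.Helper21.FlatDesc

open TensorProduct Function MvPolynomial
open Groth.Agent.Lib.Helper17.ColimSys

attribute [local instance] MvPolynomial.algebraMvPolynomial

universe u

section StBC

variable {R₀ : Type u} [CommRing R₀] {n : ℕ}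
  (M₀ : Type u) [AddCommGroup M₀] [Module (MvPolynomial (Fin n) R₀) M₀] [Module R₀ M₀]
  [IsScalarTower R₀ (MvPolynomial (Fin n) R₀) M₀]

/-- Global base change of flatness between stages. -/
theorem flat_St_baseChange (A₁ A₂ : Type u) [CommRing A₁] [CommRing A₂] [Algebra R₀ A₁]
    [Algebra R₀ A₂] [Algebra A₁ A₂] [IsScalarTower R₀ A₁ A₂] [Module.Flat A₁ (St R₀ n M₀ A₁)] :
    Module.Flat A₂ (St R₀ n M₀ A₂) := by
  let e₁ : MvPolynomial (Fin n) A₂ ⊗[MvPolynomial (Fin n) A₁] (St R₀ n M₀ A₁)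
      ≃ₗ[MvPolynomial (Fin n) A₂] St R₀ n M₀ A₂ :=
    AlgebraTensorModule.cancelBaseChange (MvPolynomial (Fin n) R₀) (MvPolynomial (Fin n) A₁)
      (MvPolynomial (Fin n) A₂) (MvPolynomial (Fin n) A₂) M₀
  let e₂ : MvPolynomial (Fin n) A₂ ⊗[MvPolynomial (Fin n) A₁] (St R₀ n M₀ A₁)
      ≃ₗ[A₂] A₂ ⊗[A₁] St R₀ n M₀ A₁ :=
    Algebra.IsPushout.cancelBaseChange A₁ A₂ (MvPolynomial (Fin n) A₁) (MvPolynomial (Fin n) A₂)
      (St R₀ n M₀ A₁)
  exact Module.Flat.of_linearEquiv ((e₁.restrictScalars A₂).symm ≪≫ₗ e₂)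

end StBC

section Model

variable {A₀ Z₀ : Type u} [CommRing A₀] [CommRing Z₀] [Algebra Z₀ A₀] {n : ℕ}
  (M₀ : Type u) [AddCommGroup M₀] [Module (MvPolynomial (Fin n) A₀) M₀] [Module A₀ M₀]
  [IsScalarTower A₀ (MvPolynomial (Fin n) A₀) M₀]
  (N₀ : Type u) [AddCommGroup N₀] [Module (MvPolynomial (Fin n) Z₀) N₀]
  (e : MvPolynomial (Fin n) A₀ ⊗[MvPolynomial (Fin n) Z₀] N₀ ≃ₗ[MvPolynomial (Fin n) A₀] M₀)
  (C : Type u) [CommRing C] [Algebra A₀ C] [Algebra Z₀ C] [IsScalarTower Z₀ A₀ C]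

/-- the stage over `C` of a model of `M₀` is `C ⊗ M₀`. -/
noncomputable def stEquiv : C ⊗[A₀] M₀ ≃ₗ[C] St Z₀ n N₀ C :=
  (Algebra.IsPushout.cancelBaseChange A₀ C (MvPolynomial (Fin n) A₀) (MvPolynomial (Fin n) C)
      M₀).symm ≪≫ₗ
    ((AlgebraTensorModule.congr (LinearEquiv.refl (MvPolynomial (Fin n) C) (MvPolynomial (Fin n) C))
      e.symm).restrictScalars C) ≪≫ₗ
    ((AlgebraTensorModule.cancelBaseChange (MvPolynomial (Fin n) Z₀) (MvPolynomial (Fin n) A₀)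
      (MvPolynomial (Fin n) C) (MvPolynomial (Fin n) C) N₀).restrictScalars C)

end Model

section Hom

variable {ι : Type u} [Preorder ι] [IsDirected ι (· ≤ ·)] [Nonempty ι]
  {A₀ : Type u} [CommRing A₀] {G : ι → Type u} [∀ i, CommRing (G i)] [∀ i, Algebra A₀ (G i)]
  {A : Type u} [CommRing A] [Algebra A₀ A] (g : ∀ i, G i →ₐ[A₀] A)
  (f : ∀ i j, i ≤ j → (G i →ₐ[A₀] G j))
  (hg : ∀ i j (h : i ≤ j), (g j).comp (f i j h) = g i)
  (hsurj : ∀ a : A, ∃ i, ∃ x : G i, g i x = a)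
  (hker : ∀ i (x : G i), g i x = 0 → ∃ j, ∃ h : i ≤ j, f i j h x = 0)
  (Z₀ : Type u) [CommRing Z₀] [Algebra Z₀ A₀] [∀ i, Algebra Z₀ (G i)]
  [∀ i, IsScalarTower Z₀ A₀ (G i)] [Algebra Z₀ A] [IsScalarTower Z₀ A₀ A]

include hg hsurj hker in
/-- A finitely presented `Z₀`-algebra mapping to the colimit `A` maps to some stage `G l`. -/
theorem exists_algHom_stage (A' : Type u) [CommRing A'] [Algebra Z₀ A']
    [Algebra.FinitePresentation Z₀ A'] (τ : A' →ₐ[Z₀] A) :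
    ∃ l, Nonempty (A' →ₐ[Z₀] G l) := by
  classical
  let P := Algebra.Presentation.ofFinitePresentation Z₀ A'
  have hG := isSys_G g f hg hsurj hker
  obtain ⟨i₀⟩ := ‹Nonempty ι›
  obtain ⟨l₁, F₁, t', ht'⟩ := hG.lift_family i₀ (fun k => τ (P.val k))
  let gZ : ∀ i, G i →ₐ[Z₀] A := fun i => (g i).restrictScalars Z₀
  have he : ∀ j, (g l₁).toLinearMap (MvPolynomial.aeval t' (P.relation j)) = 0 := by
    intro j
    show gZ l₁ (MvPolynomial.aeval t' (P.relation j)) = 0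
    rw [MvPolynomial.comp_aeval_apply]
    have : (fun k => gZ l₁ (t' k)) = fun k => τ (P.val k) := funext ht'
    rw [this, ← MvPolynomial.comp_aeval_apply, P.aeval_val_relation, map_zero]
  obtain ⟨l₂, F₂, h₂⟩ := hG.kill_family l₁ _ he
  refine ⟨l₂, ?_⟩
  refine nonempty_algHom_of_presentation Z₀ A' P (fun k => F₂.1 (t' k)) (fun j => ?_)
  have := h₂ j
  show MvPolynomial.aeval (fun k => (F₂.1.restrictScalars Z₀) (t' k)) (P.relation j) = 0
  rw [← MvPolynomial.comp_aeval_apply]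
  exact h₂ j

end Hom

section Main

variable {ι : Type u} [Preorder ι] [IsDirected ι (· ≤ ·)] [Nonempty ι]
  {A₀ : Type u} [CommRing A₀] {G : ι → Type u} [∀ i, CommRing (G i)] [∀ i, Algebra A₀ (G i)]
  {A : Type u} [CommRing A] [Algebra A₀ A] (g : ∀ i, G i →ₐ[A₀] A)
  (f : ∀ i j, i ≤ j → (G i →ₐ[A₀] G j))
  (hg : ∀ i j (h : i ≤ j), (g j).comp (f i j h) = g i)
  (hsurj : ∀ a : A, ∃ i, ∃ x : G i, g i x = a)
  (hker : ∀ i (x : G i), g i x = 0 → ∃ j, ∃ h : i ≤ j, f i j h x = 0)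

include hg hsurj hker in
/-- polynomial form of the descent of flatness to a stage of a colimit. -/
theorem exists_flat_stage_pol (n : ℕ) (M₀ : Type u) [AddCommGroup M₀]
    [Module (MvPolynomial (Fin n) A₀) M₀] [Module A₀ M₀]
    [IsScalarTower A₀ (MvPolynomial (Fin n) A₀) M₀]
    [Module.FinitePresentation (MvPolynomial (Fin n) A₀) M₀] [Module.Flat A (A ⊗[A₀] M₀)] :
    ∃ i, Module.Flat (G i) (G i ⊗[A₀] M₀) := by
  obtain ⟨Z₀, m, b, v', hfg, -, ⟨e⟩⟩ := exists_fg_model_pol A₀ n M₀ ∅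
  haveI := noetherian_of_fg_int Z₀ hfg
  haveI : Module.Flat A (St Z₀ n (PresMod v') A) :=
    Module.Flat.of_linearEquiv (stEquiv M₀ (PresMod v') e A).symm
  obtain ⟨A', hA'fg, hA'flat⟩ := exists_fg_flat_St (R₀ := Z₀) (n := n) (PresMod v') A
  haveI : Algebra.FiniteType Z₀ A' := (Subalgebra.fg_iff_finiteType A').1 hA'fg
  haveI : Algebra.FinitePresentation Z₀ A' := Algebra.FinitePresentation.of_finiteType.1 inferInstance
  obtain ⟨l, ⟨φ⟩⟩ := exists_algHom_stage g f hg hsurj hker Z₀ A' A'.val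
  refine ⟨l, ?_⟩
  letI : Algebra A' (G l) := φ.toRingHom.toAlgebra
  haveI : IsScalarTower Z₀ A' (G l) := IsScalarTower.of_algebraMap_eq fun r => (φ.commutes r).symm
  haveI : Module.Flat (G l) (St Z₀ n (PresMod v') (G l)) :=
    flat_St_baseChange (PresMod v') A' (G l)
  exact Module.Flat.of_linearEquiv (stEquiv M₀ (PresMod v') e (G l))

include hg hsurj hker in
/-- **Descent of flatness to a stage of a directed colimit** (EGA IV 11.2.6.1). -/
theorem exists_flat_stage {B₀ : Type u} [CommRing B₀] [Algebra A₀ B₀]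
    [Algebra.FinitePresentation A₀ B₀]
    (M₀ : Type u) [AddCommGroup M₀] [Module B₀ M₀] [Module A₀ M₀] [IsScalarTower A₀ B₀ M₀]
    [Module.FinitePresentation B₀ M₀] [Module.Flat A (A ⊗[A₀] M₀)] :
    ∃ i, Module.Flat (G i) (G i ⊗[A₀] M₀) := by
  obtain ⟨n, f₀, hf, hkerf⟩ := Algebra.FinitePresentation.out (R := A₀) (A := B₀)
  letI : Algebra (MvPolynomial (Fin n) A₀) B₀ := f₀.toRingHom.toAlgebra
  letI : Module (MvPolynomial (Fin n) A₀) M₀ := Module.compHom M₀ f₀.toRingHom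
  haveI : IsScalarTower (MvPolynomial (Fin n) A₀) B₀ M₀ :=
    IsScalarTower.of_algebraMap_smul fun _ _ => rfl
  haveI : IsScalarTower A₀ (MvPolynomial (Fin n) A₀) B₀ :=
    IsScalarTower.of_algebraMap_eq fun r => (f₀.commutes r).symm
  haveI : IsScalarTower A₀ (MvPolynomial (Fin n) A₀) M₀ := ⟨fun r p m => by
    show f₀ (r • p) • m = r • (f₀ p • m)
    rw [map_smul, smul_assoc]⟩
  haveI : Module.FinitePresentation (MvPolynomial (Fin n) A₀) B₀ := by
    refine Module.finitePresentation_of_surjective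
      (Algebra.linearMap (MvPolynomial (Fin n) A₀) B₀) hf ?_
    have : LinearMap.ker (Algebra.linearMap (MvPolynomial (Fin n) A₀) B₀) =
        RingHom.ker f₀.toRingHom := by
      ext x; rfl
    rw [this]; exact hkerf
  haveI : Module.FinitePresentation (MvPolynomial (Fin n) A₀) M₀ :=
    Module.FinitePresentation.trans (MvPolynomial (Fin n) A₀) M₀ B₀
  exact exists_flat_stage_pol g f hg hsurj hker n M₀

end Main

end Groth.Agent.Lib.Helper21.FlatDesc
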