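import Mathlib
import Groth.Agent.Lib.Helper21.FlatDescJ
import Groth.Agent.Lib.Helper29.FPModel

/-!
# Helper21 — FlatDescP: descent of flat finitely presented modules to finite type `ℤ`-algebras.

* `exists_fg_flat_baseChange`: polynomial-free form of descent of flatness to a f.g. subalgebra.
* `modelHom`, `modelAlgebra`, `model_isPushout`: `S` as pushout of Mathlib`s `ModelOfHasCoeffs`.
* `exists_flat_model_of_model`, `exists_flat_model`: the triple `(R, S, M)` with `M` flat descends.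
-/

namespace Groth.Agent.Lib.Helper21.FlatDesc

open TensorProduct Function MvPolynomial

attribute [local instance] MvPolynomial.algebraMvPolynomial

universe u

section BC

/-- **Descent of flatness to a finitely generated subalgebra** (polynomial-free form): `R₁` Noetherian,
`S₁` of finite type over `R₁`, `M₁` a finite `S₁`-module, `A` any `R₁`-algebra with `A ⊗ M₁` flat
over `A`. Then `A' ⊗ M₁` is flat over `A'` for some finitely generated subalgebra `A'` of `A`. -/
theorem exists_fg_flat_baseChange {R₁ : Type u} [CommRing R₁] [IsNoetherianRing R₁]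
    {S₁ : Type u} [CommRing S₁] [Algebra R₁ S₁] [Algebra.FiniteType R₁ S₁]
    (M₁ : Type u) [AddCommGroup M₁] [Module S₁ M₁] [Module R₁ M₁] [IsScalarTower R₁ S₁ M₁]
    [Module.Finite S₁ M₁]
    (A : Type u) [CommRing A] [Algebra R₁ A] [Module.Flat A (A ⊗[R₁] M₁)] :
    ∃ A' : Subalgebra R₁ A, A'.FG ∧ Module.Flat A' (A' ⊗[R₁] M₁) := by
  obtain ⟨n, f₀, hf⟩ := Algebra.FiniteType.iff_quotient_mvPolynomial''.1
    (inferInstance : Algebra.FiniteType R₁ S₁)
  letI : Algebra (MvPolynomial (Fin n) R₁) S₁ := f₀.toRingHom.toAlgebra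
  letI : Module (MvPolynomial (Fin n) R₁) M₁ := Module.compHom M₁ f₀.toRingHom
  haveI : IsScalarTower (MvPolynomial (Fin n) R₁) S₁ M₁ :=
    IsScalarTower.of_algebraMap_smul fun _ _ => rfl
  haveI : IsScalarTower R₁ (MvPolynomial (Fin n) R₁) S₁ :=
    IsScalarTower.of_algebraMap_eq fun r => (f₀.commutes r).symm
  haveI : IsScalarTower R₁ (MvPolynomial (Fin n) R₁) M₁ := ⟨fun r p m => by
    show f₀ (r • p) • m = r • (f₀ p • m)
    rw [map_smul, smul_assoc]⟩
  haveI : Module.Finite (MvPolynomial (Fin n) R₁) S₁ :=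
    Module.Finite.of_surjective (Algebra.linearMap (MvPolynomial (Fin n) R₁) S₁) hf
  haveI : Module.Finite (MvPolynomial (Fin n) R₁) M₁ :=
    Module.Finite.trans S₁ M₁
  haveI : Module.Flat A (St R₁ n M₁ A) :=
    Module.Flat.of_linearEquiv (Algebra.IsPushout.cancelBaseChange R₁ A
      (MvPolynomial (Fin n) R₁) (MvPolynomial (Fin n) A) M₁)
  obtain ⟨A', hfg, hflat⟩ := exists_fg_flat_St (R₀ := R₁) (n := n) M₁ A
  refine ⟨A', hfg, ?_⟩
  exact Module.Flat.of_linearEquiv (Algebra.IsPushout.cancelBaseChange R₁ A'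
      (MvPolynomial (Fin n) R₁) (MvPolynomial (Fin n) A') M₁).symm

end BC


section Model

attribute [local instance] Algebra.TensorProduct.rightAlgebra

variable {R S : Type u} [CommRing R] [CommRing S] [Algebra R S] {ι σ : Type}
  (P : Algebra.Presentation R S ι σ)
  (R₁ : Type u) [CommRing R₁] [Algebra R₁ R] [Algebra R₁ S] [IsScalarTower R₁ R S] [P.HasCoeffs R₁]

/-- the structure map of the model of `S` over `R₁`. -/
noncomputable def modelHom : P.ModelOfHasCoeffs R₁ →ₐ[R₁] S :=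
  ((P.tensorModelOfHasCoeffsEquiv R₁).toAlgHom.restrictScalars R₁).comp
    Algebra.TensorProduct.includeRight

theorem modelHom_mk (x : MvPolynomial ι R₁) :
    modelHom P R₁ (Ideal.Quotient.mk _ x) = MvPolynomial.aeval P.val x := by
  have := P.tensorModelOfHasCoeffsEquiv_tmul R₁ (1 : R) x
  rw [map_one, one_mul] at this
  exact this

/-- `S` as an algebra over the model. -/
noncomputable abbrev modelAlgebra : Algebra (P.ModelOfHasCoeffs R₁) S :=
  (modelHom P R₁).toRingHom.toAlgebra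

attribute [local instance] modelAlgebra

theorem model_isScalarTower : IsScalarTower R₁ (P.ModelOfHasCoeffs R₁) S :=
  IsScalarTower.of_algebraMap_eq fun r => ((modelHom P R₁).commutes r).symm

theorem model_isPushout : Algebra.IsPushout R₁ R (P.ModelOfHasCoeffs R₁) S := by
  haveI := model_isScalarTower P R₁
  exact Algebra.IsPushout.of_equiv (R := R₁) (R' := R) (S := P.ModelOfHasCoeffs R₁)
    (S' := R ⊗[R₁] P.ModelOfHasCoeffs R₁) (P.tensorModelOfHasCoeffsEquiv R₁) (RingHom.ext fun x => rfl)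

end Model

section Assemble

attribute [local instance] Algebra.TensorProduct.rightAlgebra

variable {R S M : Type u} [CommRing R] [CommRing S] [Algebra R S] [AddCommGroup M] [Module S M]
  [Module R M] [IsScalarTower R S M]

/-- From a model `(R₁, S₁, M₁)` over a finite type `ℤ`-algebra of `(R, S, M)` with `M` flat over `R`,
produce a model with flat module. -/
theorem exists_flat_model_of_model
    (R₁ : Type u) [CommRing R₁] [Algebra R₁ R] [Algebra R₁ S] [IsScalarTower R₁ R S]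
    (S₁ : Type u) [CommRing S₁] [Algebra R₁ S₁] [Algebra S₁ S] [IsScalarTower R₁ S₁ S]
    [Algebra.FiniteType ℤ R₁] [Algebra.FiniteType R₁ S₁] [Algebra.IsPushout R₁ R S₁ S]
    (M₁ : Type u) [AddCommGroup M₁] [Module S₁ M₁] [Module R₁ M₁] [IsScalarTower R₁ S₁ M₁]
    [Module.Finite S₁ M₁] [Module S₁ M] [IsScalarTower S₁ S M]
    (f₁ : M₁ →ₗ[S₁] M) (hf₁ : IsBaseChange S f₁) [Module.Flat R M] :
    ∃ (R₀ : Type u) (_ : CommRing R₀) (_ : Algebra R₀ R) (S₀ : Type u) (_ : CommRing S₀)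
      (_ : Algebra R₀ S₀) (_ : Algebra S₀ S) (_ : Algebra R₀ S) (_ : IsScalarTower R₀ R S)
      (_ : IsScalarTower R₀ S₀ S) (M₀ : Type u) (_ : AddCommGroup M₀) (_ : Module S₀ M₀)
      (_ : Module R₀ M₀) (_ : IsScalarTower R₀ S₀ M₀) (_ : Module S₀ M) (_ : IsScalarTower S₀ S M)
      (f : M₀ →ₗ[S₀] M),
      Algebra.FiniteType ℤ R₀ ∧ Algebra.FiniteType R₀ S₀ ∧ Module.Finite S₀ M₀ ∧ Module.Flat R₀ M₀ ∧
        Algebra.IsPushout R₀ R S₀ S ∧ IsBaseChange S f := by
  haveI : IsNoetherianRing R₁ := Algebra.FiniteType.isNoetherianRing ℤ R₁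
  -- `R ⊗ M₁ ≃ M`
  let e₁ : S ⊗[S₁] M₁ ≃ₗ[R] R ⊗[R₁] M₁ := Algebra.IsPushout.cancelBaseChange R₁ R S₁ S M₁
  let e₂ : S ⊗[S₁] M₁ ≃ₗ[S] M := hf₁.equiv
  haveI : Module.Flat R (R ⊗[R₁] M₁) :=
    Module.Flat.of_linearEquiv (e₁.symm ≪≫ₗ e₂.restrictScalars R)
  obtain ⟨A', hfg, hflat⟩ := exists_fg_flat_baseChange (R₁ := R₁) (S₁ := S₁) M₁ R
  haveI : Algebra.FiniteType R₁ A' := (Subalgebra.fg_iff_finiteType A').1 hfg
  haveI hA'ft : Algebra.FiniteType ℤ A' := Algebra.FiniteType.trans ‹Algebra.FiniteType ℤ R₁› inferInstance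
  -- the algebra `S_f := A' ⊗ S₁ → S`
  let φ : A' ⊗[R₁] S₁ →ₐ[R₁] S :=
    Algebra.TensorProduct.lift (IsScalarTower.toAlgHom R₁ A' S) (IsScalarTower.toAlgHom R₁ S₁ S)
      (fun _ _ => Commute.all _ _)
  letI algSf : Algebra (A' ⊗[R₁] S₁) S := φ.toRingHom.toAlgebra
  have hφ : ∀ x, algebraMap (A' ⊗[R₁] S₁) S x = φ x := fun _ => rfl
  haveI : IsScalarTower A' (A' ⊗[R₁] S₁) S :=
    IsScalarTower.of_algebraMap_eq (R := A') (S := A' ⊗[R₁] S₁) (A := S) fun a => by
      rw [hφ, Algebra.TensorProduct.algebraMap_apply]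
      simp [φ]
  haveI : IsScalarTower S₁ (A' ⊗[R₁] S₁) S :=
    IsScalarTower.of_algebraMap_eq (R := S₁) (S := A' ⊗[R₁] S₁) (A := S) fun s => by
      rw [hφ]
      show algebraMap S₁ S s = φ ((1 : A') ⊗ₜ s)
      simp [φ]
  haveI : IsScalarTower R₁ (A' ⊗[R₁] S₁) S :=
    IsScalarTower.of_algebraMap_eq (R := R₁) (S := A' ⊗[R₁] S₁) (A := S) fun r => by
      rw [hφ, AlgHom.commutes]
  haveI : Algebra.IsPushout A' R (A' ⊗[R₁] S₁) S :=
    (Algebra.IsPushout.comp_iff R₁ A' S₁ (A' ⊗[R₁] S₁) (T := R) (T' := S)).1 inferInstance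
  letI modSfM : Module (A' ⊗[R₁] S₁) M := Module.compHom M (algebraMap (A' ⊗[R₁] S₁) S)
  haveI : IsScalarTower (A' ⊗[R₁] S₁) S M := IsScalarTower.of_algebraMap_smul fun _ _ => rfl
  haveI : IsScalarTower S₁ (A' ⊗[R₁] S₁) M := IsScalarTower.of_algebraMap_smul fun s m => by
    show algebraMap (A' ⊗[R₁] S₁) S (algebraMap S₁ (A' ⊗[R₁] S₁) s) • m = s • m
    rw [← IsScalarTower.algebraMap_apply, algebraMap_smul]
  -- the module
  let g : M₁ →ₗ[S₁] (A' ⊗[R₁] S₁) ⊗[S₁] M₁ := TensorProduct.mk S₁ (A' ⊗[R₁] S₁) M₁ 1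
  have hg : IsBaseChange (A' ⊗[R₁] S₁) g := TensorProduct.isBaseChange S₁ M₁ (A' ⊗[R₁] S₁)
  let f : (A' ⊗[R₁] S₁) ⊗[S₁] M₁ →ₗ[A' ⊗[R₁] S₁] M := hg.lift f₁
  have hfg : (f.restrictScalars S₁) ∘ₗ g = f₁ := hg.lift_comp f₁
  have hf : IsBaseChange S f := IsBaseChange.of_comp hg (by rw [hfg]; exact hf₁)
  haveI : Module.Flat A' ((A' ⊗[R₁] S₁) ⊗[S₁] M₁) :=
    Module.Flat.of_linearEquiv (Algebra.IsPushout.cancelBaseChange R₁ A' S₁ (A' ⊗[R₁] S₁) M₁)
  exact ⟨A', inferInstance, inferInstance, A' ⊗[R₁] S₁, inferInstance, inferInstance, algSf,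
    inferInstance, inferInstance, inferInstance, (A' ⊗[R₁] S₁) ⊗[S₁] M₁, inferInstance,
    inferInstance, inferInstance, inferInstance, modSfM, inferInstance, f,
    hA'ft, inferInstance, inferInstance, inferInstance, inferInstance, hf⟩

end Assemble


section Main

open Groth.Agent.Lib.Helper29.FPModel

attribute [local instance] modelAlgebra

/-- **Flat finitely presented modules over finitely presented algebras descend to finite type
`ℤ`-algebras.** -/
theorem exists_flat_model (R : Type u) [CommRing R]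
    (S : Type u) [CommRing S] [Algebra R S] [Algebra.FinitePresentation R S] (M : Type u)
    [AddCommGroup M] [Module S M] [Module R M] [IsScalarTower R S M]
    [Module.FinitePresentation S M] [Module.Flat R M] :
    ∃ (R₀ : Type u) (_ : CommRing R₀) (_ : Algebra R₀ R) (S₀ : Type u) (_ : CommRing S₀)
      (_ : Algebra R₀ S₀) (_ : Algebra S₀ S) (_ : Algebra R₀ S) (_ : IsScalarTower R₀ R S)
      (_ : IsScalarTower R₀ S₀ S) (M₀ : Type u) (_ : AddCommGroup M₀) (_ : Module S₀ M₀)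
      (_ : Module R₀ M₀) (_ : IsScalarTower R₀ S₀ M₀) (_ : Module S₀ M) (_ : IsScalarTower S₀ S M)
      (f : M₀ →ₗ[S₀] M),
      Algebra.FiniteType ℤ R₀ ∧ Algebra.FiniteType R₀ S₀ ∧ Module.Finite S₀ M₀ ∧ Module.Flat R₀ M₀ ∧
        Algebra.IsPushout R₀ R S₀ S ∧ IsBaseChange S f := by
  classical
  let P := Algebra.Presentation.ofFinitePresentation R S
  obtain ⟨b, K, eM, ⟨s, hs⟩⟩ := Module.FinitePresentation.exists_fin S M
  have hsurj : Function.Surjective (MvPolynomial.aeval (R := R) P.val) :=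
    P.toGenerators.aeval_val_surjective
  choose p hp using fun (v : s) (i : Fin b) => hsurj (v.1 i)
  let T : Set R := ⋃ (v : s) (i : Fin b), ((p v i).coeffs : Set R)
  have hT : T.Finite := Set.finite_iUnion fun v => Set.finite_iUnion fun i => Finset.finite_toSet _
  haveI h1 : Algebra.FiniteType ℤ P.Core := inferInstance
  haveI h2 : Algebra.FiniteType P.Core (Algebra.adjoin P.Core T) :=
    Algebra.FiniteType.adjoin_of_finite hT
  haveI h3 : Algebra.FiniteType ℤ (Algebra.adjoin P.Core T) := Algebra.FiniteType.trans h1 h2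
  have hTsub : ∀ (v : s) (i : Fin b), ((p v i).coeffs : Set R) ⊆
      Set.range (algebraMap (Algebra.adjoin P.Core T) R) := by
    intro v i c hc
    have hcT : c ∈ T := Set.mem_iUnion.2 ⟨v, Set.mem_iUnion.2 ⟨i, hc⟩⟩
    exact ⟨⟨c, Algebra.subset_adjoin hcT⟩, rfl⟩
  choose p₀ hp₀ using fun (v : s) (i : Fin b) =>
    (MvPolynomial.mem_range_map_iff_coeffs_subset
      (f := algebraMap (Algebra.adjoin P.Core T) R)).2 (hTsub v i)
  haveI := model_isScalarTower P (Algebra.adjoin P.Core T)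
  haveI := model_isPushout P (Algebra.adjoin P.Core T)
  have key : ∀ (v : s) (i : Fin b), algebraMap (P.ModelOfHasCoeffs (Algebra.adjoin P.Core T)) S
      (Ideal.Quotient.mk _ (p₀ v i)) = v.1 i := by
    intro v i
    have h1 : algebraMap (P.ModelOfHasCoeffs (Algebra.adjoin P.Core T)) S
        (Ideal.Quotient.mk _ (p₀ v i)) = MvPolynomial.aeval P.val (p₀ v i) :=
      modelHom_mk P (Algebra.adjoin P.Core T) (p₀ v i)
    rw [h1, ← MvPolynomial.aeval_map_algebraMap R, hp₀ v i, hp v i]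
  let v₀ : s → (Fin b → P.ModelOfHasCoeffs (Algebra.adjoin P.Core T)) :=
    fun v i => Ideal.Quotient.mk _ (p₀ v i)
  have hv : ∀ v : s, mapVec (B := S) b (v₀ v) = v.1 := by
    intro v
    ext i
    exact key v i
  have hK : Submodule.span S (Set.range fun j => mapVec (B := S) b (v₀ j)) = K := by
    rw [← hs]
    congr 1
    ext w
    constructor
    · rintro ⟨v, rfl⟩
      change mapVec (B := S) b (v₀ v) ∈ (s : Set (Fin b → S))
      rw [hv v]
      exact v.2
    · intro hw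
      exact ⟨⟨w, hw⟩, hv ⟨w, hw⟩⟩
  have hbc := isBaseChange_quotMap (B := S) b v₀
  letI : Module (P.ModelOfHasCoeffs (Algebra.adjoin P.Core T)) M :=
    Module.compHom M (algebraMap (P.ModelOfHasCoeffs (Algebra.adjoin P.Core T)) S)
  haveI : IsScalarTower (P.ModelOfHasCoeffs (Algebra.adjoin P.Core T)) S M :=
    IsScalarTower.of_algebraMap_smul fun _ _ => rfl
  let e' : ((Fin b → S) ⧸ Submodule.span S (Set.range fun j => mapVec (B := S) b (v₀ j))) ≃ₗ[S] M :=
    Submodule.quotEquivOfEq _ _ hK ≪≫ₗ eM.symm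
  have hf₁ : IsBaseChange S
      ((e'.toLinearMap.restrictScalars (P.ModelOfHasCoeffs (Algebra.adjoin P.Core T))) ∘ₗ
        quotMap (B := S) b v₀) :=
    IsBaseChange.of_equiv (hbc.equiv ≪≫ₗ e') (fun x => by simp [IsBaseChange.equiv_tmul])
  exact exists_flat_model_of_model (R := R) (S := S) (M := M) (Algebra.adjoin P.Core T)
    (P.ModelOfHasCoeffs (Algebra.adjoin P.Core T))
    ((Fin b → P.ModelOfHasCoeffs (Algebra.adjoin P.Core T)) ⧸
      Submodule.span (P.ModelOfHasCoeffs (Algebra.adjoin P.Core T)) (Set.range v₀)) _ hf₁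

end Main

end Groth.Agent.Lib.Helper21.FlatDesc
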