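import Mathlib
import Groth.Agent.Lib.Helper21.FlatDescP

/-!
# Helper21 — FlatDescQ: flat finitely presented algebras descend to finite type `ℤ`-algebras
(`exists_flat_algebra_model`).
-/

namespace Groth.Agent.Lib.Helper21.FlatDesc

open TensorProduct Function

universe u

section AlgModel

attribute [local instance] Algebra.TensorProduct.rightAlgebra
attribute [local instance] modelAlgebra

/-- pushout pasting: from a model `(R₁, S₁)` of `(R, S)` with `R ⊗ S₁` flat, a flat model. -/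
theorem exists_flat_algebra_model_of_model {R S : Type u} [CommRing R] [CommRing S] [Algebra R S]
    (R₁ : Type u) [CommRing R₁] [Algebra R₁ R] [Algebra R₁ S] [IsScalarTower R₁ R S]
    (S₁ : Type u) [CommRing S₁] [Algebra R₁ S₁] [Algebra S₁ S] [IsScalarTower R₁ S₁ S]
    [Algebra.FiniteType ℤ R₁] [Algebra.FiniteType R₁ S₁] [Algebra.IsPushout R₁ R S₁ S]
    [Module.Flat R S] :
    ∃ (R₀ : Type u) (_ : CommRing R₀) (_ : Algebra R₀ R) (S₀ : Type u) (_ : CommRing S₀)
      (_ : Algebra R₀ S₀) (_ : Algebra S₀ S) (_ : Algebra R₀ S) (_ : IsScalarTower R₀ R S)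
      (_ : IsScalarTower R₀ S₀ S),
      Algebra.FiniteType ℤ R₀ ∧ Algebra.FiniteType R₀ S₀ ∧ Module.Flat R₀ S₀ ∧
        Algebra.IsPushout R₀ R S₀ S := by
  haveI : IsNoetherianRing R₁ := Algebra.FiniteType.isNoetherianRing ℤ R₁
  haveI : Module.Flat R (R ⊗[R₁] S₁) :=
    Module.Flat.of_linearEquiv (Algebra.IsPushout.equiv R₁ R S₁ S).toLinearEquiv
  obtain ⟨A', hfg, hflat⟩ := exists_fg_flat_baseChange (R₁ := R₁) (S₁ := S₁) S₁ R
  haveI : Algebra.FiniteType R₁ A' := (Subalgebra.fg_iff_finiteType A').1 hfg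
  haveI hA'ft : Algebra.FiniteType ℤ A' :=
    Algebra.FiniteType.trans ‹Algebra.FiniteType ℤ R₁› inferInstance
  let φ : A' ⊗[R₁] S₁ →ₐ[R₁] S :=
    Algebra.TensorProduct.lift (IsScalarTower.toAlgHom R₁ A' S) (IsScalarTower.toAlgHom R₁ S₁ S)
      (fun _ _ => Commute.all _ _)
  letI algSf : Algebra (A' ⊗[R₁] S₁) S := φ.toRingHom.toAlgebra
  have hφ : ∀ x, algebraMap (A' ⊗[R₁] S₁) S x = φ x := fun _ => rfl
  haveI : IsScalarTower A' (A' ⊗[R₁] S₁) S :=
    IsScalarTower.of_algebraMap_eq (R := A') (S := A' ⊗[R₁] S₁) (A := S) fun a => by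
      rw [hφ, Algebra.TensorProduct.algebraMap_apply]
      simp [φ]
  haveI : IsScalarTower S₁ (A' ⊗[R₁] S₁) S :=
    IsScalarTower.of_algebraMap_eq (R := S₁) (S := A' ⊗[R₁] S₁) (A := S) fun s => by
      rw [hφ]
      show algebraMap S₁ S s = φ ((1 : A') ⊗ₜ s)
      simp [φ]
  haveI : IsScalarTower R₁ (A' ⊗[R₁] S₁) S :=
    IsScalarTower.of_algebraMap_eq (R := R₁) (S := A' ⊗[R₁] S₁) (A := S) fun r => by
      rw [hφ, AlgHom.commutes]
  haveI : Algebra.IsPushout A' R (A' ⊗[R₁] S₁) S :=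
    (Algebra.IsPushout.comp_iff R₁ A' S₁ (A' ⊗[R₁] S₁) (T := R) (T' := S)).1 inferInstance
  exact ⟨A', inferInstance, inferInstance, A' ⊗[R₁] S₁, inferInstance, inferInstance, algSf,
    inferInstance, inferInstance, inferInstance, hA'ft, inferInstance, hflat, inferInstance⟩

/-- **Flat finitely presented algebras descend to finite type `ℤ`-algebras.** -/
theorem exists_flat_algebra_model (R : Type u) [CommRing R]
    (S : Type u) [CommRing S] [Algebra R S] [Algebra.FinitePresentation R S] [Module.Flat R S] :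
    ∃ (R₀ : Type u) (_ : CommRing R₀) (_ : Algebra R₀ R) (S₀ : Type u) (_ : CommRing S₀)
      (_ : Algebra R₀ S₀) (_ : Algebra S₀ S) (_ : Algebra R₀ S) (_ : IsScalarTower R₀ R S)
      (_ : IsScalarTower R₀ S₀ S),
      Algebra.FiniteType ℤ R₀ ∧ Algebra.FiniteType R₀ S₀ ∧ Module.Flat R₀ S₀ ∧
        Algebra.IsPushout R₀ R S₀ S := by
  let P := Algebra.Presentation.ofFinitePresentation R S
  haveI := model_isScalarTower P P.Core
  haveI := model_isPushout P P.Core
  exact exists_flat_algebra_model_of_model (R := R) (S := S) P.Core (P.ModelOfHasCoeffs P.Core)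

end AlgModel

end Groth.Agent.Lib.Helper21.FlatDesc
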