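import Mathlib
import Groth.Agent.Lib.Helper21.FlatDescQ

/-!
# Helper21 — FlatDescR: restaging of pushout models along an intermediate algebra; flat finitely
presented algebras over an `R`-algebra `A` descend to finitely presented `R`-algebras; faithful
flatness can be arranged (Stacks 10.168.1).

* `restageHom`, `restageAlgebra`, `restage_isPushout`.
* `exists_fp_flat_model`.
* `mem_range_comap_baseChange`, `exists_faithfullyFlat_refinement`.
-/

namespace Groth.Agent.Lib.Helper21.FlatDesc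

open TensorProduct Function

universe u

section Restage

attribute [local instance] Algebra.TensorProduct.rightAlgebra

variable (R₁ A' R S₁ S : Type u) [CommRing R₁] [CommRing A'] [CommRing R] [CommRing S₁] [CommRing S]
  [Algebra R₁ A'] [Algebra A' R] [Algebra R₁ R] [IsScalarTower R₁ A' R]
  [Algebra R₁ S₁] [Algebra R S] [Algebra R₁ S] [Algebra S₁ S] [IsScalarTower R₁ R S]
  [IsScalarTower R₁ S₁ S] [Algebra A' S] [IsScalarTower A' R S] [IsScalarTower R₁ A' S]

/-- the structure map `A' ⊗ S₁ → S` of the restaged model. -/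
noncomputable def restageHom : A' ⊗[R₁] S₁ →ₐ[A'] S :=
  Algebra.TensorProduct.lift (Algebra.ofId A' S) (IsScalarTower.toAlgHom R₁ S₁ S)
    (fun _ _ => Commute.all _ _)

/-- `S` as an algebra over the restaged model `A' ⊗ S₁`. -/
noncomputable abbrev restageAlgebra : Algebra (A' ⊗[R₁] S₁) S :=
  (restageHom R₁ A' S₁ S).toRingHom.toAlgebra

attribute [local instance] restageAlgebra

theorem restage_algebraMap (x : A' ⊗[R₁] S₁) :
    algebraMap (A' ⊗[R₁] S₁) S x = restageHom R₁ A' S₁ S x := rfl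

instance restage_tower_left : IsScalarTower A' (A' ⊗[R₁] S₁) S :=
  IsScalarTower.of_algebraMap_eq (R := A') (S := A' ⊗[R₁] S₁) (A := S) fun a => by
    rw [restage_algebraMap, AlgHom.commutes]

instance restage_tower_right : IsScalarTower S₁ (A' ⊗[R₁] S₁) S :=
  IsScalarTower.of_algebraMap_eq (R := S₁) (S := A' ⊗[R₁] S₁) (A := S) fun s => by
    rw [restage_algebraMap]
    show algebraMap S₁ S s = restageHom R₁ A' S₁ S ((1 : A') ⊗ₜ s)
    simp [restageHom]

instance restage_tower_base : IsScalarTower R₁ (A' ⊗[R₁] S₁) S :=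
  IsScalarTower.of_algebraMap_eq (R := R₁) (S := A' ⊗[R₁] S₁) (A := S) fun r => by
    rw [restage_algebraMap, IsScalarTower.algebraMap_apply R₁ A' (A' ⊗[R₁] S₁), AlgHom.commutes,
      ← IsScalarTower.algebraMap_apply]

theorem restage_isPushout [Algebra.IsPushout R₁ R S₁ S] :
    Algebra.IsPushout A' R (A' ⊗[R₁] S₁) S :=
  (Algebra.IsPushout.comp_iff R₁ A' S₁ (A' ⊗[R₁] S₁) (T := R) (T' := S)).1 inferInstance

end Restage

section FPModel

attribute [local instance] Algebra.TensorProduct.rightAlgebra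
attribute [local instance] restageAlgebra

/-- A flat finitely presented `A`-algebra `B` (with `A` an `R`-algebra) is the base change of a flat
finitely presented algebra `B₁` over a finitely presented `R`-algebra `A₁` mapping to `A`. -/
theorem exists_fp_flat_model (R A B : Type u) [CommRing R] [CommRing A] [CommRing B] [Algebra R A]
    [Algebra A B] [Algebra.FinitePresentation A B] [Module.Flat A B] :
    ∃ (A₁ : Type u) (_ : CommRing A₁) (_ : Algebra R A₁) (_ : Algebra A₁ A)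
      (_ : IsScalarTower R A₁ A) (B₁ : Type u) (_ : CommRing B₁) (_ : Algebra A₁ B₁)
      (_ : Algebra B₁ B) (_ : Algebra A₁ B) (_ : IsScalarTower A₁ A B) (_ : IsScalarTower A₁ B₁ B),
      Algebra.FinitePresentation R A₁ ∧ Algebra.FinitePresentation A₁ B₁ ∧ Module.Flat A₁ B₁ ∧
        Algebra.IsPushout A₁ A B₁ B := by
  obtain ⟨R₀, _, _, S₀, _, _, _, _, _, _, hft0, hftS, hflat, hpo⟩ := exists_flat_algebra_model A B
  haveI : IsNoetherianRing R₀ := Algebra.FiniteType.isNoetherianRing ℤ R₀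
  haveI : Algebra.FinitePresentation ℤ R₀ := Algebra.FinitePresentation.of_finiteType.mp hft0
  haveI : Algebra.FinitePresentation R₀ S₀ := Algebra.FinitePresentation.of_finiteType.mp hftS
  let φ : R ⊗[ℤ] R₀ →ₐ[R] A :=
    Algebra.TensorProduct.lift (Algebra.ofId R A) (IsScalarTower.toAlgHom ℤ R₀ A)
      (fun _ _ => Commute.all _ _)
  letI algA₁A : Algebra (R ⊗[ℤ] R₀) A := φ.toRingHom.toAlgebra
  have hφ : ∀ x, algebraMap (R ⊗[ℤ] R₀) A x = φ x := fun _ => rfl
  haveI t1 : IsScalarTower R (R ⊗[ℤ] R₀) A :=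
    IsScalarTower.of_algebraMap_eq (R := R) (S := R ⊗[ℤ] R₀) (A := A) fun r => by
      rw [hφ, AlgHom.commutes]
  haveI t2 : IsScalarTower R₀ (R ⊗[ℤ] R₀) A :=
    IsScalarTower.of_algebraMap_eq (R := R₀) (S := R ⊗[ℤ] R₀) (A := A) fun r => by
      rw [hφ]
      show algebraMap R₀ A r = φ ((1 : R) ⊗ₜ r)
      simp [φ]
  letI algA₁B : Algebra (R ⊗[ℤ] R₀) B :=
    ((algebraMap A B).comp (algebraMap (R ⊗[ℤ] R₀) A)).toAlgebra
  haveI t3 : IsScalarTower (R ⊗[ℤ] R₀) A B := IsScalarTower.of_algebraMap_eq fun _ => rfl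
  haveI t4 : IsScalarTower R₀ (R ⊗[ℤ] R₀) B :=
    IsScalarTower.of_algebraMap_eq (R := R₀) (S := R ⊗[ℤ] R₀) (A := B) fun r => by
      rw [IsScalarTower.algebraMap_apply (R ⊗[ℤ] R₀) A B, ← IsScalarTower.algebraMap_apply R₀ _ A,
        ← IsScalarTower.algebraMap_apply R₀ A B]
  haveI := hpo
  have hpo' : Algebra.IsPushout (R ⊗[ℤ] R₀) A ((R ⊗[ℤ] R₀) ⊗[R₀] S₀) B :=
    restage_isPushout R₀ (R ⊗[ℤ] R₀) A S₀ B
  exact ⟨R ⊗[ℤ] R₀, inferInstance, inferInstance, algA₁A, t1, (R ⊗[ℤ] R₀) ⊗[R₀] S₀, inferInstance,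
    inferInstance, restageAlgebra R₀ (R ⊗[ℤ] R₀) S₀ B, algA₁B, t3, inferInstance,
    inferInstance, inferInstance, inferInstance, hpo'⟩

end FPModel


section BCRange

variable {A₁ A₀ B₁ : Type u} [CommRing A₁] [CommRing A₀] [CommRing B₁] [Algebra A₁ A₀] [Algebra A₁ B₁]

/-- the image of `Spec (A₀ ⊗ B₁) → Spec A₀` contains every prime whose image in `Spec A₁` lies in the
image of `Spec B₁`. -/
theorem mem_range_comap_baseChange (𝔮 : PrimeSpectrum A₀)
    (h : PrimeSpectrum.comap (algebraMap A₁ A₀) 𝔮 ∈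
      Set.range (PrimeSpectrum.comap (algebraMap A₁ B₁))) :
    𝔮 ∈ Set.range (PrimeSpectrum.comap (algebraMap A₀ (A₀ ⊗[A₁] B₁))) := by
  set 𝔭 := PrimeSpectrum.comap (algebraMap A₁ A₀) 𝔮 with h𝔭
  have h1 : Nontrivial (𝔭.asIdeal.ResidueField ⊗[A₁] B₁) :=
    (𝔭.nontrivial_iff_mem_rangeComap).2 h
  rw [← PrimeSpectrum.nontrivial_iff_mem_rangeComap]
  letI algkK : Algebra 𝔭.asIdeal.ResidueField 𝔮.asIdeal.ResidueField :=
    (Ideal.ResidueField.map 𝔭.asIdeal 𝔮.asIdeal (algebraMap A₁ A₀) rfl).toAlgebra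
  haveI : IsScalarTower A₁ 𝔭.asIdeal.ResidueField 𝔮.asIdeal.ResidueField :=
    IsScalarTower.of_algebraMap_eq fun x => by
      show _ = Ideal.ResidueField.map 𝔭.asIdeal 𝔮.asIdeal (algebraMap A₁ A₀) rfl
        (algebraMap A₁ 𝔭.asIdeal.ResidueField x)
      rw [Ideal.ResidueField.map_algebraMap, ← IsScalarTower.algebraMap_apply]
  let e1 : 𝔮.asIdeal.ResidueField ⊗[A₀] (A₀ ⊗[A₁] B₁) ≃ₗ[𝔮.asIdeal.ResidueField]
      𝔮.asIdeal.ResidueField ⊗[A₁] B₁ :=
    AlgebraTensorModule.cancelBaseChange A₁ A₀ 𝔮.asIdeal.ResidueField 𝔮.asIdeal.ResidueField B₁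
  let e2 : 𝔮.asIdeal.ResidueField ⊗[𝔭.asIdeal.ResidueField] (𝔭.asIdeal.ResidueField ⊗[A₁] B₁)
      ≃ₗ[𝔮.asIdeal.ResidueField] 𝔮.asIdeal.ResidueField ⊗[A₁] B₁ :=
    AlgebraTensorModule.cancelBaseChange A₁ 𝔭.asIdeal.ResidueField 𝔮.asIdeal.ResidueField
      𝔮.asIdeal.ResidueField B₁
  haveI : Nontrivial (𝔮.asIdeal.ResidueField ⊗[𝔭.asIdeal.ResidueField]
      (𝔭.asIdeal.ResidueField ⊗[A₁] B₁)) :=
    (Module.FaithfullyFlat.nontrivial_tensorProduct_iff_right _ _).2 h1
  exact (e1.trans e2.symm).toEquiv.nontrivial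

end BCRange


section Refine

variable {A₁ A B₁ : Type u} [CommRing A₁] [CommRing A] [CommRing B₁]
  [Algebra A₁ A] [Algebra A₁ B₁] [Algebra.FinitePresentation A₁ B₁] [Module.Flat A₁ B₁]

/-- If `B₁` is flat of finite presentation over `A₁` and its base change to `A` is faithfully flat
(more precisely: some faithfully flat `A`-algebra `B` receives `B₁` compatibly), then `A₁ → A` factors
through a finitely presented `A₁`-algebra `A₀` over which `B₁` becomes faithfully flat. -/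
theorem exists_faithfullyFlat_refinement (B : Type u) [CommRing B] [Algebra B₁ B] [Algebra A₁ B]
    [Algebra A B] [IsScalarTower A₁ A B] [IsScalarTower A₁ B₁ B] [Module.FaithfullyFlat A B] :
    ∃ (A₀ : Type u) (_ : CommRing A₀) (_ : Algebra A₁ A₀) (_ : Algebra A₀ A)
      (_ : IsScalarTower A₁ A₀ A),
      Algebra.FinitePresentation A₁ A₀ ∧ Module.FaithfullyFlat A₀ (A₀ ⊗[A₁] B₁) := by
  classical
  have hopen : IsOpen (Set.range (PrimeSpectrum.comap (algebraMap A₁ B₁))) :=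
    (PrimeSpectrum.isOpenMap_comap_of_hasGoingDown_of_finitePresentation
      (R := A₁) (S := B₁)).isOpen_range
  obtain ⟨J, hJ⟩ := (PrimeSpectrum.isClosed_iff_zeroLocus_ideal _).1 hopen.isClosed_compl
  have hmemU : ∀ 𝔭 : PrimeSpectrum A₁, ¬ J ≤ 𝔭.asIdeal →
      𝔭 ∈ Set.range (PrimeSpectrum.comap (algebraMap A₁ B₁)) := by
    intro 𝔭 h
    by_contra hn
    have : 𝔭 ∈ (Set.range (PrimeSpectrum.comap (algebraMap A₁ B₁)))ᶜ := hn
    rw [hJ, PrimeSpectrum.mem_zeroLocus] at this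
    exact h this
  have hJA : J.map (algebraMap A₁ A) = ⊤ := by
    by_contra hne
    obtain ⟨𝔪, hmax, hle⟩ := Ideal.exists_le_maximal _ hne
    haveI := hmax.isPrime
    obtain ⟨𝔓, hP, hlies⟩ := Ideal.exists_isPrime_liesOver_of_faithfullyFlat (B := B) 𝔪
    have hJle : J ≤ 𝔪.comap (algebraMap A₁ A) := Ideal.map_le_iff_le_comap.1 hle
    have hin : (⟨𝔪.comap (algebraMap A₁ A), inferInstance⟩ : PrimeSpectrum A₁) ∈
        Set.range (PrimeSpectrum.comap (algebraMap A₁ B₁)) := by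
      refine ⟨PrimeSpectrum.comap (algebraMap B₁ B) ⟨𝔓, hP⟩, ?_⟩
      ext1
      show (𝔓.comap (algebraMap B₁ B)).comap (algebraMap A₁ B₁) = 𝔪.comap (algebraMap A₁ A)
      rw [Ideal.comap_comap, ← IsScalarTower.algebraMap_eq, IsScalarTower.algebraMap_eq A₁ A B,
        ← Ideal.comap_comap]
      congr 1
      exact hlies.over.symm
    have hout : (⟨𝔪.comap (algebraMap A₁ A), inferInstance⟩ : PrimeSpectrum A₁) ∈
        (Set.range (PrimeSpectrum.comap (algebraMap A₁ B₁)))ᶜ := by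
      rw [hJ, PrimeSpectrum.mem_zeroLocus]
      exact hJle
    exact hout hin
  have h1 : (1 : A) ∈ Submodule.span A (⇑(algebraMap A₁ A) '' (J : Set A₁)) := by
    have : (1 : A) ∈ J.map (algebraMap A₁ A) := by rw [hJA]; trivial
    exact this
  obtain ⟨t, htJ, c, hc⟩ := (Submodule.mem_span_image_iff_exists_fun A).1 h1
  -- the algebra `A₀`
  let rel : MvPolynomial t A₁ := ∑ i : t, MvPolynomial.X i * MvPolynomial.C (i : A₁) - 1
  let I : Ideal (MvPolynomial t A₁) := Ideal.span {rel}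
  let ψ₀ : MvPolynomial t A₁ →ₐ[A₁] A := MvPolynomial.aeval c
  have hψ₀ : ∀ a ∈ I, ψ₀ a = 0 := by
    intro a ha
    have hle : I ≤ RingHom.ker ψ₀.toRingHom := by
      rw [Ideal.span_le, Set.singleton_subset_iff]
      show ψ₀ rel = 0
      simp only [rel, ψ₀, map_sub, map_sum, map_mul, MvPolynomial.aeval_X, MvPolynomial.aeval_C,
        map_one]
      rw [sub_eq_zero, ← hc]
      refine Finset.sum_congr rfl fun i _ => ?_
      rw [smul_eq_mul]
    exact hle ha
  let ψ : (MvPolynomial t A₁ ⧸ I) →ₐ[A₁] A := Ideal.Quotient.liftₐ I ψ₀ hψ₀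
  letI algA₀A : Algebra (MvPolynomial t A₁ ⧸ I) A := ψ.toRingHom.toAlgebra
  haveI tow : IsScalarTower A₁ (MvPolynomial t A₁ ⧸ I) A :=
    IsScalarTower.of_algebraMap_eq (R := A₁) (S := MvPolynomial t A₁ ⧸ I) (A := A) fun r => by
      show _ = ψ (algebraMap A₁ _ r)
      rw [AlgHom.commutes]
  haveI hfp : Algebra.FinitePresentation A₁ (MvPolynomial t A₁ ⧸ I) :=
    Algebra.FinitePresentation.quotient (Submodule.fg_span_singleton rel)
  refine ⟨MvPolynomial t A₁ ⧸ I, inferInstance, inferInstance, algA₀A, tow, hfp, ?_⟩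
  apply Module.FaithfullyFlat.of_comap_surjective
  intro 𝔮
  apply mem_range_comap_baseChange
  apply hmemU
  intro hJ𝔮
  have hmem : ∀ i : t, algebraMap A₁ (MvPolynomial t A₁ ⧸ I) (i : A₁) ∈ 𝔮.asIdeal :=
    fun i => hJ𝔮 (htJ i.2)
  have hrel : Ideal.Quotient.mk I rel = 0 :=
    Ideal.Quotient.eq_zero_iff_mem.2 (Ideal.subset_span rfl)
  have h1mem : (1 : MvPolynomial t A₁ ⧸ I) ∈ 𝔮.asIdeal := by
    have : (1 : MvPolynomial t A₁ ⧸ I) =
        ∑ i : t, Ideal.Quotient.mk I (MvPolynomial.X i) *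
          algebraMap A₁ (MvPolynomial t A₁ ⧸ I) (i : A₁) := by
      have h := hrel
      simp only [rel, map_sub, map_sum, map_mul, map_one, sub_eq_zero] at h
      rw [← h]
      rfl
    rw [this]
    exact Ideal.sum_mem _ fun i _ => Ideal.mul_mem_left _ _ (hmem i)
  exact 𝔮.isPrime.ne_top ((Ideal.eq_top_iff_one _).2 h1mem)

end Refine


end Groth.Agent.Lib.Helper21.FlatDesc
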