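import Mathlib
import Groth.Agent.Lib.Helper21.FlatDescR

namespace Groth.Agent.Lib.Helper21.FlatDesc

open TensorProduct Function

universe u

section QuotPushout

attribute [local instance] Algebra.TensorProduct.rightAlgebra

/-- the quotient by an extended ideal is a pushout. -/
theorem isPushout_quotient {A : Type u} (B : Type u) [CommRing A] [CommRing B] [Algebra A B]
    (I : Ideal A) : Algebra.IsPushout A (A ⧸ I) B (B ⧸ I.map (algebraMap A B)) := by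
  have h : Algebra.IsPushout A (A ⧸ I) B ((A ⧸ I) ⊗[A] B) := inferInstance
  refine Algebra.IsPushout.of_equiv (h := h)
    (Algebra.TensorProduct.quotIdealMapEquivQuotTensor B I).symm ?_
  ext b
  show (Algebra.TensorProduct.quotIdealMapEquivQuotTensor B I).symm ((1 : A ⧸ I) ⊗ₜ[A] b) = _
  rw [AlgEquiv.symm_apply_eq]
  simp

end QuotPushout

section FF

variable {R₂ R C₂ C : Type u} [CommRing R₂] [CommRing R] [CommRing C₂] [CommRing C]
  [Algebra R₂ R] [Algebra R₂ C₂] [Algebra R C] [Algebra C₂ C] [Algebra R₂ C]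
  [IsScalarTower R₂ R C] [IsScalarTower R₂ C₂ C]
  (m₂ : Ideal R₂) (m : Ideal R) (hle : m₂ ≤ m.comap (algebraMap R₂ R))

include hle in
theorem map_le_comap_map :
    m₂.map (algebraMap R₂ C₂) ≤ (m.map (algebraMap R C)).comap (algebraMap C₂ C) := by
  rw [Ideal.map_le_iff_le_comap]
  intro x hx
  rw [Ideal.mem_comap, Ideal.mem_comap, ← IsScalarTower.algebraMap_apply,
    IsScalarTower.algebraMap_apply R₂ R C]
  exact Ideal.mem_map_of_mem _ (hle hx)

/-- the induced map of fibre rings `C₂ / m₂ C₂ → C / m C`. -/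
noncomputable def fibreMap :
    (C₂ ⧸ m₂.map (algebraMap R₂ C₂)) →+* (C ⧸ m.map (algebraMap R C)) :=
  Ideal.quotientMap _ (algebraMap C₂ C) (map_le_comap_map m₂ m hle)

/-- `C / m C` as an algebra over `C₂ / m₂ C₂`. -/
noncomputable abbrev fibreAlgebra :
    Algebra (C₂ ⧸ m₂.map (algebraMap R₂ C₂)) (C ⧸ m.map (algebraMap R C)) :=
  (fibreMap (C₂ := C₂) (C := C) m₂ m hle).toAlgebra

theorem fibre_isScalarTower :
    letI := fibreAlgebra (C₂ := C₂) (C := C) m₂ m hle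
    IsScalarTower C₂ (C₂ ⧸ m₂.map (algebraMap R₂ C₂)) (C ⧸ m.map (algebraMap R C)) := by
  letI := fibreAlgebra (C₂ := C₂) (C := C) m₂ m hle
  exact IsScalarTower.of_algebraMap_eq fun x => rfl

/-- **The map of closed fibre rings induced by a pushout along a local homomorphism is faithfully
flat** (it is a base change of the residue field extension). -/
theorem faithfullyFlat_fibre [Algebra.IsPushout R₂ R C₂ C] [m₂.IsMaximal] [m.IsMaximal] :
    letI := fibreAlgebra (C₂ := C₂) (C := C) m₂ m hle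
    Module.FaithfullyFlat (C₂ ⧸ m₂.map (algebraMap R₂ C₂)) (C ⧸ m.map (algebraMap R C)) := by
  letI aF := fibreAlgebra (C₂ := C₂) (C := C) m₂ m hle
  letI : Field (R₂ ⧸ m₂) := Ideal.Quotient.field m₂
  letI aκ : Algebra (R₂ ⧸ m₂) (R ⧸ m) := (Ideal.quotientMap m (algebraMap R₂ R) hle).toAlgebra
  haveI : IsScalarTower R₂ (R₂ ⧸ m₂) (R ⧸ m) := IsScalarTower.of_algebraMap_eq fun x => rfl
  haveI : Module.FaithfullyFlat (R₂ ⧸ m₂) (R ⧸ m) := inferInstance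
  haveI tF : IsScalarTower C₂ (C₂ ⧸ m₂.map (algebraMap R₂ C₂)) (C ⧸ m.map (algebraMap R C)) :=
    IsScalarTower.of_algebraMap_eq fun x => rfl
  letI aκF : Algebra (R₂ ⧸ m₂) (C ⧸ m.map (algebraMap R C)) :=
    ((algebraMap (R ⧸ m) (C ⧸ m.map (algebraMap R C))).comp (algebraMap (R₂ ⧸ m₂) (R ⧸ m))).toAlgebra
  haveI : IsScalarTower (R₂ ⧸ m₂) (R ⧸ m) (C ⧸ m.map (algebraMap R C)) :=
    IsScalarTower.of_algebraMap_eq fun x => rfl
  haveI : IsScalarTower (R₂ ⧸ m₂) (C₂ ⧸ m₂.map (algebraMap R₂ C₂)) (C ⧸ m.map (algebraMap R C)) :=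
    IsScalarTower.of_algebraMap_eq fun x => by
      obtain ⟨r, rfl⟩ := Ideal.Quotient.mk_surjective x
      show Ideal.Quotient.mk _ (algebraMap R C (algebraMap R₂ R r)) =
        Ideal.Quotient.mk _ (algebraMap C₂ C (algebraMap R₂ C₂ r))
      rw [← IsScalarTower.algebraMap_apply, ← IsScalarTower.algebraMap_apply]
  haveI : IsScalarTower R₂ (R ⧸ m) (C ⧸ m.map (algebraMap R C)) :=
    IsScalarTower.of_algebraMap_eq fun x => by
      show Ideal.Quotient.mk _ (algebraMap R₂ C x) =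
        Ideal.Quotient.mk _ (algebraMap R C (algebraMap R₂ R x))
      rw [← IsScalarTower.algebraMap_apply]
  haveI : IsScalarTower R₂ C₂ (C ⧸ m.map (algebraMap R C)) :=
    IsScalarTower.of_algebraMap_eq fun x => by
      show Ideal.Quotient.mk _ (algebraMap R₂ C x) =
        Ideal.Quotient.mk _ (algebraMap C₂ C (algebraMap R₂ C₂ x))
      rw [← IsScalarTower.algebraMap_apply]
  haveI : IsScalarTower R₂ (C₂ ⧸ m₂.map (algebraMap R₂ C₂)) (C ⧸ m.map (algebraMap R C)) :=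
    IsScalarTower.of_algebraMap_eq fun x => by
      show Ideal.Quotient.mk _ (algebraMap R₂ C x) =
        Ideal.Quotient.mk _ (algebraMap C₂ C (algebraMap R₂ C₂ x))
      rw [← IsScalarTower.algebraMap_apply]
  have P1 : Algebra.IsPushout R₂ (R₂ ⧸ m₂) C₂ (C₂ ⧸ m₂.map (algebraMap R₂ C₂)) :=
    isPushout_quotient C₂ m₂
  have P2 : Algebra.IsPushout R (R ⧸ m) C (C ⧸ m.map (algebraMap R C)) := isPushout_quotient C m
  have P3 : Algebra.IsPushout R₂ (R ⧸ m) C₂ (C ⧸ m.map (algebraMap R C)) :=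
    (Algebra.IsPushout.comp_iff R₂ R C₂ C (T := R ⧸ m) (T' := C ⧸ m.map (algebraMap R C))).2 P2
  have P4 : Algebra.IsPushout (R₂ ⧸ m₂) (R ⧸ m) (C₂ ⧸ m₂.map (algebraMap R₂ C₂))
      (C ⧸ m.map (algebraMap R C)) :=
    (Algebra.IsPushout.comp_iff R₂ (R₂ ⧸ m₂) C₂ (C₂ ⧸ m₂.map (algebraMap R₂ C₂)) (T := R ⧸ m)
      (T' := C ⧸ m.map (algebraMap R C))).1 P3
  have P5 := P4.symm
  have hbc := P5.out
  exact Module.FaithfullyFlat.of_linearEquiv _ _ hbc.equiv.symm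

end FF

section FibreDescent

variable {R₂ R C₂ C : Type u} [CommRing R₂] [CommRing R] [CommRing C₂] [CommRing C]
  [Algebra R₂ R] [Algebra R₂ C₂] [Algebra R C] [Algebra C₂ C] [Algebra R₂ C]
  [IsScalarTower R₂ R C] [IsScalarTower R₂ C₂ C] [Algebra.IsPushout R₂ R C₂ C]
  (m₂ : Ideal R₂) (m : Ideal R) [m₂.IsMaximal] [m.IsMaximal] (hle : m₂ ≤ m.comap (algebraMap R₂ R))
  (M₂ : Type u) [AddCommGroup M₂] [Module C₂ M₂]
  (M' : Type u) [AddCommGroup M'] [Module C M']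

include hle in
/-- **Descent of fibre flatness**: if `M' = C ⊗ M₂` has flat closed fibre over the closed fibre of `C`,
then `M₂` has flat closed fibre over the closed fibre of `C₂`. -/
theorem flat_fibre_descent (e : C ⊗[C₂] M₂ ≃ₗ[C] M')
    [Module.Flat (C ⧸ m.map (algebraMap R C)) ((C ⧸ m.map (algebraMap R C)) ⊗[C] M')] :
    Module.Flat (C₂ ⧸ m₂.map (algebraMap R₂ C₂)) ((C₂ ⧸ m₂.map (algebraMap R₂ C₂)) ⊗[C₂] M₂) := by
  letI aF := fibreAlgebra (C₂ := C₂) (C := C) m₂ m hle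
  haveI tF : IsScalarTower C₂ (C₂ ⧸ m₂.map (algebraMap R₂ C₂)) (C ⧸ m.map (algebraMap R C)) :=
    IsScalarTower.of_algebraMap_eq fun x => rfl
  haveI := faithfullyFlat_fibre (C₂ := C₂) (C := C) m₂ m hle
  let e₁ : (C ⧸ m.map (algebraMap R C)) ⊗[C₂ ⧸ m₂.map (algebraMap R₂ C₂)]
      ((C₂ ⧸ m₂.map (algebraMap R₂ C₂)) ⊗[C₂] M₂) ≃ₗ[C ⧸ m.map (algebraMap R C)]
      (C ⧸ m.map (algebraMap R C)) ⊗[C₂] M₂ :=
    AlgebraTensorModule.cancelBaseChange C₂ (C₂ ⧸ m₂.map (algebraMap R₂ C₂))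
      (C ⧸ m.map (algebraMap R C)) (C ⧸ m.map (algebraMap R C)) M₂
  let e₂ : (C ⧸ m.map (algebraMap R C)) ⊗[C] (C ⊗[C₂] M₂) ≃ₗ[C ⧸ m.map (algebraMap R C)]
      (C ⧸ m.map (algebraMap R C)) ⊗[C₂] M₂ :=
    AlgebraTensorModule.cancelBaseChange C₂ C
      (C ⧸ m.map (algebraMap R C)) (C ⧸ m.map (algebraMap R C)) M₂
  let e₃ : (C ⧸ m.map (algebraMap R C)) ⊗[C] (C ⊗[C₂] M₂) ≃ₗ[C ⧸ m.map (algebraMap R C)]
      (C ⧸ m.map (algebraMap R C)) ⊗[C] M' :=
    AlgebraTensorModule.congr (LinearEquiv.refl _ _) e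
  haveI : Module.Flat (C ⧸ m.map (algebraMap R C))
      ((C ⧸ m.map (algebraMap R C)) ⊗[C₂ ⧸ m₂.map (algebraMap R₂ C₂)]
        ((C₂ ⧸ m₂.map (algebraMap R₂ C₂)) ⊗[C₂] M₂)) :=
    Module.Flat.of_linearEquiv (e₁ ≪≫ₗ e₂.symm ≪≫ₗ e₃)
  exact Module.Flat.of_flat_tensorProduct (C₂ ⧸ m₂.map (algebraMap R₂ C₂))
    ((C₂ ⧸ m₂.map (algebraMap R₂ C₂)) ⊗[C₂] M₂) (C ⧸ m.map (algebraMap R C))

end FibreDescent

end Groth.Agent.Lib.Helper21.FlatDesc
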