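import Mathlib
import Groth.Agent.Lib.Helper21.FlatDescV
import Groth.Agent.Lib.Helper21.FlatLocal6
import Groth.Agent.Lib.Helper2.LocalCrit
import Groth.Agent.Lib.Helper2.FibreCrit

namespace Groth.Agent.Lib.Helper21.FlatDesc

open TensorProduct Function

universe u

section RelLoc

/-- naturality of `cancelBaseChange` in the first variable -/
theorem cancelBaseChange_nat {R A : Type*} [CommRing R] [CommRing A] [Algebra R A]
    {M : Type*} [AddCommGroup M] [Module R M]
    {Q' Q : Type*} [AddCommGroup Q'] [Module R Q'] [Module A Q']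
    [IsScalarTower R A Q'] [AddCommGroup Q] [Module R Q] [Module A Q] [IsScalarTower R A Q]
    (j : Q' →ₗ[A] Q) (x : Q' ⊗[A] (A ⊗[R] M)) :
    AlgebraTensorModule.cancelBaseChange R A A Q M (j.rTensor (A ⊗[R] M) x) =
      (j.restrictScalars R).rTensor M (AlgebraTensorModule.cancelBaseChange R A A Q' M x) := by
  induction x with
  | zero => simp
  | add x y hx hy => rw [map_add, map_add, hx, hy, map_add, map_add]
  | tmul q y =>
    induction y with
    | zero => simp
    | add y z hy hz =>
      rw [tmul_add, map_add, map_add, hy, hz, map_add, map_add]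
    | tmul a m =>
      rw [LinearMap.rTensor_tmul, AlgebraTensorModule.cancelBaseChange_tmul,
        AlgebraTensorModule.cancelBaseChange_tmul, LinearMap.rTensor_tmul]
      simp

/-- converse of helper2 `lTensor_injective_of_flat_baseChange`. -/
theorem flat_baseChange_of_lTensor_injective {A K : Type u} [CommRing A] [CommRing K] [Algebra A K]
    (X : Type u) [AddCommGroup X] [Module A X]
    (H : ∀ (Q' Q : Type u) [AddCommGroup Q'] [Module A Q'] [Module K Q'] [IsScalarTower A K Q']
      [AddCommGroup Q] [Module A Q] [Module K Q] [IsScalarTower A K Q] (j : Q' →ₗ[K] Q),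
      Injective j → Injective ((j.restrictScalars A).lTensor X)) :
    Module.Flat K (K ⊗[A] X) := by
  rw [Module.Flat.iff_rTensor_preserves_injective_linearMap]
  intro Q' Q _ _ _ _ j hj
  letI : Module A Q' := Module.compHom Q' (algebraMap A K)
  letI : Module A Q := Module.compHom Q (algebraMap A K)
  haveI : IsScalarTower A K Q' := IsScalarTower.of_algebraMap_smul fun _ _ => rfl
  haveI : IsScalarTower A K Q := IsScalarTower.of_algebraMap_smul fun _ _ => rfl
  have h1 : Injective ((j.restrictScalars A).rTensor X) :=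
    (LinearMap.lTensor_inj_iff_rTensor_inj _ _).mp (H Q' Q j hj)
  intro a b hab
  apply (AlgebraTensorModule.cancelBaseChange A K K Q' X).injective
  apply h1
  rw [← cancelBaseChange_nat, ← cancelBaseChange_nat, hab]

variable {A B : Type u} [CommRing A] [CommRing B] [Algebra A B] (I : Ideal A)
variable {F F' : Type u} [AddCommGroup F] [Module B F] [Module A F] [IsScalarTower A B F]
  [AddCommGroup F'] [Module B F'] [Module A F'] [IsScalarTower A B F']

/-- localization (at a submonoid of `B`) preserves flatness of the base change to an `A`-algebra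
`K`. -/
theorem flat_baseChange_of_isLocalizedModule {K : Type u} [CommRing K] [Algebra A K]
    [Module.Flat K (K ⊗[A] F)] (S : Submonoid B) (f : F →ₗ[B] F') [IsLocalizedModule S f] :
    Module.Flat K (K ⊗[A] F') := by
  refine flat_baseChange_of_lTensor_injective F' ?_
  intro Q' Q _ _ _ _ _ _ _ _ j hj
  have h0 : Injective ((j.restrictScalars A).lTensor F) :=
    Groth.Agent.Lib.Helper2.LocalCrit.lTensor_injective_of_flat_baseChange j hj
  rw [← AlgebraTensorModule.coe_lTensor (A := B)]
  have h1 := IsLocalizedModule.map_injective S (AlgebraTensorModule.rTensor A Q' f)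
    (AlgebraTensorModule.rTensor A Q f) (AlgebraTensorModule.lTensor B F (j.restrictScalars A))
    (by rw [AlgebraTensorModule.coe_lTensor]; exact h0)
  rwa [IsLocalizedModule.map_lTensor] at h1

end RelLoc

section NoethCrit

variable {R₂ C₂ D₂ : Type u} [CommRing R₂] [CommRing C₂] [CommRing D₂] [Algebra R₂ C₂]
  [Algebra C₂ D₂] [Algebra R₂ D₂] [IsScalarTower R₂ C₂ D₂]
  [IsNoetherianRing C₂] [IsNoetherianRing D₂]
  (M₂ : Type u) [AddCommGroup M₂] [Module D₂ M₂] [Module C₂ M₂] [Module R₂ M₂]
  [IsScalarTower C₂ D₂ M₂] [IsScalarTower R₂ D₂ M₂] [IsScalarTower R₂ C₂ M₂]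
  [Module.Finite D₂ M₂] [Module.Flat R₂ M₂]

/-- **Fibre criterion at a Noetherian stage** (via helper2's local criterion): `M₂` finite over `D₂`,
flat over `R₂`, with `M₂ / m₂ M₂` flat over `C₂ / m₂ C₂`; then `M₂` is flat over `C₂` at every prime
`Q₂` of `D₂` containing `m₂`. -/
theorem flat_localized_of_flat_fibre_noeth (m₂ : Ideal R₂) (Q₂ : Ideal D₂) [Q₂.IsPrime]
    (hQ : m₂ ≤ Q₂.comap (algebraMap R₂ D₂))
    [Module.Flat (C₂ ⧸ m₂.map (algebraMap R₂ C₂)) ((C₂ ⧸ m₂.map (algebraMap R₂ C₂)) ⊗[C₂] M₂)] :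
    Module.Flat C₂ (LocalizedModule Q₂.primeCompl M₂) := by
  haveI : IsNoetherianRing (Localization.AtPrime Q₂) :=
    IsLocalization.isNoetherianRing Q₂.primeCompl _ inferInstance
  haveI : Module.Finite (Localization.AtPrime Q₂) (LocalizedModule Q₂.primeCompl M₂) :=
    Module.Finite.of_isLocalizedModule Q₂.primeCompl
      (LocalizedModule.mkLinearMap Q₂.primeCompl M₂)
  haveI : Module.Flat R₂ (LocalizedModule Q₂.primeCompl M₂) :=
    Groth.Agent.Lib.Helper21.FlatLocal.flat_of_isLocalizedModule (A := R₂) (B := D₂) (F := M₂)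
      Q₂.primeCompl (LocalizedModule.mkLinearMap Q₂.primeCompl M₂)
  haveI : Module.Flat (C₂ ⧸ m₂.map (algebraMap R₂ C₂))
      ((C₂ ⧸ m₂.map (algebraMap R₂ C₂)) ⊗[C₂] LocalizedModule Q₂.primeCompl M₂) :=
    flat_baseChange_of_isLocalizedModule (A := C₂) (B := D₂) (F := M₂) Q₂.primeCompl
      (LocalizedModule.mkLinearMap Q₂.primeCompl M₂)
  refine Groth.Agent.Lib.Helper2.LocalCrit.flat_of_injective_of_flat_quotient
    (R := C₂) (S := Localization.AtPrime Q₂) (M := LocalizedModule Q₂.primeCompl M₂)
    (m₂.map (algebraMap R₂ C₂)) ?_ ?_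
  · rw [IsLocalRing.jacobson_eq_maximalIdeal ⊥ bot_ne_top, Ideal.map_map, Ideal.map_le_iff_le_comap]
    intro x hx
    rw [Ideal.mem_comap]
    have h1 : (algebraMap C₂ (Localization.AtPrime Q₂)).comp (algebraMap R₂ C₂) x =
        algebraMap D₂ (Localization.AtPrime Q₂) (algebraMap R₂ D₂ x) := by
      rw [RingHom.comp_apply, IsScalarTower.algebraMap_apply C₂ D₂ (Localization.AtPrime Q₂),
        ← IsScalarTower.algebraMap_apply R₂ C₂ D₂]
    rw [h1]
    exact (IsLocalization.AtPrime.to_map_mem_maximal_iff (Localization.AtPrime Q₂) Q₂ _).2 (hQ hx)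
  · exact Groth.Agent.Lib.Helper2.FibreCrit.lTensor_map_subtype_injective (R := R₂) (S := C₂)
      (M := LocalizedModule Q₂.primeCompl M₂) m₂

end NoethCrit

end Groth.Agent.Lib.Helper21.FlatDesc
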