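import Mathlib
import Groth.Agent.Lib.Helper21.FlatDescW

/-!
# Helper21 — FlatDescX: Noetherian local stages for the fibre criterion

* `isPushout_mvPolynomial`: polynomial rings over a pushout square.
* `stagePrime`, `stageAlgebra`, `isLocalHom_stage`: the local ring `A'_{p'} → R` of a ring mapping to
  a local ring.
* `exists_fg_polyModule_model`: a finitely presented module over `C[Z]`, `C` finitely presented over
  `R`, descends to a finite type `ℤ`-algebra.
-/

namespace Groth.Agent.Lib.Helper21.FlatDesc

open TensorProduct Function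

universe u


section PolyPushout

attribute [local instance] MvPolynomial.algebraMvPolynomial

variable {σ : Type*} (A A'' C_A C'' : Type*) [CommRing A] [CommRing A''] [CommRing C_A]
  [CommRing C''] [Algebra A A''] [Algebra A C_A] [Algebra A'' C''] [Algebra C_A C'']
  [Algebra A C''] [IsScalarTower A A'' C''] [IsScalarTower A C_A C'']

instance polTower' : IsScalarTower A (MvPolynomial σ C_A) (MvPolynomial σ C'') :=
  IsScalarTower.of_algebraMap_eq fun a => by
    rw [MvPolynomial.algebraMap_def (R := C_A) (S := C''), MvPolynomial.algebraMap_apply,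
      MvPolynomial.algebraMap_apply, MvPolynomial.map_C, ← IsScalarTower.algebraMap_apply]

/-- polynomial rings over a pushout square form a pushout square over the base. -/
theorem isPushout_mvPolynomial [Algebra.IsPushout A A'' C_A C''] :
    Algebra.IsPushout A A'' (MvPolynomial σ C_A) (MvPolynomial σ C'') := by
  have h1 : Algebra.IsPushout A C_A A'' C'' := Algebra.IsPushout.symm inferInstance
  have h2 : Algebra.IsPushout A (MvPolynomial σ C_A) A'' (MvPolynomial σ C'') :=
    (Algebra.IsPushout.comp_iff A C_A A'' C'' (T := MvPolynomial σ C_A)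
      (T' := MvPolynomial σ C'')).2 inferInstance
  exact h2.symm

end PolyPushout



section LocStage

variable (A' R : Type u) [CommRing A'] [CommRing R] [Algebra A' R] [IsLocalRing R]

/-- the prime of a ring `A'` mapping to a local ring `R` below the maximal ideal. -/
abbrev stagePrime : Ideal A' := (IsLocalRing.maximalIdeal R).comap (algebraMap A' R)

theorem isUnit_algebraMap_of_mem_primeCompl (y : (stagePrime A' R).primeCompl) :
    IsUnit (algebraMap A' R y) := by
  have h : (y : A') ∉ stagePrime A' R := y.2
  rw [Ideal.mem_comap, IsLocalRing.mem_maximalIdeal, mem_nonunits_iff, not_not] at h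
  exact h

/-- the structure map `A'_{p'} → R`. -/
noncomputable def stageLift : Localization.AtPrime (stagePrime A' R) →+* R :=
  IsLocalization.lift (M := (stagePrime A' R).primeCompl) (g := algebraMap A' R)
    (isUnit_algebraMap_of_mem_primeCompl A' R)

/-- `R` as an algebra over the local stage ring `A'_{p'}`. -/
noncomputable abbrev stageAlgebra : Algebra (Localization.AtPrime (stagePrime A' R)) R :=
  (stageLift A' R).toAlgebra

attribute [local instance] stageAlgebra

instance stage_tower : IsScalarTower A' (Localization.AtPrime (stagePrime A' R)) R :=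
  IsScalarTower.of_algebraMap_eq fun a => by
    show _ = stageLift A' R (algebraMap A' _ a)
    rw [stageLift, IsLocalization.lift_eq]

instance isLocalHom_stage : IsLocalHom (algebraMap (Localization.AtPrime (stagePrime A' R)) R) := by
  constructor
  intro x hx
  obtain ⟨a, s, rfl⟩ := IsLocalization.exists_mk'_eq (stagePrime A' R).primeCompl x
  have h1 : algebraMap (Localization.AtPrime (stagePrime A' R)) R
      (IsLocalization.mk' (Localization.AtPrime (stagePrime A' R)) a s) * algebraMap A' R s =
      algebraMap A' R a := by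
    rw [IsScalarTower.algebraMap_apply A' (Localization.AtPrime (stagePrime A' R)) R,
      IsScalarTower.algebraMap_apply A' (Localization.AtPrime (stagePrime A' R)) R a, ← map_mul,
      IsLocalization.mk'_spec]
  have h2 : IsUnit (algebraMap A' R a) := by
    rw [← h1]
    exact hx.mul (isUnit_algebraMap_of_mem_primeCompl A' R s)
  have h3 : a ∉ stagePrime A' R := by
    rw [Ideal.mem_comap, IsLocalRing.mem_maximalIdeal, mem_nonunits_iff, not_not]
    exact h2
  exact (IsLocalization.AtPrime.isUnit_mk'_iff (Localization.AtPrime (stagePrime A' R))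
    (stagePrime A' R) a s).2 h3

theorem maximalIdeal_le_comap_stage :
    IsLocalRing.maximalIdeal (Localization.AtPrime (stagePrime A' R)) ≤
      (IsLocalRing.maximalIdeal R).comap (algebraMap (Localization.AtPrime (stagePrime A' R)) R) := by
  intro x hx
  rw [Ideal.mem_comap]
  exact (IsLocalRing.mem_maximalIdeal _).2 (fun h => (IsLocalRing.mem_maximalIdeal _).1 hx
    (isUnit_of_map_unit (algebraMap (Localization.AtPrime (stagePrime A' R)) R) x h))

end LocStage



section Model

open Groth.Agent.Lib.Helper29.FPModel

attribute [local instance] modelAlgebra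
attribute [local instance] MvPolynomial.algebraMvPolynomial


/-- generic packaging of helper29's `isBaseChange_quotMap`. -/
theorem exists_presented_model {A D_A D : Type u} [CommRing A] [CommRing D_A] [CommRing D]
    [Algebra A D_A] [Algebra D_A D] (b : ℕ) {κ : Type u} (v₀ : κ → Fin b → D_A) :
    ∃ (M_A : Type u) (_ : AddCommGroup M_A) (_ : Module D_A M_A) (_ : Module A M_A)
      (_ : IsScalarTower A D_A M_A), Module.Finite D_A M_A ∧
      Nonempty (D ⊗[D_A] M_A ≃ₗ[D] ((Fin b → D) ⧸ Submodule.span D
        (Set.range fun j => mapVec (B := D) b (v₀ j)))) :=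
  ⟨(Fin b → D_A) ⧸ Submodule.span D_A (Set.range v₀), inferInstance, inferInstance, inferInstance,
    inferInstance, inferInstance, ⟨(isBaseChange_quotMap (B := D) b v₀).equiv⟩⟩

/-- **A finitely presented module over a polynomial ring over a finitely presented `R`-algebra `C`
descends to a finite type `ℤ`-algebra `A → R`.** -/
theorem exists_fg_polyModule_model (R : Type u) [CommRing R] (C : Type u) [CommRing C]
    [Algebra R C] [Algebra.FinitePresentation R C] (n : ℕ)
    (M' : Type u) [AddCommGroup M'] [Module (MvPolynomial (Fin n) C) M']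
    [Module.FinitePresentation (MvPolynomial (Fin n) C) M'] :
    ∃ (A : Type u) (_ : CommRing A) (_ : Algebra A R) (C_A : Type u) (_ : CommRing C_A)
      (_ : Algebra A C_A) (_ : Algebra C_A C) (_ : Algebra A C) (_ : IsScalarTower A R C)
      (_ : IsScalarTower A C_A C)
      (M_A : Type u) (_ : AddCommGroup M_A) (_ : Module (MvPolynomial (Fin n) C_A) M_A)
      (_ : Module A M_A) (_ : IsScalarTower A (MvPolynomial (Fin n) C_A) M_A),
      Algebra.FiniteType ℤ A ∧ Algebra.FiniteType A C_A ∧
        Module.Finite (MvPolynomial (Fin n) C_A) M_A ∧ Algebra.IsPushout A R C_A C ∧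
        Nonempty (MvPolynomial (Fin n) C ⊗[MvPolynomial (Fin n) C_A] M_A
          ≃ₗ[MvPolynomial (Fin n) C] M') := by
  classical
  let P := Algebra.Presentation.ofFinitePresentation R C
  obtain ⟨b, K, eM, ⟨s, hs⟩⟩ := Module.FinitePresentation.exists_fin (MvPolynomial (Fin n) C) M'
  have hsurj : Function.Surjective (MvPolynomial.aeval (R := R) P.val) :=
    P.toGenerators.aeval_val_surjective
  choose p hp using hsurj
  let TC : Finset C := s.biUnion fun v => Finset.univ.biUnion fun i => (v i).coeffs
  let T : Set R := ⋃ c ∈ TC, ((p c).coeffs : Set R)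
  have hT : T.Finite := Set.Finite.biUnion TC.finite_toSet fun c _ => Finset.finite_toSet _
  haveI h1 : Algebra.FiniteType ℤ P.Core := inferInstance
  haveI h2 : Algebra.FiniteType P.Core (Algebra.adjoin P.Core T) :=
    Algebra.FiniteType.adjoin_of_finite hT
  haveI h3 : Algebra.FiniteType ℤ (Algebra.adjoin P.Core T) := Algebra.FiniteType.trans h1 h2
  haveI := model_isScalarTower P (Algebra.adjoin P.Core T)
  haveI := model_isPushout P (Algebra.adjoin P.Core T)
  -- every needed coefficient of `C` lifts to the model
  have hc : ∀ c ∈ TC, c ∈ Set.range (algebraMap (P.ModelOfHasCoeffs (Algebra.adjoin P.Core T)) C) := by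
    intro c hcT
    have hsub : ((p c).coeffs : Set R) ⊆ Set.range (algebraMap (Algebra.adjoin P.Core T) R) := by
      intro r hr
      have hrT : r ∈ T := Set.mem_biUnion hcT hr
      exact ⟨⟨r, Algebra.subset_adjoin hrT⟩, rfl⟩
    obtain ⟨p₀, hp₀⟩ := (MvPolynomial.mem_range_map_iff_coeffs_subset
      (f := algebraMap (Algebra.adjoin P.Core T) R)).2 hsub
    refine ⟨Ideal.Quotient.mk _ p₀, ?_⟩
    have h1 : algebraMap (P.ModelOfHasCoeffs (Algebra.adjoin P.Core T)) C
        (Ideal.Quotient.mk _ p₀) = MvPolynomial.aeval P.val p₀ :=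
      modelHom_mk P (Algebra.adjoin P.Core T) p₀
    rw [h1, ← MvPolynomial.aeval_map_algebraMap R, hp₀, hp c]
  -- lift the relation vectors
  have hv : ∀ (v : s) (i : Fin b), (v.1 i) ∈ Set.range (algebraMap
      (MvPolynomial (Fin n) (P.ModelOfHasCoeffs (Algebra.adjoin P.Core T)))
      (MvPolynomial (Fin n) C)) := by
    intro v i
    rw [MvPolynomial.algebraMap_def]
    refine (MvPolynomial.mem_range_map_iff_coeffs_subset
      (f := algebraMap (P.ModelOfHasCoeffs (Algebra.adjoin P.Core T)) C)).2 ?_
    intro c hcc
    refine hc c ?_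
    exact Finset.mem_biUnion.2 ⟨v.1, v.2, Finset.mem_biUnion.2 ⟨i, Finset.mem_univ _, hcc⟩⟩
  choose v₀ hv₀ using hv
  have hvv : ∀ v : s, mapVec (B := MvPolynomial (Fin n) C) b (v₀ v) = v.1 := by
    intro v
    ext1 i
    exact hv₀ v i
  have hK : Submodule.span (MvPolynomial (Fin n) C)
      (Set.range fun j => mapVec (B := MvPolynomial (Fin n) C) b (v₀ j)) = K := by
    rw [← hs]
    congr 1
    ext w
    constructor
    · rintro ⟨v, rfl⟩
      change mapVec (B := MvPolynomial (Fin n) C) b (v₀ v) ∈ (s : Set (Fin b → MvPolynomial (Fin n) C))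
      rw [hvv v]
      exact v.2
    · intro hw
      exact ⟨⟨w, hw⟩, hvv ⟨w, hw⟩⟩
  obtain ⟨MA, i1, i2, i3, i4, i5, ⟨e₀⟩⟩ := exists_presented_model
    (A := Algebra.adjoin P.Core T)
    (D_A := MvPolynomial (Fin n) (P.ModelOfHasCoeffs (Algebra.adjoin P.Core T)))
    (D := MvPolynomial (Fin n) C) b v₀
  let e' : ((Fin b → MvPolynomial (Fin n) C) ⧸ Submodule.span (MvPolynomial (Fin n) C)
      (Set.range fun j => mapVec (B := MvPolynomial (Fin n) C) b (v₀ j)))
      ≃ₗ[MvPolynomial (Fin n) C] M' :=
    Submodule.quotEquivOfEq _ _ hK ≪≫ₗ eM.symm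
  exact ⟨Algebra.adjoin P.Core T, inferInstance, inferInstance,
    P.ModelOfHasCoeffs (Algebra.adjoin P.Core T), inferInstance, inferInstance, inferInstance,
    inferInstance, inferInstance, inferInstance,
    MA, i1, i2, i3, i4,
    h3, inferInstance, i5, inferInstance, ⟨e₀ ≪≫ₗ e'⟩⟩

end Model

end Groth.Agent.Lib.Helper21.FlatDesc
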