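import Mathlib
import Groth.Agent.Lib.Helper21.FlatDescX

/-!
# Helper21 — FlatDescY: the fibre criterion of flatness, polynomial core (non-Noetherian)

* `flat_localized_of_stage`: from a Noetherian local stage.
* `flat_localized_of_flat_fibre`: `R` local, `C` f.p. over `R`, `M'` f.p. over `C[Z]`, `R`-flat with
  `M'/mM'` flat over `C/mC` ⇒ `M'` flat over `C` at primes over `m` (EGA IV 11.3.10, Stacks 00R7).
-/

namespace Groth.Agent.Lib.Helper21.FlatDesc

open TensorProduct Function IsLocalRing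

universe u

section RMdef

variable (A A'' C_A : Type u) [CommRing A] [CommRing A''] [CommRing C_A] [Algebra A A'']
  [Algebra A C_A] (n : ℕ) (M_A : Type u) [AddCommGroup M_A] [Module (MvPolynomial (Fin n) C_A) M_A]

attribute [local instance] Algebra.TensorProduct.rightAlgebra
attribute [local instance] MvPolynomial.algebraMvPolynomial

/-- the restaged module over `(A'' ⊗ C_A)[Z]`. -/
abbrev RM : Type u :=
  MvPolynomial (Fin n) (A'' ⊗[A] C_A) ⊗[MvPolynomial (Fin n) C_A] M_A

end RMdef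

section Core

attribute [local instance] Algebra.TensorProduct.rightAlgebra
attribute [local instance] MvPolynomial.algebraMvPolynomial

set_option maxHeartbeats 1600000 in
set_option synthInstance.maxHeartbeats 200000 in
/-- the fibre criterion from a Noetherian local stage `A → R₂ → R` over which the module is flat. -/
theorem flat_localized_of_stage (R : Type u) [CommRing R] [IsLocalRing R]
    (C : Type u) [CommRing C] [Algebra R C] (n : ℕ)
    (M' : Type u) [AddCommGroup M'] [Module (MvPolynomial (Fin n) C) M'] [Module C M']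
    [IsScalarTower C (MvPolynomial (Fin n) C) M']
    [Module.Flat (C ⧸ (maximalIdeal R).map (algebraMap R C))
      ((C ⧸ (maximalIdeal R).map (algebraMap R C)) ⊗[C] M')]
    (Q : Ideal (MvPolynomial (Fin n) C)) [Q.IsPrime]
    (hQ : maximalIdeal R ≤ Q.comap (algebraMap R (MvPolynomial (Fin n) C)))
    (A : Type u) [CommRing A] [Algebra A R] (R₂ : Type u) [CommRing R₂] [IsLocalRing R₂]
    [IsNoetherianRing R₂] [Algebra A R₂]
    [Algebra R₂ R] [IsScalarTower A R₂ R]
    (hle : maximalIdeal R₂ ≤ (maximalIdeal R).comap (algebraMap R₂ R))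
    (C_A : Type u) [CommRing C_A] [Algebra A C_A] [Algebra.FiniteType A C_A] [Algebra C_A C]
    [Algebra A C] [IsScalarTower A R C] [IsScalarTower A C_A C] [Algebra.IsPushout A R C_A C]
    (M_A : Type u) [AddCommGroup M_A] [Module (MvPolynomial (Fin n) C_A) M_A] [Module A M_A]
    [IsScalarTower A (MvPolynomial (Fin n) C_A) M_A] [Module.Finite (MvPolynomial (Fin n) C_A) M_A]
    [Module.Flat R₂ (R₂ ⊗[A] M_A)]
    (e₀ : MvPolynomial (Fin n) C ⊗[MvPolynomial (Fin n) C_A] M_A ≃ₗ[MvPolynomial (Fin n) C] M') :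
    Module.Flat C (LocalizedModule Q.primeCompl M') := by
  letI aR₂C : Algebra R₂ C := ((algebraMap R C).comp (algebraMap R₂ R)).toAlgebra
  haveI t1 : IsScalarTower R₂ R C := IsScalarTower.of_algebraMap_eq fun _ => rfl
  haveI t2 : IsScalarTower A R₂ C := IsScalarTower.of_algebraMap_eq fun a => by
    rw [IsScalarTower.algebraMap_apply R₂ R C, ← IsScalarTower.algebraMap_apply A R₂ R,
      ← IsScalarTower.algebraMap_apply A R C]
  letI aC₂C : Algebra (R₂ ⊗[A] C_A) C := restageAlgebra A R₂ C_A C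
  haveI hpo₂ : Algebra.IsPushout R₂ R (R₂ ⊗[A] C_A) C := restage_isPushout A R₂ R C_A C
  -- the stage module
  haveI : Algebra.FiniteType R₂ (R₂ ⊗[A] C_A) := inferInstance
  haveI : IsNoetherianRing (R₂ ⊗[A] C_A) := Algebra.FiniteType.isNoetherianRing R₂ _
  haveI : IsNoetherianRing (MvPolynomial (Fin n) (R₂ ⊗[A] C_A)) := inferInstance
  haveI hpo₃ : Algebra.IsPushout A R₂ (MvPolynomial (Fin n) C_A)
      (MvPolynomial (Fin n) (R₂ ⊗[A] C_A)) := isPushout_mvPolynomial A R₂ C_A (R₂ ⊗[A] C_A)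
  let e₂ : RM A R₂ C_A n M_A ≃ₗ[R₂] R₂ ⊗[A] M_A :=
    Algebra.IsPushout.cancelBaseChange A R₂ (MvPolynomial (Fin n) C_A)
      (MvPolynomial (Fin n) (R₂ ⊗[A] C_A)) M_A
  haveI : Module.Flat R₂ (RM A R₂ C_A n M_A) := Module.Flat.of_linearEquiv e₂
  -- the comparison with `M'`
  let e₄ : MvPolynomial (Fin n) C ⊗[MvPolynomial (Fin n) (R₂ ⊗[A] C_A)] RM A R₂ C_A n M_A
      ≃ₗ[MvPolynomial (Fin n) C] M' :=
    (AlgebraTensorModule.cancelBaseChange (MvPolynomial (Fin n) C_A)
      (MvPolynomial (Fin n) (R₂ ⊗[A] C_A)) (MvPolynomial (Fin n) C) (MvPolynomial (Fin n) C) M_A)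
      ≪≫ₗ e₀
  let e₅ : MvPolynomial (Fin n) C ⊗[MvPolynomial (Fin n) (R₂ ⊗[A] C_A)] RM A R₂ C_A n M_A
      ≃ₗ[C] C ⊗[R₂ ⊗[A] C_A] RM A R₂ C_A n M_A :=
    Algebra.IsPushout.cancelBaseChange (R₂ ⊗[A] C_A) C (MvPolynomial (Fin n) (R₂ ⊗[A] C_A))
      (MvPolynomial (Fin n) C) (RM A R₂ C_A n M_A)
  let e₆ : C ⊗[R₂ ⊗[A] C_A] RM A R₂ C_A n M_A ≃ₗ[C] M' := e₅.symm ≪≫ₗ e₄.restrictScalars C
  -- descent of the fibre hypothesis
  haveI hfib₂ : Module.Flat ((R₂ ⊗[A] C_A) ⧸ (maximalIdeal R₂).map (algebraMap R₂ (R₂ ⊗[A] C_A)))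
      (((R₂ ⊗[A] C_A) ⧸ (maximalIdeal R₂).map (algebraMap R₂ (R₂ ⊗[A] C_A))) ⊗[R₂ ⊗[A] C_A]
        RM A R₂ C_A n M_A) :=
    flat_fibre_descent (R₂ := R₂) (R := R) (C₂ := R₂ ⊗[A] C_A) (C := C) (maximalIdeal R₂)
      (maximalIdeal R) hle (RM A R₂ C_A n M_A) M' e₆
  -- the Noetherian fibre criterion at the contracted prime
  have hQ₂ : maximalIdeal R₂ ≤ (Q.comap (algebraMap (MvPolynomial (Fin n) (R₂ ⊗[A] C_A))
      (MvPolynomial (Fin n) C))).comap (algebraMap R₂ (MvPolynomial (Fin n) (R₂ ⊗[A] C_A))) := by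
    intro x hx
    rw [Ideal.mem_comap, Ideal.mem_comap, ← IsScalarTower.algebraMap_apply,
      IsScalarTower.algebraMap_apply R₂ R (MvPolynomial (Fin n) C)]
    exact hQ (hle hx)
  haveI hfl₂ : Module.Flat (R₂ ⊗[A] C_A) (LocalizedModule
      (Q.comap (algebraMap (MvPolynomial (Fin n) (R₂ ⊗[A] C_A))
        (MvPolynomial (Fin n) C))).primeCompl (RM A R₂ C_A n M_A)) :=
    flat_localized_of_flat_fibre_noeth (R₂ := R₂) (C₂ := R₂ ⊗[A] C_A)
      (D₂ := MvPolynomial (Fin n) (R₂ ⊗[A] C_A)) (RM A R₂ C_A n M_A) (maximalIdeal R₂)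
      (Q.comap (algebraMap (MvPolynomial (Fin n) (R₂ ⊗[A] C_A)) (MvPolynomial (Fin n) C))) hQ₂
  -- ascent
  exact flat_localized_of_isPushout (A' := R₂ ⊗[A] C_A) (A := C)
    (B' := MvPolynomial (Fin n) (R₂ ⊗[A] C_A)) (B := MvPolynomial (Fin n) C)
    (RM A R₂ C_A n M_A) Q e₄

end Core

section Main

attribute [local instance] Algebra.TensorProduct.rightAlgebra
attribute [local instance] MvPolynomial.algebraMvPolynomial
attribute [local instance] stageAlgebra

set_option maxHeartbeats 1600000 in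
set_option synthInstance.maxHeartbeats 200000 in
/-- **Fibre criterion of flatness, polynomial core** (EGA IV 11.3.10, Stacks 00R7): `R` local, `C` a
finitely presented `R`-algebra, `M'` a finitely presented `C[Z]`-module which is flat over `R` and
whose closed fibre `M' / m M'` is flat over `C / m C`. Then `M'` is flat over `C` at every prime of
`C[Z]` over the closed point of `R`. -/
theorem flat_localized_of_flat_fibre (R : Type u) [CommRing R] [IsLocalRing R]
    (C : Type u) [CommRing C] [Algebra R C] [Algebra.FinitePresentation R C] (n : ℕ)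
    (M' : Type u) [AddCommGroup M'] [Module (MvPolynomial (Fin n) C) M'] [Module C M'] [Module R M']
    [IsScalarTower C (MvPolynomial (Fin n) C) M'] [IsScalarTower R (MvPolynomial (Fin n) C) M']
    [Module.FinitePresentation (MvPolynomial (Fin n) C) M'] [Module.Flat R M']
    [Module.Flat (C ⧸ (maximalIdeal R).map (algebraMap R C))
      ((C ⧸ (maximalIdeal R).map (algebraMap R C)) ⊗[C] M')]
    (Q : Ideal (MvPolynomial (Fin n) C)) [Q.IsPrime]
    (hQ : maximalIdeal R ≤ Q.comap (algebraMap R (MvPolynomial (Fin n) C))) :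
    Module.Flat C (LocalizedModule Q.primeCompl M') := by
  obtain ⟨A, _, _, C_A, _, _, _, _, _, _, M_A, _, _, _, _, hftA, hftC, hfin, hpo, ⟨e₀⟩⟩ :=
    exists_fg_polyModule_model R C n M'
  haveI := hpo
  haveI : IsNoetherianRing A := Algebra.FiniteType.isNoetherianRing ℤ A
  haveI hpoD : Algebra.IsPushout A R (MvPolynomial (Fin n) C_A) (MvPolynomial (Fin n) C) :=
    isPushout_mvPolynomial A R C_A C
  let e₁ : MvPolynomial (Fin n) C ⊗[MvPolynomial (Fin n) C_A] M_A ≃ₗ[R] R ⊗[A] M_A :=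
    Algebra.IsPushout.cancelBaseChange A R (MvPolynomial (Fin n) C_A) (MvPolynomial (Fin n) C) M_A
  haveI : Module.Flat R (R ⊗[A] M_A) :=
    Module.Flat.of_linearEquiv (e₁.symm ≪≫ₗ e₀.restrictScalars R)
  haveI : Algebra.FiniteType A (MvPolynomial (Fin n) C_A) :=
    Algebra.FiniteType.trans hftC inferInstance
  obtain ⟨A', hfg, hflat⟩ := exists_fg_flat_baseChange (R₁ := A)
    (S₁ := MvPolynomial (Fin n) C_A) M_A R
  haveI : Algebra.FiniteType A A' := (Subalgebra.fg_iff_finiteType A').1 hfg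
  haveI : IsNoetherianRing A' := Algebra.FiniteType.isNoetherianRing A A'
  haveI : IsNoetherianRing (Localization.AtPrime (stagePrime A' R)) :=
    IsLocalization.isNoetherianRing (stagePrime A' R).primeCompl _ inferInstance
  haveI tA : IsScalarTower A (Localization.AtPrime (stagePrime A' R)) R :=
    IsScalarTower.of_algebraMap_eq fun a => by
      rw [IsScalarTower.algebraMap_apply A A' (Localization.AtPrime (stagePrime A' R)),
        ← IsScalarTower.algebraMap_apply A' (Localization.AtPrime (stagePrime A' R)) R,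
        ← IsScalarTower.algebraMap_apply A A' R]
  let e₃ : (Localization.AtPrime (stagePrime A' R)) ⊗[A'] (A' ⊗[A] M_A)
      ≃ₗ[Localization.AtPrime (stagePrime A' R)] (Localization.AtPrime (stagePrime A' R)) ⊗[A] M_A :=
    AlgebraTensorModule.cancelBaseChange A A' (Localization.AtPrime (stagePrime A' R))
      (Localization.AtPrime (stagePrime A' R)) M_A
  haveI : Module.Flat (Localization.AtPrime (stagePrime A' R))
      ((Localization.AtPrime (stagePrime A' R)) ⊗[A] M_A) := Module.Flat.of_linearEquiv e₃.symm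
  exact flat_localized_of_stage R C n M' Q hQ A (Localization.AtPrime (stagePrime A' R))
    (maximalIdeal_le_comap_stage A' R) C_A M_A e₀

end Main

end Groth.Agent.Lib.Helper21.FlatDesc
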