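import Mathlib
import Groth.Agent.Lib.Helper21.FlatDescY
import Groth.Agent.Lib.Helper21.FlatDescM

/-!
# Helper21 — FlatDescZ: glue lemmas for the fibre criterion

* `isLocalization_atPrime_of_isLocalRing`, `exists_fp_module_model`,
  `nonempty_localizedModule_away_equiv`, `isLocalizedModule_lTensor`,
  `exists_notMem_forall_flat`, `exists_notMem_forall_flat_fibre`.
-/

namespace Groth.Agent.Lib.Helper21.FlatDesc

open TensorProduct Function IsLocalRing

universe u


section Z1

variable {B S' : Type u} [CommRing B] [CommRing S'] [Algebra B S'] [IsLocalRing S']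

/-- A local ring which is a localization of `B` is the localization at the contracted prime. -/
theorem isLocalization_atPrime_of_isLocalRing (T : Submonoid B) [IsLocalization T S'] :
    IsLocalization.AtPrime S' ((maximalIdeal S').comap (algebraMap B S')) := by
  refine IsLocalization.of_le (M := T) (S := S') _ ?_ ?_
  · intro x hx hmem
    change algebraMap B S' x ∈ maximalIdeal S' at hmem
    exact (IsLocalRing.mem_maximalIdeal _).1 hmem (IsLocalization.map_units S' ⟨x, hx⟩)
  · intro r hr
    by_contra h
    exact hr ((Ideal.mem_comap).2 ((IsLocalRing.mem_maximalIdeal _).2 h))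

end Z1



section Z2

open Groth.Agent.Lib.Helper29.FPModel

/-- **A finitely presented module over a localization `S'` of `B` is the base change of a finitely
presented `B`-module.** -/
theorem exists_fp_module_model {B S' : Type u} [CommRing B] [CommRing S'] [Algebra B S']
    (T : Submonoid B) [IsLocalization T S'] (M : Type u) [AddCommGroup M] [Module S' M]
    [Module B M] [IsScalarTower B S' M] [Module.FinitePresentation S' M] :
    ∃ (M₁ : Type u) (_ : AddCommGroup M₁) (_ : Module B M₁) (g : M₁ →ₗ[B] M),
      Module.FinitePresentation B M₁ ∧ IsBaseChange S' g := by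
  classical
  obtain ⟨b, K, eM, ⟨s, hs⟩⟩ := Module.FinitePresentation.exists_fin S' M
  obtain ⟨u, hu⟩ := IsLocalization.exist_integer_multiples_of_finite T
    (fun vi : s × Fin b => (vi.1 : Fin b → S') vi.2)
  choose a ha using hu
  let v₀ : s → Fin b → B := fun v i => a (v, i)
  have huu : IsUnit (algebraMap B S' u) := IsLocalization.map_units S' u
  have hvv : ∀ v : s, mapVec (B := S') b (v₀ v) = (algebraMap B S' u) • v.1 := by
    intro v
    ext1 i
    show algebraMap B S' (a (v, i)) = _
    rw [ha (v, i), Algebra.smul_def]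
    rfl
  have hK : Submodule.span S' (Set.range fun j => mapVec (B := S') b (v₀ j)) = K := by
    rw [← hs]
    apply le_antisymm
    · rw [Submodule.span_le]
      rintro _ ⟨v, rfl⟩
      show mapVec (B := S') b (v₀ v) ∈ Submodule.span S' (s : Set (Fin b → S'))
      rw [hvv v]
      exact Submodule.smul_mem _ _ (Submodule.subset_span v.2)
    · rw [Submodule.span_le]
      intro w hw
      have h1 : mapVec (B := S') b (v₀ ⟨w, hw⟩) ∈
          Submodule.span S' (Set.range fun j => mapVec (B := S') b (v₀ j)) :=
        Submodule.subset_span ⟨⟨w, hw⟩, rfl⟩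
      rw [hvv ⟨w, hw⟩] at h1
      have h2 := Submodule.smul_mem _ (↑huu.unit⁻¹ : S') h1
      rwa [smul_smul, IsUnit.val_inv_mul, one_smul] at h2
  have hbc := isBaseChange_quotMap (B := S') b v₀
  let e' : ((Fin b → S') ⧸ Submodule.span S' (Set.range fun j => mapVec (B := S') b (v₀ j)))
      ≃ₗ[S'] M := Submodule.quotEquivOfEq _ _ hK ≪≫ₗ eM.symm
  refine ⟨(Fin b → B) ⧸ Submodule.span B (Set.range v₀), inferInstance, inferInstance,
    (e'.toLinearMap.restrictScalars B) ∘ₗ quotMap (B := S') b v₀, ?_, ?_⟩
  · refine Module.finitePresentation_of_surjective (Submodule.mkQ _) (Submodule.mkQ_surjective _) ?_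
    rw [Submodule.ker_mkQ]
    exact Submodule.fg_span (Set.finite_range v₀)
  · exact IsBaseChange.of_equiv (hbc.equiv ≪≫ₗ e') (fun x => by simp [IsBaseChange.equiv_tmul])

end Z2



section AwayStep

variable {B : Type u} [CommRing B] (c : B) (N : Type u) [AddCommGroup N] [Module B N]

/-- localizing at a prime of `B_c` after inverting `c` is localizing at the contracted prime. -/
theorem nonempty_localizedModule_away_equiv (p : Ideal (Localization.Away c)) [p.IsPrime] :
    Nonempty (LocalizedModule (p.comap (algebraMap B (Localization.Away c))).primeCompl N ≃ₗ[B]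
      LocalizedModule p.primeCompl (LocalizedModule (Submonoid.powers c) N)) := by
  let f₁ : N →ₗ[B] LocalizedModule (Submonoid.powers c) N :=
    LocalizedModule.mkLinearMap (Submonoid.powers c) N
  let f₂ : LocalizedModule (Submonoid.powers c) N →ₗ[Localization.Away c]
      LocalizedModule p.primeCompl (LocalizedModule (Submonoid.powers c) N) :=
    LocalizedModule.mkLinearMap p.primeCompl _
  have h1 : IsBaseChange (Localization.Away c) f₁ :=
    IsLocalizedModule.isBaseChange (Submonoid.powers c) (Localization.Away c) f₁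
  have h2 : IsBaseChange (Localization.AtPrime p) f₂ :=
    IsLocalizedModule.isBaseChange p.primeCompl (Localization.AtPrime p) f₂
  have h3 : IsBaseChange (Localization.AtPrime p) ((f₂.restrictScalars B) ∘ₗ f₁) :=
    IsBaseChange.comp h1 h2
  haveI : IsLocalizedModule (p.comap (algebraMap B (Localization.Away c))).primeCompl
      ((f₂.restrictScalars B) ∘ₗ f₁) :=
    (isLocalizedModule_iff_isBaseChange
      (p.comap (algebraMap B (Localization.Away c))).primeCompl (Localization.AtPrime p) _).2 h3
  exact ⟨IsLocalizedModule.linearEquiv (p.comap (algebraMap B (Localization.Away c))).primeCompl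
    (LocalizedModule.mkLinearMap _ N) ((f₂.restrictScalars B) ∘ₗ f₁)⟩

end AwayStep



section LTensorLoc

variable {B' B : Type u} [CommRing B'] [CommRing B] [Algebra B' B]
  {M' M'' : Type u} [AddCommGroup M'] [Module B' M'] [AddCommGroup M''] [Module B' M'']

/-- base change of a localization map is a localization map (at the image submonoid). -/
theorem isLocalizedModule_lTensor (T : Submonoid B') (g : M' →ₗ[B'] M'') [IsLocalizedModule T g] :
    IsLocalizedModule (Algebra.algebraMapSubmonoid B T)
      (AlgebraTensorModule.lTensor B B g : B ⊗[B'] M' →ₗ[B] B ⊗[B'] M'') := by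
  have hf2 : (AlgebraTensorModule.lTensor B B g : B ⊗[B'] M' →ₗ[B] B ⊗[B'] M'').restrictScalars B' =
      (TensorProduct.comm B' M'' B).toLinearMap ∘ₗ
        (AlgebraTensorModule.rTensor B' B g) ∘ₗ
        (TensorProduct.comm B' B M').toLinearMap := by
    ext x m
    simp
  haveI : IsLocalizedModule T
      ((AlgebraTensorModule.lTensor B B g : B ⊗[B'] M' →ₗ[B] B ⊗[B'] M'').restrictScalars B') := by
    rw [hf2]
    infer_instance
  exact IsLocalizedModule.of_restrictScalars T _

end LTensorLoc

section Z3

/-- pointwise shrinking to the flat locus. -/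
theorem exists_notMem_forall_flat {A B N : Type u} [CommRing A] [CommRing B]
    [Algebra A B] [Algebra.FinitePresentation A B] [AddCommGroup N] [Module B N] [Module A N]
    [IsScalarTower A B N] [Module.FinitePresentation B N] (q : Ideal B) [q.IsPrime]
    [Module.Flat A (LocalizedModule q.primeCompl N)] :
    ∃ c : B, c ∉ q ∧ ∀ (Q : Ideal B) [Q.IsPrime], c ∉ Q →
      Module.Flat A (LocalizedModule Q.primeCompl N) := by
  have hopen := isOpen_flatLocus_of_finitePresentation (R := A) (S := B) (M := N)
  have hq : (⟨q, inferInstance⟩ : PrimeSpectrum B) ∈ {q : PrimeSpectrum B |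
      Module.Flat A (LocalizedModule q.asIdeal.primeCompl N)} := by
    show Module.Flat A (LocalizedModule q.primeCompl N)
    infer_instance
  obtain ⟨_, ⟨_, ⟨c, rfl⟩, rfl⟩, hmem, hsub⟩ :=
    PrimeSpectrum.isBasis_basic_opens.exists_subset_of_mem_open hq hopen
  refine ⟨c, hmem, fun Q _ hQ => ?_⟩
  exact hsub (show (⟨Q, inferInstance⟩ : PrimeSpectrum B) ∈ (PrimeSpectrum.basicOpen c : Set _) from hQ)

end Z3

section FibreShrink

set_option maxHeartbeats 1600000 in
set_option synthInstance.maxHeartbeats 200000 in
/-- shrinking to the locus where the fibre module is flat over the fibre ring. -/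
theorem exists_notMem_forall_flat_fibre {C : Type u} [CommRing C] (I : Ideal C)
    (C' : Type u) [CommRing C'] [Algebra C C'] [Algebra.FinitePresentation C C']
    (N : Type u) [AddCommGroup N] [Module C' N] [Module C N] [IsScalarTower C C' N]
    [Module.FinitePresentation C' N] (q' : Ideal C') [q'.IsPrime]
    (hIq : I.map (algebraMap C C') ≤ q')
    [Module.Flat (C ⧸ I) ((C ⧸ I) ⊗[C] LocalizedModule q'.primeCompl N)] :
    ∃ c : C', c ∉ q' ∧ ∀ d : C',
      Module.Flat (C ⧸ I) ((C ⧸ I) ⊗[C] LocalizedModule (Submonoid.powers (c * d)) N) := by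
  haveI hpo : Algebra.IsPushout C (C ⧸ I) C' (C' ⧸ I.map (algebraMap C C')) :=
    isPushout_quotient C' I
  haveI : Algebra.FinitePresentation (C ⧸ I) (C' ⧸ I.map (algebraMap C C')) :=
    Algebra.FinitePresentation.equiv (Algebra.IsPushout.equiv C (C ⧸ I) C'
      (C' ⧸ I.map (algebraMap C C')))
  have hker : RingHom.ker (Ideal.Quotient.mk (I.map (algebraMap C C'))) ≤ q' := by
    rw [Ideal.mk_ker]; exact hIq
  haveI hprime : (q'.map (Ideal.Quotient.mk (I.map (algebraMap C C')))).IsPrime :=
    Ideal.map_isPrime_of_surjective Ideal.Quotient.mk_surjective hker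
  have hcomap : ∀ y : C', Ideal.Quotient.mk (I.map (algebraMap C C')) y ∈
      q'.map (Ideal.Quotient.mk (I.map (algebraMap C C'))) → y ∈ q' := by
    intro y hy
    have : y ∈ (q'.map (Ideal.Quotient.mk (I.map (algebraMap C C')))).comap
        (Ideal.Quotient.mk (I.map (algebraMap C C'))) := hy
    rwa [Ideal.comap_map_of_surjective _ Ideal.Quotient.mk_surjective, ← RingHom.ker_eq_comap_bot,
      sup_eq_left.2 hker] at this
  -- flatness at the image prime
  let g : N →ₗ[C'] LocalizedModule q'.primeCompl N := LocalizedModule.mkLinearMap q'.primeCompl N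
  let f2 : (C' ⧸ I.map (algebraMap C C')) ⊗[C'] N →ₗ[C' ⧸ I.map (algebraMap C C')]
      (C' ⧸ I.map (algebraMap C C')) ⊗[C'] LocalizedModule q'.primeCompl N :=
    AlgebraTensorModule.lTensor _ _ g
  haveI : IsLocalizedModule (Algebra.algebraMapSubmonoid (C' ⧸ I.map (algebraMap C C'))
      q'.primeCompl) f2 := isLocalizedModule_lTensor q'.primeCompl g
  haveI : Module.Flat (C ⧸ I)
      ((C' ⧸ I.map (algebraMap C C')) ⊗[C'] LocalizedModule q'.primeCompl N) :=
    Module.Flat.of_linearEquiv (Algebra.IsPushout.cancelBaseChange C (C ⧸ I) C'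
      (C' ⧸ I.map (algebraMap C C')) (LocalizedModule q'.primeCompl N))
  haveI hflq : Module.Flat (C ⧸ I) (LocalizedModule
      (q'.map (Ideal.Quotient.mk (I.map (algebraMap C C')))).primeCompl
      ((C' ⧸ I.map (algebraMap C C')) ⊗[C'] N)) := by
    refine FlatOpen.flat_of_le (A' := C ⧸ I)
      (Algebra.algebraMapSubmonoid (C' ⧸ I.map (algebraMap C C')) q'.primeCompl)
      (q'.map (Ideal.Quotient.mk (I.map (algebraMap C C')))).primeCompl ?_ f2
      (LocalizedModule.mkLinearMap _ _)
    rintro _ ⟨y, hy, rfl⟩ hmem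
    exact hy (hcomap y hmem)
  obtain ⟨cbar, hcbar, Hc⟩ := exists_notMem_forall_flat (A := C ⧸ I)
    (B := C' ⧸ I.map (algebraMap C C')) (N := (C' ⧸ I.map (algebraMap C C')) ⊗[C'] N)
    (q'.map (Ideal.Quotient.mk (I.map (algebraMap C C'))))
  obtain ⟨c, rfl⟩ := Ideal.Quotient.mk_surjective cbar
  refine ⟨c, fun hc => hcbar (Ideal.mem_map_of_mem _ hc), fun d => ?_⟩
  -- the localization at `T = powers (c d)`
  have hflT : Module.Flat (C ⧸ I) (LocalizedModule
      (Algebra.algebraMapSubmonoid (C' ⧸ I.map (algebraMap C C')) (Submonoid.powers (c * d)))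
      ((C' ⧸ I.map (algebraMap C C')) ⊗[C'] N)) := by
    refine flat_localizedModule_of_forall_prime (A := C ⧸ I) (C := C' ⧸ I.map (algebraMap C C'))
      ((C' ⧸ I.map (algebraMap C C')) ⊗[C'] N) _ fun Q _ hdisj => Hc Q ?_
    intro hcQ
    have hmemQ : Ideal.Quotient.mk (I.map (algebraMap C C')) (c * d) ∈ (Q : Set _) := by
      rw [map_mul]
      exact Ideal.mul_mem_right _ _ hcQ
    exact Set.disjoint_left.mp hdisj hmemQ ⟨c * d, Submonoid.mem_powers _, rfl⟩
  let gT : N →ₗ[C'] LocalizedModule (Submonoid.powers (c * d)) N :=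
    LocalizedModule.mkLinearMap (Submonoid.powers (c * d)) N
  let f2T : (C' ⧸ I.map (algebraMap C C')) ⊗[C'] N →ₗ[C' ⧸ I.map (algebraMap C C')]
      (C' ⧸ I.map (algebraMap C C')) ⊗[C'] LocalizedModule (Submonoid.powers (c * d)) N :=
    AlgebraTensorModule.lTensor _ _ gT
  haveI : IsLocalizedModule (Algebra.algebraMapSubmonoid (C' ⧸ I.map (algebraMap C C'))
      (Submonoid.powers (c * d))) f2T := isLocalizedModule_lTensor (Submonoid.powers (c * d)) gT
  let eT := IsLocalizedModule.linearEquiv
    (Algebra.algebraMapSubmonoid (C' ⧸ I.map (algebraMap C C')) (Submonoid.powers (c * d)))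
    (LocalizedModule.mkLinearMap
      (Algebra.algebraMapSubmonoid (C' ⧸ I.map (algebraMap C C')) (Submonoid.powers (c * d)))
      ((C' ⧸ I.map (algebraMap C C')) ⊗[C'] N)) f2T
  haveI := hflT
  haveI : Module.Flat (C ⧸ I)
      ((C' ⧸ I.map (algebraMap C C')) ⊗[C'] LocalizedModule (Submonoid.powers (c * d)) N) :=
    Module.Flat.of_linearEquiv (eT.symm.restrictScalars (C ⧸ I))
  exact Module.Flat.of_linearEquiv (Algebra.IsPushout.cancelBaseChange C (C ⧸ I) C'
      (C' ⧸ I.map (algebraMap C C')) (LocalizedModule (Submonoid.powers (c * d)) N)).symm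

end FibreShrink

end Groth.Agent.Lib.Helper21.FlatDesc
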