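import Mathlib
import Groth.Agent.Lib.Helper21.FlatDescZ

/-!
# Helper21 — FlatDescPF: the fibre criterion of flatness for finitely presented algebras (prime form)

`flat_localized_of_flat_fibre_fp`: `R` local, `C → C'` finitely presented `R`-algebras, `M₁` a finitely
presented `C'`-module, `q'` a prime of `C'` over the closed point of `R` with `(M₁)_{q'}` flat over
`R` and `(M₁)_{q'} / m` flat over `C / m C`; then `(M₁)_{q'}` is flat over `C`.
-/

namespace Groth.Agent.Lib.Helper21.FlatDesc

open TensorProduct Function IsLocalRing

universe u

section PF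

set_option maxHeartbeats 1600000 in
set_option synthInstance.maxHeartbeats 200000 in
/-- the fibre criterion after shrinking to a principal open where the hypotheses hold globally. -/
theorem flat_localized_of_flat_fibre_away (R : Type u) [CommRing R] [IsLocalRing R]
    (C : Type u) [CommRing C] [Algebra R C] [Algebra.FinitePresentation R C]
    (C' : Type u) [CommRing C'] [Algebra R C'] [Algebra C C'] [IsScalarTower R C C']
    [Algebra.FinitePresentation R C']
    (M₁ : Type u) [AddCommGroup M₁] [Module C' M₁] [Module C M₁] [Module R M₁]
    [IsScalarTower C C' M₁] [IsScalarTower R C' M₁] [IsScalarTower R C M₁]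
    [Module.FinitePresentation C' M₁] (q' : Ideal C') [q'.IsPrime]
    (hq' : maximalIdeal R ≤ q'.comap (algebraMap R C')) (c : C') (hcq : c ∉ q')
    [Module.Flat R (LocalizedModule (Submonoid.powers c) M₁)]
    [Module.Flat (C ⧸ (maximalIdeal R).map (algebraMap R C))
      ((C ⧸ (maximalIdeal R).map (algebraMap R C)) ⊗[C] LocalizedModule (Submonoid.powers c) M₁)] :
    Module.Flat C (LocalizedModule q'.primeCompl M₁) := by
  haveI : Algebra.FinitePresentation C' (Localization.Away c) :=
    IsLocalization.Away.finitePresentation c
  haveI : Algebra.FinitePresentation R (Localization.Away c) :=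
    Algebra.FinitePresentation.trans R C' (Localization.Away c)
  haveI : Algebra.FinitePresentation C (Localization.Away c) :=
    Algebra.FinitePresentation.of_restrict_scalars_finitePresentation R C (Localization.Away c)
  obtain ⟨n, f, hf, hker⟩ := Algebra.FinitePresentation.out (R := C) (A := Localization.Away c)
  letI aD : Algebra (MvPolynomial (Fin n) C) (Localization.Away c) := f.toRingHom.toAlgebra
  letI mD : Module (MvPolynomial (Fin n) C) (LocalizedModule (Submonoid.powers c) M₁) :=
    Module.compHom _ f.toRingHom
  haveI t1 : IsScalarTower (MvPolynomial (Fin n) C) (Localization.Away c)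
      (LocalizedModule (Submonoid.powers c) M₁) := IsScalarTower.of_algebraMap_smul fun _ _ => rfl
  haveI t2 : IsScalarTower C (MvPolynomial (Fin n) C) (Localization.Away c) :=
    IsScalarTower.of_algebraMap_eq fun r => (f.commutes r).symm
  haveI t3 : IsScalarTower C (MvPolynomial (Fin n) C) (LocalizedModule (Submonoid.powers c) M₁) :=
    ⟨fun r p m => by
      show f (r • p) • m = r • (f p • m)
      rw [map_smul, smul_assoc]⟩
  haveI t4 : IsScalarTower R (MvPolynomial (Fin n) C) (LocalizedModule (Submonoid.powers c) M₁) :=
    ⟨fun r p m => by
      rw [← algebraMap_smul C r p, ← algebraMap_smul C r (p • m), smul_assoc]⟩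
  haveI : Module.FinitePresentation (MvPolynomial (Fin n) C) (Localization.Away c) := by
    refine Module.finitePresentation_of_surjective
      (Algebra.linearMap (MvPolynomial (Fin n) C) (Localization.Away c)) hf ?_
    have : LinearMap.ker (Algebra.linearMap (MvPolynomial (Fin n) C) (Localization.Away c)) =
        RingHom.ker f.toRingHom := by
      ext x; rfl
    rw [this]; exact hker
  haveI : Module.FinitePresentation (MvPolynomial (Fin n) C)
      (LocalizedModule (Submonoid.powers c) M₁) :=
    Module.FinitePresentation.trans (MvPolynomial (Fin n) C)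
      (LocalizedModule (Submonoid.powers c) M₁) (Localization.Away c)
  -- the primes
  have hdisj : Disjoint (Submonoid.powers c : Set C') (q' : Set C') :=
    (Ideal.disjoint_powers_iff_notMem c (Ideal.IsPrime.isRadical ‹_›)).2 hcq
  haveI hq''prime : (q'.map (algebraMap C' (Localization.Away c))).IsPrime :=
    IsLocalization.isPrime_of_isPrime_disjoint (Submonoid.powers c) _ q' ‹_› hdisj
  have hcomap : (q'.map (algebraMap C' (Localization.Away c))).comap
      (algebraMap C' (Localization.Away c)) = q' :=
    IsLocalization.comap_map_of_isPrime_disjoint (Submonoid.powers c) _ ‹_› hdisj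
  have hQ : maximalIdeal R ≤ ((q'.map (algebraMap C' (Localization.Away c))).comap
      (algebraMap (MvPolynomial (Fin n) C) (Localization.Away c))).comap
      (algebraMap R (MvPolynomial (Fin n) C)) := by
    intro r hr
    rw [Ideal.mem_comap, Ideal.mem_comap]
    have h1 : algebraMap (MvPolynomial (Fin n) C) (Localization.Away c)
        (algebraMap R (MvPolynomial (Fin n) C) r) =
        algebraMap C' (Localization.Away c) (algebraMap R C' r) := by
      rw [IsScalarTower.algebraMap_apply R C (MvPolynomial (Fin n) C),
        ← IsScalarTower.algebraMap_apply C (MvPolynomial (Fin n) C) (Localization.Away c),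
        IsScalarTower.algebraMap_apply C C' (Localization.Away c),
        ← IsScalarTower.algebraMap_apply R C C']
    rw [h1]
    exact Ideal.mem_map_of_mem _ (hq' hr)
  have hcore := flat_localized_of_flat_fibre R C n (LocalizedModule (Submonoid.powers c) M₁)
    ((q'.map (algebraMap C' (Localization.Away c))).comap
      (algebraMap (MvPolynomial (Fin n) C) (Localization.Away c))) hQ
  have h2 : Module.Flat C (LocalizedModule (q'.map (algebraMap C' (Localization.Away c))).primeCompl
      (LocalizedModule (Submonoid.powers c) M₁)) :=
    (flat_localized_comap_iff (R := C) (P := MvPolynomial (Fin n) C) (S := Localization.Away c)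
      (M := LocalizedModule (Submonoid.powers c) M₁) hf
      (q'.map (algebraMap C' (Localization.Away c)))).2 hcore
  obtain ⟨e⟩ := nonempty_localizedModule_away_equiv c M₁
    (q'.map (algebraMap C' (Localization.Away c)))
  haveI := h2
  have h3 : Module.Flat C (LocalizedModule ((q'.map (algebraMap C' (Localization.Away c))).comap
      (algebraMap C' (Localization.Away c))).primeCompl M₁) :=
    Module.Flat.of_linearEquiv (e.restrictScalars C)
  have hS : ((q'.map (algebraMap C' (Localization.Away c))).comap
      (algebraMap C' (Localization.Away c))).primeCompl = q'.primeCompl := by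
    ext x
    show x ∉ _ ↔ x ∉ _
    rw [hcomap]
  rw [← hS]
  exact h3


set_option maxHeartbeats 1600000 in
set_option synthInstance.maxHeartbeats 200000 in
/-- **Fibre criterion of flatness, finitely presented form**: `R` local, `C → C'` a homomorphism of
finitely presented `R`-algebras, `M₁` a finitely presented `C'`-module, `q'` a prime of `C'` over the
closed point. If `(M₁)_{q'}` is `R`-flat and its closed fibre is flat over the closed fibre of `C`,
then `(M₁)_{q'}` is flat over `C`. -/
theorem flat_localized_of_flat_fibre_fp (R : Type u) [CommRing R] [IsLocalRing R]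
    (C : Type u) [CommRing C] [Algebra R C] [Algebra.FinitePresentation R C]
    (C' : Type u) [CommRing C'] [Algebra R C'] [Algebra C C'] [IsScalarTower R C C']
    [Algebra.FinitePresentation R C']
    (M₁ : Type u) [AddCommGroup M₁] [Module C' M₁] [Module C M₁] [Module R M₁]
    [IsScalarTower C C' M₁] [IsScalarTower R C' M₁] [IsScalarTower R C M₁]
    [Module.FinitePresentation C' M₁] (q' : Ideal C') [q'.IsPrime]
    (hq' : maximalIdeal R ≤ q'.comap (algebraMap R C'))
    [Module.Flat R (LocalizedModule q'.primeCompl M₁)]
    [Module.Flat (C ⧸ (maximalIdeal R).map (algebraMap R C))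
      ((C ⧸ (maximalIdeal R).map (algebraMap R C)) ⊗[C] LocalizedModule q'.primeCompl M₁)] :
    Module.Flat C (LocalizedModule q'.primeCompl M₁) := by
  haveI : Algebra.FinitePresentation C C' :=
    Algebra.FinitePresentation.of_restrict_scalars_finitePresentation R C C'
  obtain ⟨c₁, hc₁, H₁⟩ := exists_notMem_forall_flat (A := R) (B := C') (N := M₁) q'
  have hIq : ((maximalIdeal R).map (algebraMap R C)).map (algebraMap C C') ≤ q' := by
    rw [Ideal.map_map, ← IsScalarTower.algebraMap_eq, Ideal.map_le_iff_le_comap]
    exact hq'
  obtain ⟨c₂, hc₂, H₂⟩ := exists_notMem_forall_flat_fibre ((maximalIdeal R).map (algebraMap R C))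
    C' M₁ q' hIq
  have hcq : c₂ * c₁ ∉ q' := fun h => (Ideal.IsPrime.mem_or_mem ‹_› h).elim hc₂ hc₁
  haveI hflR : Module.Flat R (LocalizedModule (Submonoid.powers (c₂ * c₁)) M₁) := by
    refine flat_localizedModule_of_forall_prime (A := R) (C := C') M₁ _ fun Q _ hd => H₁ Q ?_
    intro hc
    exact Set.disjoint_left.mp hd (show c₂ * c₁ ∈ (Q : Set C') from Ideal.mul_mem_left _ _ hc)
      (Submonoid.mem_powers _)
  haveI hflF := H₂ c₁
  exact flat_localized_of_flat_fibre_away R C C' M₁ q' hq' (c₂ * c₁) hcq

end PF

end Groth.Agent.Lib.Helper21.FlatDesc
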