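import Mathlib
import Groth.Agent.Lib.Helper21.FlatDescPF

/-!
# Helper21 — FlatDescQ1: conversions between quotient and tensor forms of fibre flatness
-/

namespace Groth.Agent.Lib.Helper21.FlatDesc

open TensorProduct Function IsLocalRing

universe u

section Conv

/-- quotient form ⇒ tensor form. -/
theorem flat_quot_tensor_of_flat_quot_smul {S : Type u} [CommRing S] (J : Ideal S)
    (M : Type u) [AddCommGroup M] [Module S M]
    (h : Module.Flat (S ⧸ J) (M ⧸ J • (⊤ : Submodule S M))) :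
    Module.Flat (S ⧸ J) ((S ⧸ J) ⊗[S] M) := by
  haveI := h
  exact Module.Flat.of_linearEquiv
    ((TensorProduct.quotTensorEquivQuotSMul M J).extendScalarsOfSurjective
      Ideal.Quotient.mk_surjective)

/-- **Fibre flatness over a localization `S` of `S₀` gives fibre flatness over `S₀`.** -/
theorem flat_fibre_of_flat_fibre_flat {S₀ S : Type u} [CommRing S₀] [CommRing S] [Algebra S₀ S]
    [Module.Flat S₀ S] (I₀ : Ideal S₀) (M : Type u) [AddCommGroup M] [Module S M] [Module S₀ M]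
    [IsScalarTower S₀ S M]
    (h : Module.Flat (S ⧸ I₀.map (algebraMap S₀ S))
      (M ⧸ I₀.map (algebraMap S₀ S) • (⊤ : Submodule S M))) :
    Module.Flat (S₀ ⧸ I₀) ((S₀ ⧸ I₀) ⊗[S₀] M) := by
  haveI h1 : Module.Flat (S ⧸ I₀.map (algebraMap S₀ S)) ((S ⧸ I₀.map (algebraMap S₀ S)) ⊗[S] M) :=
    flat_quot_tensor_of_flat_quot_smul _ M h
  haveI hpo : Algebra.IsPushout S₀ (S₀ ⧸ I₀) S (S ⧸ I₀.map (algebraMap S₀ S)) :=
    isPushout_quotient S I₀
  haveI : Module.Flat (S₀ ⧸ I₀) (S ⧸ I₀.map (algebraMap S₀ S)) :=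
    Module.Flat.of_linearEquiv (Algebra.IsPushout.equiv S₀ (S₀ ⧸ I₀) S
      (S ⧸ I₀.map (algebraMap S₀ S))).symm.toLinearEquiv
  haveI : Module.Flat (S₀ ⧸ I₀) ((S ⧸ I₀.map (algebraMap S₀ S)) ⊗[S] M) :=
    Module.Flat.trans (S₀ ⧸ I₀) (S ⧸ I₀.map (algebraMap S₀ S)) _
  exact Module.Flat.of_linearEquiv (Algebra.IsPushout.cancelBaseChange S₀ (S₀ ⧸ I₀) S
    (S ⧸ I₀.map (algebraMap S₀ S)) M).symm

end Conv

end Groth.Agent.Lib.Helper21.FlatDesc
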