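import Mathlib
import Groth.Agent.Lib.Helper21.FlatDescQ1
import Groth.Agent.Lib.Helper2.SpreadOut

/-!
# Helper21 — FlatDescQ2: fibre criterion, essentially-finitely-presented target; spreading out;
module form of faithfully flat descent of flatness
-/

namespace Groth.Agent.Lib.Helper21.FlatDesc

open TensorProduct Function IsLocalRing

universe u

section LemA

set_option maxHeartbeats 1600000 in
set_option synthInstance.maxHeartbeats 200000 in
/-- **Fibre criterion, localized-target form.** `R` local; `C → C'` finitely presented `R`-algebras;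
`S'` a local ring which is a localization of `C'`, local over `R`; `M` a finitely presented
`S'`-module, flat over `R`, with `M/mM` flat over `C/mC`. Then `M` is flat over `C`. -/
theorem flat_of_flat_fibre_essFP (R : Type u) [CommRing R] [IsLocalRing R]
    (C : Type u) [CommRing C] [Algebra R C] [Algebra.FinitePresentation R C]
    (C' : Type u) [CommRing C'] [Algebra R C'] [Algebra C C'] [IsScalarTower R C C']
    [Algebra.FinitePresentation R C']
    (S' : Type u) [CommRing S'] [IsLocalRing S'] [Algebra C' S'] (T' : Submonoid C')
    [IsLocalization T' S'] [Algebra R S'] [IsScalarTower R C' S'] [IsLocalHom (algebraMap R S')]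
    (M : Type u) [AddCommGroup M] [Module S' M] [Module C' M] [Module C M] [Module R M]
    [IsScalarTower C' S' M] [IsScalarTower C C' M] [IsScalarTower R C' M] [IsScalarTower R C M]
    [Module.FinitePresentation S' M] [Module.Flat R M]
    [Module.Flat (C ⧸ (maximalIdeal R).map (algebraMap R C))
      ((C ⧸ (maximalIdeal R).map (algebraMap R C)) ⊗[C] M)] :
    Module.Flat C M := by
  haveI hAt : IsLocalization.AtPrime S' ((maximalIdeal S').comap (algebraMap C' S')) :=
    isLocalization_atPrime_of_isLocalRing T'
  obtain ⟨M₁, _, _, g, hfp, hbc⟩ := exists_fp_module_model (B := C') (S' := S') T' M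
  haveI := hfp
  haveI hloc : IsLocalizedModule ((maximalIdeal S').comap (algebraMap C' S')).primeCompl g :=
    (isLocalizedModule_iff_isBaseChange _ S' g).2 hbc
  letI mC : Module C M₁ := Module.compHom M₁ (algebraMap C C')
  letI mR : Module R M₁ := Module.compHom M₁ (algebraMap R C')
  haveI t1 : IsScalarTower C C' M₁ := IsScalarTower.of_algebraMap_smul fun _ _ => rfl
  haveI t2 : IsScalarTower R C' M₁ := IsScalarTower.of_algebraMap_smul fun _ _ => rfl
  haveI t3 : IsScalarTower R C M₁ := ⟨fun r c m => by
    show algebraMap C C' (r • c) • m = algebraMap R C' r • (algebraMap C C' c • m)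
    rw [Algebra.smul_def, map_mul, ← IsScalarTower.algebraMap_apply, mul_smul]⟩
  have hq' : maximalIdeal R ≤ ((maximalIdeal S').comap (algebraMap C' S')).comap
      (algebraMap R C') := by
    intro r hr
    rw [Ideal.mem_comap, Ideal.mem_comap, ← IsScalarTower.algebraMap_apply]
    exact ((isLocalHom_iff_comap_closedPoint (algebraMap R S')) |> fun _ =>
      (IsLocalRing.mem_maximalIdeal _).2 (fun hu => (IsLocalRing.mem_maximalIdeal _).1 hr
        (isUnit_of_map_unit (algebraMap R S') r hu)))
  let e : LocalizedModule ((maximalIdeal S').comap (algebraMap C' S')).primeCompl M₁ ≃ₗ[C'] M :=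
    IsLocalizedModule.iso ((maximalIdeal S').comap (algebraMap C' S')).primeCompl g
  haveI : Module.Flat R
      (LocalizedModule ((maximalIdeal S').comap (algebraMap C' S')).primeCompl M₁) :=
    Module.Flat.of_linearEquiv (e.restrictScalars R)
  haveI : Module.Flat (C ⧸ (maximalIdeal R).map (algebraMap R C))
      ((C ⧸ (maximalIdeal R).map (algebraMap R C)) ⊗[C]
        LocalizedModule ((maximalIdeal S').comap (algebraMap C' S')).primeCompl M₁) :=
    Module.Flat.of_linearEquiv
      (TensorProduct.AlgebraTensorModule.congr
        (LinearEquiv.refl (C ⧸ (maximalIdeal R).map (algebraMap R C))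
          (C ⧸ (maximalIdeal R).map (algebraMap R C))) (e.restrictScalars C))
  have h := flat_localized_of_flat_fibre_fp R C C' M₁
    ((maximalIdeal S').comap (algebraMap C' S')) hq'
  haveI := h
  exact Module.Flat.of_linearEquiv (e.restrictScalars C).symm

end LemA


section LemB

open Groth.Agent.Lib.Helper2.SpreadOut

/-- **Spreading out a map into a local localization.** -/
theorem exists_spread (R : Type u) [CommRing R]
    (S₀ : Type u) [CommRing S₀] [Algebra R S₀] [Algebra.FinitePresentation R S₀]
    (S'₀ : Type u) [CommRing S'₀] [Algebra R S'₀]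
    (S' : Type u) [CommRing S'] [IsLocalRing S'] [Algebra R S'] [Algebra S'₀ S']
    [IsScalarTower R S'₀ S'] (T' : Submonoid S'₀) [IsLocalization T' S'] (σ : S₀ →ₐ[R] S') :
    ∃ (t : S'₀) (φ : S₀ →ₐ[R] Localization.Away t) (ψ : Localization.Away t →ₐ[R] S'),
      ψ.comp φ = σ ∧ (∀ x, ψ (algebraMap S'₀ _ x) = algebraMap S'₀ S' x) ∧
      t ∉ (maximalIdeal S').comap (algebraMap S'₀ S') := by
  haveI hAt : IsLocalization.AtPrime S' ((maximalIdeal S').comap (algebraMap S'₀ S')) :=
    isLocalization_atPrime_of_isLocalRing T'
  let e : S' ≃ₐ[S'₀] Localization.AtPrime ((maximalIdeal S').comap (algebraMap S'₀ S')) :=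
    IsLocalization.algEquiv ((maximalIdeal S').comap (algebraMap S'₀ S')).primeCompl S' _
  let eR : S' ≃ₐ[R] Localization.AtPrime ((maximalIdeal S').comap (algebraMap S'₀ S')) :=
    e.restrictScalars R
  obtain ⟨t, ht, φt, hφ⟩ := exists_lift (R := R) (T := S'₀)
    ((maximalIdeal S').comap (algebraMap S'₀ S')) ((eR : S' →ₐ[R] _).comp σ)
  refine ⟨t, φt, (eR.symm : _ →ₐ[R] S').comp (toPrime (R := R) _ ht), ?_, ?_, ht⟩
  · ext x
    have := congrArg (fun f => f x) hφ
    simp only [AlgHom.comp_apply] at this
    simp only [AlgHom.comp_apply]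
    rw [this]
    simp
  · intro x
    simp only [AlgHom.comp_apply, toPrime_algebraMap]
    show e.symm (algebraMap S'₀ _ x) = _
    exact e.symm.commutes x

end LemB

section FF

/-- module version of faithfully flat descent of flatness of the middle ring. -/
theorem flat_of_flat_of_faithfullyFlat_module (R A M : Type u) [CommRing R] [CommRing A]
    [Algebra R A] [AddCommGroup M] [Module A M] [Module R M] [IsScalarTower R A M]
    [Module.Flat R M] [Module.FaithfullyFlat A M] : Module.Flat R A := by
  rw [Module.Flat.iff_lTensor_preserves_injective_linearMap]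
  intro N' N _ _ _ _ ι hι
  let u : A ⊗[R] N' →ₗ[A] A ⊗[R] N := AlgebraTensorModule.lTensor A A ι
  have hu : Function.Injective (u.lTensor M) ↔ Function.Injective u :=
    Module.FaithfullyFlat.lTensor_injective_iff_injective A M u
  show Function.Injective u
  rw [← hu]
  let α : ∀ (Y : Type u) [AddCommGroup Y] [Module R Y],
      M ⊗[A] (A ⊗[R] Y) ≃ₗ[A] M ⊗[R] Y := fun Y _ _ =>
    AlgebraTensorModule.cancelBaseChange R A A M Y
  have hcomm : ∀ z, α N (u.lTensor M z) = ι.lTensor M (α N' z) := by
    intro z
    induction z using TensorProduct.induction_on with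
    | zero => simp
    | add a b ha hb => simp only [map_add, ha, hb]
    | tmul b x =>
      induction x using TensorProduct.induction_on with
      | zero => simp
      | add a c ha hc => simp only [tmul_add, map_add, ha, hc]
      | tmul a n => simp [α, u]
  have hinj : Function.Injective (ι.lTensor M) :=
    Module.Flat.lTensor_preserves_injective_linearMap ι hι
  intro a b hab
  apply (α N').injective
  apply hinj
  rw [← hcomm, ← hcomm, hab]

/-- a nonzero finite module over a local `S'`, flat over a local `S` with `S → S'` local, is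
faithfully flat over `S`. -/
theorem faithfullyFlat_of_isLocalHom (S S' M : Type u) [CommRing S] [CommRing S'] [IsLocalRing S]
    [IsLocalRing S'] [Algebra S S'] [IsLocalHom (algebraMap S S')] [AddCommGroup M] [Module S M]
    [Module S' M] [IsScalarTower S S' M] [Module.Finite S' M] [Nontrivial M] [Module.Flat S M] :
    Module.FaithfullyFlat S M := by
  refine ⟨fun m hm h => ?_⟩
  have hm' : m = maximalIdeal S := IsLocalRing.eq_maximalIdeal hm
  subst hm'
  have htop : (maximalIdeal S' • (⊤ : Submodule S' M)) = ⊤ := by
    rw [eq_top_iff]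
    intro x _
    have hx : x ∈ maximalIdeal S • (⊤ : Submodule S M) := by rw [h]; exact Submodule.mem_top
    refine Submodule.smul_induction_on hx (fun r hr n _ => ?_) (fun a b ha hb => add_mem ha hb)
    rw [← algebraMap_smul S' r n]
    refine Submodule.smul_mem_smul ?_ Submodule.mem_top
    rw [IsLocalRing.mem_maximalIdeal] at hr ⊢
    exact fun hu => hr (isUnit_of_map_unit (algebraMap S S') r hu)
  have hbot : (⊤ : Submodule S' M) = ⊥ :=
    Submodule.eq_bot_of_le_smul_of_le_jacobson_bot (maximalIdeal S') ⊤ Module.Finite.fg_top
      htop.ge (IsLocalRing.jacobson_eq_maximalIdeal ⊥ bot_ne_top).ge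
  exact top_ne_bot hbot

end FF

end Groth.Agent.Lib.Helper21.FlatDesc
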