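import Mathlib
import Groth.Agent.Lib.Helper21.FlatDescQ2

/-!
# Helper21 — FlatDescQ3: fibre criterion of flatness with the middle ring only essentially of
finite type (`fibre_criterion_essFT`), via a finitely presented cover with the same closed fibre.
-/

namespace Groth.Agent.Lib.Helper21.FlatDesc

open TensorProduct Function IsLocalRing

universe u

section Cover

/-- lifting a finite generating set along a surjection. -/
theorem exists_fg_le_map_eq {P Q : Type u} [CommRing P] [CommRing Q] (q : P →+* Q)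
    (hq : Function.Surjective q) (I : Ideal P) (h : (I.map q).FG) :
    ∃ I₁ : Ideal P, I₁.FG ∧ I₁ ≤ I ∧ I₁.map q = I.map q := by
  obtain ⟨s, hs⟩ := h
  have hmem : ∀ x : s, ∃ y ∈ I, q y = x.1 := fun x =>
    (Ideal.mem_map_iff_of_surjective q hq).1 (hs ▸ Ideal.subset_span x.2)
  choose y hyI hy using hmem
  refine ⟨Ideal.span (Set.range y), Submodule.fg_span (Set.finite_range y), ?_, ?_⟩
  · rw [Ideal.span_le]
    rintro _ ⟨x, rfl⟩
    exact hyI x
  · rw [Ideal.map_span, ← hs]
    congr 1
    ext z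
    constructor
    · rintro ⟨_, ⟨x, rfl⟩, rfl⟩
      rw [hy]; exact x.2
    · intro hz
      exact ⟨y ⟨z, hz⟩, ⟨_, rfl⟩, hy _⟩

/-- **A finite type algebra is a quotient of a finitely presented algebra with the same fibre
modulo `m`** (when `A ⧸ m` is Noetherian). -/
theorem exists_fp_cover (A : Type u) [CommRing A] (m : Ideal A) [IsNoetherianRing (A ⧸ m)]
    (B₀ : Type u) [CommRing B₀] [Algebra A B₀] [Algebra.FiniteType A B₀] :
    ∃ (B₁ : Type u) (_ : CommRing B₁) (_ : Algebra A B₁) (π : B₁ →ₐ[A] B₀),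
      Algebra.FinitePresentation A B₁ ∧ Function.Surjective π ∧
        RingHom.ker π ≤ m.map (algebraMap A B₁) := by
  obtain ⟨n, f, hf⟩ := Algebra.FiniteType.iff_quotient_mvPolynomial''.1
    (inferInstance : Algebra.FiniteType A B₀)
  let mP : Ideal (MvPolynomial (Fin n) A) := Ideal.map MvPolynomial.C m
  haveI : IsNoetherianRing (MvPolynomial (Fin n) A ⧸ mP) :=
    isNoetherianRing_of_ringEquiv _
      (MvPolynomial.quotientEquivQuotientMvPolynomial (σ := Fin n) m).toRingEquiv
  obtain ⟨I₁, hfg, hle, hmap⟩ := exists_fg_le_map_eq (Ideal.Quotient.mk mP)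
    Ideal.Quotient.mk_surjective (RingHom.ker f.toRingHom)
    (IsNoetherian.noetherian _)
  have hI₁ : ∀ a ∈ I₁, f a = 0 := fun a ha => hle ha
  refine ⟨MvPolynomial (Fin n) A ⧸ I₁, inferInstance, inferInstance,
    Ideal.Quotient.liftₐ I₁ f hI₁, Algebra.FinitePresentation.quotient hfg, ?_, ?_⟩
  · intro b
    obtain ⟨p, rfl⟩ := hf b
    exact ⟨Ideal.Quotient.mk I₁ p, by simp⟩
  · intro x hx
    obtain ⟨p, rfl⟩ := Ideal.Quotient.mk_surjective x
    have hp : f p = 0 := by
      have := RingHom.mem_ker.1 hx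
      simpa using this
    have h1 : Ideal.Quotient.mk mP p ∈ (RingHom.ker f.toRingHom).map (Ideal.Quotient.mk mP) :=
      Ideal.mem_map_of_mem _ hp
    rw [← hmap, Ideal.mem_map_iff_of_surjective _ Ideal.Quotient.mk_surjective] at h1
    obtain ⟨p₁, hp₁, hpp⟩ := h1
    have h2 : p - p₁ ∈ mP := by
      rw [← Ideal.Quotient.eq_zero_iff_mem, map_sub, hpp, sub_self]
    have h3 : Ideal.Quotient.mk I₁ p = Ideal.Quotient.mk I₁ (p - p₁) := by
      rw [map_sub, Ideal.Quotient.eq_zero_iff_mem.2 hp₁, sub_zero]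
    rw [h3]
    have h4 : m.map (algebraMap A (MvPolynomial (Fin n) A ⧸ I₁)) =
        mP.map (Ideal.Quotient.mk I₁) := by
      rw [Ideal.map_map]; rfl
    rw [h4]
    exact Ideal.mem_map_of_mem _ h2

end Cover

section Surj

/-- for a surjection `S₀ → S` with kernel inside `I₀`, the fibre map `S₀/I₀ → S/I₀S` is flat
(bijective). -/
theorem flat_quot_of_surjective_of_ker_le {S₀ S : Type u} [CommRing S₀] [CommRing S]
    [Algebra S₀ S] (hs : Function.Surjective (algebraMap S₀ S)) (I₀ : Ideal S₀)
    (hk : RingHom.ker (algebraMap S₀ S) ≤ I₀) :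
    Module.Flat (S₀ ⧸ I₀) (S ⧸ I₀.map (algebraMap S₀ S)) := by
  have hbij : Function.Bijective (Algebra.linearMap (S₀ ⧸ I₀) (S ⧸ I₀.map (algebraMap S₀ S))) := by
    constructor
    · rw [injective_iff_map_eq_zero]
      intro x hx
      obtain ⟨s₀, rfl⟩ := Ideal.Quotient.mk_surjective x
      have h1 : Ideal.Quotient.mk (I₀.map (algebraMap S₀ S)) (algebraMap S₀ S s₀) = 0 := hx
      rw [Ideal.Quotient.eq_zero_iff_mem, Ideal.mem_map_iff_of_surjective _ hs] at h1
      obtain ⟨i, hi, hii⟩ := h1
      have h2 : s₀ - i ∈ I₀ := hk (by rw [RingHom.mem_ker, map_sub, hii, sub_self])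
      rw [Ideal.Quotient.eq_zero_iff_mem]
      have := I₀.add_mem h2 hi
      simpa using this
    · intro y
      obtain ⟨s, rfl⟩ := Ideal.Quotient.mk_surjective y
      obtain ⟨s₀, rfl⟩ := hs s
      exact ⟨Ideal.Quotient.mk I₀ s₀, rfl⟩
  exact Module.Flat.of_linearEquiv (LinearEquiv.ofBijective _ hbij).symm

/-- transfer of the tensor-form fibre flatness along `S₀ → S` with flat fibre map. -/
theorem flat_fibre_tensor_of_flat_quot {S₀ S : Type u} [CommRing S₀] [CommRing S] [Algebra S₀ S]
    (I₀ : Ideal S₀) [Module.Flat (S₀ ⧸ I₀) (S ⧸ I₀.map (algebraMap S₀ S))]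
    (M : Type u) [AddCommGroup M] [Module S M] [Module S₀ M] [IsScalarTower S₀ S M]
    [Module.Flat (S ⧸ I₀.map (algebraMap S₀ S)) ((S ⧸ I₀.map (algebraMap S₀ S)) ⊗[S] M)] :
    Module.Flat (S₀ ⧸ I₀) ((S₀ ⧸ I₀) ⊗[S₀] M) := by
  haveI hpo : Algebra.IsPushout S₀ (S₀ ⧸ I₀) S (S ⧸ I₀.map (algebraMap S₀ S)) :=
    isPushout_quotient S I₀
  haveI : Module.Flat (S₀ ⧸ I₀) ((S ⧸ I₀.map (algebraMap S₀ S)) ⊗[S] M) :=
    Module.Flat.trans (S₀ ⧸ I₀) (S ⧸ I₀.map (algebraMap S₀ S)) _
  exact Module.Flat.of_linearEquiv (Algebra.IsPushout.cancelBaseChange S₀ (S₀ ⧸ I₀) S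
    (S ⧸ I₀.map (algebraMap S₀ S)) M).symm

/-- flatness over the source of a surjection implies flatness over the target. -/
theorem flat_of_surjective_of_flat {S₀ S : Type u} [CommRing S₀] [CommRing S] [Algebra S₀ S]
    (hs : Function.Surjective (algebraMap S₀ S))
    (M : Type u) [AddCommGroup M] [Module S M] [Module S₀ M] [IsScalarTower S₀ S M]
    [Module.Flat S₀ M] : Module.Flat S M := by
  have hbc : IsBaseChange S (LinearMap.id : M →ₗ[S₀] M) := by
    refine IsBaseChange.of_equiv (LinearEquiv.ofBijective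
      ((LinearMap.id : M →ₗ[S₀] M).liftBaseChange S) ⟨?_, ?_⟩) ?_
    · intro a b hab
      have key : ∀ z : S ⊗[S₀] M, z = (1 : S) ⊗ₜ[S₀] ((LinearMap.id : M →ₗ[S₀] M).liftBaseChange S z) := by
        intro z
        induction z using TensorProduct.induction_on with
        | zero => simp
        | add a b ha hb => rw [map_add, tmul_add, ← ha, ← hb]
        | tmul s m =>
          obtain ⟨s₀, rfl⟩ := hs s
          simp only [LinearMap.liftBaseChange_tmul, LinearMap.id_coe, id_eq]
          rw [algebraMap_smul, ← TensorProduct.smul_tmul, Algebra.smul_def, mul_one]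
      rw [key a, key b, hab]
    · intro m
      exact ⟨1 ⊗ₜ m, by simp⟩
    · intro m
      simp
  exact Module.Flat.isBaseChange (R := S₀) (S := S) (M := M) (N := M) hbc

end Surj

section Core

set_option maxHeartbeats 1600000 in
set_option synthInstance.maxHeartbeats 200000 in
/-- **Fibre criterion of flatness, middle ring essentially of finite type.** -/
theorem fibre_criterion_essFT (A B C : Type u) [CommRing A] [CommRing B] [CommRing C]
    [IsLocalRing A] [IsLocalRing B] [IsLocalRing C] [Algebra A B] [Algebra B C] [Algebra A C]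
    [IsScalarTower A B C] [IsLocalHom (algebraMap A B)] [IsLocalHom (algebraMap B C)]
    (B₀ : Type u) [CommRing B₀] [Algebra A B₀] [Algebra.FiniteType A B₀] [Algebra B₀ B]
    [IsScalarTower A B₀ B] (T : Submonoid B₀) [IsLocalization T B]
    (C₀ : Type u) [CommRing C₀] [Algebra A C₀] [Algebra.FinitePresentation A C₀] [Algebra C₀ C]
    [IsScalarTower A C₀ C] (TC : Submonoid C₀) [IsLocalization TC C]
    [Module.Flat A C]
    (hfib : Module.Flat (B ⧸ (maximalIdeal A).map (algebraMap A B))
      (C ⧸ (maximalIdeal A).map (algebraMap A B) • (⊤ : Submodule B C))) :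
    Module.Flat A B ∧ Module.Flat B C := by
  letI : Field (A ⧸ maximalIdeal A) := Ideal.Quotient.field _
  obtain ⟨B₁, _, _, π, hfp, hsurj, hker⟩ := exists_fp_cover A (maximalIdeal A) B₀
  haveI := hfp
  -- algebra structures
  letI a10 : Algebra B₁ B₀ := π.toRingHom.toAlgebra
  haveI tw10 : IsScalarTower A B₁ B₀ := IsScalarTower.of_algebraMap_eq fun r => (π.commutes r).symm
  letI a1B : Algebra B₁ B := ((algebraMap B₀ B).comp (algebraMap B₁ B₀)).toAlgebra
  haveI tw1B : IsScalarTower B₁ B₀ B := IsScalarTower.of_algebraMap_eq fun _ => rfl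
  haveI twA1B : IsScalarTower A B₁ B := IsScalarTower.of_algebraMap_eq fun r => by
    show algebraMap A B r = algebraMap B₀ B (algebraMap B₁ B₀ (algebraMap A B₁ r))
    rw [← IsScalarTower.algebraMap_apply A B₁ B₀, ← IsScalarTower.algebraMap_apply A B₀ B]
  letI a0C : Algebra B₀ C := ((algebraMap B C).comp (algebraMap B₀ B)).toAlgebra
  haveI tw0BC : IsScalarTower B₀ B C := IsScalarTower.of_algebraMap_eq fun _ => rfl
  letI a1C : Algebra B₁ C := ((algebraMap B C).comp (algebraMap B₁ B)).toAlgebra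
  haveI tw1BC : IsScalarTower B₁ B C := IsScalarTower.of_algebraMap_eq fun _ => rfl
  haveI tw10C : IsScalarTower B₁ B₀ C := IsScalarTower.of_algebraMap_eq fun _ => rfl
  haveI twA1C : IsScalarTower A B₁ C := IsScalarTower.of_algebraMap_eq fun r => by
    show algebraMap A C r = algebraMap B C (algebraMap B₁ B (algebraMap A B₁ r))
    rw [← IsScalarTower.algebraMap_apply A B₁ B, ← IsScalarTower.algebraMap_apply A B C]
  haveI twA0C : IsScalarTower A B₀ C := IsScalarTower.of_algebraMap_eq fun r => by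
    show algebraMap A C r = algebraMap B C (algebraMap B₀ B (algebraMap A B₀ r))
    rw [← IsScalarTower.algebraMap_apply A B₀ B, ← IsScalarTower.algebraMap_apply A B C]
  have hsurj' : Function.Surjective (algebraMap B₁ B₀) := hsurj
  have hker' : RingHom.ker (algebraMap B₁ B₀) ≤ (maximalIdeal A).map (algebraMap A B₁) := hker
  -- Step 1: fibre hypothesis over `B₀`
  haveI : Module.Flat B₀ B := IsLocalization.flat B T
  have hI : ((maximalIdeal A).map (algebraMap A B₀)).map (algebraMap B₀ B) =
      (maximalIdeal A).map (algebraMap A B) := by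
    rw [Ideal.map_map, ← IsScalarTower.algebraMap_eq]
  rw [← hI] at hfib
  have hfib₀ : Module.Flat (B₀ ⧸ (maximalIdeal A).map (algebraMap A B₀))
      ((B₀ ⧸ (maximalIdeal A).map (algebraMap A B₀)) ⊗[B₀] C) :=
    flat_fibre_of_flat_fibre_flat ((maximalIdeal A).map (algebraMap A B₀)) C hfib
  -- Step 2: fibre hypothesis over `B₁`
  have hJ : ((maximalIdeal A).map (algebraMap A B₁)).map (algebraMap B₁ B₀) =
      (maximalIdeal A).map (algebraMap A B₀) := by
    rw [Ideal.map_map, ← IsScalarTower.algebraMap_eq]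
  rw [← hJ] at hfib₀
  haveI := hfib₀
  haveI : Module.Flat (B₁ ⧸ (maximalIdeal A).map (algebraMap A B₁))
      (B₀ ⧸ ((maximalIdeal A).map (algebraMap A B₁)).map (algebraMap B₁ B₀)) :=
    flat_quot_of_surjective_of_ker_le hsurj' _ hker'
  haveI hfib₁ : Module.Flat (B₁ ⧸ (maximalIdeal A).map (algebraMap A B₁))
      ((B₁ ⧸ (maximalIdeal A).map (algebraMap A B₁)) ⊗[B₁] C) :=
    flat_fibre_tensor_of_flat_quot (S₀ := B₁) (S := B₀) _ C
  -- Step 3: spreading out
  let σ : B₁ →ₐ[A] C := IsScalarTower.toAlgHom A B₁ C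
  obtain ⟨t, φ, ψ, hψφ, hψ, ht⟩ := exists_spread A B₁ C₀ C TC σ
  have hσ : ∀ x, ψ (φ x) = algebraMap B₁ C x := fun x => by
    have := congrArg (fun f => f x) hψφ
    exact this
  letI aφ : Algebra B₁ (Localization.Away t) := φ.toRingHom.toAlgebra
  letI aψ : Algebra (Localization.Away t) C := ψ.toRingHom.toAlgebra
  haveI tw1 : IsScalarTower A B₁ (Localization.Away t) :=
    IsScalarTower.of_algebraMap_eq fun r => (φ.commutes r).symm
  haveI tw2 : IsScalarTower A (Localization.Away t) C :=
    IsScalarTower.of_algebraMap_eq fun r => (ψ.commutes r).symm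
  haveI tw3 : IsScalarTower C₀ (Localization.Away t) C :=
    IsScalarTower.of_algebraMap_eq fun x => (hψ x).symm
  haveI tw6 : IsScalarTower B₁ (Localization.Away t) C :=
    IsScalarTower.of_algebraMap_eq fun x => (hσ x).symm
  haveI : Algebra.FinitePresentation C₀ (Localization.Away t) :=
    IsLocalization.Away.finitePresentation t
  haveI : Algebra.FinitePresentation A (Localization.Away t) :=
    Algebra.FinitePresentation.trans A C₀ (Localization.Away t)
  haveI hAt : IsLocalization.AtPrime C ((maximalIdeal C).comap (algebraMap C₀ C)) :=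
    isLocalization_atPrime_of_isLocalRing TC
  have hle : Submonoid.powers t ≤ ((maximalIdeal C).comap (algebraMap C₀ C)).primeCompl := by
    rintro _ ⟨k, rfl⟩
    exact fun h => ht (Ideal.IsPrime.mem_of_pow_mem inferInstance k h)
  haveI hloc'' : IsLocalization
      (((maximalIdeal C).comap (algebraMap C₀ C)).primeCompl.map
        (algebraMap C₀ (Localization.Away t))) C :=
    IsLocalization.isLocalization_of_submonoid_le (Localization.Away t) C (Submonoid.powers t)
      ((maximalIdeal C).comap (algebraMap C₀ C)).primeCompl hle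
  haveI : IsLocalHom (algebraMap A C) := by
    rw [IsScalarTower.algebraMap_eq A B C]
    exact RingHom.isLocalHom_comp _ _
  have hflat₁ : Module.Flat B₁ C :=
    flat_of_flat_fibre_essFP A B₁ (Localization.Away t) C
      (((maximalIdeal C).comap (algebraMap C₀ C)).primeCompl.map
        (algebraMap C₀ (Localization.Away t))) C
  -- Step 4
  haveI := hflat₁
  have hflat₀ : Module.Flat B₀ C := flat_of_surjective_of_flat (S₀ := B₁) (S := B₀) hsurj' C
  have hflatB : Module.Flat B C := (Module.flat_iff_of_isLocalization B T C).2 hflat₀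
  haveI := hflatB
  haveI : Module.FaithfullyFlat B C := faithfullyFlat_of_isLocalHom B C C
  exact ⟨flat_of_flat_of_faithfullyFlat_module A B C, hflatB⟩

end Core

end Groth.Agent.Lib.Helper21.FlatDesc
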