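import Mathlib
import Groth.Agent.Lib.Helper21.FlatDescQ3

/-!
# Helper21 — FlatDescQ4: the fibre criterion of flatness in "bars" form (for scheme stalks);
essentially finitely presented ring maps and stalks of morphisms locally of finite presentation;
cancellation for morphisms locally of finite presentation.
-/

open AlgebraicGeometry CategoryTheory Limits TopologicalSpace

namespace Groth.Agent.Lib.Helper21.FlatDesc

open TensorProduct Function IsLocalRing

universe u

section Bars

/-- base change to the fibre, quotient form. -/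
theorem flat_quot_smul_of_flat (B C : Type u) [CommRing B] [AddCommGroup C] [Module B C]
    (I : Ideal B) [Module.Flat B C] :
    Module.Flat (B ⧸ I) (C ⧸ I • (⊤ : Submodule B C)) :=
  Module.Flat.of_linearEquiv
    ((TensorProduct.quotTensorEquivQuotSMul C I).extendScalarsOfSurjective
      Ideal.Quotient.mk_surjective).symm

set_option maxHeartbeats 800000 in
/-- **Dictionary**: flatness of the map of fibre rings `B' → C'` (quotients of `B`, `C` by `I`,
`I C`) is flatness of `C / I C` over `B / I`. -/
theorem flat_bar_iff {B C B' C' : Type u} [CommRing B] [CommRing C] [CommRing B'] [CommRing C']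
    [Algebra B C] (I : Ideal B) (πB : B →+* B') (πC : C →+* C') (φ' : B' →+* C')
    (hB : Function.Surjective πB) (hC : Function.Surjective πC) (hkB : RingHom.ker πB = I)
    (hkC : RingHom.ker πC = I.map (algebraMap B C))
    (hcomm : φ'.comp πB = πC.comp (algebraMap B C)) :
    φ'.Flat ↔ Module.Flat (B ⧸ I) (C ⧸ I • (⊤ : Submodule B C)) := by
  let eB : (B ⧸ I) ≃+* B' :=
    (Ideal.quotEquivOfEq hkB.symm).trans (RingHom.quotientKerEquivOfSurjective hB)
  have heB : ∀ b : B, eB (Ideal.Quotient.mk I b) = πB b := fun b => by
    simp [eB]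
  let ρ : B ⧸ I →+* C' := φ'.comp eB.toRingHom
  have h1 : φ'.Flat ↔ ρ.Flat :=
    (RingHom.Flat.comp_iff_of_bijective_right (f := φ') (g := eB.toRingHom) eB.bijective).symm
  rw [h1]
  letI aρ : Algebra (B ⧸ I) C' := ρ.toAlgebra
  letI mB : Module B C' := Module.compHom C' (ρ.comp (Ideal.Quotient.mk I))
  haveI tw : IsScalarTower B (B ⧸ I) C' := IsScalarTower.of_algebraMap_smul fun _ _ => rfl
  have hρ : ∀ b : B, ρ (Ideal.Quotient.mk I b) = πC (algebraMap B C b) := fun b => by
    show φ' (eB (Ideal.Quotient.mk I b)) = _
    rw [heB]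
    exact congrArg (fun f => f b) hcomm
  let l : C →ₗ[B] C' :=
    { toFun := πC
      map_add' := map_add πC
      map_smul' := fun b c => by
        show πC (b • c) = ρ (Ideal.Quotient.mk I b) * πC c
        rw [Algebra.smul_def, map_mul, hρ] }
  have hl : Function.Surjective l := hC
  have hker : I • (⊤ : Submodule B C) = LinearMap.ker l := by
    rw [Ideal.smul_top_eq_map]
    ext c
    rw [Submodule.restrictScalars_mem, ← hkC, RingHom.mem_ker, LinearMap.mem_ker]
    rfl
  let L₀ : (C ⧸ I • (⊤ : Submodule B C)) ≃ₗ[B] C' :=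
    (Submodule.quotEquivOfEq _ _ hker).trans (l.quotKerEquivOfSurjective hl)
  let L : (C ⧸ I • (⊤ : Submodule B C)) ≃ₗ[B ⧸ I] C' :=
    L₀.extendScalarsOfSurjective Ideal.Quotient.mk_surjective
  show Module.Flat (B ⧸ I) C' ↔ _
  exact ⟨fun h => by haveI := h; exact Module.Flat.of_linearEquiv L,
    fun h => by haveI := h; exact Module.Flat.of_linearEquiv L.symm⟩

end Bars

section EssFP

/-- a ring map is essentially of finite presentation: a finitely presented map followed by a
localization. -/
def EssFP {R S : Type u} [CommRing R] [CommRing S] (φ : R →+* S) : Prop :=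
  ∃ (S₀ : Type u) (_ : CommRing S₀) (a : R →+* S₀) (b : S₀ →+* S) (T : Submonoid S₀),
    φ = b.comp a ∧ a.FinitePresentation ∧ @IsLocalization S₀ _ T S _ b.toAlgebra

theorem EssFP.respectsIso : RingHom.RespectsIso @EssFP := by
  constructor
  · intro R S T _ _ _ f e ⟨S₀, _, a, b, M, hab, ha, hloc⟩
    refine ⟨S₀, inferInstance, a, e.toRingHom.comp b, M, ?_, ha, ?_⟩
    · rw [hab, RingHom.comp_assoc]
    · letI := b.toAlgebra
      haveI := hloc
      exact (IsLocalization.isLocalization_iff_of_ringEquiv M e).1 hloc
  · intro R S T _ _ _ f e ⟨S₀, _, a, b, M, hab, ha, hloc⟩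
    refine ⟨S₀, inferInstance, a.comp e.toRingHom, b, M, ?_, ?_, hloc⟩
    · rw [hab, RingHom.comp_assoc]
    · exact RingHom.FinitePresentation.comp ha (RingHom.FinitePresentation.of_bijective e.bijective)

theorem EssFP.localRingHom {R S : Type u} [CommRing R] [CommRing S] (f : R →+* S)
    (hf : f.FinitePresentation) (J : Ideal S) [J.IsPrime] :
    EssFP (Localization.localRingHom (J.comap f) J f rfl) := by
  have hle : Submonoid.map f (J.comap f).primeCompl ≤ J.primeCompl := by
    rintro _ ⟨r, hr, rfl⟩
    exact hr
  letI : Algebra (Localization (Submonoid.map f (J.comap f).primeCompl))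
      (Localization.AtPrime J) :=
    IsLocalization.localizationAlgebraOfSubmonoidLe _ _ (Submonoid.map f (J.comap f).primeCompl)
      J.primeCompl hle
  haveI : IsScalarTower S (Localization (Submonoid.map f (J.comap f).primeCompl))
      (Localization.AtPrime J) :=
    IsLocalization.localization_isScalarTower_of_submonoid_le _ _ _ _ _
  haveI hloc : IsLocalization (J.primeCompl.map
      (algebraMap S (Localization (Submonoid.map f (J.comap f).primeCompl))))
      (Localization.AtPrime J) :=
    IsLocalization.isLocalization_of_submonoid_le _ _ (Submonoid.map f (J.comap f).primeCompl)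
      J.primeCompl hle
  refine ⟨Localization (Submonoid.map f (J.comap f).primeCompl), inferInstance,
    IsLocalization.map (M := (J.comap f).primeCompl) (T := Submonoid.map f (J.comap f).primeCompl)
      (S := Localization.AtPrime (J.comap f))
      (Localization (Submonoid.map f (J.comap f).primeCompl)) f (Submonoid.le_comap_map _),
    algebraMap _ _, J.primeCompl.map
      (algebraMap S (Localization (Submonoid.map f (J.comap f).primeCompl))), ?_, ?_, ?_⟩
  · apply IsLocalization.ringHom_ext (J.comap f).primeCompl
    ext x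
    simp [Localization.localRingHom, ← IsScalarTower.algebraMap_apply]
  · exact RingHom.finitePresentation_localizationPreserves f _ _ _ hf
  · convert hloc

variable {X S : Scheme.{u}}

theorem essFP_stalkMap (h : X ⟶ S) [LocallyOfFinitePresentation h] (x : X) :
    EssFP (h.stalkMap x).hom :=
  HasRingHomProperty.stalkMap_of_respectsIso (P := @LocallyOfFinitePresentation)
    EssFP.respectsIso
    (fun f hf J _ => EssFP.localRingHom f hf J) ‹_› x

end EssFP

section BarsIff

set_option maxHeartbeats 800000 in
/-- **Fibre criterion of flatness (critère de platitude par fibres), algebraic form.**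
`A → B → C` local homomorphisms of local rings, `B` a localization of a finite type `A`-algebra,
`C` a localization of a finitely presented `A`-algebra; `B'`, `C'` the fibre rings
(`B / m_A B`, `C / m_A C`) with the induced map `φ'`. Then `C` is `A`-flat and `φ'` is flat iff
`B` is `A`-flat and `C` is `B`-flat. -/
theorem fibre_criterion_bars (A B C : Type u) [CommRing A] [CommRing B] [CommRing C]
    [IsLocalRing A] [IsLocalRing B] [IsLocalRing C] [Algebra A B] [Algebra B C] [Algebra A C]
    [IsScalarTower A B C] [IsLocalHom (algebraMap A B)] [IsLocalHom (algebraMap B C)]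
    (B₀ : Type u) [CommRing B₀] [Algebra A B₀] [Algebra.FiniteType A B₀] [Algebra B₀ B]
    [IsScalarTower A B₀ B] (T : Submonoid B₀) [IsLocalization T B]
    (C₀ : Type u) [CommRing C₀] [Algebra A C₀] [Algebra.FinitePresentation A C₀] [Algebra C₀ C]
    [IsScalarTower A C₀ C] (TC : Submonoid C₀) [IsLocalization TC C]
    {B' C' : Type u} [CommRing B'] [CommRing C'] (πB : B →+* B') (πC : C →+* C') (φ' : B' →+* C')
    (hB : Function.Surjective πB) (hC : Function.Surjective πC)
    (hkB : RingHom.ker πB = (maximalIdeal A).map (algebraMap A B))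
    (hkC : RingHom.ker πC = (maximalIdeal A).map (algebraMap A C))
    (hcomm : φ'.comp πB = πC.comp (algebraMap B C)) :
    (Module.Flat A C ∧ φ'.Flat) ↔ (Module.Flat A B ∧ Module.Flat B C) := by
  have hkC' : RingHom.ker πC = ((maximalIdeal A).map (algebraMap A B)).map (algebraMap B C) := by
    rw [hkC, Ideal.map_map, ← IsScalarTower.algebraMap_eq]
  have hQ := flat_bar_iff ((maximalIdeal A).map (algebraMap A B)) πB πC φ' hB hC hkB hkC' hcomm
  constructor
  · rintro ⟨h1, h2⟩
    haveI := h1
    exact fibre_criterion_essFT A B C B₀ T C₀ TC (hQ.1 h2)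
  · rintro ⟨h1, h2⟩
    haveI := h1
    haveI := h2
    exact ⟨Module.Flat.trans A B C, hQ.2 (flat_quot_smul_of_flat B C _)⟩

end BarsIff

section OfComp

/-- cancellation for morphisms locally of finite presentation (proof as in
`Lib/Helper13/LimDescendSurj.lean`, copied to avoid the import chain). -/
theorem locallyOfFinitePresentation_of_comp' {X Y Z : Scheme.{u}} (f : X ⟶ Y) (g : Y ⟶ Z)
    [LocallyOfFinitePresentation (f ≫ g)] [LocallyOfFiniteType g] :
    LocallyOfFinitePresentation f := by
  rw [HasRingHomProperty.iff_exists_appLE (P := @LocallyOfFinitePresentation)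
    (RingHom.finitePresentation_stableUnderComposition.stableUnderCompositionWithLocalizationAway
      RingHom.finitePresentation_holdsForLocalizationAway).left]
  intro x
  obtain ⟨_, ⟨Z0, hZ0, rfl⟩, hxZ0, -⟩ :=
    Z.isBasis_affineOpens.exists_subset_of_mem_open (Set.mem_univ (g (f x))) isOpen_univ
  obtain ⟨V, hV, hxV, hVZ0⟩ := exists_isAffineOpen_mem_and_subset (x := f x) (U := g ⁻¹ᵁ Z0) hxZ0
  obtain ⟨W, hW, hxW, hWV⟩ := exists_isAffineOpen_mem_and_subset (x := x) (U := f ⁻¹ᵁ V) hxV
  refine ⟨⟨V, hV⟩, ⟨W, hW⟩, hxW, hWV, ?_⟩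
  have h1 := (f ≫ g).finitePresentation_appLE hZ0 hW
    (hWV.trans ((TopologicalSpace.Opens.map f.base).map (homOfLE hVZ0)).le)
  rw [← Scheme.Hom.appLE_comp_appLE f g Z0 V W hVZ0 hWV, CommRingCat.hom_comp] at h1
  exact RingHom.FinitePresentation.of_comp_finiteType _ h1 (g.finiteType_appLE hZ0 hV hVZ0)

end OfComp

end Groth.Agent.Lib.Helper21.FlatDesc
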