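import Mathlib

/-!
# Helper21 — KosPoly: direct limit of `S/(T^n)` along multiplication by `(∏ T)^(m-n)` is `A`-free
for `S = A[T_j]`.
-/

namespace Groth.Agent.Lib.Helper21.KosPoly

universe u

section Abstract

variable {S : Type u} [CommRing S] {G : ℕ → Type u} [∀ i, AddCommGroup (G i)]
  [∀ i, Module S (G i)]
  (f : ∀ i j, i ≤ j → G i →ₗ[S] G j) (π : ∀ n, S →ₗ[S] G n) (c : S)
  (hsurj : ∀ n, Function.Surjective (π n))
  (htr : ∀ n m (h : n ≤ m) (y : S), f n m h (π n y) = π m (c ^ (m - n) * y))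

include hsurj htr in
lemma directedSystem : DirectedSystem G (f · · ·) where
  map_self n x := by
    obtain ⟨y, rfl⟩ := hsurj n x
    show f n n le_rfl (π n y) = π n y
    rw [htr, Nat.sub_self, pow_zero, one_mul]
  map_map k j i hij hjk x := by
    obtain ⟨y, rfl⟩ := hsurj i x
    show f j k hjk (f i j hij (π i y)) = f i k (hij.trans hjk) (π i y)
    rw [htr, htr, htr, ← mul_assoc, ← pow_add]
    congr 3
    omega

/-- The composite `S → G n → colim G`. -/
noncomputable def E (n : ℕ) : S →ₗ[S] Module.DirectLimit G f :=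
  (Module.DirectLimit.of S ℕ G f n).comp (π n)

include htr in
lemma E_trans (n m : ℕ) (h : n ≤ m) (y : S) : E f π n y = E f π m (c ^ (m - n) * y) := by
  unfold E
  simp only [LinearMap.comp_apply]
  rw [← htr n m h, Module.DirectLimit.of_f]

include hsurj htr in
lemma E_eq_zero_iff (I : ℕ → Ideal S) (hker : ∀ n y, π n y = 0 ↔ y ∈ I n) (n : ℕ) (y : S) :
    E f π n y = 0 ↔ ∃ m, n ≤ m ∧ c ^ (m - n) * y ∈ I m := by
  haveI := directedSystem f π c hsurj htr
  constructor
  · intro h
    obtain ⟨m, hm, h0⟩ := Module.DirectLimit.of.zero_exact h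
    rw [htr, hker] at h0
    exact ⟨m, hm, h0⟩
  · rintro ⟨m, hm, h0⟩
    rw [E_trans f π c htr n m hm]
    unfold E
    rw [LinearMap.comp_apply, (hker m _).2 h0, map_zero]

include hsurj in
lemma exists_E (x : Module.DirectLimit G f) : ∃ n y, x = E f π n y := by
  obtain ⟨n, g, rfl⟩ := Module.DirectLimit.exists_of x
  obtain ⟨y, rfl⟩ := hsurj n g
  exact ⟨n, y, rfl⟩

end Abstract

section Free

/-- Freeness over `A` of an `S`-module from a family that is an `A`-basis. -/
lemma free_of_family {A S L : Type u} [CommRing A] [CommRing S] [Algebra A S] [AddCommGroup L]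
    [Module S L] {ι : Type*} (e : ι → L)
    (hli : ∀ (s : Finset ι) (g : ι → A), ∑ a ∈ s, algebraMap A S (g a) • e a = 0 →
      ∀ a ∈ s, g a = 0)
    (hsp : ∀ (T : AddSubgroup L), (∀ a i, algebraMap A S a • e i ∈ T) → ∀ x, x ∈ T) :
    Module.Free A (RestrictScalars A S L) := by
  letI : Module A L := Module.compHom L (algebraMap A S)
  have hsm : ∀ (a : A) (x : L), a • x = algebraMap A S a • x := fun _ _ => rfl
  have hli' : LinearIndependent A e := by
    refine linearIndependent_iff'.2 ?_
    intro s g hg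
    exact hli s g hg
  have hsp' : ⊤ ≤ Submodule.span A (Set.range e) := by
    intro x _
    refine hsp (Submodule.span A (Set.range e)).toAddSubgroup ?_ x
    intro a i
    show (a • e i : L) ∈ Submodule.span A (Set.range e)
    exact Submodule.smul_mem _ a (Submodule.subset_span ⟨i, rfl⟩)
  haveI : Module.Free A L := Module.Free.of_basis (Module.Basis.mk hli' hsp')
  let eqv : L ≃ₗ[A] RestrictScalars A S L :=
    { (RestrictScalars.addEquiv A S L).symm with
      map_smul' := fun _ _ => rfl }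
  exact Module.Free.of_equiv eqv

end Free

section Poly

open MvPolynomial

variable {A : Type u} [CommRing A] {σ : Type}

lemma mem_span_X_pow_iff (J : Set σ) (n : ℕ) (p : MvPolynomial σ A) :
    p ∈ Ideal.span ((fun j : σ => (X j : MvPolynomial σ A) ^ n) '' J) ↔
      ∀ b ∈ p.support, ∃ j ∈ J, n ≤ b j := by
  have h : ((fun j : σ => (X j : MvPolynomial σ A) ^ n) '' J) =
      (fun s => monomial s (1 : A)) '' ((fun j : σ => Finsupp.single j n) '' J) := by
    rw [Set.image_image]
    refine Set.image_congr fun j _ => ?_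
    exact X_pow_eq_monomial
  rw [h, mem_ideal_span_monomial_image]
  refine forall₂_congr fun b _ => ?_
  constructor
  · rintro ⟨_, ⟨j, hj, rfl⟩, hle⟩
    exact ⟨j, hj, Finsupp.single_le_iff.1 hle⟩
  · rintro ⟨j, hj, hle⟩
    exact ⟨_, ⟨j, hj, rfl⟩, Finsupp.single_le_iff.2 hle⟩

lemma mem_of_X_pow_mul_mem (J : Set σ) (n : ℕ) (i : σ) (hi : i ∉ J) (p : MvPolynomial σ A)
    (h : (X i : MvPolynomial σ A) ^ n * p ∈
      Ideal.span ((fun j : σ => (X j : MvPolynomial σ A) ^ n) '' J)) :
    p ∈ Ideal.span ((fun j : σ => (X j : MvPolynomial σ A) ^ n) '' J) := by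
  rw [mem_span_X_pow_iff] at h ⊢
  intro b hb
  have hb' : Finsupp.single i n + b ∈ ((X i : MvPolynomial σ A) ^ n * p).support := by
    rw [mem_support_iff, X_pow_eq_monomial, coeff_monomial_mul, one_mul]
    exact mem_support_iff.1 hb
  obtain ⟨j, hj, hle⟩ := h _ hb'
  refine ⟨j, hj, ?_⟩
  have hne : i ≠ j := fun e => hi (e ▸ hj)
  simpa [Finsupp.single_apply, hne] using hle

lemma setOf_mem_take_ofFn {R : Type*} {N : ℕ} (g : Fin N → R) (i : ℕ) :
    {a | a ∈ (List.ofFn g).take i} = g '' {j | j.val < i} := by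
  ext a
  simp only [Set.mem_setOf_eq, Set.mem_image, List.mem_take_iff_getElem, List.length_ofFn,
    List.getElem_ofFn]
  constructor
  · rintro ⟨k, hk, rfl⟩
    exact ⟨⟨k, (lt_min_iff.1 hk).2⟩, (lt_min_iff.1 hk).1, rfl⟩
  · rintro ⟨j, hj, rfl⟩
    exact ⟨j.val, lt_min_iff.2 ⟨hj, j.isLt⟩, rfl⟩

lemma isWeaklyRegular_X_pow (r n : ℕ) :
    RingTheory.Sequence.IsWeaklyRegular (MvPolynomial (Fin (r + 1)) A)
      ((List.ofFn fun j : Fin (r + 1) => (X j : MvPolynomial (Fin (r + 1)) A)).map (· ^ n)) := by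
  have hl : (List.ofFn fun j : Fin (r + 1) => (X j : MvPolynomial (Fin (r + 1)) A)).map (· ^ n) =
      List.ofFn (fun j : Fin (r + 1) => (X j : MvPolynomial (Fin (r + 1)) A) ^ n) := by
    rw [List.map_ofFn]
    rfl
  rw [hl]
  constructor
  intro i hi
  rw [isSMulRegular_quotient_iff_mem_of_smul_mem]
  have hI : (Ideal.ofList ((List.ofFn (fun j : Fin (r + 1) =>
      (X j : MvPolynomial (Fin (r + 1)) A) ^ n)).take i) •
        (⊤ : Submodule (MvPolynomial (Fin (r + 1)) A) (MvPolynomial (Fin (r + 1)) A))) =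
      Ideal.span ((fun j : Fin (r + 1) => (X j : MvPolynomial (Fin (r + 1)) A) ^ n) ''
        {j | j.val < i}) := by
    rw [Ideal.smul_eq_mul, Ideal.mul_top, Ideal.ofList]
    have := setOf_mem_take_ofFn (fun j : Fin (r + 1) =>
      (X j : MvPolynomial (Fin (r + 1)) A) ^ n) i
    rw [this]
  rw [hI]
  intro p hp
  rw [List.getElem_ofFn, smul_eq_mul] at hp
  have hi' : i < r + 1 := by
    rw [List.length_ofFn] at hi
    exact hi
  refine mem_of_X_pow_mul_mem {j : Fin (r + 1) | j.val < i} n ⟨i, hi'⟩ ?_ p hp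
  intro h
  exact lt_irrefl i h

section FreeLimit

variable [Fintype σ] [DecidableEq σ]

variable (σ) in
/-- the exponent vector `(1, …, 1)`. -/
noncomputable def ones : σ →₀ ℕ := ∑ j, Finsupp.single j 1

lemma ones_apply (j : σ) : ones σ j = 1 := by
  unfold ones
  rw [Finsupp.finset_sum_apply]
  simp [Finsupp.single_apply]

lemma prod_X_eq : (∏ j : σ, (X j : MvPolynomial σ A)) = monomial (ones σ) 1 := by
  unfold ones
  rw [monomial_sum_one]
  rfl

lemma prod_X_pow_mul_monomial (k : ℕ) (b : σ →₀ ℕ) (a : A) :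
    (∏ j : σ, (X j : MvPolynomial σ A)) ^ k * monomial b a = monomial (k • ones σ + b) a := by
  rw [prod_X_eq, monomial_pow, monomial_mul, one_pow, one_mul]

/-- the exponent vector `(n - 1 - a_j)_j`. -/
noncomputable def bn (n : ℕ) (a : σ →₀ ℕ) : σ →₀ ℕ :=
  Finsupp.equivFunOnFinite.symm (fun j => n - 1 - a j)

lemma bn_apply (n : ℕ) (a : σ →₀ ℕ) (j : σ) : bn n a j = n - 1 - a j := rfl

/-- a level at which the basis element of index `a` lives. -/
noncomputable def lvl (a : σ →₀ ℕ) : ℕ := Finset.univ.sup (fun j => a j) + 1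

lemma lt_lvl (a : σ →₀ ℕ) (j : σ) : a j < lvl a := by
  unfold lvl
  have : a j ≤ Finset.univ.sup (fun j => a j) := Finset.le_sup (f := fun j => a j) (Finset.mem_univ j)
  omega

lemma lvl_le_of (a : σ →₀ ℕ) (n : ℕ) (hn : 1 ≤ n) (h : ∀ j, a j ≤ n - 1) : lvl a ≤ n := by
  unfold lvl
  have : Finset.univ.sup (fun j => a j) ≤ n - 1 := Finset.sup_le fun j _ => h j
  omega

lemma shift_bn (n m : ℕ) (a : σ →₀ ℕ) (hnm : n ≤ m) (ha : lvl a ≤ n) :
    (m - n) • ones σ + bn n a = bn m a := by
  ext j
  rw [Finsupp.add_apply, Finsupp.smul_apply, ones_apply, bn_apply, bn_apply]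
  have := lt_lvl a j
  simp only [smul_eq_mul, mul_one]
  omega

theorem free_directLimit [Nonempty σ] (G : ℕ → Type u) [∀ i, AddCommGroup (G i)]
    [∀ i, Module (MvPolynomial σ A) (G i)]
    (f : ∀ i j, i ≤ j → G i →ₗ[MvPolynomial σ A] G j)
    (π : ∀ n, MvPolynomial σ A →ₗ[MvPolynomial σ A] G n)
    (hsurj : ∀ n, Function.Surjective (π n))
    (hker : ∀ n y, π n y = 0 ↔
      y ∈ Ideal.span ((fun j : σ => (X j : MvPolynomial σ A) ^ n) '' Set.univ))
    (htr : ∀ n m (h : n ≤ m) (y : MvPolynomial σ A),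
      f n m h (π n y) = π m ((∏ j : σ, (X j : MvPolynomial σ A)) ^ (m - n) * y)) :
    Module.Free A (RestrictScalars A (MvPolynomial σ A) (Module.DirectLimit G f)) := by
  set c : MvPolynomial σ A := ∏ j : σ, (X j : MvPolynomial σ A) with hc
  let e : (σ →₀ ℕ) → Module.DirectLimit G f := fun a => E f π (lvl a) (monomial (bn (lvl a) a) 1)
  have he : ∀ a n, lvl a ≤ n → e a = E f π n (monomial (bn n a) 1) := by
    intro a n hn
    show E f π (lvl a) _ = _
    rw [E_trans f π c htr (lvl a) n hn, hc, prod_X_pow_mul_monomial, shift_bn _ _ _ hn le_rfl]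
  have hsm : ∀ (a : σ →₀ ℕ) (n : ℕ) (x : A), lvl a ≤ n →
      algebraMap A (MvPolynomial σ A) x • e a = E f π n (monomial (bn n a) x) := by
    intro a n x hn
    rw [he a n hn, ← map_smul, smul_eq_mul, algebraMap_eq, C_mul_monomial, mul_one]
  apply free_of_family e
  · intro s g hg
    set n := s.sup lvl with hn_def
    have hn : ∀ a ∈ s, lvl a ≤ n := fun a ha => Finset.le_sup ha
    have h1 : ∑ a ∈ s, algebraMap A (MvPolynomial σ A) (g a) • e a =
        E f π n (∑ a ∈ s, monomial (bn n a) (g a)) := by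
      rw [map_sum]
      exact Finset.sum_congr rfl fun a ha => hsm a n (g a) (hn a ha)
    rw [h1, E_eq_zero_iff f π c hsurj htr _ hker] at hg
    obtain ⟨m, hm, hmem⟩ := hg
    have h2 : c ^ (m - n) * ∑ a ∈ s, monomial (bn n a) (g a) =
        ∑ a ∈ s, monomial (bn m a) (g a) := by
      rw [Finset.mul_sum]
      refine Finset.sum_congr rfl fun a ha => ?_
      rw [hc, prod_X_pow_mul_monomial, shift_bn _ _ _ hm (hn a ha)]
    rw [h2, mem_span_X_pow_iff] at hmem
    intro a₀ ha₀
    by_contra hne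
    have hcoeff : coeff (bn m a₀) (∑ a ∈ s, monomial (bn m a) (g a)) = g a₀ := by
      rw [coeff_sum, Finset.sum_eq_single a₀]
      · rw [coeff_monomial, if_pos rfl]
      · intro a ha hne'
        rw [coeff_monomial, if_neg]
        intro heq
        apply hne'
        ext j
        have h3 := DFunLike.congr_fun heq j
        rw [bn_apply, bn_apply] at h3
        have h4 := lt_lvl a j
        have h5 := lt_lvl a₀ j
        have h6 := hn a ha
        have h7 := hn a₀ ha₀
        omega
      · intro h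
        exact absurd ha₀ h
    obtain ⟨j, -, hj⟩ := hmem (bn m a₀) (by rw [mem_support_iff, hcoeff]; exact hne)
    rw [bn_apply] at hj
    have h5 := lt_lvl a₀ j
    have h7 := hn a₀ ha₀
    omega
  · intro T hT x
    obtain ⟨n, p, rfl⟩ := exists_E f π hsurj x
    have hp : E f π n p = ∑ b ∈ p.support, E f π n (monomial b (coeff b p)) := by
      conv_lhs => rw [p.as_sum]
      rw [map_sum]
    rw [hp]
    refine sum_mem fun b hb => ?_
    by_cases hbn : ∃ j, n ≤ b j
    · have h0 : E f π n (monomial b (coeff b p)) = 0 := by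
        rw [E_eq_zero_iff f π c hsurj htr _ hker]
        refine ⟨n, le_rfl, ?_⟩
        rw [Nat.sub_self, pow_zero, one_mul, mem_span_X_pow_iff]
        intro b' hb'
        have h8 := support_monomial_subset hb'
        rw [Finset.mem_singleton] at h8
        subst h8
        obtain ⟨j, hj⟩ := hbn
        exact ⟨j, Set.mem_univ j, hj⟩
      rw [h0]
      exact T.zero_mem
    · push Not at hbn
      have hn1 : 1 ≤ n := by
        obtain ⟨j⟩ := ‹Nonempty σ›
        have := hbn j
        omega
      have hNa : lvl (bn n b) ≤ n := by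
        refine lvl_le_of _ n hn1 fun j => ?_
        rw [bn_apply]
        omega
      have hbb : bn n (bn n b) = b := by
        ext j
        rw [bn_apply, bn_apply]
        have := hbn j
        omega
      have h9 : E f π n (monomial b (coeff b p)) =
          algebraMap A (MvPolynomial σ A) (coeff b p) • e (bn n b) := by
        rw [hsm (bn n b) n _ hNa, hbb]
      rw [h9]
      exact hT _ _

end FreeLimit

end Poly

end Groth.Agent.Lib.Helper21.KosPoly
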