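import Mathlib
import Groth.Agent.Lib.Helper21.FlatDescR
import Groth.Agent.S0112

/-!
# Helper21 — FlatDescS: finite presentation is fppf local on the source.

* `exists_finitePresentation_away_of_mem_range`: ring-level local form.
* `locallyOfFinitePresentation_of_fppf_comp`: `f` surjective flat lfp, `f ≫ q` lfp ⇒ `q` lfp.
-/

open AlgebraicGeometry CategoryTheory TopologicalSpace

universe u

namespace Groth.Agent.Lib.Helper21.FlatDesc

open TensorProduct Function

section LocalFP

attribute [local instance] Algebra.TensorProduct.rightAlgebra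

/-- **Local form of fppf descent of finite presentation on the source.** `R → A → B` with `B`
flat and finitely presented over `A` and finitely presented over `R`: every prime of `A` in the
image of `Spec B` has a basic open neighbourhood `D(a)` with `A_a` finitely presented over `R`. -/
theorem exists_finitePresentation_away_of_mem_range {R A B : Type u} [CommRing R] [CommRing A]
    [CommRing B] [Algebra R A] [Algebra A B] [Algebra R B] [IsScalarTower R A B]
    [Algebra.FinitePresentation R B] [Module.Flat A B] [Algebra.FinitePresentation A B]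
    (𝔭 : PrimeSpectrum A) (h𝔭 : 𝔭 ∈ Set.range (PrimeSpectrum.comap (algebraMap A B))) :
    ∃ a : A, a ∉ 𝔭.asIdeal ∧ Algebra.FinitePresentation R (Localization.Away a) := by
  have hopen : IsOpen (Set.range (PrimeSpectrum.comap (algebraMap A B))) :=
    (PrimeSpectrum.isOpenMap_comap_of_hasGoingDown_of_finitePresentation
      (R := A) (S := B)).isOpen_range
  obtain ⟨_, ⟨_, ⟨a, rfl⟩, rfl⟩, hmem, hsub⟩ :=
    PrimeSpectrum.isBasis_basic_opens.exists_subset_of_mem_open h𝔭 hopen
  refine ⟨a, hmem, ?_⟩
  haveI hff : Module.FaithfullyFlat (Localization.Away a) (Localization.Away a ⊗[A] B) := by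
    apply Module.FaithfullyFlat.of_comap_surjective
    intro 𝔮
    apply mem_range_comap_baseChange
    apply hsub
    show a ∉ (PrimeSpectrum.comap (algebraMap A (Localization.Away a)) 𝔮).asIdeal
    intro ha
    have hu : IsUnit (algebraMap A (Localization.Away a) a) :=
      IsLocalization.Away.algebraMap_isUnit a
    exact 𝔮.isPrime.ne_top (Ideal.eq_top_of_isUnit_mem _ ha hu)
  -- `R → A_a ⊗ B` is finitely presented
  have h1 : (algebraMap A (Localization.Away a)).FinitePresentation :=
    RingHom.finitePresentation_algebraMap.mpr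
      (IsLocalization.Away.finitePresentation a)
  have h2 : (algebraMap B (Localization.Away a ⊗[A] B)).FinitePresentation :=
    RingHom.finitePresentation_isStableUnderBaseChange A (Localization.Away a) B
      (Localization.Away a ⊗[A] B) h1
  have h3 : (algebraMap R B).FinitePresentation :=
    RingHom.finitePresentation_algebraMap.mpr inferInstance
  have h4 : algebraMap R (Localization.Away a ⊗[A] B) =
      (algebraMap B (Localization.Away a ⊗[A] B)).comp (algebraMap R B) := by
    ext r
    rw [RingHom.comp_apply, IsScalarTower.algebraMap_apply R (Localization.Away a)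
      (Localization.Away a ⊗[A] B), Algebra.TensorProduct.algebraMap_apply,
      IsScalarTower.algebraMap_apply R A (Localization.Away a),
      IsScalarTower.algebraMap_apply R A B]
    show _ = (1 : Localization.Away a) ⊗ₜ[A] (algebraMap A B (algebraMap R A r))
    simp only [Algebra.algebraMap_self, RingHom.id_apply]
    rw [Algebra.algebraMap_eq_smul_one (algebraMap R A r), TensorProduct.smul_tmul,
      ← Algebra.algebraMap_eq_smul_one]
  haveI : Algebra.FinitePresentation R (Localization.Away a ⊗[A] B) := by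
    rw [← RingHom.finitePresentation_algebraMap, h4]
    exact RingHom.FinitePresentation.comp h2 h3
  exact Groth.Agent.S0112.result (R := R) (A := Localization.Away a)
    (B := Localization.Away a ⊗[A] B)

end LocalFP


section Sch

variable {X Y S : Scheme.{u}}

theorem locallyOfFinitePresentation_of_fppf_comp (f : X ⟶ Y) (q : Y ⟶ S) [AlgebraicGeometry.Surjective f] [Flat f]
    [LocallyOfFinitePresentation f] [LocallyOfFinitePresentation (f ≫ q)] :
    LocallyOfFinitePresentation q := by
  rw [HasRingHomProperty.iff_exists_appLE (P := @LocallyOfFinitePresentation)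
    (RingHom.finitePresentation_stableUnderComposition.stableUnderCompositionWithLocalizationAway
      RingHom.finitePresentation_holdsForLocalizationAway).1]
  intro y
  obtain ⟨U, hU, hqy, -⟩ := Opens.isBasis_iff_nbhd.mp S.isBasis_affineOpens (Opens.mem_top (q y))
  obtain ⟨V, hV, hyV, hVU⟩ := Opens.isBasis_iff_nbhd.mp Y.isBasis_affineOpens
    (show y ∈ q ⁻¹ᵁ U from hqy)
  obtain ⟨x, rfl⟩ := f.surjective y
  obtain ⟨W, hW, hxW, hWV⟩ := Opens.isBasis_iff_nbhd.mp X.isBasis_affineOpens
    (show x ∈ f ⁻¹ᵁ V from hyV)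
  have hWU : W ≤ (f ≫ q) ⁻¹ᵁ U := hWV.trans ((Opens.map f.base).map (homOfLE hVU)).le
  letI algRA : Algebra Γ(S, U) Γ(Y, V) := (q.appLE U V hVU).hom.toAlgebra
  letI algAB : Algebra Γ(Y, V) Γ(X, W) := (f.appLE V W hWV).hom.toAlgebra
  letI algRB : Algebra Γ(S, U) Γ(X, W) := ((f ≫ q).appLE U W hWU).hom.toAlgebra
  haveI tow : IsScalarTower Γ(S, U) Γ(Y, V) Γ(X, W) := IsScalarTower.of_algebraMap_eq fun r => by
    have h := Scheme.Hom.appLE_comp_appLE f q U V W hVU hWV
    exact (congr($(h).hom r)).symm
  haveI hfpRB : Algebra.FinitePresentation Γ(S, U) Γ(X, W) :=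
    RingHom.finitePresentation_algebraMap.mp
      (HasRingHomProperty.appLE (P := @LocallyOfFinitePresentation) (f ≫ q) inferInstance
        ⟨U, hU⟩ ⟨W, hW⟩ hWU)
  haveI hfpAB : Algebra.FinitePresentation Γ(Y, V) Γ(X, W) :=
    RingHom.finitePresentation_algebraMap.mp
      (HasRingHomProperty.appLE (P := @LocallyOfFinitePresentation) f inferInstance
        ⟨V, hV⟩ ⟨W, hW⟩ hWV)
  haveI hflAB : Module.Flat Γ(Y, V) Γ(X, W) :=
    HasRingHomProperty.appLE (P := @Flat) f inferInstance ⟨V, hV⟩ ⟨W, hW⟩ hWV
  have hrange : hV.primeIdealOf ⟨f x, hyV⟩ ∈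
      Set.range (PrimeSpectrum.comap (algebraMap Γ(Y, V) Γ(X, W))) :=
    ⟨hW.primeIdealOf ⟨x, hxW⟩, IsAffineOpen.comap_primeIdealOf_appLE V hV W hW hWV hxW⟩
  obtain ⟨a, ha, hfpa⟩ := exists_finitePresentation_away_of_mem_range (R := Γ(S, U))
    (hV.primeIdealOf ⟨f x, hyV⟩) hrange
  have hyV' : f x ∈ Y.basicOpen a := by
    have h1 : hV.primeIdealOf ⟨f x, hyV⟩ ∈ hV.fromSpec ⁻¹ᵁ Y.basicOpen a := by
      rw [hV.fromSpec_preimage_basicOpen]
      exact ha
    have h2 : hV.fromSpec (hV.primeIdealOf ⟨f x, hyV⟩) = f x := hV.fromSpec_primeIdealOf ⟨f x, hyV⟩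
    rw [← h2]
    exact h1
  have hle : Y.basicOpen a ≤ V := Y.basicOpen_le a
  refine ⟨⟨U, hU⟩, ⟨Y.basicOpen a, hV.basicOpen a⟩, hyV', hle.trans hVU, ?_⟩
  haveI hloc : IsLocalization.Away a Γ(Y, Y.basicOpen a) := hV.isLocalization_basicOpen a
  let e : Localization.Away a ≃ₐ[Γ(Y, V)] Γ(Y, Y.basicOpen a) :=
    IsLocalization.algEquiv (Submonoid.powers a) _ _
  have h1 : (algebraMap Γ(S, U) (Localization.Away a)).FinitePresentation :=
    RingHom.finitePresentation_algebraMap.mpr hfpa
  have h2 : ((e : Localization.Away a →+* Γ(Y, Y.basicOpen a)).comp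
      (algebraMap Γ(S, U) (Localization.Away a))).FinitePresentation :=
    RingHom.FinitePresentation.comp (RingHom.FinitePresentation.of_bijective e.bijective) h1
  convert h2 using 1
  ext r
  have h3 := Scheme.Hom.appLE_map q hVU (homOfLE hle).op
  have h4 : (q.appLE U (Y.basicOpen a) (hle.trans hVU)).hom r =
      (Y.presheaf.map (homOfLE hle).op).hom ((q.appLE U V hVU).hom r) :=
    (congr($(h3).hom r)).symm
  rw [h4, RingHom.comp_apply, IsScalarTower.algebraMap_apply Γ(S, U) Γ(Y, V) (Localization.Away a)]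
  show _ = e (algebraMap Γ(Y, V) (Localization.Away a) _)
  rw [e.commutes]
  rfl

end Sch


end Groth.Agent.Lib.Helper21.FlatDesc
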