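import Mathlib
import Groth.Agent.Lib.helper11.ExtRegular

set_option autoImplicit false

namespace Groth.Agent.Lib.Helper21.ReesExt

open CategoryTheory Abelian

universe u


section General

universe w' v' u'

variable {C : Type u'} [Category.{v'} C] [Abelian C] [HasExt.{w'} C]
  {S : ShortComplex C} (hS : S.ShortExact) (Y : C)

include hS in
/-- Dimension shifting for vanishing. -/
lemma subsingleton_X₃_succ_iff (k : ℕ) (h0 : Subsingleton (Ext S.X₂ Y k))
    (h1 : Subsingleton (Ext S.X₂ Y (k + 1))) :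
    Subsingleton (Ext S.X₃ Y (k + 1)) ↔ Subsingleton (Ext S.X₁ Y k) := by
  constructor
  · intro h
    refine ⟨fun a b => ?_⟩
    have key : ∀ e : Ext S.X₁ Y k, e = 0 := by
      intro e
      have h2 : hS.extClass.comp e (add_comm 1 k) = 0 := Subsingleton.elim _ _
      obtain ⟨e₂, he₂⟩ := Ext.contravariant_sequence_exact₁ hS Y e (add_comm 1 k) h2
      rw [← he₂, Subsingleton.elim e₂ 0, Ext.comp_zero]
    rw [key a, key b]
  · intro h
    refine ⟨fun a b => ?_⟩
    have key : ∀ e : Ext S.X₃ Y (k + 1), e = 0 := by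
      intro e
      have h2 : (Ext.mk₀ S.g).comp e (zero_add _) = 0 := Subsingleton.elim _ _
      obtain ⟨e₁, he₁⟩ := Ext.contravariant_sequence_exact₃ hS Y e h2 (add_comm 1 k)
      rw [← he₁, Subsingleton.elim e₁ 0, Ext.comp_zero]
    rw [key a, key b]

include hS in
/-- Vanishing of `Ext^{k+1}(X₃, Y)` as surjectivity of restriction. -/
lemma subsingleton_X₃_succ_iff_surjective (k : ℕ) (h1 : Subsingleton (Ext S.X₂ Y (k + 1))) :
    Subsingleton (Ext S.X₃ Y (k + 1)) ↔
      Function.Surjective (fun e : Ext S.X₂ Y k => (Ext.mk₀ S.f).comp e (zero_add k)) := by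
  constructor
  · intro h e
    have h2 : hS.extClass.comp e (add_comm 1 k) = 0 := Subsingleton.elim _ _
    obtain ⟨e₂, he₂⟩ := Ext.contravariant_sequence_exact₁ hS Y e (add_comm 1 k) h2
    exact ⟨e₂, he₂⟩
  · intro h
    refine ⟨fun a b => ?_⟩
    have key : ∀ e : Ext S.X₃ Y (k + 1), e = 0 := by
      intro e
      have h2 : (Ext.mk₀ S.g).comp e (zero_add _) = 0 := Subsingleton.elim _ _
      obtain ⟨e₁, he₁⟩ := Ext.contravariant_sequence_exact₃ hS Y e h2 (add_comm 1 k)
      obtain ⟨e₂, rfl⟩ := h e₁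
      rw [← he₁]
      exact hS.extClass_comp_assoc e₂
    rw [key a, key b]

end General

variable {A : Type u} [CommRing A] (x : A)

/-- The quotient ring `A/(x)`. -/
abbrev Abar : Type u := A ⧸ Ideal.span {x}

/-- Restriction of scalars along `A → A/(x)`. -/
noncomputable abbrev F : ModuleCat.{u} (Abar x) ⥤ ModuleCat.{u} A :=
  ModuleCat.restrictScalars (Ideal.Quotient.mk (Ideal.span {x}))

variable {x}

lemma smul_F (N : ModuleCat.{u} (Abar x)) (n : (F x).obj N) : x • n = 0 := by
  have h0 : (Ideal.Quotient.mk (Ideal.span {x})) x = 0 :=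
    Ideal.Quotient.eq_zero_iff_mem.2 (Ideal.mem_span_singleton_self x)
  have h1 : x • n = (Ideal.Quotient.mk (Ideal.span {x})) x • (show N from n) := rfl
  rw [h1, h0, zero_smul]
  rfl

/-- An `A`-linear map between restricted modules is `A/(x)`-linear. -/
noncomputable def unF {N N' : ModuleCat.{u} (Abar x)} (φ : (F x).obj N ⟶ (F x).obj N') : N ⟶ N' :=
  ModuleCat.ofHom
    { toFun := fun n => φ.hom n
      map_add' := fun a b => map_add φ.hom a b
      map_smul' := fun r n => by
        obtain ⟨a, rfl⟩ := Ideal.Quotient.mk_surjective r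
        exact map_smul φ.hom a (show ((F x).obj N : Type u) from n) }

lemma F_map_unF {N N' : ModuleCat.{u} (Abar x)} (φ : (F x).obj N ⟶ (F x).obj N') :
    (F x).map (unF φ) = φ := by
  ext n
  rfl

lemma unF_F_map {N N' : ModuleCat.{u} (Abar x)} (ψ : N ⟶ N') : unF ((F x).map ψ) = ψ := by
  ext n
  rfl

/-- Image of a short exact sequence under restriction of scalars. -/
lemma shortExact_map_F {S : ShortComplex (ModuleCat.{u} (Abar x))} (hS : S.ShortExact) :
    (S.map (F x)).ShortExact := by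
  have h1 := (ShortComplex.ShortExact.moduleCat_exact_iff_function_exact S).1 hS.exact
  have h2 := (ModuleCat.mono_iff_injective S.f).1 hS.mono_f
  have h3 := (ModuleCat.epi_iff_surjective S.g).1 hS.epi_g
  exact ModuleCat.shortComplex_shortExact _ h1 h2 h3


section base

variable {Y : ModuleCat.{u} A} {Ybar : ModuleCat.{u} (Abar x)} {q : Y ⟶ (F x).obj Ybar}
  {w : (x • 𝟙 Y) ≫ q = 0} (hS : (ShortComplex.mk (x • 𝟙 Y) q w).ShortExact)

include hS in
lemma hom_F_eq_zero (N : ModuleCat.{u} (Abar x)) (φ : (F x).obj N ⟶ Y) : φ = 0 := by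
  have hinj : Function.Injective (x • 𝟙 Y : Y ⟶ Y).hom :=
    (ModuleCat.mono_iff_injective _).1 hS.mono_f
  ext n
  apply hinj
  have h1 : (x • 𝟙 Y : Y ⟶ Y).hom (φ.hom n) = x • φ.hom n := rfl
  have h2 : (x • 𝟙 Y : Y ⟶ Y).hom ((0 : (F x).obj N ⟶ Y).hom n) = 0 := by
    show x • (0 : Y) = 0
    exact smul_zero x
  rw [h1, h2, ← map_smul, smul_F, map_zero]

lemma comp_mk₀_smul_id {X : ModuleCat.{u} A} {n : ℕ} (e : Ext X Y n) :
    e.comp (Ext.mk₀ (x • 𝟙 Y)) (add_zero n) = x • e := by
  rw [Ext.mk₀_smul, Ext.comp_smul, Ext.comp_mk₀_id]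

lemma smul_ext_F (N : ModuleCat.{u} (Abar x)) {n : ℕ} (e : Ext ((F x).obj N) Y n) :
    x • e = 0 :=
  Groth.Agent.Lib.helper11.ExtRegular.smul_ext_eq_zero A x (fun n => smul_F N n) e

/-- The connecting map `Hom_A(N, Ȳ) → Ext¹_A(N, Y)` is bijective. -/
theorem delta0_bijective (N : ModuleCat.{u} (Abar x)) :
    Function.Bijective (fun φ : (F x).obj N ⟶ (F x).obj Ybar =>
      (Ext.mk₀ φ).comp hS.extClass (zero_add 1)) := by
  constructor
  · intro φ ψ h
    have h0 : (Ext.mk₀ (φ - ψ)).comp hS.extClass (zero_add 1) = 0 := by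
      rw [sub_eq_add_neg, Ext.mk₀_add, Ext.mk₀_neg, Ext.add_comp, Ext.neg_comp]
      exact add_neg_eq_zero.2 h
    obtain ⟨y, hy⟩ := Ext.covariant_sequence_exact₃ ((F x).obj N) hS (Ext.mk₀ (φ - ψ))
      (zero_add 1) h0
    obtain ⟨y', rfl⟩ := (Ext.mk₀_bijective _ _).2 y
    rw [hom_F_eq_zero hS N y', Ext.mk₀_zero, Ext.zero_comp] at hy
    have : φ - ψ = 0 := (Ext.mk₀_eq_zero_iff _).1 hy.symm
    exact sub_eq_zero.1 this
  · intro e
    have h0 : e.comp (Ext.mk₀ (x • 𝟙 Y)) (add_zero 1) = 0 := by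
      rw [comp_mk₀_smul_id, smul_ext_F]
    obtain ⟨y, hy⟩ := Ext.covariant_sequence_exact₁ ((F x).obj N) hS e h0 (zero_add 1)
    obtain ⟨φ, rfl⟩ := (Ext.mk₀_bijective _ _).2 y
    exact ⟨φ, hy⟩

end base

section free

variable (x) (ι : Type u)

/-- The free module on `ι` over `A`. -/
noncomputable abbrev Q : ModuleCat.{u} A := ModuleCat.of A (ι →₀ A)

/-- The free module on `ι` over `A/(x)`. -/
noncomputable abbrev P : ModuleCat.{u} (Abar x) := ModuleCat.of (Abar x) (ι →₀ Abar x)

instance : Projective (Q (A := A) ι) :=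
  (IsProjective.iff_projective (R := A) (P := (ι →₀ A))).mp inferInstance

instance : Projective (P x ι) :=
  (IsProjective.iff_projective (R := Abar x) (P := (ι →₀ Abar x))).mp inferInstance

/-- Reduction mod `x` on free modules. -/
noncomputable def gQ : Q (A := A) ι ⟶ (F x).obj (P x ι) :=
  ModuleCat.ofHom
    { toFun := fun v => Finsupp.mapRange (Ideal.Quotient.mk (Ideal.span {x})) (map_zero _) v
      map_add' := fun a b => Finsupp.mapRange_add (map_add _) a b
      map_smul' := fun r v => by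
        apply Finsupp.ext
        intro i
        simp only [Finsupp.smul_apply, Finsupp.mapRange_apply, smul_eq_mul, map_mul, RingHom.id_apply]
        rfl }

lemma gQ_apply (v : ι →₀ A) (i : ι) :
    (show ι →₀ Abar x from (gQ x ι).hom v) i = Ideal.Quotient.mk (Ideal.span {x}) (v i) :=
  Finsupp.mapRange_apply (hf := map_zero _)

lemma smul_id_gQ : (x • 𝟙 (Q (A := A) ι)) ≫ gQ x ι = 0 := by
  refine ModuleCat.hom_ext (LinearMap.ext fun v => ?_)
  have h1 : ((x • 𝟙 (Q (A := A) ι)) ≫ gQ x ι).hom v = (gQ x ι).hom (x • v) := rfl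
  rw [h1, map_smul, smul_F]
  rfl

/-- The short complex `0 → A^(ι) → A^(ι) → (A/x)^(ι) → 0`. -/
noncomputable abbrev freeSC : ShortComplex (ModuleCat.{u} A) :=
  ShortComplex.mk (x • 𝟙 (Q (A := A) ι)) (gQ x ι) (smul_id_gQ x ι)

variable {x} in
lemma freeSC_shortExact (hx : IsSMulRegular A x) : (freeSC x ι).ShortExact := by
  have hcancel : ∀ c : A, x * c = 0 → c = 0 := fun c hc =>
    hx (show x • c = x • 0 by rw [smul_eq_mul, smul_eq_mul, hc, mul_zero])
  refine ModuleCat.shortComplex_shortExact _ ?_ ?_ ?_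
  · intro v
    constructor
    · intro hv
      have hv' : ∀ i, ∃ b, x * b = v i := by
        intro i
        have h1 : Ideal.Quotient.mk (Ideal.span {x}) (v i) = 0 := by
          rw [← gQ_apply x ι v i]
          have : (show ι →₀ Abar x from (gQ x ι).hom v) = 0 := hv
          rw [this]
          rfl
        rw [Ideal.Quotient.eq_zero_iff_mem, Ideal.mem_span_singleton'] at h1
        obtain ⟨b, hb⟩ := h1
        exact ⟨b, by rw [mul_comm]; exact hb⟩
      classical
      let φ : A → A := fun a => if h : ∃ b, x * b = a then h.choose else 0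
      have hφ0 : φ 0 = 0 := by
        by_cases h : ∃ b, x * b = (0 : A)
        · have : φ 0 = h.choose := dif_pos h
          rw [this]
          exact hcancel _ h.choose_spec
        · exact dif_neg h
      have hφ : ∀ a, (∃ b, x * b = a) → x * φ a = a := by
        intro a h
        have : φ a = h.choose := dif_pos h
        rw [this]
        exact h.choose_spec
      refine ⟨Finsupp.mapRange φ hφ0 v, ?_⟩
      apply Finsupp.ext
      intro i
      have h1 : ((x • 𝟙 (Q (A := A) ι) : Q (A := A) ι ⟶ Q (A := A) ι).hom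
          (Finsupp.mapRange φ hφ0 v)) = x • (Finsupp.mapRange φ hφ0 v) := rfl
      show ((x • 𝟙 (Q (A := A) ι) : Q (A := A) ι ⟶ Q (A := A) ι).hom
          (Finsupp.mapRange φ hφ0 v)) i = v i
      rw [h1, Finsupp.smul_apply, Finsupp.mapRange_apply, smul_eq_mul]
      exact hφ _ (hv' i)
    · rintro ⟨w, rfl⟩
      have := congrArg (fun f => f.hom w) (smul_id_gQ x ι)
      exact this
  · intro v w hvw
    have h1 : x • v = x • w := hvw
    apply Finsupp.ext
    intro i
    have h2 := congrArg (fun f => f i) h1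
    simp only [Finsupp.smul_apply, smul_eq_mul] at h2
    have h3 : x * (v i - w i) = 0 := by rw [mul_sub, h2, sub_self]
    exact sub_eq_zero.1 (hcancel _ h3)
  · intro w
    obtain ⟨v, hv⟩ := Finsupp.mapRange_surjective (Ideal.Quotient.mk (Ideal.span {x}))
      (map_zero _) Ideal.Quotient.mk_surjective (show ι →₀ Abar x from w)
    exact ⟨v, hv⟩

variable {x} in
lemma subsingleton_ext_F_P (hx : IsSMulRegular A x) (Y : ModuleCat.{u} A) (j : ℕ) (hj : 2 ≤ j) :
    Subsingleton (Ext ((F x).obj (P x ι)) Y j) := by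
  obtain ⟨k, rfl⟩ : ∃ k, j = k + 2 := ⟨j - 2, by omega⟩
  have h0 : Subsingleton (Ext (freeSC x ι).X₂ Y (k + 1)) :=
    ⟨fun a b => by rw [Ext.eq_zero_of_projective a, Ext.eq_zero_of_projective b]⟩
  have h1 : Subsingleton (Ext (freeSC x ι).X₂ Y (k + 1 + 1)) :=
    ⟨fun a b => by rw [Ext.eq_zero_of_projective a, Ext.eq_zero_of_projective b]⟩
  have h2 : Subsingleton (Ext (freeSC x ι).X₁ Y (k + 1)) :=
    ⟨fun a b => by rw [Ext.eq_zero_of_projective a, Ext.eq_zero_of_projective b]⟩
  exact (subsingleton_X₃_succ_iff (freeSC_shortExact ι hx) Y (k + 1) h0 h1).2 h2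

end free

section res

variable (B : Type u) [CommRing B]

/-- The free module on `ι`. -/
noncomputable abbrev freeMod (ι : Type u) : ModuleCat.{u} B := ModuleCat.of B (ι →₀ B)

instance (ι : Type u) : Projective (freeMod B ι) :=
  (IsProjective.iff_projective (R := B) (P := (ι →₀ B))).mp inferInstance

/-- The kernel of the canonical free cover. -/
noncomputable abbrev kerN (N : ModuleCat.{u} B) : Submodule B (N →₀ B) :=
  LinearMap.ker (Finsupp.linearCombination B (id : N → N))

/-- The canonical free presentation `0 → K → P → N → 0`. -/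
noncomputable abbrev resSC (N : ModuleCat.{u} B) : ShortComplex (ModuleCat.{u} B) :=
  ShortComplex.mk (X₁ := ModuleCat.of B (kerN B N)) (X₂ := freeMod B N) (X₃ := N)
    (ModuleCat.ofHom (kerN B N).subtype)
    (ModuleCat.ofHom (Finsupp.linearCombination B (id : N → N)))
    (by
      refine ModuleCat.hom_ext (LinearMap.ext fun k => ?_)
      exact k.2)

lemma resSC_shortExact (N : ModuleCat.{u} B) : (resSC B N).ShortExact := by
  refine ModuleCat.shortComplex_shortExact _ ?_ ?_ ?_
  · exact LinearMap.exact_subtype_ker_map (Finsupp.linearCombination B (id : N → N))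
  · exact Submodule.injective_subtype (kerN B N)
  · exact Finsupp.linearCombination_id_surjective B N

end res

lemma surjective_iff_of_square {T₁ T₂ T₁' T₂' : Type*} (f : T₁ → T₂) (f' : T₁' → T₂')
    (a : T₁ → T₁') (b : T₂ → T₂') (ha : Function.Bijective a) (hb : Function.Bijective b)
    (h : ∀ t, b (f t) = f' (a t)) : Function.Surjective f ↔ Function.Surjective f' := by
  have h1 : f' ∘ a = b ∘ f := funext fun t => (h t).symm
  rw [← Function.Surjective.of_comp_iff f' ha.surjective, h1,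
    Function.Surjective.of_comp_iff' hb f]

section rees

variable {Y : ModuleCat.{u} A} {Ybar : ModuleCat.{u} (Abar x)} {q : Y ⟶ (F x).obj Ybar}
  {w : (x • 𝟙 Y) ≫ q = 0} (hS : (ShortComplex.mk (x • 𝟙 Y) q w).ShortExact)

/-- The natural map `Hom_{A/x}(N, Ȳ) → Ext¹_A(N, Y)`. -/
noncomputable def Phi (N : ModuleCat.{u} (Abar x)) (ψ : N ⟶ Ybar) : Ext ((F x).obj N) Y 1 :=
  (Ext.mk₀ ((F x).map ψ)).comp hS.extClass (zero_add 1)

lemma Phi_bijective (N : ModuleCat.{u} (Abar x)) : Function.Bijective (Phi hS N) := by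
  have h1 : Function.Bijective (fun ψ : N ⟶ Ybar => (F x).map ψ) := by
    constructor
    · intro a b hab
      have := congrArg unF hab
      simpa only [unF_F_map] using this
    · intro φ
      exact ⟨unF φ, F_map_unF φ⟩
  exact (delta0_bijective hS N).comp h1

lemma Phi_natural {N N' : ModuleCat.{u} (Abar x)} (α : N' ⟶ N) (ψ : N ⟶ Ybar) :
    Phi hS N' (α ≫ ψ) = (Ext.mk₀ ((F x).map α)).comp (Phi hS N ψ) (zero_add 1) := by
  unfold Phi
  rw [Functor.map_comp]
  exact (Ext.mk₀_comp_mk₀_assoc _ _ _).symm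

include hS in
/-- **Rees' change of rings**, vanishing form:
`Ext^{i+1}_A(N, Y) = 0 ↔ Ext^i_{A/x}(N, Y/xY) = 0`. -/
theorem rees_subsingleton_iff (hx : IsSMulRegular A x) (i : ℕ) :
    ∀ N : ModuleCat.{u} (Abar x),
      Subsingleton (Ext ((F x).obj N) Y (i + 1)) ↔ Subsingleton (Ext N Ybar i) := by
  induction i with
  | zero =>
    intro N
    have e1 : (N ⟶ Ybar) ≃ Ext ((F x).obj N) Y 1 := Equiv.ofBijective _ (Phi_bijective hS N)
    have e2 : (N ⟶ Ybar) ≃ Ext N Ybar 0 := Equiv.ofBijective _ (Ext.mk₀_bijective N Ybar)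
    exact (e1.symm.trans e2).subsingleton_congr
  | succ i ih =>
    intro N
    have hSN := resSC_shortExact (Abar x) N
    have hSF := shortExact_map_F hSN
    have hP : ∀ k, Subsingleton (Ext (P x N) Ybar (k + 1)) := fun k =>
      ⟨fun a b => by rw [Ext.eq_zero_of_projective a, Ext.eq_zero_of_projective b]⟩
    have hFP : ∀ k, 2 ≤ k → Subsingleton (Ext ((F x).obj (P x N)) Y k) := fun k hk =>
      subsingleton_ext_F_P N hx Y k hk
    rcases i with _ | i
    · -- i = 0: Ext² vs Ext¹
      have hA := subsingleton_X₃_succ_iff_surjective hSF Y 1 (hFP 2 le_rfl)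
      have hB := subsingleton_X₃_succ_iff_surjective hSN Ybar 0 (hP 0)
      rw [show (0 + 1 + 1 : ℕ) = 1 + 1 from rfl]
      refine hA.trans (Iff.trans ?_ hB.symm)
      have hC : Function.Surjective (fun ψ : P x N ⟶ Ybar => (resSC (Abar x) N).f ≫ ψ) ↔
          Function.Surjective (fun e : Ext ((resSC (Abar x) N).map (F x)).X₂ Y 1 =>
            (Ext.mk₀ ((resSC (Abar x) N).map (F x)).f).comp e (zero_add 1)) :=
        surjective_iff_of_square _ _ (Phi hS (P x N)) (Phi hS (resSC (Abar x) N).X₁)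
          (Phi_bijective hS _) (Phi_bijective hS _) (fun ψ => Phi_natural hS _ ψ)
      have hD : Function.Surjective (fun ψ : P x N ⟶ Ybar => (resSC (Abar x) N).f ≫ ψ) ↔
          Function.Surjective (fun e : Ext (resSC (Abar x) N).X₂ Ybar 0 =>
            (Ext.mk₀ (resSC (Abar x) N).f).comp e (zero_add 0)) :=
        surjective_iff_of_square _ _ Ext.mk₀ Ext.mk₀
          (Ext.mk₀_bijective _ _) (Ext.mk₀_bijective _ _)
          (fun ψ => (Ext.mk₀_comp_mk₀ _ _).symm)
      exact hC.symm.trans hD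
    · have hA := subsingleton_X₃_succ_iff hSF Y (i + 2) (hFP _ (by omega)) (hFP _ (by omega))
      have hB := subsingleton_X₃_succ_iff hSN Ybar (i + 1) (hP i) (hP (i + 1))
      exact hA.trans ((ih (resSC (Abar x) N).X₁).trans hB.symm)

end rees

end Groth.Agent.Lib.Helper21.ReesExt
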