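import Mathlib
import Groth.Agent.Lib.Helper5.StalkBCD
import Groth.Agent.Lib.Helper21.FibreBCAlg

set_option autoImplicit false
universe u
open AlgebraicGeometry CategoryTheory Limits TensorProduct IsLocalRing

namespace Groth.Agent.Lib.Helper21.FibreBC

variable {X Y X' Y' : Scheme.{u}} (f : X ⟶ Y) (f' : X' ⟶ Y') (g' : X' ⟶ X) (g : Y' ⟶ Y)

/-- the residue field extension as an algebra -/
noncomputable abbrev resAlg (y' : Y') : Algebra (Y.residueField (g y')) (Y'.residueField y') :=
  (g.residueFieldMap y').hom.toAlgebra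

/-- the fibre as a scheme over the residue field -/
noncomputable abbrev fibOver (y : Y) :
    (f.fiber y).Over (Spec (CommRingCat.of (Y.residueField y))) :=
  ⟨f.fiberToSpecResidueField y⟩

attribute [local instance] resAlg fibOver

variable {f f' g' g}

/-- the fibre of the base change is the base change of the fibre. -/
noncomputable def fiberIsoBC (hc : IsPullback g' f' f g) (y' : Y') :
    f'.fiber y' ≅ Curv2.bc (Y.residueField (g y')) (f.fiber (g y')) (Y'.residueField y') :=
  (isPullback_fiberToSpecResidueField_of_isPullback hc y').isoPullback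

theorem fiberIsoBC_hom_fst (hc : IsPullback g' f' f g) (y' : Y') :
    (fiberIsoBC hc y').hom ≫ Curv2.bcFst (Y.residueField (g y')) (f.fiber (g y')) (Y'.residueField y') =
      pullback.map _ _ _ _ g' (Spec.map (g.residueFieldMap y')) g hc.w.symm (by simp) :=
  (isPullback_fiberToSpecResidueField_of_isPullback hc y').isoPullback_hom_fst

/-- a point of a fibre with known image -/
theorem nonempty_stalk_equiv_asFiber (f : X ⟶ Y) (x : X) (y : Y) (x₁ : f.fiber y)
    (h : f.fiberι y x₁ = x) :
    Nonempty ((f.fiber y).presheaf.stalk x₁ ≃+*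
      (f.fiber (f x)).presheaf.stalk (f.asFiber x)) := by
  have hy : f x = y := by
    have h1 : f.fiberι y x₁ ∈ f ⁻¹' {y} := by
      rw [← f.range_fiberι y]; exact ⟨x₁, rfl⟩
    rw [h] at h1
    exact h1
  subst hy
  have h2 : x₁ = f.asFiber x :=
    (f.fiberι _).isEmbedding.injective (h.trans (f.fiberι_asFiber x).symm)
  subst h2
  exact ⟨RingEquiv.refl _⟩

attribute [local instance] Curv2.stalkAlgebra

theorem exists_fibre_stalk_bc_aux (hc : IsPullback g' f' f g) (y' : Y') (z' : f'.fiber y') :
    ∃ (x₁ : f.fiber (g y')) (_ : f.fiberι _ x₁ = g' (f'.fiberι y' z'))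
      (Q : Ideal ((f.fiber (g y')).presheaf.stalk x₁ ⊗[Y.residueField (g y')]
        Y'.residueField y')) (_ : Q.IsPrime),
      Q.comap (Algebra.TensorProduct.includeLeftRingHom :
        (f.fiber (g y')).presheaf.stalk x₁ →+* _) = maximalIdeal _ ∧
      Nonempty ((f'.fiber y').presheaf.stalk z' ≃+* Localization.AtPrime Q) := by
  set x'' := (fiberIsoBC hc y').hom z' with hx''
  obtain ⟨Q, hQ, hQm, ⟨e⟩⟩ := Groth.Agent.Lib.Helper5.StalkBC.exists_equiv_of_point
    (Y.residueField (g y')) (f.fiber (g y')) (Y'.residueField y') x''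
  refine ⟨Curv2.bcFst (Y.residueField (g y')) (f.fiber (g y')) (Y'.residueField y') x'', ?_,
    Q, hQ, hQm, ?_⟩
  · have h1 : Curv2.bcFst (Y.residueField (g y')) (f.fiber (g y')) (Y'.residueField y') x'' =
        (pullback.map _ _ _ _ g' (Spec.map (g.residueFieldMap y')) g hc.w.symm (by simp)) z' := by
      rw [hx'', ← Scheme.Hom.comp_apply, fiberIsoBC_hom_fst]
      rfl
    have h2 : pullback.map _ _ _ _ g' (Spec.map (g.residueFieldMap y')) g hc.w.symm (by simp) ≫
        f.fiberι (g y') = f'.fiberι y' ≫ g' := by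
      unfold Scheme.Hom.fiberι pullback.map
      exact pullback.lift_fst _ _ _
    rw [h1]
    exact congr($(h2) z')
  · let e1 : (f'.fiber y').presheaf.stalk z' ≃+* _ :=
      (asIso ((fiberIsoBC hc y').hom.stalkMap z')).commRingCatIsoToRingEquiv.symm
    exact ⟨e1.trans e⟩

theorem exists_fibre_stalk_bc (hc : IsPullback g' f' f g) (x' : X') :
    ∃ (x₁ : f.fiber (g (f' x'))) (_ : f.fiberι _ x₁ = g' x')
      (Q : Ideal ((f.fiber (g (f' x'))).presheaf.stalk x₁ ⊗[Y.residueField (g (f' x'))]
        Y'.residueField (f' x'))) (_ : Q.IsPrime),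
      Q.comap (Algebra.TensorProduct.includeLeftRingHom :
        (f.fiber (g (f' x'))).presheaf.stalk x₁ →+* _) = maximalIdeal _ ∧
      Nonempty ((f'.fiber (f' x')).presheaf.stalk (f'.asFiber x') ≃+* Localization.AtPrime Q) := by
  obtain ⟨x₁, h1, Q, hQ, hQm, he⟩ := exists_fibre_stalk_bc_aux hc (f' x') (f'.asFiber x')
  rw [Scheme.Hom.fiberι_asFiber] at h1
  exact ⟨x₁, h1, Q, hQ, hQm, he⟩

theorem essFiniteType_residueFieldMap [LocallyOfFiniteType g] (y' : Y') :
    Algebra.EssFiniteType (Y.residueField (g y')) (Y'.residueField y') := by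
  have h1 : (g.stalkMap y').hom.EssFiniteType := LocallyOfFiniteType.stalkMap g y'
  letI : Algebra (Y.presheaf.stalk (g y')) (Y'.presheaf.stalk y') := (g.stalkMap y').hom.toAlgebra
  haveI : Algebra.EssFiniteType (Y.presheaf.stalk (g y')) (Y'.presheaf.stalk y') := h1
  letI : Algebra (Y.presheaf.stalk (g y')) (Y.residueField (g y')) :=
    (Y.residue (g y')).hom.toAlgebra
  letI : Algebra (Y'.presheaf.stalk y') (Y'.residueField y') := (Y'.residue y').hom.toAlgebra
  letI : Algebra (Y.presheaf.stalk (g y')) (Y'.residueField y') :=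
    ((Y'.residue y').hom.comp (g.stalkMap y').hom).toAlgebra
  haveI : IsScalarTower (Y.presheaf.stalk (g y')) (Y'.presheaf.stalk y') (Y'.residueField y') :=
    .of_algebraMap_eq (fun _ => rfl)
  haveI : IsScalarTower (Y.presheaf.stalk (g y')) (Y.residueField (g y')) (Y'.residueField y') :=
    .of_algebraMap_eq (fun a => by
      exact (congr($(Scheme.residue_residueFieldMap g y').hom a)).symm)
  haveI : Algebra.FiniteType (Y'.presheaf.stalk y') (Y'.residueField y') :=
    .of_surjective (Algebra.ofId _ _) IsLocalRing.residue_surjective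
  haveI : Algebra.EssFiniteType (Y.presheaf.stalk (g y')) (Y'.residueField y') :=
    Algebra.EssFiniteType.comp _ (Y'.presheaf.stalk y') _
  exact Algebra.EssFiniteType.of_comp (Y.presheaf.stalk (g y')) _ _

open Groth.Agent.Lib.Helper21.FibreBCAlg in
/-- **Cohen–Macaulayness of the fibre at a point is invariant under base change**
(`g` locally of finite type). -/
theorem isCM_fibre_stalk_iff [LocallyOfFiniteType g] (hc : IsPullback g' f' f g) (x' : X')
    [IsLocallyNoetherian (f.fiber (g (f' x')))] :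
    LocCoh.IsCohenMacaulayLocalRing ((f'.fiber (f' x')).presheaf.stalk (f'.asFiber x')) ↔
      LocCoh.IsCohenMacaulayLocalRing
        ((f.fiber (f (g' x'))).presheaf.stalk (f.asFiber (g' x'))) := by
  obtain ⟨x₁, h1, Q, hQ, hQm, ⟨e⟩⟩ := exists_fibre_stalk_bc hc x'
  obtain ⟨e2⟩ := nonempty_stalk_equiv_asFiber f (g' x') (g (f' x')) x₁ h1
  haveI := essFiniteType_residueFieldMap (g := g) (f' x')
  have h := cm_loc_tensor_iff (Y.residueField (g (f' x')))
    ((f.fiber (g (f' x'))).presheaf.stalk x₁) (Y'.residueField (f' x')) (Or.inr inferInstance) Q hQm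
  constructor
  · intro h'
    exact isCMLocal_of_ringEquiv e2 (h.1 (isCMLocal_of_ringEquiv e h'))
  · intro h'
    exact isCMLocal_of_ringEquiv e.symm (h.2 (isCMLocal_of_ringEquiv e2.symm h'))

end Groth.Agent.Lib.Helper21.FibreBC
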