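import Mathlib
import Groth.Agent.Lib.Helper21.FibreBC

set_option autoImplicit false
universe u
open AlgebraicGeometry CategoryTheory Limits TensorProduct IsLocalRing

namespace Groth.Agent.Lib.Helper21.FibreBC

/-- local rings of a scheme locally of finite type over a field are essentially of finite type. -/
theorem essFiniteType_curvStalkMap (k : Type u) [Field k] (X : Scheme.{u})
    [X.Over (Spec (CommRingCat.of k))] [LocallyOfFiniteType (X ↘ Spec (CommRingCat.of k))] (x : X) :
    (Curv2.stalkMap k X x).EssFiniteType := by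
  obtain ⟨U, hU, hxU, -⟩ := exists_isAffineOpen_mem_and_subset (x := x) (U := ⊤) trivial
  set h := X ↘ Spec (CommRingCat.of k) with hh
  have h1 : (((h.appLE ⊤ U le_top).hom).comp
      (Scheme.ΓSpecIso (CommRingCat.of k)).inv.hom).FiniteType := by
    have hsurj : Function.Surjective (Scheme.ΓSpecIso (CommRingCat.of k)).inv.hom :=
      (ConcreteCategory.bijective_of_isIso (Scheme.ΓSpecIso (CommRingCat.of k)).inv).2
    exact RingHom.FiniteType.comp (h.finiteType_appLE (isAffineOpen_top _) hU le_top)
      (RingHom.FiniteType.of_surjective _ hsurj)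
  have h2 : (X.presheaf.germ U x hxU).hom.EssFiniteType := by
    letI := TopCat.Presheaf.algebra_section_stalk X.presheaf ⟨x, hxU⟩
    haveI := hU.isLocalization_stalk ⟨x, hxU⟩
    have : Algebra.EssFiniteType Γ(X, U) (X.presheaf.stalk x) :=
      .of_isLocalization _ (hU.primeIdealOf ⟨x, hxU⟩).asIdeal.primeCompl
    exact RingHom.essFiniteType_algebraMap.mpr this
  have heq : Curv2.stalkMap k X x = (X.presheaf.germ U x hxU).hom.comp
      (((h.appLE ⊤ U le_top).hom).comp (Scheme.ΓSpecIso (CommRingCat.of k)).inv.hom) := by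
    ext c
    simp only [Curv2.stalkMap, Coh.toGlobal, RingHom.comp_apply, Scheme.Hom.appLE]
    rw [CommRingCat.comp_apply]
    exact (TopCat.Presheaf.germ_res_apply X.presheaf (homOfLE _) x hxU _).symm
  rw [heq]
  exact (h1.essFiniteType).comp h2

variable {X Y X' Y' : Scheme.{u}} {f : X ⟶ Y} {f' : X' ⟶ Y'} {g' : X' ⟶ X} {g : Y' ⟶ Y}

attribute [local instance] resAlg fibOver Curv2.stalkAlgebra

open Groth.Agent.Lib.Helper21.FibreBCAlg in
/-- **Cohen–Macaulayness of the fibre at a point is invariant under base change**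
(`f` locally of finite type, arbitrary base change). -/
theorem isCM_fibre_stalk_iff' [LocallyOfFiniteType f] (hc : IsPullback g' f' f g) (x' : X') :
    LocCoh.IsCohenMacaulayLocalRing ((f'.fiber (f' x')).presheaf.stalk (f'.asFiber x')) ↔
      LocCoh.IsCohenMacaulayLocalRing
        ((f.fiber (f (g' x'))).presheaf.stalk (f.asFiber (g' x'))) := by
  haveI hft : LocallyOfFiniteType (f.fiberToSpecResidueField (g (f' x'))) :=
    MorphismProperty.pullback_snd _ _ inferInstance
  haveI : IsLocallyNoetherian (f.fiber (g (f' x'))) :=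
    LocallyOfFiniteType.isLocallyNoetherian (f.fiberToSpecResidueField _)
  haveI : LocallyOfFiniteType ((f.fiber (g (f' x'))) ↘
      Spec (CommRingCat.of (Y.residueField (g (f' x'))))) := hft
  obtain ⟨x₁, h1, Q, hQ, hQm, ⟨e⟩⟩ := exists_fibre_stalk_bc hc x'
  obtain ⟨e2⟩ := nonempty_stalk_equiv_asFiber f (g' x') (g (f' x')) x₁ h1
  have hE : Algebra.EssFiniteType (Y.residueField (g (f' x')))
      ((f.fiber (g (f' x'))).presheaf.stalk x₁) :=
    essFiniteType_curvStalkMap (Y.residueField (g (f' x'))) (f.fiber (g (f' x'))) x₁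
  have h := cm_loc_tensor_iff (Y.residueField (g (f' x')))
    ((f.fiber (g (f' x'))).presheaf.stalk x₁) (Y'.residueField (f' x')) (Or.inl hE) Q hQm
  constructor
  · intro h'
    exact isCMLocal_of_ringEquiv e2 (h.1 (isCMLocal_of_ringEquiv e h'))
  · intro h'
    exact isCMLocal_of_ringEquiv e.symm (h.2 (isCMLocal_of_ringEquiv e2.symm h'))

end Groth.Agent.Lib.Helper21.FibreBC
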