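import Mathlib
import Groth.Agent.Lib.Helper21.FibreBC2
import Groth.Agent.S1760

set_option autoImplicit false
universe u
open AlgebraicGeometry CategoryTheory Limits TensorProduct IsLocalRing

namespace Groth.Agent.Lib.Helper21.FibreBC

open Groth.Agent.Lib.Helper5 in
/-- **Gorensteinness of a local ring and field extension of the base.** -/
theorem gor_loc_tensor_iff (k F k' : Type u) [Field k] [CommRing F] [IsLocalRing F]
    [IsNoetherianRing F] [Algebra k F] [Field k'] [Algebra k k']
    (hft : Algebra.EssFiniteType k F ∨ Algebra.EssFiniteType k k')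
    (Q : Ideal (F ⊗[k] k')) [hQp : Q.IsPrime]
    (hQ : Q.comap (Algebra.TensorProduct.includeLeftRingHom : F →+* F ⊗[k] k') =
      maximalIdeal F) :
    LocCoh.IsGorensteinLocalRing (Localization.AtPrime Q) ↔
      LocCoh.IsGorensteinLocalRing F := by
  rcases hft with h | h
  · haveI := h
    haveI : IsNoetherianRing (F ⊗[k] k') := by
      haveI : Algebra.EssFiniteType k' (k' ⊗[k] F) := inferInstance
      haveI : IsNoetherianRing (k' ⊗[k] F) := Algebra.EssFiniteType.isNoetherianRing k' _
      exact isNoetherianRing_of_ringEquiv _ (Algebra.TensorProduct.comm k k' F).toRingEquiv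
    haveI hover : Q.LiesOver (maximalIdeal F) := ⟨hQ.symm⟩
    haveI : Algebra.EssFiniteType k (maximalIdeal F).ResidueField :=
      Algebra.EssFiniteType.comp k F _
    have hfg : ∃ s : Finset (maximalIdeal F).ResidueField,
        IntermediateField.adjoin k (s : Set (maximalIdeal F).ResidueField) = ⊤ :=
      IntermediateField.fg_top_iff.2 inferInstance
    have h0 : LocCoh.IsGorensteinRing (k' ⊗[k] (maximalIdeal F).ResidueField) :=
      GorFibre.isGorensteinRing_tensor_of_fg k (maximalIdeal F).ResidueField hfg k'
    have hfib : LocCoh.IsGorensteinRing ((maximalIdeal F).Fiber (F ⊗[k] k')) :=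
      GorFibre.isGorensteinRing_of_ringEquiv
        (GorFibre.fiberTensorEquiv k F k' _).symm
        (GorFibre.isGorensteinRing_of_ringEquiv
          (Algebra.TensorProduct.comm k k' (maximalIdeal F).ResidueField).toRingEquiv h0)
    have h1 := GorFibre.gorenstein_localization_iff F (F ⊗[k] k') (maximalIdeal F) Q hfib
    let e : F ≃ₐ[F] (Localization.AtPrime (maximalIdeal F)) :=
      IsLocalization.atUnits F (maximalIdeal F).primeCompl (fun x => by simpa using! fun a => a)
    have h2 : LocCoh.IsGorensteinLocalRing F ↔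
        LocCoh.IsGorensteinLocalRing (Localization.AtPrime (maximalIdeal F)) :=
      ⟨fun h => GorIso.isGorensteinLocalRing_of_ringEquiv e.toRingEquiv,
        fun h => GorIso.isGorensteinLocalRing_of_ringEquiv e.toRingEquiv.symm⟩
    exact (h2.trans h1).symm
  · haveI := h
    have hfg : ∃ s : Finset k', IntermediateField.adjoin k (s : Set k') = ⊤ :=
      IntermediateField.fg_top_iff.2 inferInstance
    exact (Groth.Agent.S1760.result k k' hfg F ⟨Q, hQp⟩ hQ).symm

variable {X Y X' Y' : Scheme.{u}} {f : X ⟶ Y} {f' : X' ⟶ Y'} {g' : X' ⟶ X} {g : Y' ⟶ Y}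

attribute [local instance] resAlg fibOver Curv2.stalkAlgebra

open Groth.Agent.Lib.Helper5 in
/-- Gorensteinness of the fibre at a point is invariant under base change
(`g` locally of finite type). -/
theorem isGor_fibre_stalk_iff [LocallyOfFiniteType g] (hc : IsPullback g' f' f g) (x' : X')
    [IsLocallyNoetherian (f.fiber (g (f' x')))] :
    LocCoh.IsGorensteinLocalRing ((f'.fiber (f' x')).presheaf.stalk (f'.asFiber x')) ↔
      LocCoh.IsGorensteinLocalRing
        ((f.fiber (f (g' x'))).presheaf.stalk (f.asFiber (g' x'))) := by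
  obtain ⟨x₁, h1, Q, hQ, hQm, ⟨e⟩⟩ := exists_fibre_stalk_bc hc x'
  obtain ⟨e2⟩ := nonempty_stalk_equiv_asFiber f (g' x') (g (f' x')) x₁ h1
  haveI := essFiniteType_residueFieldMap (g := g) (f' x')
  have h := gor_loc_tensor_iff (Y.residueField (g (f' x')))
    ((f.fiber (g (f' x'))).presheaf.stalk x₁) (Y'.residueField (f' x')) (Or.inr inferInstance) Q hQm
  constructor
  · intro h'
    haveI := h'
    haveI := GorIso.isGorensteinLocalRing_of_ringEquiv e
    haveI := h.1 inferInstance
    exact GorIso.isGorensteinLocalRing_of_ringEquiv e2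
  · intro h'
    haveI := h'
    haveI := GorIso.isGorensteinLocalRing_of_ringEquiv e2.symm
    haveI := h.2 inferInstance
    exact GorIso.isGorensteinLocalRing_of_ringEquiv e.symm

open Groth.Agent.Lib.Helper5 in
/-- Gorensteinness of the fibre at a point is invariant under base change
(`f` locally of finite type, arbitrary base change). -/
theorem isGor_fibre_stalk_iff' [LocallyOfFiniteType f] (hc : IsPullback g' f' f g) (x' : X') :
    LocCoh.IsGorensteinLocalRing ((f'.fiber (f' x')).presheaf.stalk (f'.asFiber x')) ↔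
      LocCoh.IsGorensteinLocalRing
        ((f.fiber (f (g' x'))).presheaf.stalk (f.asFiber (g' x'))) := by
  haveI hft : LocallyOfFiniteType (f.fiberToSpecResidueField (g (f' x'))) :=
    MorphismProperty.pullback_snd _ _ inferInstance
  haveI : IsLocallyNoetherian (f.fiber (g (f' x'))) :=
    LocallyOfFiniteType.isLocallyNoetherian (f.fiberToSpecResidueField _)
  haveI : LocallyOfFiniteType ((f.fiber (g (f' x'))) ↘
      Spec (CommRingCat.of (Y.residueField (g (f' x'))))) := hft
  obtain ⟨x₁, h1, Q, hQ, hQm, ⟨e⟩⟩ := exists_fibre_stalk_bc hc x'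
  obtain ⟨e2⟩ := nonempty_stalk_equiv_asFiber f (g' x') (g (f' x')) x₁ h1
  have hE : Algebra.EssFiniteType (Y.residueField (g (f' x')))
      ((f.fiber (g (f' x'))).presheaf.stalk x₁) :=
    essFiniteType_curvStalkMap (Y.residueField (g (f' x'))) (f.fiber (g (f' x'))) x₁
  have h := gor_loc_tensor_iff (Y.residueField (g (f' x')))
    ((f.fiber (g (f' x'))).presheaf.stalk x₁) (Y'.residueField (f' x')) (Or.inl hE) Q hQm
  constructor
  · intro h'
    haveI := h'
    haveI := GorIso.isGorensteinLocalRing_of_ringEquiv e
    haveI := h.1 inferInstance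
    exact GorIso.isGorensteinLocalRing_of_ringEquiv e2
  · intro h'
    haveI := h'
    haveI := GorIso.isGorensteinLocalRing_of_ringEquiv e2.symm
    haveI := h.2 inferInstance
    exact GorIso.isGorensteinLocalRing_of_ringEquiv e.symm

end Groth.Agent.Lib.Helper21.FibreBC
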