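import Mathlib
import Groth.Agent.Lib.Helper21.FlatDescM
import Groth.Agent.Lib.Helper21.FlatOpen
import Groth.Agent.Lib.Helper5.FlatKer
import Groth.Agent.Lib.Helper7.FPKer

/-!
# Helper21 — FlatDescQ15: openness of "nonzerodivisor with flat quotient" (EGA IV 11.3.8 c⇒ local form)

* `fg_ker_toSpanSingleton_of_flat`: `A → B` f.p., `B` and `B/(b)` flat over `A` ⇒ `Ann_B(b)` is f.g.
* `exists_uniform_ann`, `nzd_of_isLocalization_away`, `flat_quot_span_of_isLocalization`.
* `exists_away_nzd_flat`, `exists_away_nzd_flat_stalk`: `A → B` f.p., `q` prime, `B_q` flat, `b` regular on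
  `B_q`, `(B/b)_q` flat ⇒ for some `g ∉ q`, `b` is regular in `B_g` and `B_g/(b)` is flat over `A`.
-/

namespace Groth.Agent.Lib.Helper21.FlatDesc

open TensorProduct Function

universe u

section AnnFG

variable (A B : Type u) [CommRing A] [CommRing B] [Algebra A B] [Algebra.FinitePresentation A B]

/-- If `B` (f.p. over `A`) and `B/(b)` are flat over `A`, the annihilator of `b` is a f.g. ideal. -/
theorem fg_ker_toSpanSingleton_of_flat [Module.Flat A B] (b : B)
    [Module.Flat A (B ⧸ Ideal.span {b})] :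
    (LinearMap.ker (LinearMap.toSpanSingleton B B b)).FG := by
  set I : Ideal B := Ideal.span {b} with hI
  haveI : Module.FinitePresentation B (B ⧸ I) :=
    Module.finitePresentation_of_surjective I.mkQ (Submodule.mkQ_surjective I)
      (by rw [Submodule.ker_mkQ]; exact ⟨{b}, by simp [hI, Ideal.span]⟩)
  haveI h1 : Module.FinitePresentation B (LinearMap.ker I.mkQ) :=
    Groth.Agent.Lib.Helper7.FPKer.fp_ker_of_flat A B (B ⧸ I) I.mkQ (Submodule.mkQ_surjective I)
  haveI h2 : Module.FinitePresentation B I := by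
    rw [Submodule.ker_mkQ] at h1; exact h1
  haveI h3 : Module.Flat A I :=
    Groth.Agent.Lib.Helper5.flat_of_exact_of_flat (I.subtype.restrictScalars A)
      (I.mkQ.restrictScalars A) I.injective_subtype (Submodule.mkQ_surjective I)
      (by
        have := LinearMap.exact_subtype_mkQ I
        exact this)
  let μ : B →ₗ[B] I := (LinearMap.toSpanSingleton B B b).codRestrict I (fun x => by
    rw [LinearMap.toSpanSingleton_apply, hI]
    exact Ideal.mul_mem_left _ _ (Ideal.mem_span_singleton_self b))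
  have hμ : Surjective μ := by
    rintro ⟨y, hy⟩
    obtain ⟨c, rfl⟩ := Ideal.mem_span_singleton'.mp hy
    exact ⟨c, Subtype.ext (by simp [μ])⟩
  haveI h4 : Module.FinitePresentation B (LinearMap.ker μ) :=
    Groth.Agent.Lib.Helper7.FPKer.fp_ker_of_flat A B I μ hμ
  have h5 : LinearMap.ker μ = LinearMap.ker (LinearMap.toSpanSingleton B B b) :=
    LinearMap.ker_codRestrict _ _ _
  rw [← h5]
  exact Module.Finite.iff_fg.mp inferInstance

end AnnFG

section Transfer

variable (A B : Type u) [CommRing A] [CommRing B] [Algebra A B]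

theorem nzd_of_isLocalization_away {B' : Type*} [CommRing B'] [Algebra B B'] (g b : B)
    [IsLocalization.Away g B']
    (h : ∀ x : B, x * b = 0 → ∃ n : ℕ, g ^ n * x = 0) :
    algebraMap B B' b ∈ nonZeroDivisors B' := by
  rw [mem_nonZeroDivisors_iff_right]
  intro y' hy'
  obtain ⟨n, y, hy⟩ := IsLocalization.Away.surj g y'
  have hu : IsUnit (algebraMap B B' g) := IsLocalization.Away.algebraMap_isUnit g
  have h1 : algebraMap B B' (y * b) = algebraMap B B' 0 := by
    rw [map_mul, ← hy, map_zero, mul_right_comm, hy', zero_mul]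
  obtain ⟨m, hm⟩ := IsLocalization.Away.exists_of_eq g h1
  have h2 : (g ^ m * y) * b = 0 := by rw [mul_assoc, hm, mul_zero]
  obtain ⟨k, hk⟩ := h _ h2
  have h3 : algebraMap B B' y = 0 := by
    have h4 : algebraMap B B' (g ^ k * (g ^ m * y)) = 0 := by rw [hk, map_zero]
    rw [map_mul, map_mul, map_pow, map_pow] at h4
    exact (hu.pow m).mul_right_eq_zero.mp ((hu.pow k).mul_right_eq_zero.mp h4)
  rw [h3] at hy
  exact (hu.pow n).mul_left_eq_zero.mp hy

theorem flat_quot_span_of_isLocalization {B' : Type u} [CommRing B'] [Algebra B B'] [Algebra A B']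
    [IsScalarTower A B B'] (T T' : Submonoid B) (hTT' : T ≤ T') [IsLocalization T' B'] (b : B)
    [Module.Flat A (LocalizedModule T (B ⧸ Ideal.span {b}))] :
    Module.Flat A (B' ⧸ Ideal.span {algebraMap B B' b}) := by
  set I : Ideal B := Ideal.span {b} with hI
  have hloc : I.localized' B' T' (Algebra.linearMap B B') = Ideal.span {algebraMap B B' b} := by
    rw [Ideal.localized'_eq_map, hI, Ideal.map_span, Set.image_singleton]
  haveI : Module.Flat A (B' ⧸ I.localized' B' T' (Algebra.linearMap B B')) :=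
    FlatOpen.flat_of_le (A' := A) T T' hTT' (LocalizedModule.mkLinearMap T (B ⧸ I))
      (I.toLocalizedQuotient' B' T' (Algebra.linearMap B B'))
  exact Module.Flat.of_linearEquiv ((Submodule.quotEquivOfEq _ _ hloc).symm.restrictScalars A)

end Transfer

section Main

variable (A B : Type u) [CommRing A] [CommRing B] [Algebra A B] [Algebra.FinitePresentation A B]

/-- uniform annihilation: if `B`, `B/(b)` are `A`-flat and every `x` with `b x = 0` is killed by some
`s ∉ q`, a single `t ∉ q` kills them all. -/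
theorem exists_uniform_ann [Module.Flat A B] (b : B) [Module.Flat A (B ⧸ Ideal.span {b})]
    (T : Submonoid B) (h : ∀ x : B, x * b = 0 → ∃ s ∈ T, s * x = 0) :
    ∃ t ∈ T, ∀ x : B, x * b = 0 → t * x = 0 := by
  classical
  obtain ⟨G, hG⟩ := fg_ker_toSpanSingleton_of_flat A B b
  have hmem : ∀ k ∈ G, k * b = 0 := by
    intro k hk
    have : k ∈ LinearMap.ker (LinearMap.toSpanSingleton B B b) := by
      rw [← hG]; exact Submodule.subset_span hk
    simpa [LinearMap.mem_ker, LinearMap.toSpanSingleton_apply] using this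
  choose! s hsT hs using fun k (hk : k ∈ G) => h k (hmem k hk)
  have key : ∀ x ∈ Submodule.span B (G : Set B), (∏ k ∈ G, s k) * x = 0 := by
    intro x hxK
    induction hxK using Submodule.span_induction with
    | mem y hy =>
        obtain ⟨c, hc⟩ := Finset.dvd_prod_of_mem s hy
        rw [hc, mul_comm (s y) c, mul_assoc, hs y hy, mul_zero]
    | zero => simp
    | add y z _ _ hy hz => rw [mul_add, hy, hz, add_zero]
    | smul c y _ hy => rw [smul_eq_mul, mul_left_comm, hy, mul_zero]
  refine ⟨∏ k ∈ G, s k, Submonoid.prod_mem _ (fun k hk => hsT k hk), fun x hx => key x ?_⟩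
  rw [hG]; simpa [LinearMap.mem_ker, LinearMap.toSpanSingleton_apply] using hx

/-- **Openness of "nonzerodivisor with flat quotient".** `A → B` finitely presented, `q` a prime of `B`,
`b ∈ B` such that `B_q` is `A`-flat, `b` is a nonzerodivisor on `B_q` and `(B/b)_q` is `A`-flat.
Then for some `g ∉ q`, `b` is a nonzerodivisor of `B_g` and `B_g/(b)` is `A`-flat. -/
theorem exists_away_nzd_flat (q : Ideal B) [q.IsPrime] (b : B)
    (h1 : Module.Flat A (LocalizedModule q.primeCompl B))
    (h2 : ∀ x : B, x * b = 0 → ∃ s ∈ q.primeCompl, s * x = 0)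
    (h3 : Module.Flat A (LocalizedModule q.primeCompl (B ⧸ Ideal.span {b}))) :
    ∃ g ∈ q.primeCompl, ∀ (B' : Type u) [CommRing B'] [Algebra B B'] [Algebra A B']
      [IsScalarTower A B B'] [IsLocalization.Away g B'],
      algebraMap B B' b ∈ nonZeroDivisors B' ∧
        Module.Flat A (B' ⧸ Ideal.span {algebraMap B B' b}) := by
  classical
  set I : Ideal B := Ideal.span {b} with hI
  haveI : Module.FinitePresentation B (B ⧸ I) :=
    Module.finitePresentation_of_surjective I.mkQ (Submodule.mkQ_surjective I)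
      (by rw [Submodule.ker_mkQ]; exact ⟨{b}, by simp [hI, Ideal.span]⟩)
  have ho1 := isOpen_flatLocus_of_finitePresentation (R := A) (S := B) (M := B)
  have ho2 := isOpen_flatLocus_of_finitePresentation (R := A) (S := B) (M := B ⧸ I)
  obtain ⟨_, ⟨g₁, rfl⟩, hg₁q, hsub⟩ :=
    PrimeSpectrum.isTopologicalBasis_basic_opens.exists_subset_of_mem_open
      (show (⟨q, inferInstance⟩ : PrimeSpectrum B) ∈ _ ∩ _ from ⟨h1, h3⟩) (ho1.inter ho2)
  have hg₁ : g₁ ∈ q.primeCompl := hg₁q
  have hmemQ : ∀ (g : B), g₁ ∣ g → ∀ (Q : Ideal B) [Q.IsPrime],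
      Disjoint (Q : Set B) (Submonoid.powers g : Set B) →
      (⟨Q, inferInstance⟩ : PrimeSpectrum B) ∈ (PrimeSpectrum.basicOpen g₁ : Set (PrimeSpectrum B)) := by
    intro g hg Q _ hQ
    show g₁ ∉ Q
    intro hmem
    exact Set.disjoint_left.mp hQ (Ideal.mem_of_dvd Q hg hmem) (Submonoid.mem_powers g)
  have hF1 : ∀ g : B, g₁ ∣ g → Module.Flat A (LocalizedModule (Submonoid.powers g) B) :=
    fun g hg => flat_localizedModule_of_forall_prime B (Submonoid.powers g)
      (fun Q _ hQ => (hsub (hmemQ g hg Q hQ)).1)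
  have hF2 : ∀ g : B, g₁ ∣ g → Module.Flat A (LocalizedModule (Submonoid.powers g) (B ⧸ I)) :=
    fun g hg => flat_localizedModule_of_forall_prime (B ⧸ I) (Submonoid.powers g)
      (fun Q _ hQ => (hsub (hmemQ g hg Q hQ)).2)
  -- the localization `B₁`
  let B₁ := Localization.Away g₁
  haveI : Algebra.FinitePresentation B B₁ := IsLocalization.Away.finitePresentation g₁
  haveI : Algebra.FinitePresentation A B₁ := Algebra.FinitePresentation.trans A B B₁
  haveI := hF1 g₁ dvd_rfl
  haveI := hF2 g₁ dvd_rfl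
  haveI : Module.Flat A B₁ :=
    FlatOpen.flat_of_le (A' := A) (Submonoid.powers g₁) (Submonoid.powers g₁) le_rfl
      (LocalizedModule.mkLinearMap (Submonoid.powers g₁) B) (Algebra.linearMap B B₁)
  haveI : Module.Flat A (B₁ ⧸ Ideal.span {algebraMap B B₁ b}) :=
    flat_quot_span_of_isLocalization A B (Submonoid.powers g₁) (Submonoid.powers g₁) le_rfl b
  have hu₁ : IsUnit (algebraMap B B₁ g₁) := IsLocalization.Away.algebraMap_isUnit g₁
  obtain ⟨t₁, ht₁, hann⟩ := exists_uniform_ann A B₁ (algebraMap B B₁ b)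
    (Submonoid.map (algebraMap B B₁) q.primeCompl) (by
      intro x₁ hx₁
      obtain ⟨n, x, hx⟩ := IsLocalization.Away.surj g₁ x₁
      have e1 : algebraMap B B₁ (x * b) = algebraMap B B₁ 0 := by
        rw [map_mul, ← hx, map_zero, mul_right_comm, hx₁, zero_mul]
      obtain ⟨m, hm⟩ := IsLocalization.Away.exists_of_eq g₁ e1
      have e2 : (g₁ ^ m * x) * b = 0 := by rw [mul_assoc, hm, mul_zero]
      obtain ⟨s, hs, hsx⟩ := h2 _ e2
      refine ⟨algebraMap B B₁ (s * g₁ ^ m), ⟨_, mul_mem hs (pow_mem hg₁ m), rfl⟩, ?_⟩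
      have e3 : algebraMap B B₁ (s * g₁ ^ m) * x₁ * algebraMap B B₁ g₁ ^ n = 0 := by
        rw [mul_assoc, hx, ← map_mul, mul_assoc, hsx, map_zero]
      exact (hu₁.pow n).mul_left_eq_zero.mp e3)
  obtain ⟨t, ht, rfl⟩ := ht₁
  refine ⟨g₁ * t, mul_mem hg₁ ht, ?_⟩
  intro B' _ _ _ _ _
  haveI := hF2 (g₁ * t) (dvd_mul_right g₁ t)
  refine ⟨nzd_of_isLocalization_away B (g₁ * t) b ?_,
    flat_quot_span_of_isLocalization A B (Submonoid.powers (g₁ * t)) (Submonoid.powers (g₁ * t))
      le_rfl b⟩
  intro x hx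
  have e1 : algebraMap B B₁ (t * x) = algebraMap B B₁ 0 := by
    rw [map_mul, map_zero]
    exact hann (algebraMap B B₁ x) (by rw [← map_mul, hx, map_zero])
  obtain ⟨m, hm⟩ := IsLocalization.Away.exists_of_eq g₁ e1
  refine ⟨m + 1, ?_⟩
  calc (g₁ * t) ^ (m + 1) * x = (g₁ * t ^ m) * (g₁ ^ m * (t * x)) := by ring
    _ = 0 := by rw [hm, mul_zero, mul_zero]

/-- stalk form of `exists_away_nzd_flat`: the hypotheses are stated on a localization `O` of `B` at `q`. -/
theorem exists_away_nzd_flat_stalk (q : Ideal B) [q.IsPrime] (b : B)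
    (O : Type u) [CommRing O] [Algebra B O] [Algebra A O] [IsScalarTower A B O]
    [IsLocalization.AtPrime O q]
    (h1 : Module.Flat A O)
    (h2 : algebraMap B O b ∈ nonZeroDivisors O)
    (h3 : Module.Flat A (O ⧸ Ideal.span {algebraMap B O b})) :
    ∃ g ∈ q.primeCompl, ∀ (B' : Type u) [CommRing B'] [Algebra B B'] [Algebra A B']
      [IsScalarTower A B B'] [IsLocalization.Away g B'],
      algebraMap B B' b ∈ nonZeroDivisors B' ∧
        Module.Flat A (B' ⧸ Ideal.span {algebraMap B B' b}) := by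
  set I : Ideal B := Ideal.span {b} with hI
  refine exists_away_nzd_flat A B q b ?_ ?_ ?_
  · exact FlatOpen.flat_of_le (A' := A) q.primeCompl q.primeCompl le_rfl (Algebra.linearMap B O)
      (LocalizedModule.mkLinearMap q.primeCompl B)
  · intro x hx
    have : algebraMap B O x = 0 := by
      rw [mem_nonZeroDivisors_iff_right] at h2
      exact h2 _ (by rw [← map_mul, hx, map_zero])
    obtain ⟨s, hs⟩ := (IsLocalization.map_eq_zero_iff q.primeCompl O x).mp this
    exact ⟨s.1, s.2, hs⟩
  · have hloc : I.localized' O q.primeCompl (Algebra.linearMap B O) =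
        Ideal.span {algebraMap B O b} := by
      rw [Ideal.localized'_eq_map, hI, Ideal.map_span, Set.image_singleton]
    haveI : Module.Flat A (O ⧸ I.localized' O q.primeCompl (Algebra.linearMap B O)) :=
      Module.Flat.of_linearEquiv ((Submodule.quotEquivOfEq _ _ hloc).restrictScalars A)
    exact FlatOpen.flat_of_le (A' := A) q.primeCompl q.primeCompl le_rfl
      (I.toLocalizedQuotient' O q.primeCompl (Algebra.linearMap B O))
      (LocalizedModule.mkLinearMap q.primeCompl (B ⧸ I))

end Main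

end Groth.Agent.Lib.Helper21.FlatDesc
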