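import Mathlib
import Groth.Agent.Lib.Helper21.FlatDescQ15

/-!
# Helper21 — FlatDescQ16: module/list versions of the openness of "regular with flat quotient"
-/

namespace Groth.Agent.Lib.Helper21.FlatDesc

open TensorProduct Function
open scoped Pointwise

universe u

section Mod

variable (A B : Type u) [CommRing A] [CommRing B] [Algebra A B] [Algebra.FinitePresentation A B]
  {M M' : Type u} [AddCommGroup M] [Module B M] [Module A M] [IsScalarTower A B M]
  [AddCommGroup M'] [Module B M'] [Module A M'] [IsScalarTower A B M']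

/-- `M` f.p. over `B` (f.p. over `A`), `M` and `M' = M/bM` flat over `A` ⇒ the `b`-torsion of `M` is f.g. -/
theorem fg_ker_lsmul_of_flat [Module.FinitePresentation B M] [Module.Flat A M] [Module.Flat A M']
    (p : M →ₗ[B] M') (hp : Surjective p) (b : B)
    (hker : LinearMap.ker p = b • (⊤ : Submodule B M)) :
    (LinearMap.ker (LinearMap.lsmul B M b)).FG := by
  haveI : Module.FinitePresentation B M' :=
    Module.finitePresentation_of_surjective p hp
      (by rw [hker]; exact (Module.Finite.fg_top (R := B) (M := M)).map _)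
  haveI h1 : Module.FinitePresentation B (LinearMap.ker p) :=
    Groth.Agent.Lib.Helper7.FPKer.fp_ker_of_flat A B M' p hp
  haveI h3 : Module.Flat A (LinearMap.ker p) :=
    Groth.Agent.Lib.Helper5.flat_of_exact_of_flat ((LinearMap.ker p).subtype.restrictScalars A)
      (p.restrictScalars A) (LinearMap.ker p).injective_subtype hp
      (by
        have := LinearMap.exact_subtype_ker_map p
        exact this)
  let μ : M →ₗ[B] LinearMap.ker p := (LinearMap.lsmul B M b).codRestrict (LinearMap.ker p)
    (fun x => by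
      rw [hker]
      exact Submodule.smul_mem_pointwise_smul x b ⊤ Submodule.mem_top)
  have hμ : Surjective μ := by
    rintro ⟨y, hy⟩
    rw [hker, Submodule.mem_smul_pointwise_iff_exists] at hy
    obtain ⟨x, -, rfl⟩ := hy
    exact ⟨x, Subtype.ext rfl⟩
  haveI h4 : Module.FinitePresentation B (LinearMap.ker μ) :=
    Groth.Agent.Lib.Helper7.FPKer.fp_ker_of_flat A B (LinearMap.ker p) μ hμ
  have h5 : LinearMap.ker μ = LinearMap.ker (LinearMap.lsmul B M b) :=
    LinearMap.ker_codRestrict _ _ _
  rw [← h5]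
  exact Module.Finite.iff_fg.mp inferInstance

/-- uniform annihilation of the `b`-torsion. -/
theorem exists_uniform_ann_module [Module.FinitePresentation B M] [Module.Flat A M]
    [Module.Flat A M'] (p : M →ₗ[B] M') (hp : Surjective p) (b : B)
    (hker : LinearMap.ker p = b • (⊤ : Submodule B M))
    (T : Submonoid B) (h : ∀ x : M, b • x = 0 → ∃ s ∈ T, s • x = 0) :
    ∃ t ∈ T, ∀ x : M, b • x = 0 → t • x = 0 := by
  classical
  obtain ⟨G, hG⟩ := fg_ker_lsmul_of_flat A B p hp b hker
  have hmem : ∀ k ∈ G, b • k = 0 := by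
    intro k hk
    have : k ∈ LinearMap.ker (LinearMap.lsmul B M b) := by
      rw [← hG]; exact Submodule.subset_span hk
    simpa [LinearMap.mem_ker] using this
  choose! s hsT hs using fun k (hk : k ∈ G) => h k (hmem k hk)
  have key : ∀ x ∈ Submodule.span B (G : Set M), (∏ k ∈ G, s k) • x = 0 := by
    intro x hxK
    induction hxK using Submodule.span_induction with
    | mem y hy =>
        obtain ⟨c, hc⟩ := Finset.dvd_prod_of_mem s hy
        rw [hc, mul_comm (s y) c, mul_smul, hs y hy, smul_zero]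
    | zero => simp
    | add y z _ _ hy hz => rw [smul_add, hy, hz, add_zero]
    | smul c y _ hy => rw [smul_comm, hy, smul_zero]
  refine ⟨∏ k ∈ G, s k, Submonoid.prod_mem _ (fun k hk => hsT k hk), fun x hx => key x ?_⟩
  rw [hG]; simpa [LinearMap.mem_ker] using hx

set_option maxHeartbeats 800000 in
set_option synthInstance.maxHeartbeats 100000 in
/-- **Openness of "regular with flat quotient", module form.** -/
theorem exists_away_regular_flat_module [Module.FinitePresentation B M]
    (p : M →ₗ[B] M') (hp : Surjective p) (b : B)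
    (hker : LinearMap.ker p = b • (⊤ : Submodule B M))
    (q : Ideal B) [q.IsPrime]
    (h1 : Module.Flat A (LocalizedModule q.primeCompl M))
    (h2 : ∀ x : M, b • x = 0 → ∃ s ∈ q.primeCompl, s • x = 0)
    (h3 : Module.Flat A (LocalizedModule q.primeCompl M')) :
    ∃ g ∈ q.primeCompl, (∀ x : M, b • x = 0 → ∃ n : ℕ, g ^ n • x = 0) ∧
      ∀ g' : B, g ∣ g' → Module.Flat A (LocalizedModule (Submonoid.powers g') M) ∧
        Module.Flat A (LocalizedModule (Submonoid.powers g') M') := by
  classical
  haveI : Module.FinitePresentation B M' :=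
    Module.finitePresentation_of_surjective p hp
      (by rw [hker]; exact (Module.Finite.fg_top (R := B) (M := M)).map _)
  have ho1 := isOpen_flatLocus_of_finitePresentation (R := A) (S := B) (M := M)
  have ho2 := isOpen_flatLocus_of_finitePresentation (R := A) (S := B) (M := M')
  obtain ⟨_, ⟨g₁, rfl⟩, hg₁q, hsub⟩ :=
    PrimeSpectrum.isTopologicalBasis_basic_opens.exists_subset_of_mem_open
      (show (⟨q, inferInstance⟩ : PrimeSpectrum B) ∈ _ ∩ _ from ⟨h1, h3⟩) (ho1.inter ho2)
  have hg₁ : g₁ ∈ q.primeCompl := hg₁q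
  have hmemQ : ∀ (g : B), g₁ ∣ g → ∀ (Q : Ideal B) [Q.IsPrime],
      Disjoint (Q : Set B) (Submonoid.powers g : Set B) →
      (⟨Q, inferInstance⟩ : PrimeSpectrum B) ∈ (PrimeSpectrum.basicOpen g₁ : Set (PrimeSpectrum B)) := by
    intro g hg Q _ hQ
    show g₁ ∉ Q
    intro hmem
    exact Set.disjoint_left.mp hQ (Ideal.mem_of_dvd Q hg hmem) (Submonoid.mem_powers g)
  have hF1 : ∀ g : B, g₁ ∣ g → Module.Flat A (LocalizedModule (Submonoid.powers g) M) :=
    fun g hg => flat_localizedModule_of_forall_prime M (Submonoid.powers g)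
      (fun Q _ hQ => (hsub (hmemQ g hg Q hQ)).1)
  have hF2 : ∀ g : B, g₁ ∣ g → Module.Flat A (LocalizedModule (Submonoid.powers g) M') :=
    fun g hg => flat_localizedModule_of_forall_prime M' (Submonoid.powers g)
      (fun Q _ hQ => (hsub (hmemQ g hg Q hQ)).2)
  -- the localization
  let T₁ : Submonoid B := Submonoid.powers g₁
  let B₁ := Localization T₁
  let f := LocalizedModule.mkLinearMap T₁ M
  let f' := LocalizedModule.mkLinearMap T₁ M'
  haveI : Algebra.FinitePresentation B B₁ := IsLocalization.Away.finitePresentation g₁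
  haveI : Algebra.FinitePresentation A B₁ := Algebra.FinitePresentation.trans A B B₁
  haveI := hF1 g₁ dvd_rfl
  haveI := hF2 g₁ dvd_rfl
  let p₁ : LocalizedModule T₁ M →ₗ[B₁] LocalizedModule T₁ M' :=
    (IsLocalizedModule.map T₁ f f' p).extendScalarsOfIsLocalization T₁ B₁
  have hp₁ : Surjective p₁ := IsLocalizedModule.map_surjective T₁ f f' p hp
  have hker₁ : LinearMap.ker p₁ =
      (algebraMap B B₁ b) • (⊤ : Submodule B₁ (LocalizedModule T₁ M)) := by
    rw [← LinearMap.localized'_ker_eq_ker_localizedMap B₁ T₁ f f' p, hker,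
      ← Submodule.ideal_span_singleton_smul, Submodule.localized'_smul, Ideal.localized'_eq_map,
      Ideal.map_span, Set.image_singleton, Submodule.localized'_top,
      Submodule.ideal_span_singleton_smul]
  obtain ⟨t₁, ht₁, hann⟩ := exists_uniform_ann_module A B₁ p₁ hp₁ (algebraMap B B₁ b) hker₁
    (Submonoid.map (algebraMap B B₁) q.primeCompl) (by
      intro x₁ hx₁
      obtain ⟨⟨x, t⟩, rfl⟩ := IsLocalizedModule.mk'_surjective T₁ f x₁
      rw [algebraMap_smul, Function.uncurry_apply_pair, ← IsLocalizedModule.mk'_smul,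
        IsLocalizedModule.mk'_eq_zero, IsLocalizedModule.eq_zero_iff T₁] at hx₁
      obtain ⟨u, hu⟩ := hx₁
      have e2 : b • ((u : B) • x) = 0 := by
        rw [smul_comm]; exact hu
      obtain ⟨s, hs, hsx⟩ := h2 _ e2
      have huq : (u : B) ∈ q.primeCompl := by
        obtain ⟨k, hk⟩ := u.2
        rw [← hk]; exact pow_mem hg₁ k
      refine ⟨algebraMap B B₁ (s * u), ⟨_, mul_mem hs huq, rfl⟩, ?_⟩
      rw [algebraMap_smul, Function.uncurry_apply_pair, ← IsLocalizedModule.mk'_smul, mul_smul,
        hsx, IsLocalizedModule.mk'_zero])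
  obtain ⟨t, ht, rfl⟩ := ht₁
  refine ⟨g₁ * t, mul_mem hg₁ ht, ?_, fun g' hg' =>
    ⟨hF1 g' ((dvd_mul_right g₁ t).trans hg'), hF2 g' ((dvd_mul_right g₁ t).trans hg')⟩⟩
  intro x hx
  have e1 : algebraMap B B₁ t • f x = 0 := by
    apply hann
    rw [algebraMap_smul, ← map_smul, hx, map_zero]
  rw [algebraMap_smul, ← map_smul, IsLocalizedModule.eq_zero_iff T₁] at e1
  obtain ⟨u, hu⟩ := e1
  obtain ⟨m, hm⟩ := u.2
  refine ⟨m + 1, ?_⟩
  have : (g₁ * t) ^ (m + 1) = (g₁ * t ^ m) * (g₁ ^ m * t) := by ring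
  rw [this, mul_smul, mul_smul (g₁ ^ m) t x]
  have hm' : g₁ ^ m = (u : B) := hm
  have hu' : g₁ ^ m • t • x = 0 := by
    rw [hm']; exact hu
  rw [hu', smul_zero]

/-- flatness spreads out from a prime to a basic open neighbourhood (and all smaller basic opens). -/
theorem exists_away_flat_module (N : Type u) [AddCommGroup N] [Module B N] [Module A N]
    [IsScalarTower A B N] [Module.FinitePresentation B N] (q : Ideal B) [q.IsPrime]
    (h1 : Module.Flat A (LocalizedModule q.primeCompl N)) :
    ∃ g ∈ q.primeCompl, ∀ g' : B, g ∣ g' →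
      Module.Flat A (LocalizedModule (Submonoid.powers g') N) := by
  have ho1 := isOpen_flatLocus_of_finitePresentation (R := A) (S := B) (M := N)
  obtain ⟨_, ⟨g₁, rfl⟩, hg₁q, hsub⟩ :=
    PrimeSpectrum.isTopologicalBasis_basic_opens.exists_subset_of_mem_open
      (show (⟨q, inferInstance⟩ : PrimeSpectrum B) ∈ _ from h1) ho1
  refine ⟨g₁, hg₁q, fun g hg => flat_localizedModule_of_forall_prime N (Submonoid.powers g)
      (fun Q _ hQ => hsub (a := ⟨Q, inferInstance⟩) ?_)⟩
  show g₁ ∉ Q
  intro hmem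
  exact Set.disjoint_left.mp hQ (Ideal.mem_of_dvd Q hg hmem) (Submonoid.mem_powers g)

/-- regularity passes to a localization where the torsion dies. -/
theorem isSMulRegular_of_isLocalizedModule_away {N N' : Type*} [AddCommGroup N] [Module B N]
    [AddCommGroup N'] [Module B N'] (g b : B) (f : N →ₗ[B] N')
    [IsLocalizedModule (Submonoid.powers g) f]
    (h : ∀ x : N, b • x = 0 → ∃ n : ℕ, g ^ n • x = 0) : IsSMulRegular N' b := by
  rw [isSMulRegular_iff_right_eq_zero_of_smul]
  intro y hy
  obtain ⟨⟨x, t⟩, rfl⟩ := IsLocalizedModule.mk'_surjective (Submonoid.powers g) f y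
  rw [Function.uncurry_apply_pair] at hy ⊢
  rw [← IsLocalizedModule.mk'_smul, IsLocalizedModule.mk'_eq_zero,
    IsLocalizedModule.eq_zero_iff (Submonoid.powers g)] at hy
  obtain ⟨u, hu⟩ := hy
  have e2 : b • ((u : B) • x) = 0 := by rw [smul_comm]; exact hu
  obtain ⟨k, hk⟩ := h _ e2
  rw [IsLocalizedModule.mk'_eq_zero, IsLocalizedModule.eq_zero_iff (Submonoid.powers g)]
  refine ⟨⟨g ^ k, k, rfl⟩ * u, ?_⟩
  rw [mul_smul]
  exact hk

end Mod

section ListVersion

variable (A B : Type u) [CommRing A] [CommRing B] [Algebra A B] [Algebra.FinitePresentation A B]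

theorem ofList_take_le_succ (bs : List B) (i : ℕ) :
    Ideal.ofList (bs.take i) ≤ Ideal.ofList (bs.take (i + 1)) := by
  apply Ideal.span_mono
  intro r hr
  exact (List.take_subset_take_left bs (Nat.le_succ i)) hr

theorem ofList_take_succ (bs : List B) (i : ℕ) (hi : i < bs.length) :
    Ideal.ofList (bs.take (i + 1)) = Ideal.ofList (bs.take i) ⊔ Ideal.span {bs[i]} := by
  rw [List.take_succ_eq_append_getElem hi, Ideal.ofList_append, Ideal.ofList_singleton]

instance fp_quot_ofList (bs : List B) : Module.FinitePresentation B (B ⧸ Ideal.ofList bs) :=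
  Module.finitePresentation_of_surjective (Ideal.ofList bs).mkQ (Submodule.mkQ_surjective _)
    (by rw [Submodule.ker_mkQ]; exact Submodule.fg_span (List.finite_toSet bs))

theorem ker_factor_take_succ (bs : List B) (i : ℕ) (hi : i < bs.length) :
    LinearMap.ker (Submodule.factor (ofList_take_le_succ B bs i)) =
      bs[i] • (⊤ : Submodule B (B ⧸ Ideal.ofList (bs.take i))) := by
  ext y
  obtain ⟨x, rfl⟩ := Submodule.mkQ_surjective _ y
  rw [LinearMap.mem_ker, Submodule.factor_mk, Submodule.mkQ_apply, Submodule.Quotient.mk_eq_zero,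
    ofList_take_succ B bs i hi, Submodule.mem_smul_pointwise_iff_exists]
  constructor
  · intro hx
    obtain ⟨a, ha, c, hc, rfl⟩ := Submodule.mem_sup.mp hx
    obtain ⟨d, rfl⟩ := Ideal.mem_span_singleton'.mp hc
    refine ⟨Submodule.Quotient.mk d, Submodule.mem_top, ?_⟩
    rw [Submodule.mkQ_apply, Submodule.Quotient.mk_add, (Submodule.Quotient.mk_eq_zero _).mpr ha,
      zero_add, ← Submodule.Quotient.mk_smul, smul_eq_mul, mul_comm]
  · rintro ⟨z, -, hz⟩
    obtain ⟨d, rfl⟩ := Submodule.mkQ_surjective _ z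
    rw [Submodule.mkQ_apply, Submodule.mkQ_apply, ← Submodule.Quotient.mk_smul,
      Submodule.Quotient.eq] at hz
    have : x = (x - bs[i] • d) + bs[i] • d := by ring
    rw [this]
    refine Submodule.add_mem_sup ?_ (Ideal.mem_span_singleton'.mpr ⟨d, by rw [smul_eq_mul, mul_comm]⟩)
    have h2 := Submodule.neg_mem _ hz
    rwa [neg_sub] at h2

set_option maxHeartbeats 800000 in
/-- **List version**: if the successive quotients `B/(b₁..bᵢ)` are `A`-flat at `q` and each `bᵢ₊₁` is
regular on `(B/(b₁..bᵢ))_q`, the same holds on a basic open neighbourhood of `q`. -/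
theorem exists_away_weaklyRegular_flat (q : Ideal B) [q.IsPrime] (bs : List B)
    (hflat : ∀ i ≤ bs.length,
      Module.Flat A (LocalizedModule q.primeCompl (B ⧸ Ideal.ofList (bs.take i))))
    (hreg : ∀ (i : ℕ) (hi : i < bs.length) (x : B ⧸ Ideal.ofList (bs.take i)),
      bs[i] • x = 0 → ∃ s ∈ q.primeCompl, s • x = 0) :
    ∃ g ∈ q.primeCompl,
      (∀ (i : ℕ) (hi : i < bs.length) (x : B ⧸ Ideal.ofList (bs.take i)),
        bs[i] • x = 0 → ∃ n : ℕ, g ^ n • x = 0) ∧
      ∀ g' : B, g ∣ g' → ∀ i ≤ bs.length,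
        Module.Flat A (LocalizedModule (Submonoid.powers g') (B ⧸ Ideal.ofList (bs.take i))) := by
  classical
  have hA : ∀ i : Fin (bs.length + 1), ∃ g ∈ q.primeCompl, ∀ g' : B, g ∣ g' →
      Module.Flat A (LocalizedModule (Submonoid.powers g') (B ⧸ Ideal.ofList (bs.take i))) :=
    fun i => exists_away_flat_module A B _ q (hflat i (Nat.lt_succ_iff.mp i.2))
  choose g1 hg1 hF using hA
  have hB : ∀ i : Fin bs.length, ∃ g ∈ q.primeCompl,
      ∀ x : B ⧸ Ideal.ofList (bs.take i), bs[i] • x = 0 → ∃ n : ℕ, g ^ n • x = 0 := by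
    intro i
    obtain ⟨g, hg, h, -⟩ := exists_away_regular_flat_module A B
      (Submodule.factor (ofList_take_le_succ B bs i)) (Submodule.factor_surjective _) bs[i]
      (ker_factor_take_succ B bs i i.2) q (hflat i i.2.le) (hreg i i.2) (hflat (i + 1) i.2)
    exact ⟨g, hg, h⟩
  choose g2 hg2 hR using hB
  refine ⟨(∏ i, g1 i) * (∏ i, g2 i), mul_mem (Submonoid.prod_mem _ fun i _ => hg1 i)
    (Submonoid.prod_mem _ fun i _ => hg2 i), ?_, ?_⟩
  · intro i hi x hx
    obtain ⟨n, hn⟩ := hR ⟨i, hi⟩ x hx
    refine ⟨n, ?_⟩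
    obtain ⟨c, hc⟩ : g2 ⟨i, hi⟩ ∣ (∏ i, g1 i) * (∏ i, g2 i) :=
      Dvd.dvd.mul_left (Finset.dvd_prod_of_mem g2 (Finset.mem_univ _)) _
    rw [hc, mul_pow, mul_comm, mul_smul]
    have : g2 ⟨i, hi⟩ ^ n • x = 0 := hn
    rw [this, smul_zero]
  · intro g' hg' i hi
    exact hF ⟨i, Nat.lt_succ_iff.mpr hi⟩ g'
      ((Dvd.dvd.mul_right (Finset.dvd_prod_of_mem g1 (Finset.mem_univ _)) _).trans hg')

set_option maxHeartbeats 800000 in
/-- transfer of the conclusions of `exists_away_weaklyRegular_flat` to a localization `B' = B_{g'}`. -/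
theorem weaklyRegular_flat_of_away (g' : B) (B' : Type u) [CommRing B'] [Algebra B B']
    [Algebra A B'] [IsScalarTower A B B'] [IsLocalization.Away g' B'] (bs : List B)
    (hreg : ∀ (i : ℕ) (hi : i < bs.length) (x : B ⧸ Ideal.ofList (bs.take i)),
      bs[i] • x = 0 → ∃ n : ℕ, g' ^ n • x = 0)
    (hflat : ∀ i ≤ bs.length,
      Module.Flat A (LocalizedModule (Submonoid.powers g') (B ⧸ Ideal.ofList (bs.take i)))) :
    RingTheory.Sequence.IsWeaklyRegular B' (bs.map (algebraMap B B')) ∧
      ∀ i ≤ bs.length,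
        Module.Flat A (B' ⧸ Ideal.ofList ((bs.map (algebraMap B B')).take i)) := by
  set T : Submonoid B := Submonoid.powers g' with hT
  have hloc : ∀ i : ℕ, (Ideal.ofList (bs.take i)).localized' B' T (Algebra.linearMap B B') =
      Ideal.ofList ((bs.map (algebraMap B B')).take i) := by
    intro i
    rw [Ideal.localized'_eq_map, ← List.map_take, Ideal.map_ofList]
  refine ⟨⟨fun i hi => ?_⟩, fun i hi => ?_⟩
  · rw [List.length_map] at hi
    have h1 : IsSMulRegular (B' ⧸ (Ideal.ofList (bs.take i)).localized' B' T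
        (Algebra.linearMap B B')) bs[i] :=
      isSMulRegular_of_isLocalizedModule_away B g' bs[i]
        ((Ideal.ofList (bs.take i)).toLocalizedQuotient' B' T (Algebra.linearMap B B'))
        (hreg i hi)
    have heq : (Ideal.ofList ((bs.map (algebraMap B B')).take i) • ⊤ : Submodule B' B') =
        (Ideal.ofList (bs.take i)).localized' B' T (Algebra.linearMap B B') := by
      rw [hloc i, smul_eq_mul, Ideal.mul_top]
    let e := Submodule.quotEquivOfEq _ _ heq
    rw [isSMulRegular_iff_right_eq_zero_of_smul]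
    intro y hy
    rw [isSMulRegular_iff_right_eq_zero_of_smul] at h1
    have h2 : bs[i] • e y = 0 := by
      rw [← algebraMap_smul B' bs[i] (e y), ← map_smul]
      rw [List.getElem_map] at hy
      rw [hy, map_zero]
    exact e.injective ((h1 _ h2).trans (map_zero e).symm)
  · haveI := hflat i hi
    haveI : Module.Flat A (B' ⧸ (Ideal.ofList (bs.take i)).localized' B' T
        (Algebra.linearMap B B')) :=
      FlatOpen.flat_of_le (A' := A) T T le_rfl
        (LocalizedModule.mkLinearMap T (B ⧸ Ideal.ofList (bs.take i)))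
        ((Ideal.ofList (bs.take i)).toLocalizedQuotient' B' T (Algebra.linearMap B B'))
    exact Module.Flat.of_linearEquiv
      ((Submodule.quotEquivOfEq _ _ (hloc i)).symm.restrictScalars A)

set_option maxHeartbeats 800000 in
/-- **stalk form** of the list version. -/
theorem exists_away_weaklyRegular_flat_stalk (q : Ideal B) [q.IsPrime] (bs : List B)
    (O : Type u) [CommRing O] [Algebra B O] [Algebra A O] [IsScalarTower A B O]
    [IsLocalization.AtPrime O q]
    (hreg : RingTheory.Sequence.IsWeaklyRegular O (bs.map (algebraMap B O)))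
    (hflat : ∀ i ≤ bs.length, Module.Flat A
      (O ⧸ (Ideal.ofList ((bs.map (algebraMap B O)).take i) • ⊤ : Submodule O O))) :
    ∃ g ∈ q.primeCompl, ∀ g' : B, g ∣ g' → ∀ (B' : Type u) [CommRing B'] [Algebra B B']
      [Algebra A B'] [IsScalarTower A B B'] [IsLocalization.Away g' B'],
      RingTheory.Sequence.IsWeaklyRegular B' (bs.map (algebraMap B B')) ∧
        ∀ i ≤ bs.length,
          Module.Flat A (B' ⧸ Ideal.ofList ((bs.map (algebraMap B B')).take i)) := by
  set T : Submonoid B := q.primeCompl with hT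
  have heq : ∀ i : ℕ, (Ideal.ofList ((bs.map (algebraMap B O)).take i) • ⊤ : Submodule O O) =
      (Ideal.ofList (bs.take i)).localized' O T (Algebra.linearMap B O) := by
    intro i
    rw [Ideal.localized'_eq_map, ← List.map_take, Ideal.map_ofList, smul_eq_mul, Ideal.mul_top]
  have hfl : ∀ i ≤ bs.length,
      Module.Flat A (LocalizedModule q.primeCompl (B ⧸ Ideal.ofList (bs.take i))) := by
    intro i hi
    haveI := hflat i hi
    haveI : Module.Flat A (O ⧸ (Ideal.ofList (bs.take i)).localized' O T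
        (Algebra.linearMap B O)) :=
      Module.Flat.of_linearEquiv ((Submodule.quotEquivOfEq _ _ (heq i)).symm.restrictScalars A)
    exact FlatOpen.flat_of_le (A' := A) T T le_rfl
      ((Ideal.ofList (bs.take i)).toLocalizedQuotient' O T (Algebra.linearMap B O))
      (LocalizedModule.mkLinearMap T (B ⧸ Ideal.ofList (bs.take i)))
  have hrg : ∀ (i : ℕ) (hi : i < bs.length) (x : B ⧸ Ideal.ofList (bs.take i)),
      bs[i] • x = 0 → ∃ s ∈ q.primeCompl, s • x = 0 := by
    intro i hi x hx
    have h1 := hreg.regular_mod_prev i (by rw [List.length_map]; exact hi)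
    rw [isSMulRegular_iff_right_eq_zero_of_smul] at h1
    let e := Submodule.quotEquivOfEq _ _ (heq i)
    let f := (Ideal.ofList (bs.take i)).toLocalizedQuotient' O T (Algebra.linearMap B O)
    have h2 : (bs.map (algebraMap B O))[i]'(by rw [List.length_map]; exact hi) • e.symm (f x) = 0 := by
      rw [List.getElem_map, ← map_smul, algebraMap_smul, ← map_smul, hx, map_zero, map_zero]
    have h3 : f x = 0 := by
      have := h1 _ h2
      exact e.symm.injective (this.trans (map_zero e.symm).symm)
    obtain ⟨c, hc⟩ := (IsLocalizedModule.eq_zero_iff T f).mp h3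
    exact ⟨c.1, c.2, hc⟩
  obtain ⟨g, hg, hR, hF⟩ := exists_away_weaklyRegular_flat A B q bs hfl hrg
  refine ⟨g, hg, fun g' hg' B' _ _ _ _ _ => weaklyRegular_flat_of_away A B g' B' bs ?_ (hF g' hg')⟩
  intro i hi x hx
  obtain ⟨n, hn⟩ := hR i hi x hx
  obtain ⟨c, rfl⟩ := hg'
  exact ⟨n, by rw [mul_pow, mul_comm, mul_smul, hn, smul_zero]⟩

end ListVersion

end Groth.Agent.Lib.Helper21.FlatDesc
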