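import Mathlib

/-!
# Regular sequences are quasi-regular (Micali's theorem)

For a weakly regular sequence `a : Fin n → A`, every homogeneous polynomial `F` with `F(a) = 0`
lies in the ideal `L a` generated by the trivial relations `a_i X_j - a_j X_i` (`Mic a`).
Consequences: quasi-regularity (`qr_of_mic`) and `b` regular mod `I` ⇒ regular mod `I^d`.
-/

set_option autoImplicit false
universe u

namespace Groth.Agent.Lib.Helper21.QuasiReg
open MvPolynomial

variable {A : Type u} [CommRing A]

/-- the ideal of trivial relations -/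
noncomputable def L {n : ℕ} (a : Fin n → A) : Ideal (MvPolynomial (Fin n) A) :=
  Ideal.span {q | ∃ i j : Fin n, q = C (a i) * X j - C (a j) * X i}

/-- Micali property: homogeneous relations are combinations of the trivial ones -/
def Mic {n : ℕ} (a : Fin n → A) : Prop :=
  ∀ (d : ℕ) (F : MvPolynomial (Fin n) A), F.IsHomogeneous d → eval a F = 0 → F ∈ L a

/-- quasi-regularity in the form of the Prelude -/
def QR {n : ℕ} (a : Fin n → A) : Prop :=
  ∀ (d : ℕ) (P : MvPolynomial (Fin n) A), P.IsHomogeneous d →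
    eval a P ∈ Ideal.span (Set.range a) ^ (d + 1) →
      ∀ m : Fin n →₀ ℕ, P.coeff m ∈ Ideal.span (Set.range a)

section basic
variable {n : ℕ} (a : Fin n → A)

lemma exists_linear (r : A) (hr : r ∈ Ideal.span (Set.range a)) :
    ∃ Q : MvPolynomial (Fin n) A, Q.IsHomogeneous 1 ∧ eval a Q = r := by
  obtain ⟨c, rfl⟩ := (Ideal.mem_span_range_iff_exists_fun).mp hr
  refine ⟨∑ j, C (c j) * X j, ?_, by simp⟩
  exact IsHomogeneous.sum _ _ _ fun j _ => (isHomogeneous_X A j).C_mul (c j)

/-- every element of `I^d` is the value of a homogeneous polynomial of degree `d` -/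
lemma exists_homogeneous_eval (d : ℕ) :
    ∀ y ∈ Ideal.span (Set.range a) ^ d,
      ∃ P : MvPolynomial (Fin n) A, P.IsHomogeneous d ∧ eval a P = y := by
  induction d with
  | zero =>
    intro y _
    exact ⟨C y, isHomogeneous_C _ _, by simp⟩
  | succ d ih =>
    intro y hy
    rw [pow_succ] at hy
    refine Submodule.mul_induction_on hy ?_ ?_
    · intro s hs r hr
      obtain ⟨P, hP, rfl⟩ := ih s hs
      obtain ⟨Q, hQ, rfl⟩ := exists_linear a r hr
      exact ⟨P * Q, hP.mul hQ, by simp⟩
    · rintro x y ⟨P, hP, rfl⟩ ⟨Q, hQ, rfl⟩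
      exact ⟨P + Q, hP.add hQ, by simp⟩

/-- every element of `I^(d+1)` is `Σ a_j h_j(a)` with `h_j` homogeneous of degree `d` -/
lemma exists_homogeneous_family (d : ℕ) :
    ∀ y ∈ Ideal.span (Set.range a) ^ (d + 1),
      ∃ h : Fin n → MvPolynomial (Fin n) A, (∀ j, (h j).IsHomogeneous d) ∧
        y = ∑ j, a j * eval a (h j) := by
  intro y hy
  rw [pow_succ'] at hy
  refine Submodule.mul_induction_on hy ?_ ?_
  · intro r hr s hs
    obtain ⟨P, hP, rfl⟩ := exists_homogeneous_eval a d s hs
    obtain ⟨c, rfl⟩ := (Ideal.mem_span_range_iff_exists_fun).mp hr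
    refine ⟨fun j => C (c j) * P, fun j => hP.C_mul (c j), ?_⟩
    simp only [map_mul, eval_C, Finset.sum_mul]
    refine Finset.sum_congr rfl fun j _ => ?_
    ring
  · rintro x y ⟨h, hh, rfl⟩ ⟨h', hh', rfl⟩
    refine ⟨fun j => h j + h' j, fun j => (hh j).add (hh' j), ?_⟩
    simp only [map_add, mul_add, Finset.sum_add_distrib]

lemma L_le_map_C : L a ≤ Ideal.map C (Ideal.span (Set.range a)) := by
  unfold L
  rw [Ideal.span_le]
  rintro _ ⟨i, j, rfl⟩
  refine sub_mem (Ideal.mul_mem_right _ _ (Ideal.mem_map_of_mem C (Ideal.subset_span ⟨i, rfl⟩)))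
    (Ideal.mul_mem_right _ _ (Ideal.mem_map_of_mem C (Ideal.subset_span ⟨j, rfl⟩)))

lemma coeff_mem_of_mem_L {F : MvPolynomial (Fin n) A} (hF : F ∈ L a) (m : Fin n →₀ ℕ) :
    F.coeff m ∈ Ideal.span (Set.range a) :=
  (mem_map_C_iff.mp (L_le_map_C a hF)) m

theorem qr_of_mic (h : Mic a) : QR a := by
  intro d P hP hPa m
  obtain ⟨hfam, hh, hy⟩ := exists_homogeneous_family a d _ hPa
  set Q : MvPolynomial (Fin n) A := ∑ j, C (a j) * hfam j with hQ
  have hQh : Q.IsHomogeneous d := IsHomogeneous.sum _ _ _ fun j _ => (hh j).C_mul (a j)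
  have hQa : eval a Q = eval a P := by
    rw [hy, hQ]; simp
  have hmem : P - Q ∈ L a := h d (P - Q) (hP.sub hQh) (by rw [map_sub, hQa, sub_self])
  have h1 := coeff_mem_of_mem_L a hmem m
  have h2 : Q.coeff m ∈ Ideal.span (Set.range a) := by
    rw [hQ, coeff_sum]
    refine Ideal.sum_mem _ fun j _ => ?_
    rw [coeff_C_mul]
    exact Ideal.mul_mem_right _ _ (Ideal.subset_span ⟨j, rfl⟩)
  have : P.coeff m = (P - Q).coeff m + Q.coeff m := by rw [coeff_sub]; ring
  rw [this]
  exact add_mem h1 h2

lemma prod_pow_mem (m : Fin n →₀ ℕ) :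
    ∏ i, a i ^ m i ∈ Ideal.span (Set.range a) ^ (∑ i, m i) := by
  rw [← Finset.prod_pow_eq_pow_sum]
  refine Ideal.prod_mem_prod fun i _ => Ideal.pow_mem_pow (Ideal.subset_span ?_) _
  exact ⟨i, rfl⟩

/-- if all coefficients of a homogeneous `P` of degree `d` lie in `I`, then `P(a) ∈ I^(d+1)` -/
lemma eval_mem_pow_succ {d : ℕ} {P : MvPolynomial (Fin n) A} (hP : P.IsHomogeneous d)
    (hc : ∀ m, P.coeff m ∈ Ideal.span (Set.range a)) :
    eval a P ∈ Ideal.span (Set.range a) ^ (d + 1) := by
  rw [eval_eq', pow_succ']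
  refine Ideal.sum_mem _ fun m hm => ?_
  refine Ideal.mul_mem_mul (hc m) ?_
  have hdeg : ∑ i, m i = d := by
    have := hP (mem_support_iff.mp hm)
    rw [← this, ← Finsupp.degree_eq_sum]
    exact congrFun (congrArg DFunLike.coe Finsupp.degree_eq_weight_one) m
  rw [← hdeg]
  exact prod_pow_mem a m

/-- quasi-regular sequence, `b` a nonzerodivisor mod `I` ⇒ nonzerodivisor mod `I^d` -/
theorem mem_pow_of_mul_mem_pow (hqr : QR a) (b : A)
    (hb : ∀ y, b * y ∈ Ideal.span (Set.range a) → y ∈ Ideal.span (Set.range a)) (d : ℕ) :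
    ∀ y, b * y ∈ Ideal.span (Set.range a) ^ d → y ∈ Ideal.span (Set.range a) ^ d := by
  induction d with
  | zero => intro y _; simp
  | succ d ih =>
    intro y hy
    have hy' : y ∈ Ideal.span (Set.range a) ^ d := ih y (Ideal.pow_le_pow_right (Nat.le_succ d) hy)
    obtain ⟨P, hP, rfl⟩ := exists_homogeneous_eval a d y hy'
    have h1 : eval a (C b * P) ∈ Ideal.span (Set.range a) ^ (d + 1) := by
      simpa using hy
    have h2 := hqr d (C b * P) (hP.C_mul b) h1
    apply eval_mem_pow_succ a hP
    intro m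
    apply hb
    have := h2 m
    rwa [coeff_C_mul] at this

/-- a homogeneous polynomial of degree `d` takes values in `I^d` -/
lemma eval_mem_pow {d : ℕ} {P : MvPolynomial (Fin n) A} (hP : P.IsHomogeneous d) :
    eval a P ∈ Ideal.span (Set.range a) ^ d := by
  rw [eval_eq']
  refine Ideal.sum_mem _ fun m hm => ?_
  refine Ideal.mul_mem_left _ _ ?_
  have hdeg : ∑ i, m i = d := by
    have := hP (mem_support_iff.mp hm)
    rw [← this, ← Finsupp.degree_eq_sum]
    exact congrFun (congrArg DFunLike.coe Finsupp.degree_eq_weight_one) m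
  rw [← hdeg]
  exact prod_pow_mem a m

end basic

section step
variable {n : ℕ}

/-- decomposition along the last variable -/
lemma exists_decomp {d : ℕ} (F : MvPolynomial (Fin (n + 1)) A) (hF : F.IsHomogeneous (d + 1)) :
    ∃ (G : MvPolynomial (Fin n) A) (H : MvPolynomial (Fin (n + 1)) A),
      G.IsHomogeneous (d + 1) ∧ H.IsHomogeneous d ∧
      F = rename Fin.castSucc G + X (Fin.last n) * H := by
  have hFR := divMonomial_add_modMonomial_single F (Fin.last n)
  set e : Fin (n + 1) →₀ ℕ := Finsupp.single (Fin.last n) 1 with he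
  have hR : (F.modMonomial e).IsHomogeneous (d + 1) := by
    intro m hm
    by_cases hle : e ≤ m
    · rw [coeff_modMonomial_of_le _ hle] at hm; exact absurd rfl hm
    · rw [coeff_modMonomial_of_not_le _ hle] at hm; exact hF hm
  have hH : (F.divMonomial e).IsHomogeneous d := by
    intro m hm
    rw [coeff_divMonomial] at hm
    have h1 := hF hm
    rw [map_add, he, Finsupp.weight_single] at h1
    simp only [Pi.one_apply, smul_eq_mul, mul_one] at h1
    omega
  have hvars : ((F.modMonomial e).vars : Set (Fin (n + 1))) ⊆ Set.range Fin.castSucc := by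
    intro i hi
    rw [Finset.mem_coe, mem_vars_iff_mem_support] at hi
    obtain ⟨m, hm, him⟩ := hi
    by_contra hne
    have hlast : i = Fin.last n := by
      by_contra hne'
      exact hne ⟨i.castPred hne', Fin.castSucc_castPred i hne'⟩
    subst hlast
    have hle : e ≤ m := by
      rw [he, Finsupp.single_le_iff]
      rw [Finsupp.mem_support_iff] at him
      omega
    rw [mem_support_iff, coeff_modMonomial_of_le _ hle] at hm
    exact hm rfl
  obtain ⟨G, hG⟩ := exists_rename_eq_of_vars_subset_range _ Fin.castSucc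
    (Fin.castSucc_injective n) hvars
  refine ⟨G, F.divMonomial e, ?_, hH, ?_⟩
  · rw [← IsHomogeneous.rename_isHomogeneous_iff (Fin.castSucc_injective n), hG]; exact hR
  · rw [hG]; exact ((add_comm _ _).trans hFR).symm

lemma mic_zero (a : Fin 0 → A) : Mic a := by
  intro d F _ hFa
  obtain ⟨c, rfl⟩ := C_surjective (R := A) (Fin 0) F
  rw [eval_C] at hFa
  rw [hFa, map_zero]
  exact Ideal.zero_mem _

lemma rename_mem_L (a : Fin (n + 1) → A) {G : MvPolynomial (Fin n) A}
    (hG : G ∈ L (Fin.init a)) : rename Fin.castSucc G ∈ L a := by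
  have hle : L (Fin.init a) ≤ Ideal.comap (rename Fin.castSucc : MvPolynomial (Fin n) A →ₐ[A] _) (L a) := by
    unfold L
    rw [Ideal.span_le]
    rintro _ ⟨i, j, rfl⟩
    rw [SetLike.mem_coe, Ideal.mem_comap]
    apply Ideal.subset_span
    refine ⟨i.castSucc, j.castSucc, ?_⟩
    simp [Fin.init]
  exact hle hG

theorem mic_snoc (a : Fin (n + 1) → A) (h' : Mic (Fin.init a))
    (hb : ∀ y, a (Fin.last n) * y ∈ Ideal.span (Set.range (Fin.init a)) →
      y ∈ Ideal.span (Set.range (Fin.init a))) :
    Mic a := by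
  have hqr := qr_of_mic _ h'
  intro d
  induction d with
  | zero =>
    intro F hF hFa
    have h0 : F.totalDegree = 0 := Nat.le_zero.mp hF.totalDegree_le
    rw [totalDegree_eq_zero_iff_eq_C] at h0
    rw [h0, eval_C] at hFa
    rw [h0, hFa, map_zero]
    exact Ideal.zero_mem _
  | succ d ihd =>
    intro F hF hFa
    obtain ⟨G, H, hG, hH, rfl⟩ := exists_decomp F hF
    have hev : ∀ P : MvPolynomial (Fin n) A,
        eval a (rename Fin.castSucc P) = eval (Fin.init a) P := by
      intro P; rw [eval_rename]; rfl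
    have h1 : a (Fin.last n) * eval a H = - eval (Fin.init a) G := by
      rw [map_add, map_mul, eval_X, hev] at hFa
      linear_combination hFa
    have h2 : eval a H ∈ Ideal.span (Set.range (Fin.init a)) ^ (d + 1) := by
      apply mem_pow_of_mul_mem_pow (Fin.init a) hqr _ hb (d + 1)
      rw [h1]
      exact neg_mem (eval_mem_pow (Fin.init a) hG)
    obtain ⟨hfam, hh, hy⟩ := exists_homogeneous_family (Fin.init a) d _ h2
    set H'' : MvPolynomial (Fin (n + 1)) A :=
      H - ∑ j, C (Fin.init a j) * rename Fin.castSucc (hfam j) with hH''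
    have hH''h : H''.IsHomogeneous d :=
      hH.sub (IsHomogeneous.sum _ _ _ fun j _ => ((hh j).rename_isHomogeneous).C_mul _)
    have hH''a : eval a H'' = 0 := by
      rw [hH'', map_sub, hy, map_sum]
      simp only [map_mul, eval_C, hev]
      exact sub_self _
    have hH''L : H'' ∈ L a := ihd H'' hH''h hH''a
    set G' : MvPolynomial (Fin n) A := G + ∑ j, C (a (Fin.last n)) * X j * hfam j with hG'
    have hG'h : G'.IsHomogeneous (d + 1) := by
      refine hG.add (IsHomogeneous.sum _ _ _ fun j _ => ?_)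
      rw [mul_assoc, add_comm d 1]
      exact ((isHomogeneous_X A j).mul (hh j)).C_mul _
    have hG'a : eval (Fin.init a) G' = 0 := by
      rw [hG', map_add, map_sum]
      simp only [map_mul, eval_C, eval_X]
      have : ∑ j, a (Fin.last n) * Fin.init a j * eval (Fin.init a) (hfam j) =
          a (Fin.last n) * eval a H := by
        rw [hy, Finset.mul_sum]
        exact Finset.sum_congr rfl fun j _ => by ring
      rw [this, h1]
      ring
    have hG'L : G' ∈ L (Fin.init a) := h' (d + 1) G' hG'h hG'a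
    have hren := rename_mem_L a hG'L
    have key : rename Fin.castSucc G + X (Fin.last n) * H =
        rename Fin.castSucc G' + X (Fin.last n) * H'' +
          ∑ j, (C (a j.castSucc) * X (Fin.last n) - C (a (Fin.last n)) * X j.castSucc) *
            rename Fin.castSucc (hfam j) := by
      have hS3 : ∑ j, (C (a j.castSucc) * X (Fin.last n) - C (a (Fin.last n)) * X j.castSucc) *
            rename Fin.castSucc (hfam j) =
          X (Fin.last n) * ∑ j, C (Fin.init a j) * rename Fin.castSucc (hfam j) -
            ∑ j, C (a (Fin.last n)) * X j.castSucc * rename Fin.castSucc (hfam j) := by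
        rw [Finset.mul_sum, ← Finset.sum_sub_distrib]
        refine Finset.sum_congr rfl fun j _ => ?_
        have : Fin.init a j = a j.castSucc := rfl
        rw [this]
        ring
      have hG'r : rename Fin.castSucc G' = rename Fin.castSucc G +
          ∑ j, C (a (Fin.last n)) * X j.castSucc * rename Fin.castSucc (hfam j) := by
        rw [hG', map_add, map_sum]
        simp only [map_mul, rename_C, rename_X]
      rw [hS3, hG'r, hH'']
      ring
    rw [key]
    refine add_mem (add_mem hren (Ideal.mul_mem_left _ _ hH''L)) (Ideal.sum_mem _ fun j _ => ?_)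
    refine Ideal.mul_mem_right _ _ (Ideal.subset_span ?_)
    exact ⟨j.castSucc, Fin.last n, rfl⟩

end step

section regular
open RingTheory.Sequence

lemma ofList_ofFn {n : ℕ} (a : Fin n → A) :
    Ideal.ofList (List.ofFn a) = Ideal.span (Set.range a) := by
  unfold Ideal.ofList
  congr 1
  ext r
  simp [List.mem_ofFn]

theorem mic_of_isWeaklyRegular : ∀ {n : ℕ} (a : Fin n → A),
    IsWeaklyRegular A (List.ofFn a) → Mic a := by
  intro n
  induction n with
  | zero => intro a _; exact mic_zero a
  | succ n ih =>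
    intro a hreg
    rw [List.ofFn_succ', List.concat_eq_append, isWeaklyRegular_append_iff,
      isWeaklyRegular_singleton_iff] at hreg
    obtain ⟨h1, h2⟩ := hreg
    refine mic_snoc a (ih (Fin.init a) h1) ?_
    intro y hy
    have h3 := @h2 (Submodule.Quotient.mk y) 0 (by
      simp only [smul_zero]
      rw [← Submodule.Quotient.mk_smul, Submodule.Quotient.mk_eq_zero, smul_eq_mul, Ideal.mul_top,
        smul_eq_mul]
      change a (Fin.last n) * y ∈ Ideal.ofList (List.ofFn (Fin.init a))
      rw [ofList_ofFn]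
      exact hy)
    rw [Submodule.Quotient.mk_eq_zero, smul_eq_mul, Ideal.mul_top] at h3
    change y ∈ Ideal.ofList (List.ofFn (Fin.init a)) at h3
    rwa [ofList_ofFn] at h3

theorem qr_of_isWeaklyRegular {n : ℕ} (a : Fin n → A)
    (h : IsWeaklyRegular A (List.ofFn a)) : QR a :=
  qr_of_mic a (mic_of_isWeaklyRegular a h)

end regular

end Groth.Agent.Lib.Helper21.QuasiReg
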