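import Mathlib
import Groth.Agent.Lib.Helper21.QuasiReg

/-!
# Quasi-regular sequences in the Jacobson radical of a Noetherian ring are regular
(Matsumura, Theorem 16.3)
-/

set_option autoImplicit false
universe u

namespace Groth.Agent.Lib.Helper21.QuasiRegJac
open MvPolynomial Groth.Agent.Lib.Helper21.QuasiReg

variable {A : Type u} [CommRing A]

/-- key step: if `G` is homogeneous of degree `i` and `a₀ G(a) ∈ I^{i+2}` then `G(a) ∈ I^{i+1}` -/
lemma eval_mem_of_mul_mem {n : ℕ} (a : Fin (n + 1) → A) (hq : QR a) {i : ℕ}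
    {G : MvPolynomial (Fin (n + 1)) A} (hG : G.IsHomogeneous i)
    (h : a 0 * eval a G ∈ Ideal.span (Set.range a) ^ (i + 2)) :
    eval a G ∈ Ideal.span (Set.range a) ^ (i + 1) := by
  have hP : (X 0 * G).IsHomogeneous (i + 1) := by
    have h0 := (isHomogeneous_X A (0 : Fin (n + 1))).mul hG
    rwa [Nat.add_comm 1 i] at h0
  have h1 : eval a (X 0 * G) ∈ Ideal.span (Set.range a) ^ (i + 1 + 1) := by
    rw [map_mul, eval_X]; exact h
  have h2 := hq (i + 1) _ hP h1
  apply eval_mem_pow_succ a hG
  intro m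
  have := h2 (Finsupp.single 0 1 + m)
  rwa [coeff_X_mul] at this

/-- the first element of a quasi-regular sequence in the Jacobson radical is a nonzerodivisor -/
lemma isSMulRegular_head [IsNoetherianRing A] {n : ℕ} (a : Fin (n + 1) → A) (hq : QR a)
    (hj : ∀ i, a i ∈ Ring.jacobson A) : IsSMulRegular A (a 0) := by
  have hI : Ideal.span (Set.range a) ≤ Ideal.jacobson ⊥ := by
    rw [Ideal.jacobson_bot, Ideal.span_le]
    rintro _ ⟨i, rfl⟩
    exact hj i
  have hkrull := Ideal.iInf_pow_smul_eq_bot_of_le_jacobson (M := A) _ hI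
  have key : ∀ ξ : A, a 0 * ξ = 0 → ξ = 0 := by
    intro ξ hξ
    have hmem : ∀ d : ℕ, ξ ∈ Ideal.span (Set.range a) ^ d := by
      intro d
      induction d with
      | zero => simp
      | succ d ih =>
        obtain ⟨G, hG, rfl⟩ := exists_homogeneous_eval a d ξ ih
        apply eval_mem_of_mul_mem a hq hG
        rw [hξ]; exact Ideal.zero_mem _
    have : ξ ∈ (⨅ i : ℕ, Ideal.span (Set.range a) ^ i • ⊤ : Submodule A A) := by
      rw [Submodule.mem_iInf]
      intro d
      rw [smul_eq_mul, Ideal.mul_top]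
      exact hmem d
    rw [hkrull] at this
    exact this
  intro x y hxy
  simp only [smul_eq_mul] at hxy
  have : a 0 * (x - y) = 0 := by rw [mul_sub, hxy, sub_self]
  exact sub_eq_zero.mp (key _ this)

/-- a homogeneous lift of a homogeneous polynomial along a surjective ring hom -/
lemma exists_homogeneous_lift {B : Type u} [CommRing B] (φ : A →+* B)
    (hφ : Function.Surjective φ) {n d : ℕ} (P : MvPolynomial (Fin n) B) (hP : P.IsHomogeneous d) :
    ∃ F : MvPolynomial (Fin n) A, F.IsHomogeneous d ∧ map φ F = P := by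
  classical
  choose g hg using hφ
  refine ⟨∑ m ∈ P.support, monomial m (g (P.coeff m)), ?_, ?_⟩
  · refine IsHomogeneous.sum _ _ _ fun m hm => ?_
    refine isHomogeneous_monomial _ ?_
    have := hP (mem_support_iff.mp hm)
    rw [← this]
    exact congrFun (congrArg DFunLike.coe Finsupp.degree_eq_weight_one) m
  · rw [map_sum]
    simp only [map_monomial, hg]
    exact P.support_sum_monomial_coeff

/-- the tail of a quasi-regular sequence is quasi-regular modulo the head -/
lemma qr_tail {n : ℕ} (a : Fin (n + 1) → A) (hq : QR a) :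
    QR (fun i : Fin n => Ideal.Quotient.mk (Ideal.span {a 0}) (a i.succ)) := by
  classical
  set φ := Ideal.Quotient.mk (Ideal.span {a 0}) with hφ
  set I := Ideal.span (Set.range a) with hI
  set a' : Fin n → A ⧸ Ideal.span {a 0} := fun i => φ (a i.succ) with ha'
  -- the ideal upstairs maps onto the ideal downstairs
  have hmap : Ideal.span (Set.range a') = Ideal.map φ I := by
    rw [hI, Ideal.map_span]
    apply le_antisymm
    · rw [Ideal.span_le]
      rintro _ ⟨i, rfl⟩
      exact Ideal.subset_span ⟨a i.succ, ⟨i.succ, rfl⟩, rfl⟩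
    · rw [Ideal.span_le]
      rintro _ ⟨_, ⟨i, rfl⟩, rfl⟩
      refine Fin.cases ?_ (fun j => ?_) i
      · have : φ (a 0) = 0 := by
          rw [hφ, Ideal.Quotient.eq_zero_iff_mem]; exact Ideal.mem_span_singleton_self _
        rw [this]; exact Ideal.zero_mem _
      · exact Ideal.subset_span ⟨j, rfl⟩
  intro d P' hP' hev m
  obtain ⟨F, hF, rfl⟩ := exists_homogeneous_lift φ Ideal.Quotient.mk_surjective P' hP'
  rw [coeff_map, hmap]
  apply Ideal.mem_map_of_mem
  -- upstairs
  set F₁ : MvPolynomial (Fin (n + 1)) A := rename Fin.succ F with hF₁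
  have hF₁h : F₁.IsHomogeneous d := hF.rename_isHomogeneous
  have hevF : eval a F₁ = eval (fun i : Fin n => a i.succ) F := by
    rw [hF₁, eval_rename]; rfl
  have hcoeff : coeff m F = coeff (Finsupp.mapDomain Fin.succ m) F₁ := by
    rw [hF₁, coeff_rename_mapDomain _ (Fin.succ_injective n)]
  rw [hcoeff]
  -- the value lies in `I^{d+1} + (a 0)`
  have hval : φ (eval a F₁) ∈ Ideal.map φ (I ^ (d + 1)) := by
    rw [hevF, Ideal.map_pow, ← hmap]
    have : φ (eval (fun i : Fin n => a i.succ) F) = eval a' (map φ F) := by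
      rw [eval_map]
      have h := eval₂_comp_left φ (RingHom.id A) (fun i : Fin n => a i.succ) F
      rw [RingHom.comp_id] at h
      exact h
    rw [this]; exact hev
  obtain ⟨y, hy, hyφ⟩ := (Ideal.mem_map_iff_of_surjective φ Ideal.Quotient.mk_surjective).mp hval
  have hdiff : eval a F₁ - y ∈ Ideal.span {a 0} := by
    rw [← Ideal.Quotient.eq_zero_iff_mem]
    change φ (eval a F₁ - y) = 0
    rw [map_sub, hyφ, sub_self]
  obtain ⟨ω, hω⟩ := Ideal.mem_span_singleton'.mp hdiff
  have ha0 : a 0 ∈ I := Ideal.subset_span ⟨0, rfl⟩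
  -- the coefficient is unchanged by subtracting a multiple of `X 0`
  have hcoeffX : ∀ G : MvPolynomial (Fin (n + 1)) A,
      coeff (Finsupp.mapDomain Fin.succ m) (X 0 * G) = 0 := by
    intro G
    rw [coeff_X_mul', if_neg]
    rw [Finsupp.mem_support_iff, not_not]
    apply Finsupp.mapDomain_of_notMem_range
    rintro ⟨j, hj⟩
    exact Fin.succ_ne_zero j hj
  rcases Nat.eq_zero_or_pos d with hd | hd
  · subst hd
    apply hq 0 F₁ hF₁h
    have : eval a F₁ = y + ω * a 0 := by rw [hω]; ring
    rw [this]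
    refine Ideal.add_mem _ hy ?_
    rw [zero_add, pow_one]
    exact Ideal.mul_mem_left _ _ ha0
  · obtain ⟨e, rfl⟩ : ∃ e, d = e + 1 := ⟨d - 1, by omega⟩
    have hFe : eval a F₁ ∈ I ^ (e + 1) := eval_mem_pow a hF₁h
    have hmulω : a 0 * ω ∈ I ^ (e + 1) := by
      have : a 0 * ω = eval a F₁ - y := by rw [← hω]; ring
      rw [this]
      exact Ideal.sub_mem _ hFe (Ideal.pow_le_pow_right (Nat.le_succ _) hy)
    have hωmem : ∀ i, i ≤ e → ω ∈ I ^ i := by
      intro i
      induction i with
      | zero => intro _; simp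
      | succ i ih =>
        intro hi
        obtain ⟨G, hG, hGω⟩ := exists_homogeneous_eval a i ω (ih (by omega))
        rw [← hGω]
        apply eval_mem_of_mul_mem a hq hG
        rw [hGω]
        exact Ideal.pow_le_pow_right (by omega) hmulω
    obtain ⟨G, hG, hGω⟩ := exists_homogeneous_eval a e ω (hωmem e le_rfl)
    have hXG : (X 0 * G).IsHomogeneous (e + 1) := by
      have h0 := (isHomogeneous_X A (0 : Fin (n + 1))).mul hG
      rwa [Nat.add_comm 1 e] at h0
    have hH : (F₁ - X 0 * G).IsHomogeneous (e + 1) := hF₁h.sub hXG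
    have hHev : eval a (F₁ - X 0 * G) ∈ I ^ (e + 1 + 1) := by
      have : eval a (F₁ - X 0 * G) = y := by
        rw [map_sub, map_mul, eval_X, hGω]
        have : a 0 * ω = eval a F₁ - y := by rw [← hω]; ring
        rw [this]; ring
      rw [this]; exact hy
    have := hq (e + 1) _ hH hHev (Finsupp.mapDomain Fin.succ m)
    rwa [coeff_sub, hcoeffX, sub_zero] at this

section main
open RingTheory.Sequence

/-- the linear equivalence between the two presentations of `A/(x)` -/
noncomputable def quotEquiv (x : A) : QuotSMulTop x A ≃ₗ[A] (A ⧸ Ideal.span {x}) :=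
  Submodule.quotEquivOfEq _ _ (by
    rw [← Submodule.ideal_span_singleton_smul, smul_eq_mul, Ideal.mul_top])

lemma isWeaklyRegular_quot_iff (x : A) (rs : List A) :
    IsWeaklyRegular (QuotSMulTop x A) rs ↔
      IsWeaklyRegular (A ⧸ Ideal.span {x}) (rs.map (Ideal.Quotient.mk (Ideal.span {x}))) := by
  refine (quotEquiv x).toAddEquiv.isWeaklyRegular_congr ?_
  refine List.forall₂_map_right_iff.mpr <| List.forall₂_same.mpr fun r _ t => ?_
  change quotEquiv x (r • t) = _
  rw [map_smul]
  generalize quotEquiv x t = z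
  obtain ⟨w, rfl⟩ := Ideal.Quotient.mk_surjective z
  rw [smul_eq_mul, ← map_mul]
  rfl

/-- **Matsumura 16.3**: a quasi-regular sequence contained in the Jacobson radical of a Noetherian
ring is a (weakly) regular sequence. -/
theorem isWeaklyRegular_of_qr : ∀ (n : ℕ) (A : Type u) [CommRing A] [IsNoetherianRing A]
    (a : Fin n → A), (∀ i, a i ∈ Ring.jacobson A) → QR a → IsWeaklyRegular A (List.ofFn a) := by
  intro n
  induction n with
  | zero =>
    intro A _ _ a _ _
    rw [List.ofFn_zero]
    exact IsWeaklyRegular.nil A A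
  | succ n ih =>
    intro A _ _ a hj hq
    rw [List.ofFn_succ, isWeaklyRegular_cons_iff]
    refine ⟨isSMulRegular_head a hq hj, ?_⟩
    rw [isWeaklyRegular_quot_iff, List.map_ofFn]
    refine ih (A ⧸ Ideal.span {a 0}) _ ?_ (qr_tail a hq)
    intro i
    exact Ring.le_comap_jacobson (Ideal.Quotient.mk (Ideal.span {a 0})) (hj i.succ)

end main

end Groth.Agent.Lib.Helper21.QuasiRegJac
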