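import Mathlib

/-!
# Helper21 — FlatDescQ17: quasi-finiteness at a prime from "closed and generic in its fibre"
-/

namespace Groth.Agent.Lib.Helper21.FlatDesc

open Function

universe u

section QF

variable (A C : Type u) [CommRing A] [CommRing C] [Algebra A C] [Algebra.FiniteType A C]

/-- A prime `Q` of a finite type `A`-algebra `C` which is closed in its fibre and has no proper
generization in its fibre is an isolated point of its fibre; hence `C` is quasi-finite at `Q`. -/
theorem quasiFiniteAt_of_closed_of_generic (Q : PrimeSpectrum C)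
    (hcl : IsClosed (X := PrimeSpectrum.comap (algebraMap A C) ⁻¹' {Q.comap (algebraMap A C)})
      {⟨Q, rfl⟩})
    (hgen : ∀ Q' : PrimeSpectrum C, Q' ≤ Q → Q'.comap (algebraMap A C) = Q.comap (algebraMap A C) →
      Q' = Q) :
    Algebra.QuasiFiniteAt A Q.asIdeal := by
  apply Algebra.QuasiFiniteAt.of_isOpen_singleton_fiber
  let p := Q.comap (algebraMap A C)
  let e := PrimeSpectrum.preimageHomeomorphFiber A C p
  haveI : IsNoetherianRing (p.asIdeal.Fiber C) :=
    Algebra.FiniteType.isNoetherianRing p.asIdeal.ResidueField _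
  haveI : IsJacobsonRing (p.asIdeal.Fiber C) :=
    isJacobsonRing_of_finiteType (A := p.asIdeal.ResidueField)
  have hgen' : StableUnderGeneralization
      ({⟨Q, rfl⟩} : Set (PrimeSpectrum.comap (algebraMap A C) ⁻¹' {p})) := by
    intro x y hy hx
    rw [Set.mem_singleton_iff] at hx ⊢
    subst hx
    have h1 : y.1 ⤳ Q := by
      have := hy.map continuous_subtype_val
      exact this
    rw [← PrimeSpectrum.le_iff_specializes] at h1
    exact Subtype.ext (hgen y.1 h1 y.2)
  have h3 : IsOpen ({e ⟨Q, rfl⟩} : Set (PrimeSpectrum (p.asIdeal.Fiber C))) := by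
    have htfae := (PrimeSpectrum.isOpen_singleton_tfae_of_isNoetherian_of_isJacobsonRing
      (e ⟨Q, rfl⟩)).out 2 0
    rw [← htfae]
    refine ⟨?_, ?_⟩
    · have := hcl.preimage e.symm.continuous
      convert this using 1
      ext z
      simp only [Set.mem_singleton_iff, Set.mem_preimage]
      exact ⟨fun h => by rw [h, e.symm_apply_apply], fun h => by rw [← h, e.apply_symm_apply]⟩
    · have := hgen'.preimage e.symm.continuous
      convert this using 1
      ext z
      simp only [Set.mem_singleton_iff, Set.mem_preimage]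
      exact ⟨fun h => by rw [h, e.symm_apply_apply], fun h => by rw [← h, e.apply_symm_apply]⟩
  have h4 := h3.preimage e.continuous
  convert h4 using 1
  ext z
  simp only [Set.mem_singleton_iff, Set.mem_preimage]
  exact ⟨fun h => by rw [h], fun h => e.injective h⟩

/-- spreading out quasi-finiteness at a prime to a basic open neighbourhood, together with
uniqueness of the prime in its fibre on that neighbourhood. -/
theorem exists_away_quasiFinite (Q : Ideal C) [Q.IsPrime] [Algebra.QuasiFiniteAt A Q] :
    ∃ c ∉ Q, (∀ Q' : Ideal C, Q'.IsPrime → Q' ≠ Q →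
        Q'.comap (algebraMap A C) = Q.comap (algebraMap A C) → c ∈ Q') ∧
      ∀ c' : C, c ∣ c' → ∀ (C' : Type u) [CommRing C'] [Algebra C C'] [Algebra A C']
        [IsScalarTower A C C'] [IsLocalization.Away c' C'], Algebra.QuasiFinite A C' := by
  obtain ⟨S', hS', r, hrQ, H⟩ :=
    Algebra.QuasiFiniteAt.exists_fg_and_exists_notMem_and_awayMap_bijective (R := A) Q
  haveI : Module.Finite A S' := ⟨(Submodule.fg_top _).mpr hS'⟩
  haveI : Algebra.QuasiFinite A (Localization.Away r) := .trans _ S' _
  haveI hqf : Algebra.QuasiFinite A (Localization.Away r.1) :=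
    .of_surjective_algHom (Localization.awayMapₐ S'.val r) H.2
  haveI : Q.LiesOver (Q.under A) := ⟨rfl⟩
  obtain ⟨s, hs, hs'⟩ := Ideal.exists_not_mem_forall_mem_of_ne_of_liesOver (Q.under A) Q
  refine ⟨r.1 * s, fun h => (Ideal.IsPrime.mem_or_mem inferInstance h).elim hrQ hs, ?_, ?_⟩
  · intro Q' hQ' hne hcomap
    exact Ideal.mul_mem_left _ _ (hs' Q' hQ' hne ⟨hcomap.symm⟩)
  · intro c' hc' C' _ _ _ _ _
    have hu' : IsUnit (algebraMap C C' c') := IsLocalization.Away.algebraMap_isUnit c'
    have hu : IsUnit (algebraMap C C' r.1) := by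
      obtain ⟨d, rfl⟩ := hc'
      rw [map_mul, map_mul] at hu'
      exact isUnit_of_mul_isUnit_left (isUnit_of_mul_isUnit_left hu')
    let f : Localization.Away r.1 →ₐ[C] C' :=
      IsLocalization.Away.liftAlgHom r.1 (f := Algebra.ofId C C') hu
    refine Algebra.QuasiFinite.of_forall_exists_mul_mem_range (f.restrictScalars A) fun x => ?_
    obtain ⟨n, y, hy⟩ := IsLocalization.Away.surj c' x
    refine ⟨algebraMap C _ (c' ^ n), ?_, algebraMap C _ y, ?_⟩
    · show IsUnit (f (algebraMap C _ (c' ^ n)))
      rw [AlgHom.commutes, map_pow]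
      exact hu'.pow n
    · show f (algebraMap C _ y) = x * f (algebraMap C _ (c' ^ n))
      rw [AlgHom.commutes, AlgHom.commutes, map_pow, hy]

end QF

section Gen

open IsLocalRing

/-- primes of `B` inside `q` containing an ideal `J` whose extension to `B_q` is primary to the
maximal ideal (set-theoretically) are equal to `q`. -/
theorem eq_of_le_of_map_le {B : Type*} [CommRing B] (q : Ideal B) [q.IsPrime]
    (O : Type*) [CommRing O] [Algebra B O] [IsLocalization.AtPrime O q]
    (J : Ideal B)
    (h : letI := IsLocalization.AtPrime.isLocalRing O q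
      ∀ P : Ideal O, P.IsPrime → J.map (algebraMap B O) ≤ P → P = maximalIdeal O)
    (P' : Ideal B) [hP' : P'.IsPrime] (hJ : J ≤ P') (hq : P' ≤ q) : P' = q := by
  letI := IsLocalization.AtPrime.isLocalRing O q
  have hdisj : Disjoint (q.primeCompl : Set B) (P' : Set B) := by
    rw [Set.disjoint_left]
    intro a ha ha'
    exact ha (hq ha')
  have hprime : (P'.map (algebraMap B O)).IsPrime :=
    IsLocalization.isPrime_of_isPrime_disjoint q.primeCompl O P' hP' hdisj
  have h1 := h _ hprime (Ideal.map_mono hJ)
  have h2 := IsLocalization.comap_map_of_isPrime_disjoint q.primeCompl O hP' hdisj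
  rw [h1, IsLocalization.AtPrime.comap_maximalIdeal O q] at h2
  exact h2.symm

end Gen

end Groth.Agent.Lib.Helper21.FlatDesc
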