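import Mathlib
import Groth.Prelude.Def_W4bk5brsh16IT

set_option autoImplicit false
universe u
open LocCoh

namespace Groth.Agent.Lib.Helper21.TightKit

variable {R : Type u} [CommRing R]

theorem frobPow_one (I : Ideal R) : frobPow I 1 = I := by
  unfold frobPow
  apply le_antisymm
  · apply Ideal.span_le.2
    rintro x ⟨y, hy, rfl⟩
    simpa using hy
  · intro x hx
    exact Ideal.subset_span ⟨x, hx, by simp⟩

theorem frobPow_mono {I J : Ideal R} (h : I ≤ J) (q : ℕ) : frobPow I q ≤ frobPow J q := by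
  unfold frobPow
  apply Ideal.span_mono
  rintro x ⟨y, hy, rfl⟩
  exact ⟨y, h hy, rfl⟩

theorem pow_mem_frobPow {I : Ideal R} {y : R} (hy : y ∈ I) (q : ℕ) : y ^ q ∈ frobPow I q :=
  Ideal.subset_span ⟨y, hy, rfl⟩

theorem tightClosure_mono (p : ℕ) {I J : Ideal R} (h : I ≤ J) :
    tightClosure p I ⊆ tightClosure p J := by
  rintro r ⟨c, hc, e₀, he⟩
  exact ⟨c, hc, e₀, fun e hle => frobPow_mono h _ (he e hle)⟩

theorem isTightlyClosed_top (p : ℕ) : IsTightlyClosed p (⊤ : Ideal R) := fun _ _ => trivial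

variable (p : ℕ) [Fact p.Prime] [CharP R p]

theorem frobPow_span (S : Set R) (e : ℕ) :
    frobPow (Ideal.span S) (p ^ e) = Ideal.span ((fun s => s ^ p ^ e) '' S) := by
  apply le_antisymm
  · unfold frobPow
    apply Ideal.span_le.2
    rintro x ⟨y, hy, rfl⟩
    show y ^ p ^ e ∈ Ideal.span ((fun s => s ^ p ^ e) '' S)
    refine Submodule.span_induction (p := fun y _ => y ^ p ^ e ∈ Ideal.span ((fun s => s ^ p ^ e) '' S))
      ?_ ?_ ?_ ?_ hy
    · intro s hs
      exact Ideal.subset_span ⟨s, hs, rfl⟩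
    · rw [zero_pow (pow_ne_zero _ (Fact.out : p.Prime).ne_zero)]
      exact Ideal.zero_mem _
    · intro x y _ _ hx hy
      rw [add_pow_expChar_pow]
      exact Ideal.add_mem _ hx hy
    · intro a x _ hx
      rw [smul_eq_mul, mul_pow]
      exact Ideal.mul_mem_left _ _ hx
  · apply Ideal.span_le.2
    rintro x ⟨s, hs, rfl⟩
    exact pow_mem_frobPow (Ideal.subset_span hs) _

theorem frobPow_sup_span_singleton (J : Ideal R) (a : R) (e : ℕ) :
    frobPow (J ⊔ Ideal.span {a}) (p ^ e) = frobPow J (p ^ e) ⊔ Ideal.span {a ^ p ^ e} := by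
  apply le_antisymm
  · unfold frobPow
    apply Ideal.span_le.2
    rintro x ⟨y, hy, rfl⟩
    obtain ⟨j, hj, z, hz, rfl⟩ := Submodule.mem_sup.1 hy
    obtain ⟨r, rfl⟩ := Ideal.mem_span_singleton'.1 hz
    show (j + r * a) ^ p ^ e ∈ _
    rw [add_pow_expChar_pow, mul_pow]
    exact Ideal.add_mem _ (Ideal.mem_sup_left (Ideal.subset_span ⟨j, hj, rfl⟩))
      (Ideal.mem_sup_right (Ideal.mul_mem_left _ _ (Ideal.mem_span_singleton_self _)))
  · apply sup_le
    · exact frobPow_mono le_sup_left _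
    · rw [Ideal.span_le, Set.singleton_subset_iff]
      have ha : a ∈ J ⊔ Ideal.span {a} := Ideal.mem_sup_right (Ideal.mem_span_singleton_self a)
      exact pow_mem_frobPow ha _

/-- `a` is Frobenius-regular modulo `J`: every `a^q` is a nonzerodivisor modulo `J^[q]`. -/
def FReg (J : Ideal R) (a : R) : Prop :=
  ∀ e : ℕ, ∀ u : R, a ^ p ^ e * u ∈ frobPow J (p ^ e) → u ∈ frobPow J (p ^ e)

variable {p}

theorem FReg.pow {J : Ideal R} {a : R} (h : FReg p J a) (t e : ℕ) (u : R)
    (hu : (a ^ p ^ e) ^ t * u ∈ frobPow J (p ^ e)) : u ∈ frobPow J (p ^ e) := by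
  induction t with
  | zero => simpa using hu
  | succ t ih =>
    apply ih
    apply h e
    rw [← mul_assoc, ← pow_succ']
    exact hu

theorem FReg.reg {J : Ideal R} {a : R} (h : FReg p J a) (u : R) (hu : a * u ∈ J) : u ∈ J := by
  have := h 0 u
  simp only [pow_zero, pow_one, frobPow_one] at this
  exact this hu

/-- Lemma C: powers. -/
theorem isTightlyClosed_sup_pow {J : Ideal R} {a : R} (hreg : FReg p J a)
    (htc : IsTightlyClosed p (J ⊔ Ideal.span {a})) (t : ℕ) :
    IsTightlyClosed p (J ⊔ Ideal.span {a ^ t}) := by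
  induction t with
  | zero =>
    have : J ⊔ Ideal.span {a ^ 0} = ⊤ := by
      rw [pow_zero, Ideal.span_singleton_one, sup_top_eq]
    rw [this]; exact isTightlyClosed_top p
  | succ t ih =>
    intro u hu
    have hle : J ⊔ Ideal.span {a ^ (t + 1)} ≤ J ⊔ Ideal.span {a ^ t} := by
      apply sup_le le_sup_left
      rw [Ideal.span_le, Set.singleton_subset_iff, pow_succ]
      exact Ideal.mem_sup_right (Ideal.mul_mem_right _ _ (Ideal.mem_span_singleton_self _))
    have hu1 : u ∈ J ⊔ Ideal.span {a ^ t} := ih (tightClosure_mono p hle hu)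
    obtain ⟨j, hj, z, hz, rfl⟩ := Submodule.mem_sup.1 hu1
    obtain ⟨v, rfl⟩ := Ideal.mem_span_singleton'.1 hz
    obtain ⟨c, hc, e₀, he⟩ := hu
    have hv : v ∈ tightClosure p (J ⊔ Ideal.span {a}) := by
      refine ⟨c, hc, e₀, fun e hle => ?_⟩
      have h1 := he e hle
      rw [frobPow_sup_span_singleton] at h1 ⊢
      rw [add_pow_expChar_pow, mul_add] at h1
      have h2 : c * (v * a ^ t) ^ p ^ e ∈ frobPow J (p ^ e) ⊔ Ideal.span {(a ^ (t + 1)) ^ p ^ e} := by
        have h3 : c * j ^ p ^ e ∈ frobPow J (p ^ e) ⊔ Ideal.span {(a ^ (t + 1)) ^ p ^ e} :=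
          Ideal.mem_sup_left (Ideal.mul_mem_left _ _ (pow_mem_frobPow hj _))
        have := Ideal.sub_mem _ h1 h3
        simpa using this
      obtain ⟨j', hj', z', hz', hsum⟩ := Submodule.mem_sup.1 h2
      obtain ⟨s, rfl⟩ := Ideal.mem_span_singleton'.1 hz'
      have h4 : (a ^ p ^ e) ^ t * (c * v ^ p ^ e - s * a ^ p ^ e) ∈ frobPow J (p ^ e) := by
        have : (a ^ p ^ e) ^ t * (c * v ^ p ^ e - s * a ^ p ^ e) = j' := by
          have h5 : j' = c * (v * a ^ t) ^ p ^ e - s * (a ^ (t + 1)) ^ p ^ e := by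
            rw [← hsum]; ring
          rw [h5]; ring
        rw [this]; exact hj'
      have h6 := hreg.pow t e _ h4
      have h7 : c * v ^ p ^ e = (c * v ^ p ^ e - s * a ^ p ^ e) + s * a ^ p ^ e := by ring
      rw [h7]
      exact Ideal.add_mem _ (Ideal.mem_sup_left h6)
        (Ideal.mem_sup_right (Ideal.mul_mem_left _ _ (Ideal.mem_span_singleton_self _)))
    have hv1 := htc hv
    obtain ⟨j₂, hj₂, z₂, hz₂, hv2⟩ := Submodule.mem_sup.1 hv1
    obtain ⟨w, rfl⟩ := Ideal.mem_span_singleton'.1 hz₂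
    show j + v * a ^ t ∈ J ⊔ Ideal.span {a ^ (t + 1)}
    have : j + v * a ^ t = (j + j₂ * a ^ t) + w * a ^ (t + 1) := by
      rw [← hv2]; ring
    rw [this]
    exact Ideal.add_mem _ (Ideal.mem_sup_left (Ideal.add_mem _ hj (Ideal.mul_mem_right _ _ hj₂)))
      (Ideal.mem_sup_right (Ideal.mul_mem_left _ _ (Ideal.mem_span_singleton_self _)))

/-- Lemma B: descent along a colon. -/
theorem isTightlyClosed_of_mul {J : Ideal R} {r b : R} (hreg : FReg p J r)
    (htc : IsTightlyClosed p (J ⊔ Ideal.span {r * b})) :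
    IsTightlyClosed p (J ⊔ Ideal.span {b}) := by
  intro u hu
  obtain ⟨c, hc, e₀, he⟩ := hu
  have h1 : r * u ∈ tightClosure p (J ⊔ Ideal.span {r * b}) := by
    refine ⟨c, hc, e₀, fun e hle => ?_⟩
    have h2 := he e hle
    rw [frobPow_sup_span_singleton] at h2 ⊢
    obtain ⟨j', hj', z', hz', hsum⟩ := Submodule.mem_sup.1 h2
    obtain ⟨s, rfl⟩ := Ideal.mem_span_singleton'.1 hz'
    have : c * (r * u) ^ p ^ e = r ^ p ^ e * j' + s * (r * b) ^ p ^ e := by
      rw [mul_pow, mul_pow]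
      have : c * u ^ p ^ e = j' + s * b ^ p ^ e := hsum.symm
      linear_combination (r ^ p ^ e) * this
    rw [this]
    exact Ideal.add_mem _ (Ideal.mem_sup_left (Ideal.mul_mem_left _ _ hj'))
      (Ideal.mem_sup_right (Ideal.mul_mem_left _ _ (Ideal.mem_span_singleton_self _)))
  have h3 := htc h1
  obtain ⟨j, hj, z, hz, hsum⟩ := Submodule.mem_sup.1 h3
  obtain ⟨s, rfl⟩ := Ideal.mem_span_singleton'.1 hz
  have h4 : r * (u - s * b) ∈ J := by
    have : r * (u - s * b) = j := by rw [mul_sub, ← hsum]; ring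
    rw [this]; exact hj
  have h5 := hreg.reg _ h4
  have : u = (u - s * b) + s * b := by ring
  rw [this]
  exact Ideal.add_mem _ (Ideal.mem_sup_left h5)
    (Ideal.mem_sup_right (Ideal.mul_mem_left _ _ (Ideal.mem_span_singleton_self _)))

/-- Lemma D: exchange of the last generator. -/
theorem isTightlyClosed_exchange {J : Ideal R} {a b : R} (hreg : FReg p J a)
    (t : ℕ) (ht : a ^ t ∈ J ⊔ Ideal.span {b})
    (htc : IsTightlyClosed p (J ⊔ Ideal.span {a})) :
    IsTightlyClosed p (J ⊔ Ideal.span {b}) := by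
  obtain ⟨j, hj, z, hz, hsum⟩ := Submodule.mem_sup.1 ht
  obtain ⟨r, rfl⟩ := Ideal.mem_span_singleton'.1 hz
  have h1 := isTightlyClosed_sup_pow hreg htc t
  have heq : J ⊔ Ideal.span {a ^ t} = J ⊔ Ideal.span {r * b} := by
    apply le_antisymm
    · apply sup_le le_sup_left
      rw [Ideal.span_le, Set.singleton_subset_iff, ← hsum]
      exact Ideal.add_mem _ (Ideal.mem_sup_left hj) (Ideal.mem_sup_right (Ideal.mem_span_singleton_self _))
    · apply sup_le le_sup_left
      rw [Ideal.span_le, Set.singleton_subset_iff]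
      have : r * b = a ^ t - j := by rw [← hsum]; ring
      rw [this]
      exact Ideal.sub_mem _ (Ideal.mem_sup_right (Ideal.mem_span_singleton_self _)) (Ideal.mem_sup_left hj)
  rw [heq] at h1
  apply isTightlyClosed_of_mul _ h1
  intro e u hu
  apply hreg.pow t e
  have : (a ^ p ^ e) ^ t * u = j ^ p ^ e * u + b ^ p ^ e * (r ^ p ^ e * u) := by
    rw [← pow_mul, mul_comm (p ^ e) t, pow_mul, ← hsum, add_pow_expChar_pow, mul_pow]; ring
  rw [this]
  exact Ideal.add_mem _ (Ideal.mul_mem_right _ _ (pow_mem_frobPow hj _)) (Ideal.mul_mem_left _ _ hu)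

end Groth.Agent.Lib.Helper21.TightKit
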