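import Mathlib
import Groth.Agent.Lib.Helper21.TightKit
import Groth.Agent.Lib.Helper21.DepthKit4

set_option autoImplicit false
universe u
open LocCoh RingTheory.Sequence IsLocalRing Module

namespace Groth.Agent.Lib.Helper21.TightKit

open Groth.Agent.Lib.Helper21.DepthKit

section CM
variable {R : Type u} [CommRing R] [IsLocalRing R] [IsNoetherianRing R]

theorem ringKrullDim_quot_eq_zero_of_radical (I : Ideal R) (hI : I.radical = maximalIdeal R) :
    ringKrullDim (R ⧸ I) = 0 := by
  have hne : I ≠ ⊤ := by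
    rintro rfl
    rw [Ideal.radical_top] at hI
    exact (Ideal.IsPrime.ne_top' (I := maximalIdeal R)) hI.symm
  haveI : Nontrivial (R ⧸ I) := Ideal.Quotient.nontrivial_iff.2 hne
  apply le_antisymm _ ringKrullDim_nonneg_of_nontrivial
  have : Ring.KrullDimLE 0 (R ⧸ I) := Ring.krullDimLE_zero_iff.mpr fun J prime ↦ by
    have hc := prime.comap (Ideal.Quotient.mk I)
    have h1 : I ≤ J.comap (Ideal.Quotient.mk I) := by
      intro x hx
      rw [Ideal.mem_comap, Ideal.Quotient.eq_zero_iff_mem.2 hx]
      exact Ideal.zero_mem _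
    have h2 : maximalIdeal R ≤ J.comap (Ideal.Quotient.mk I) := by
      rw [← hI]
      exact (Ideal.IsPrime.radical_le_iff hc).2 h1
    have h3 : J.comap (Ideal.Quotient.mk I) = maximalIdeal R :=
      le_antisymm (le_maximalIdeal hc.ne_top) h2
    have h4 : (J.comap (Ideal.Quotient.mk I)).IsMaximal := h3 ▸ maximalIdeal.isMaximal R
    have h5 := Ideal.map_eq_top_or_isMaximal_of_surjective (Ideal.Quotient.mk I)
      Ideal.Quotient.mk_surjective h4
    rw [Ideal.map_comap_of_surjective _ Ideal.Quotient.mk_surjective] at h5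
    exact h5.resolve_left prime.ne_top
  have h9 := (Order.krullDimLE_iff 0 _).1 this
  rw [Nat.cast_zero] at h9
  exact h9

theorem radical_of_ringKrullDim_quot_eq_zero (I : Ideal R) (hne : I ≠ ⊤)
    (h : ringKrullDim (R ⧸ I) ≤ 0) : I.radical = maximalIdeal R := by
  have hk : Ring.KrullDimLE 0 (R ⧸ I) := (Order.krullDimLE_iff 0 _).2 (by rw [Nat.cast_zero]; exact h)
  apply le_antisymm
  · exact (Ideal.IsPrime.radical_le_iff (maximalIdeal.isMaximal R).isPrime).2 (le_maximalIdeal hne)
  · rw [Ideal.radical_eq_sInf]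
    apply le_sInf
    rintro P ⟨hIP, hP⟩
    have hmap : (P.map (Ideal.Quotient.mk I)).IsPrime := by
      apply Ideal.map_isPrime_of_surjective Ideal.Quotient.mk_surjective
      rw [Ideal.mk_ker]; exact hIP
    have hmax : (P.map (Ideal.Quotient.mk I)).IsMaximal :=
      Ring.krullDimLE_zero_iff.1 hk _ hmap
    have hcomap : (P.map (Ideal.Quotient.mk I)).comap (Ideal.Quotient.mk I) = P := by
      rw [Ideal.comap_map_of_surjective _ Ideal.Quotient.mk_surjective, ← RingHom.ker_eq_comap_bot,
        Ideal.mk_ker, sup_eq_left]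
      exact hIP
    have : P.IsMaximal := by
      rw [← hcomap]
      exact Ideal.comap_isMaximal_of_surjective _ Ideal.Quotient.mk_surjective
    rw [IsLocalRing.eq_maximalIdeal this]

theorem smul_top_self (I : Ideal R) : (I • ⊤ : Submodule R R) = I := by simp

theorem supportDim_quot_smul_top (I : Ideal R) :
    supportDim R (R ⧸ (I • ⊤ : Submodule R R)) = ringKrullDim (R ⧸ I) := by
  rw [supportDim_eq_of_equiv (Submodule.quotEquivOfEq _ _ (smul_top_self I)),
    Module.supportDim_quotient_eq_ringKrullDim]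

/-- In a CM local ring of dimension `n`, a list of length `n` generating an `𝔪`-primary ideal is
a regular sequence. -/
theorem isWeaklyRegular_of_radical (hCM : LocCoh.IsCohenMacaulayModule R R) (n : ℕ)
    (hn : supportDim R R = n) (L : List R) (hlen : L.length = n)
    (hrad : (Ideal.ofList L).radical = maximalIdeal R) : IsWeaklyRegular R L := by
  have hm : ∀ r ∈ L, r ∈ maximalIdeal R := fun r hr => by
    rw [← hrad]
    exact Ideal.le_radical (Ideal.subset_span hr)
  apply isWeaklyRegular_of_supportDim_drop L R hCM hm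
  rw [supportDim_quot_smul_top, ringKrullDim_quot_eq_zero_of_radical _ hrad, hn, hlen, zero_add]

/-- Conversely a regular sequence of length `dim R` in `𝔪` generates an `𝔪`-primary ideal. -/
theorem radical_of_isWeaklyRegular (n : ℕ) (hn : supportDim R R = n) (L : List R)
    (hlen : L.length = n) (hm : ∀ r ∈ L, r ∈ maximalIdeal R) (hreg : IsWeaklyRegular R L) :
    (Ideal.ofList L).radical = maximalIdeal R := by
  have hreg' : IsRegular R L :=
    (IsLocalRing.isRegular_iff_isWeaklyRegular_of_subset_maximalIdeal hm).2 hreg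
  have h1 := supportDim_add_length_eq_supportDim_of_isRegular L hreg'
  rw [supportDim_quot_smul_top, hn, hlen] at h1
  have hne : Ideal.ofList L ≠ ⊤ := fun h => by
    have hle : Ideal.ofList L ≤ maximalIdeal R := Ideal.span_le.2 (fun x hx => hm x hx)
    rw [h] at hle
    exact (Ideal.IsPrime.ne_top' (I := maximalIdeal R)) (top_le_iff.1 hle)
  apply radical_of_ringKrullDim_quot_eq_zero _ hne
  generalize ringKrullDim (R ⧸ Ideal.ofList L) = D at h1 ⊢
  induction D using WithBot.recBotCoe with
  | bot => simp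
  | coe d =>
    have h2 : ((d + (n : ℕ∞) : ℕ∞) : WithBot ℕ∞) = ((n : ℕ∞) : WithBot ℕ∞) := by exact_mod_cast h1
    have h3 : d + (n : ℕ∞) = (n : ℕ∞) := WithBot.coe_injective h2
    have h4 : d = 0 := by
      have : d + (n : ℕ∞) = 0 + (n : ℕ∞) := by rw [h3, zero_add]
      exact (ENat.add_left_injective_of_ne_top (ENat.coe_ne_top n)) this
    rw [h4]; rfl

theorem mem_of_mul_mem_of_isWeaklyRegular_append (L : List R) (a : R)
    (h : IsWeaklyRegular R (L ++ [a])) (u : R) (hu : a * u ∈ Ideal.ofList L) :
    u ∈ Ideal.ofList L := by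
  have h1 := ((isWeaklyRegular_append_iff R L [a]).1 h).2
  rw [isWeaklyRegular_cons_iff] at h1
  have h2 := h1.1
  have h3 : a • (Submodule.Quotient.mk u : R ⧸ (Ideal.ofList L • ⊤ : Submodule R R)) = 0 := by
    rw [← Submodule.Quotient.mk_smul, Submodule.Quotient.mk_eq_zero, smul_top_self]
    exact hu
  have h4 := h2.right_eq_zero_of_smul h3
  rw [Submodule.Quotient.mk_eq_zero, smul_top_self] at h4
  exact h4

end CM

end Groth.Agent.Lib.Helper21.TightKit
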