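import Mathlib
import Groth.Agent.Lib.Helper21.TightKitB

/-!
# Helper21 — FlatDescQ18: a Cohen–Macaulay local ring has a regular sequence generating an
`𝔪`-primary ideal; transport along ring isomorphisms and lifting along surjections.
-/

namespace Groth.Agent.Lib.Helper21.FlatDesc

open IsLocalRing RingTheory.Sequence

universe u

theorem exists_regular_primary (R : Type u) [CommRing R] [hCM : LocCoh.IsCohenMacaulayLocalRing R] :
    ∃ L : List R, (∀ r ∈ L, r ∈ maximalIdeal R) ∧ IsWeaklyRegular R L ∧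
      ∀ P : Ideal R, P.IsPrime → Ideal.ofList L ≤ P → P = maximalIdeal R := by
  classical
  obtain ⟨s, hs, hcard⟩ :=
    Ideal.exists_finset_card_eq_height_of_isNoetherianRing (maximalIdeal R)
  have hspan : Ideal.ofList s.toList = Ideal.span (s : Set R) := by
    unfold Ideal.ofList
    congr 1
    ext r
    simp
  have hprime : ∀ P : Ideal R, P.IsPrime → Ideal.ofList s.toList ≤ P → P = maximalIdeal R := by
    intro P hP hle
    rw [hspan] at hle
    exact le_antisymm (IsLocalRing.le_maximalIdeal hP.ne_top)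
      (hs.2 ⟨hP, hle⟩ (IsLocalRing.le_maximalIdeal hP.ne_top))
  have hle : Ideal.ofList s.toList ≤ maximalIdeal R := by
    rw [hspan]; exact hs.1.2
  have hrad : (Ideal.ofList s.toList).radical = maximalIdeal R := by
    rw [Ideal.radical_eq_sInf]
    apply le_antisymm
    · exact sInf_le ⟨hle, inferInstance⟩
    · refine le_sInf fun J hJ => ?_
      rw [hprime J hJ.2 hJ.1]
  have hm : ∀ r ∈ s.toList, r ∈ maximalIdeal R := fun r hr => hle (Ideal.subset_span hr)
  have hn : Module.supportDim R R = (s.card : ℕ) := by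
    rw [Module.supportDim_self_eq_ringKrullDim, ← IsLocalRing.maximalIdeal_height_eq_ringKrullDim,
      ← hcard]
    rfl
  refine ⟨s.toList, hm, ?_, hprime⟩
  exact TightKit.isWeaklyRegular_of_radical hCM.supportDim_eq_depth s.card hn s.toList
    (Finset.length_toList s) hrad

/-- lifting a primary regular sequence from a Cohen–Macaulay local ring `R ≃ O/𝔣` to `O`. -/
theorem exists_lift_regular_primary (O : Type u) [CommRing O] [IsLocalRing O] (𝔣 : Ideal O)
    (R : Type u) [CommRing R] [hCM : LocCoh.IsCohenMacaulayLocalRing R] (e : R ≃+* O ⧸ 𝔣) :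
    ∃ hs : List O, (∀ h ∈ hs, h ∈ maximalIdeal O) ∧
      IsWeaklyRegular (O ⧸ 𝔣) (hs.map (Ideal.Quotient.mk 𝔣)) ∧
      ∀ P : Ideal O, P.IsPrime → 𝔣 ≤ P → Ideal.ofList hs ≤ P → P = maximalIdeal O := by
  classical
  obtain ⟨L, hLm, hLreg, hLprime⟩ := exists_regular_primary R
  have hsurj : Function.Surjective (Ideal.Quotient.mk 𝔣) := Ideal.Quotient.mk_surjective
  choose lift hlift using hsurj
  have hmap : (L.map (fun r => lift (e r))).map (Ideal.Quotient.mk 𝔣) = L.map e := by
    rw [List.map_map]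
    apply List.map_congr_left
    intro r _
    exact hlift (e r)
  refine ⟨L.map (fun r => lift (e r)), ?_, ?_, ?_⟩
  · intro h hh
    rw [List.mem_map] at hh
    obtain ⟨r, hr, rfl⟩ := hh
    have h1 := hLm r hr
    rw [mem_maximalIdeal, mem_nonunits_iff] at h1 ⊢
    intro hu
    apply h1
    have h2 : IsUnit (e r) := by
      rw [← hlift (e r)]; exact hu.map (Ideal.Quotient.mk 𝔣)
    have h3 := h2.map e.symm
    rwa [RingEquiv.symm_apply_apply] at h3
  · rw [hmap]
    haveI := RingHomInvPair.of_ringEquiv e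
    haveI := RingHomInvPair.symm (↑e : R →+* O ⧸ 𝔣) (e.symm : O ⧸ 𝔣 →+* R)
    exact (e.toSemilinearEquiv.isWeaklyRegular_congr' L).mp hLreg
  · intro P hP hfP hLP
    refine le_antisymm (IsLocalRing.le_maximalIdeal hP.ne_top) ?_
    have hker : RingHom.ker (Ideal.Quotient.mk 𝔣) ≤ P := by rw [Ideal.mk_ker]; exact hfP
    haveI hPbar : (P.map (Ideal.Quotient.mk 𝔣)).IsPrime :=
      Ideal.map_isPrime_of_surjective Ideal.Quotient.mk_surjective hker
    have hPR : ((P.map (Ideal.Quotient.mk 𝔣)).comap (e : R →+* O ⧸ 𝔣)) = maximalIdeal R := by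
      apply hLprime _ (Ideal.comap_isPrime _ _)
      rw [Ideal.ofList, Ideal.span_le]
      intro r hr
      rw [SetLike.mem_coe, Ideal.mem_comap]
      have : lift (e r) ∈ P := hLP (Ideal.subset_span (List.mem_map.mpr ⟨r, hr, rfl⟩))
      have h2 := Ideal.mem_map_of_mem (Ideal.Quotient.mk 𝔣) this
      rwa [hlift] at h2
    intro x hx
    have h1 : e.symm (Ideal.Quotient.mk 𝔣 x) ∈ maximalIdeal R := by
      rw [mem_maximalIdeal, mem_nonunits_iff] at hx ⊢
      intro hu
      apply hx
      have h2 := hu.map e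
      rw [RingEquiv.apply_symm_apply] at h2
      haveI : Nontrivial (O ⧸ 𝔣) := e.symm.toEquiv.nontrivial
      haveI : IsLocalHom (Ideal.Quotient.mk 𝔣) :=
        IsLocalHom.of_surjective _ Ideal.Quotient.mk_surjective
      exact isUnit_of_map_unit (Ideal.Quotient.mk 𝔣) x h2
    rw [← hPR, Ideal.mem_comap] at h1
    have h2 : Ideal.Quotient.mk 𝔣 x ∈ P.map (Ideal.Quotient.mk 𝔣) := by
      simpa using h1
    have h3 : x ∈ (P.map (Ideal.Quotient.mk 𝔣)).comap (Ideal.Quotient.mk 𝔣) := h2
    rw [Ideal.comap_map_of_surjective _ Ideal.Quotient.mk_surjective, ← RingHom.ker_eq_comap_bot,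
      sup_eq_left.mpr hker] at h3
    exact h3

end Groth.Agent.Lib.Helper21.FlatDesc
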