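import Mathlib
import Groth.Agent.Lib.Helper21.FlatDescQ4

/-!
# Helper21 — FlatDescQ5: fibre criterion of flatness, module form, middle ring essentially of finite
type (`fibre_criterion_essFT_module`).
-/

namespace Groth.Agent.Lib.Helper21.FlatDesc

open TensorProduct Function IsLocalRing

universe u

section CoreModule

set_option maxHeartbeats 1600000 in
set_option synthInstance.maxHeartbeats 200000 in
/-- **Fibre criterion of flatness, module form, middle ring essentially of finite type.** -/
theorem fibre_criterion_essFT_module (A B C : Type u) [CommRing A] [CommRing B] [CommRing C]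
    [IsLocalRing A] [IsLocalRing B] [IsLocalRing C] [Algebra A B] [Algebra B C] [Algebra A C]
    [IsScalarTower A B C] [IsLocalHom (algebraMap A B)] [IsLocalHom (algebraMap B C)]
    (B₀ : Type u) [CommRing B₀] [Algebra A B₀] [Algebra.FiniteType A B₀] [Algebra B₀ B]
    [IsScalarTower A B₀ B] (T : Submonoid B₀) [IsLocalization T B]
    (C₀ : Type u) [CommRing C₀] [Algebra A C₀] [Algebra.FinitePresentation A C₀] [Algebra C₀ C]
    [IsScalarTower A C₀ C] (TC : Submonoid C₀) [IsLocalization TC C]
    (M : Type u) [AddCommGroup M] [Module C M] [Module B M] [Module A M] [IsScalarTower B C M]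
    [IsScalarTower A C M] [IsScalarTower A B M] [Module.FinitePresentation C M] [Nontrivial M]
    [Module.Flat A M]
    (hfib : Module.Flat (B ⧸ (maximalIdeal A).map (algebraMap A B))
      (M ⧸ (maximalIdeal A).map (algebraMap A B) • (⊤ : Submodule B M))) :
    Module.Flat A B ∧ Module.Flat B M := by
  letI : Field (A ⧸ maximalIdeal A) := Ideal.Quotient.field _
  obtain ⟨B₁, _, _, π, hfp, hsurj, hker⟩ := exists_fp_cover A (maximalIdeal A) B₀
  haveI := hfp
  -- algebra structures
  letI a10 : Algebra B₁ B₀ := π.toRingHom.toAlgebra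
  haveI tw10 : IsScalarTower A B₁ B₀ := IsScalarTower.of_algebraMap_eq fun r => (π.commutes r).symm
  letI a1B : Algebra B₁ B := ((algebraMap B₀ B).comp (algebraMap B₁ B₀)).toAlgebra
  haveI tw1B : IsScalarTower B₁ B₀ B := IsScalarTower.of_algebraMap_eq fun _ => rfl
  haveI twA1B : IsScalarTower A B₁ B := IsScalarTower.of_algebraMap_eq fun r => by
    show algebraMap A B r = algebraMap B₀ B (algebraMap B₁ B₀ (algebraMap A B₁ r))
    rw [← IsScalarTower.algebraMap_apply A B₁ B₀, ← IsScalarTower.algebraMap_apply A B₀ B]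
  letI a0C : Algebra B₀ C := ((algebraMap B C).comp (algebraMap B₀ B)).toAlgebra
  haveI tw0BC : IsScalarTower B₀ B C := IsScalarTower.of_algebraMap_eq fun _ => rfl
  letI a1C : Algebra B₁ C := ((algebraMap B C).comp (algebraMap B₁ B)).toAlgebra
  haveI tw1BC : IsScalarTower B₁ B C := IsScalarTower.of_algebraMap_eq fun _ => rfl
  haveI tw10C : IsScalarTower B₁ B₀ C := IsScalarTower.of_algebraMap_eq fun _ => rfl
  haveI twA1C : IsScalarTower A B₁ C := IsScalarTower.of_algebraMap_eq fun r => by
    show algebraMap A C r = algebraMap B C (algebraMap B₁ B (algebraMap A B₁ r))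
    rw [← IsScalarTower.algebraMap_apply A B₁ B, ← IsScalarTower.algebraMap_apply A B C]
  -- module structures on `M`
  letI m0 : Module B₀ M := Module.compHom M (algebraMap B₀ B)
  letI m1 : Module B₁ M := Module.compHom M (algebraMap B₁ B)
  haveI tm0 : IsScalarTower B₀ B M := IsScalarTower.of_algebraMap_smul fun _ _ => rfl
  haveI tm1 : IsScalarTower B₁ B M := IsScalarTower.of_algebraMap_smul fun _ _ => rfl
  haveI tm10 : IsScalarTower B₁ B₀ M := IsScalarTower.of_algebraMap_smul fun _ _ => rfl
  haveI tm1C : IsScalarTower B₁ C M := ⟨fun b c m => by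
    show (b • c) • m = algebraMap B₁ B b • (c • m)
    rw [Algebra.smul_def, mul_smul, IsScalarTower.algebraMap_apply B₁ B C, algebraMap_smul]⟩
  haveI tmA1 : IsScalarTower A B₁ M := ⟨fun a b m => by
    show algebraMap B₁ B (a • b) • m = a • (algebraMap B₁ B b • m)
    rw [Algebra.smul_def, map_mul, ← IsScalarTower.algebraMap_apply, mul_smul, algebraMap_smul]⟩
  have hsurj' : Function.Surjective (algebraMap B₁ B₀) := hsurj
  have hker' : RingHom.ker (algebraMap B₁ B₀) ≤ (maximalIdeal A).map (algebraMap A B₁) := hker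
  -- Step 1: fibre hypothesis over `B₀`
  haveI : Module.Flat B₀ B := IsLocalization.flat B T
  have hI : ((maximalIdeal A).map (algebraMap A B₀)).map (algebraMap B₀ B) =
      (maximalIdeal A).map (algebraMap A B) := by
    rw [Ideal.map_map, ← IsScalarTower.algebraMap_eq]
  rw [← hI] at hfib
  have hfib₀ : Module.Flat (B₀ ⧸ (maximalIdeal A).map (algebraMap A B₀))
      ((B₀ ⧸ (maximalIdeal A).map (algebraMap A B₀)) ⊗[B₀] M) :=
    flat_fibre_of_flat_fibre_flat ((maximalIdeal A).map (algebraMap A B₀)) M hfib
  -- Step 2: fibre hypothesis over `B₁`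
  have hJ : ((maximalIdeal A).map (algebraMap A B₁)).map (algebraMap B₁ B₀) =
      (maximalIdeal A).map (algebraMap A B₀) := by
    rw [Ideal.map_map, ← IsScalarTower.algebraMap_eq]
  rw [← hJ] at hfib₀
  haveI := hfib₀
  haveI : Module.Flat (B₁ ⧸ (maximalIdeal A).map (algebraMap A B₁))
      (B₀ ⧸ ((maximalIdeal A).map (algebraMap A B₁)).map (algebraMap B₁ B₀)) :=
    flat_quot_of_surjective_of_ker_le hsurj' _ hker'
  haveI hfib₁ : Module.Flat (B₁ ⧸ (maximalIdeal A).map (algebraMap A B₁))
      ((B₁ ⧸ (maximalIdeal A).map (algebraMap A B₁)) ⊗[B₁] M) :=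
    flat_fibre_tensor_of_flat_quot (S₀ := B₁) (S := B₀) _ M
  -- Step 3: spreading out
  let σ : B₁ →ₐ[A] C := IsScalarTower.toAlgHom A B₁ C
  obtain ⟨t, φ, ψ, hψφ, hψ, ht⟩ := exists_spread A B₁ C₀ C TC σ
  have hσ : ∀ x, ψ (φ x) = algebraMap B₁ C x := fun x => by
    have := congrArg (fun f => f x) hψφ
    exact this
  letI aφ : Algebra B₁ (Localization.Away t) := φ.toRingHom.toAlgebra
  letI aψ : Algebra (Localization.Away t) C := ψ.toRingHom.toAlgebra
  letI mψ : Module (Localization.Away t) M := Module.compHom M ψ.toRingHom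
  haveI tw1 : IsScalarTower A B₁ (Localization.Away t) :=
    IsScalarTower.of_algebraMap_eq fun r => (φ.commutes r).symm
  haveI tw2 : IsScalarTower A (Localization.Away t) C :=
    IsScalarTower.of_algebraMap_eq fun r => (ψ.commutes r).symm
  haveI tw3 : IsScalarTower C₀ (Localization.Away t) C :=
    IsScalarTower.of_algebraMap_eq fun x => (hψ x).symm
  haveI tw4 : IsScalarTower (Localization.Away t) C M :=
    IsScalarTower.of_algebraMap_smul fun _ _ => rfl
  haveI tw6 : IsScalarTower B₁ (Localization.Away t) M := ⟨fun s c m => by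
    show ψ (s • c) • m = s • (ψ c • m)
    rw [Algebra.smul_def, map_mul]
    show (ψ (φ s) * ψ c) • m = _
    rw [hσ, mul_smul, algebraMap_smul]⟩
  haveI tw7 : IsScalarTower A (Localization.Away t) M := ⟨fun r c m => by
    show ψ (r • c) • m = r • (ψ c • m)
    rw [map_smul, smul_assoc]⟩
  haveI : Algebra.FinitePresentation C₀ (Localization.Away t) :=
    IsLocalization.Away.finitePresentation t
  haveI : Algebra.FinitePresentation A (Localization.Away t) :=
    Algebra.FinitePresentation.trans A C₀ (Localization.Away t)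
  haveI hAt : IsLocalization.AtPrime C ((maximalIdeal C).comap (algebraMap C₀ C)) :=
    isLocalization_atPrime_of_isLocalRing TC
  have hle : Submonoid.powers t ≤ ((maximalIdeal C).comap (algebraMap C₀ C)).primeCompl := by
    rintro _ ⟨k, rfl⟩
    exact fun h => ht (Ideal.IsPrime.mem_of_pow_mem inferInstance k h)
  haveI hloc'' : IsLocalization
      (((maximalIdeal C).comap (algebraMap C₀ C)).primeCompl.map
        (algebraMap C₀ (Localization.Away t))) C :=
    IsLocalization.isLocalization_of_submonoid_le (Localization.Away t) C (Submonoid.powers t)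
      ((maximalIdeal C).comap (algebraMap C₀ C)).primeCompl hle
  haveI : IsLocalHom (algebraMap A C) := by
    rw [IsScalarTower.algebraMap_eq A B C]
    exact RingHom.isLocalHom_comp _ _
  have hflat₁ : Module.Flat B₁ M :=
    flat_of_flat_fibre_essFP A B₁ (Localization.Away t) C
      (((maximalIdeal C).comap (algebraMap C₀ C)).primeCompl.map
        (algebraMap C₀ (Localization.Away t))) M
  -- Step 4
  haveI := hflat₁
  have hflat₀ : Module.Flat B₀ M := flat_of_surjective_of_flat (S₀ := B₁) (S := B₀) hsurj' M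
  have hflatB : Module.Flat B M := (Module.flat_iff_of_isLocalization B T M).2 hflat₀
  haveI := hflatB
  haveI : Module.FaithfullyFlat B M := faithfullyFlat_of_isLocalHom B C M
  exact ⟨flat_of_flat_of_faithfullyFlat_module A B M, hflatB⟩

end CoreModule

end Groth.Agent.Lib.Helper21.FlatDesc
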