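import Mathlib
import Groth.Agent.Lib.Helper21.FlatDescQ5

/-!
# Helper21 — FlatDescQ6: fibrewise nonzerodivisors lift to nonzerodivisors with flat quotient
(non-Noetherian, essentially finitely presented; EGA IV 11.3.8, Stacks 046Y), via the fibre
criterion applied to `R → R[T] → S`, `T ↦ f`.
-/

namespace Groth.Agent.Lib.Helper21.FlatDesc

open TensorProduct Function IsLocalRing Polynomial Pointwise

universe u

section PolyFibre

variable (R S : Type u) [CommRing R] [CommRing S] [IsLocalRing R] [IsLocalRing S] [Algebra R S]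
  [IsLocalHom (algebraMap R S)]
  (M : Type u) [AddCommGroup M] [Module S M] [Module R M] [IsScalarTower R S M]

/-- membership in `m M`, in the three forms. -/
theorem mem_smul_top_iff (y : M) :
    y ∈ (maximalIdeal R).map (algebraMap R S) • (⊤ : Submodule S M) ↔
      y ∈ maximalIdeal R • (⊤ : Submodule R M) := by
  have h := Ideal.smul_restrictScalars (R := R) (S := S) (M := M) (maximalIdeal R) ⊤
  rw [Submodule.restrictScalars_top] at h
  rw [← h]
  rfl

variable {R S M}

/-- `unit + element of the maximal ideal` is a unit. -/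
theorem isUnit_add_of_isUnit_of_mem {a b : S} (ha : IsUnit a) (hb : b ∈ maximalIdeal S) :
    IsUnit (a + b) := by
  by_contra h
  have h1 : a + b ∈ maximalIdeal S := (IsLocalRing.mem_maximalIdeal _).2 h
  have h2 : a ∈ maximalIdeal S := by
    have := (maximalIdeal S).sub_mem h1 hb
    simpa using this
  exact (IsLocalRing.mem_maximalIdeal _).1 h2 ha

set_option maxHeartbeats 800000 in
/-- **flatness of the closed fibre over `κ[T]`** when `T` acts as a fibrewise nonzerodivisor `f` in
the maximal ideal. -/
theorem flat_polynomial_fibre [Module R[X] M] [IsScalarTower R R[X] M] (f : S)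
    (hf : f ∈ maximalIdeal S) (hX : ∀ (p : R[X]) (y : M), p • y = (aeval f p) • y)
    (hreg : ∀ y : M, f • y ∈ (maximalIdeal R).map (algebraMap R S) • (⊤ : Submodule S M) →
      y ∈ (maximalIdeal R).map (algebraMap R S) • (⊤ : Submodule S M)) :
    Module.Flat (R[X] ⧸ (maximalIdeal R).map (C : R →+* R[X]))
      (M ⧸ (maximalIdeal R).map (C : R →+* R[X]) • (⊤ : Submodule R[X] M)) := by
  letI : Field (R ⧸ maximalIdeal R) := Ideal.Quotient.field _
  let e : (R ⧸ maximalIdeal R)[X] ≃+* R[X] ⧸ (maximalIdeal R).map (C : R →+* R[X]) :=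
    Ideal.polynomialQuotientEquivQuotientPolynomial (maximalIdeal R)
  haveI : IsDomain (R[X] ⧸ (maximalIdeal R).map (C : R →+* R[X])) :=
    e.symm.toMulEquiv.isDomain _
  haveI : IsPrincipalIdealRing (R[X] ⧸ (maximalIdeal R).map (C : R →+* R[X])) :=
    IsPrincipalIdealRing.of_surjective e.toRingHom e.surjective
  -- membership in `J M` is membership in `m M`
  have hmem : ∀ y : M, y ∈ (maximalIdeal R).map (C : R →+* R[X]) • (⊤ : Submodule R[X] M) ↔
      y ∈ (maximalIdeal R).map (algebraMap R S) • (⊤ : Submodule S M) := by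
    intro y
    rw [mem_smul_top_iff]
    have h := Ideal.smul_restrictScalars (R := R) (S := R[X]) (M := M) (maximalIdeal R) ⊤
    rw [Submodule.restrictScalars_top] at h
    rw [← h]
    rfl
  rw [Module.Flat.flat_iff_torsion_eq_bot_of_isBezout, eq_bot_iff]
  intro x hx
  obtain ⟨a, hax⟩ := (Submodule.mem_torsion_iff x).1 hx
  obtain ⟨y, rfl⟩ := Submodule.Quotient.mk_surjective _ x
  obtain ⟨p, hp⟩ := Ideal.Quotient.mk_surjective (a : R[X] ⧸ (maximalIdeal R).map (C : R →+* R[X]))
  have hpJ : p ∉ (maximalIdeal R).map (C : R →+* R[X]) := by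
    intro h
    have : (a : R[X] ⧸ (maximalIdeal R).map (C : R →+* R[X])) = 0 := by
      rw [← hp]; exact Ideal.Quotient.eq_zero_iff_mem.2 h
    exact nonZeroDivisors.coe_ne_zero a this
  have hpy : p • y ∈ (maximalIdeal R).map (C : R →+* R[X]) • (⊤ : Submodule R[X] M) := by
    have h1 : (Ideal.Quotient.mk ((maximalIdeal R).map (C : R →+* R[X])) p) •
        (Submodule.Quotient.mk y : M ⧸ (maximalIdeal R).map (C : R →+* R[X]) •
          (⊤ : Submodule R[X] M)) = 0 := by
      rw [hp]; exact hax
    have h2 : (Submodule.Quotient.mk (p • y) : M ⧸ (maximalIdeal R).map (C : R →+* R[X]) •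
          (⊤ : Submodule R[X] M)) = 0 := h1
    exact (Submodule.Quotient.mk_eq_zero _).1 h2
  rw [Submodule.mem_bot, Submodule.Quotient.mk_eq_zero, hmem]
  -- factor the reduction of `p`
  have hker : RingHom.ker (mapRingHom (Ideal.Quotient.mk (maximalIdeal R))) =
      (maximalIdeal R).map (C : R →+* R[X]) := by
    rw [Polynomial.ker_mapRingHom, Ideal.mk_ker]
  have hp0 : p.map (Ideal.Quotient.mk (maximalIdeal R)) ≠ 0 := by
    intro h
    apply hpJ
    rw [← hker, RingHom.mem_ker]
    exact h
  obtain ⟨qb, hqb, hnd⟩ := exists_eq_pow_rootMultiplicity_mul_and_not_dvd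
    (p.map (Ideal.Quotient.mk (maximalIdeal R))) hp0 0
  obtain ⟨q, rfl⟩ := Polynomial.map_surjective (Ideal.Quotient.mk (maximalIdeal R))
    Ideal.Quotient.mk_surjective qb
  set k := (p.map (Ideal.Quotient.mk (maximalIdeal R))).rootMultiplicity 0 with hk
  have hdiff : p - X ^ k * q ∈ (maximalIdeal R).map (C : R →+* R[X]) := by
    rw [← hker, RingHom.mem_ker, map_sub, map_mul, map_pow]
    simp only [coe_mapRingHom, map_X]
    rw [hqb]
    simp
  have hq0 : q.coeff 0 ∉ maximalIdeal R := by
    intro h
    apply hnd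
    rw [C_0, sub_zero, X_dvd_iff, coeff_map]
    exact Ideal.Quotient.eq_zero_iff_mem.2 h
  have hunit : IsUnit (aeval f q) := by
    have h1 : aeval f q = algebraMap R S (q.coeff 0) + f * aeval f q.divX := by
      have h0 := congrArg (aeval f) (divX_mul_X_add q)
      rw [map_add, map_mul, aeval_X, aeval_C] at h0
      rw [← h0, mul_comm, add_comm]
    rw [h1]
    refine isUnit_add_of_isUnit_of_mem ?_ (Ideal.mul_mem_right _ _ hf)
    have : IsUnit (q.coeff 0) := by
      by_contra h
      exact hq0 ((IsLocalRing.mem_maximalIdeal _).2 h)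
    exact this.map (algebraMap R S)
  -- conclude
  have h3 : (X ^ k * q) • y ∈ (maximalIdeal R).map (C : R →+* R[X]) • (⊤ : Submodule R[X] M) := by
    have h4 : (p - X ^ k * q) • y ∈ (maximalIdeal R).map (C : R →+* R[X]) •
        (⊤ : Submodule R[X] M) := Submodule.smul_mem_smul hdiff Submodule.mem_top
    have := Submodule.sub_mem _ hpy h4
    rwa [← sub_smul, sub_sub_cancel] at this
  rw [hmem, hX, map_mul, map_pow, aeval_X, mul_smul] at h3
  have hpow : ∀ (n : ℕ) (z : M),
      f ^ n • z ∈ (maximalIdeal R).map (algebraMap R S) • (⊤ : Submodule S M) →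
      z ∈ (maximalIdeal R).map (algebraMap R S) • (⊤ : Submodule S M) := by
    intro n
    induction n with
    | zero => intro z hz; simpa using hz
    | succ n ih =>
      intro z hz
      apply ih
      apply hreg
      rwa [pow_succ', mul_smul] at hz
  have h5 : aeval f q • y ∈ (maximalIdeal R).map (algebraMap R S) • (⊤ : Submodule S M) :=
    hpow k _ h3
  have h6 := Submodule.smul_mem ((maximalIdeal R).map (algebraMap R S) • (⊤ : Submodule S M))
    (↑hunit.unit⁻¹ : S) h5
  rwa [smul_smul, IsUnit.val_inv_mul, one_smul] at h6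

end PolyFibre

section QuotX

/-- if `M` is flat over `R[X]` then `M / X M` is flat over `R`. -/
theorem flat_quot_X_of_flat (R : Type u) [CommRing R] (M : Type u) [AddCommGroup M]
    [Module R[X] M] [Module R M] [IsScalarTower R R[X] M] [Module.Flat R[X] M] :
    Module.Flat R (M ⧸ (Ideal.span {(X : R[X])}) • (⊤ : Submodule R[X] M)) := by
  have hI : Ideal.span ({X - C (0 : R)} : Set R[X]) = Ideal.span {(X : R[X])} := by simp
  let e₀ : (R[X] ⧸ Ideal.span {(X : R[X])}) ≃ₐ[R] R :=
    (Ideal.quotientEquivAlgOfEq R hI.symm).trans (quotientSpanXSubCAlgEquiv (0 : R))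
  haveI : Module.Flat R (R[X] ⧸ Ideal.span {(X : R[X])}) :=
    Module.Flat.of_linearEquiv e₀.toLinearEquiv
  haveI : Module.Flat R ((R[X] ⧸ Ideal.span {(X : R[X])}) ⊗[R[X]] M) :=
    Module.Flat.trans R (R[X] ⧸ Ideal.span {(X : R[X])}) _
  exact Module.Flat.of_linearEquiv
    ((TensorProduct.quotTensorEquivQuotSMul M (Ideal.span {(X : R[X])})).restrictScalars R).symm

end QuotX

section NZD

set_option maxHeartbeats 1600000 in
set_option synthInstance.maxHeartbeats 200000 in
/-- **Fibrewise nonzerodivisors lift** (non-Noetherian; EGA IV 11.3.8, Stacks 046Y): `R → S` local,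
`S` essentially of finite presentation, `M` a finitely presented `S`-module flat over `R`,
`f ∈ m_S` a nonzerodivisor on `M / m_R M`. Then `f` is a nonzerodivisor on `M` and `M / f M` is flat
over `R`. -/
theorem isSMulRegular_and_flat_quot_of_fibre (R S : Type u) [CommRing R] [CommRing S]
    [IsLocalRing R] [IsLocalRing S] [Algebra R S] [IsLocalHom (algebraMap R S)]
    (S₀ : Type u) [CommRing S₀] [Algebra R S₀] [Algebra.FinitePresentation R S₀] [Algebra S₀ S]
    [IsScalarTower R S₀ S] (T₀ : Submonoid S₀) [IsLocalization T₀ S]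
    (M : Type u) [AddCommGroup M] [Module S M] [Module R M] [IsScalarTower R S M]
    [Module.FinitePresentation S M] [Module.Flat R M]
    (f : S) (hf : f ∈ maximalIdeal S)
    (hreg : ∀ y : M, f • y ∈ (maximalIdeal R).map (algebraMap R S) • (⊤ : Submodule S M) →
      y ∈ (maximalIdeal R).map (algebraMap R S) • (⊤ : Submodule S M)) :
    IsSMulRegular M f ∧ Module.Flat R (QuotSMulTop f M) := by
  -- the `R[X]`-structures
  letI aXS : Algebra R[X] S := (aeval (R := R) f).toRingHom.toAlgebra
  haveI twXS : IsScalarTower R R[X] S := IsScalarTower.of_algebraMap_eq fun r =>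
    ((aeval (R := R) f).commutes r).symm
  letI mX : Module R[X] M := Module.compHom M (aeval (R := R) f).toRingHom
  haveI twXSM : IsScalarTower R[X] S M := IsScalarTower.of_algebraMap_smul fun _ _ => rfl
  haveI twRXM : IsScalarTower R R[X] M := ⟨fun r p y => by
    show aeval f (r • p) • y = r • (aeval f p • y)
    rw [map_smul, smul_assoc]⟩
  have hX : ∀ (p : R[X]) (y : M), p • y = (aeval f p) • y := fun _ _ => rfl
  -- fibre flatness
  have hC : algebraMap R R[X] = (C : R →+* R[X]) := rfl
  have hfibQ : Module.Flat (R[X] ⧸ (maximalIdeal R).map (algebraMap R R[X]))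
      (M ⧸ (maximalIdeal R).map (algebraMap R R[X]) • (⊤ : Submodule R[X] M)) := by
    rw [hC]
    exact flat_polynomial_fibre f hf hX hreg
  haveI hfib : Module.Flat (R[X] ⧸ (maximalIdeal R).map (algebraMap R R[X]))
      ((R[X] ⧸ (maximalIdeal R).map (algebraMap R R[X])) ⊗[R[X]] M) :=
    flat_quot_tensor_of_flat_quot_smul _ M hfibQ
  -- spreading out
  let σ : R[X] →ₐ[R] S := aeval (R := R) f
  obtain ⟨t, φ, ψ, hψφ, hψ, ht⟩ := exists_spread R R[X] S₀ S T₀ σ
  have hσ : ∀ x, ψ (φ x) = algebraMap R[X] S x := fun x => by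
    have := congrArg (fun g => g x) hψφ
    exact this
  letI aφ : Algebra R[X] (Localization.Away t) := φ.toRingHom.toAlgebra
  letI aψ : Algebra (Localization.Away t) S := ψ.toRingHom.toAlgebra
  letI mψ : Module (Localization.Away t) M := Module.compHom M ψ.toRingHom
  haveI tw1 : IsScalarTower R R[X] (Localization.Away t) :=
    IsScalarTower.of_algebraMap_eq fun r => (φ.commutes r).symm
  haveI tw2 : IsScalarTower R (Localization.Away t) S :=
    IsScalarTower.of_algebraMap_eq fun r => (ψ.commutes r).symm
  haveI tw3 : IsScalarTower S₀ (Localization.Away t) S :=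
    IsScalarTower.of_algebraMap_eq fun x => (hψ x).symm
  haveI tw4 : IsScalarTower (Localization.Away t) S M :=
    IsScalarTower.of_algebraMap_smul fun _ _ => rfl
  haveI tw6 : IsScalarTower R[X] (Localization.Away t) M := ⟨fun s c m => by
    show ψ (s • c) • m = s • (ψ c • m)
    rw [Algebra.smul_def, map_mul]
    show (ψ (φ s) * ψ c) • m = _
    rw [hσ, mul_smul, algebraMap_smul]⟩
  haveI tw7 : IsScalarTower R (Localization.Away t) M := ⟨fun r c m => by
    show ψ (r • c) • m = r • (ψ c • m)
    rw [map_smul, smul_assoc]⟩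
  haveI : Algebra.FinitePresentation S₀ (Localization.Away t) :=
    IsLocalization.Away.finitePresentation t
  haveI : Algebra.FinitePresentation R (Localization.Away t) :=
    Algebra.FinitePresentation.trans R S₀ (Localization.Away t)
  haveI hAt : IsLocalization.AtPrime S ((maximalIdeal S).comap (algebraMap S₀ S)) :=
    isLocalization_atPrime_of_isLocalRing T₀
  have hle : Submonoid.powers t ≤ ((maximalIdeal S).comap (algebraMap S₀ S)).primeCompl := by
    rintro _ ⟨k, rfl⟩
    exact fun h => ht (Ideal.IsPrime.mem_of_pow_mem inferInstance k h)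
  haveI hloc'' : IsLocalization
      (((maximalIdeal S).comap (algebraMap S₀ S)).primeCompl.map
        (algebraMap S₀ (Localization.Away t))) S :=
    IsLocalization.isLocalization_of_submonoid_le (Localization.Away t) S (Submonoid.powers t)
      ((maximalIdeal S).comap (algebraMap S₀ S)).primeCompl hle
  haveI hflatX : Module.Flat R[X] M :=
    flat_of_flat_fibre_essFP R R[X] (Localization.Away t) S
      (((maximalIdeal S).comap (algebraMap S₀ S)).primeCompl.map
        (algebraMap S₀ (Localization.Away t))) M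
  -- regularity
  have hregX : IsSMulRegular M (X : R[X]) :=
    Module.Flat.isSMulRegular_of_isRegular Polynomial.isRegular_X
  have hregf : IsSMulRegular M f := by
    intro a b hab
    apply hregX
    show (X : R[X]) • a = (X : R[X]) • b
    rw [hX, hX, aeval_X]
    exact hab
  refine ⟨hregf, ?_⟩
  -- flatness of the quotient
  haveI hq := flat_quot_X_of_flat R M
  have hsub : ((Ideal.span {(X : R[X])}) • (⊤ : Submodule R[X] M)).restrictScalars R =
      (f • (⊤ : Submodule S M)).restrictScalars R := by
    ext y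
    rw [Submodule.restrictScalars_mem, Submodule.restrictScalars_mem,
      Submodule.ideal_span_singleton_smul, Submodule.mem_smul_pointwise_iff_exists,
      Submodule.mem_smul_pointwise_iff_exists]
    constructor
    · rintro ⟨z, -, rfl⟩
      exact ⟨z, Submodule.mem_top, by rw [hX, aeval_X]⟩
    · rintro ⟨z, -, rfl⟩
      exact ⟨z, Submodule.mem_top, by rw [hX, aeval_X]⟩
  let e : (M ⧸ (Ideal.span {(X : R[X])}) • (⊤ : Submodule R[X] M)) ≃ₗ[R] QuotSMulTop f M :=
    (Submodule.Quotient.restrictScalarsEquiv R _).symm ≪≫ₗ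
      Submodule.quotEquivOfEq _ _ hsub ≪≫ₗ Submodule.Quotient.restrictScalarsEquiv R _
  exact Module.Flat.of_linearEquiv e.symm

end NZD

end Groth.Agent.Lib.Helper21.FlatDesc
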