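import Mathlib
import Groth.Agent.Lib.Helper21.FlatDescQ6

namespace Groth.Agent.Lib.Helper21.FlatDesc

open TensorProduct Function IsLocalRing Pointwise RingTheory.Sequence

universe u

section RegLocal

/-- swapping the two quotients. -/
noncomputable def quotSwap {S : Type u} [CommRing S] (N : Type u) [AddCommGroup N] [Module S N]
    (I : Ideal S) (f : S) :
    (QuotSMulTop f N ⧸ I • (⊤ : Submodule S (QuotSMulTop f N))) ≃ₗ[S]
      QuotSMulTop f (N ⧸ I • (⊤ : Submodule S N)) :=
  (quotTensorEquivQuotSMul (QuotSMulTop f N) I).symm ≪≫ₗ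
    QuotSMulTop.tensorQuotSMulTopEquivQuotSMulTop f (S ⧸ I) N ≪≫ₗ
    QuotSMulTop.congr f (quotTensorEquivQuotSMul N I)

theorem finitePresentation_quotSMulTop {S : Type u} [CommRing S] (N : Type u) [AddCommGroup N]
    [Module S N] [Module.FinitePresentation S N] (f : S) :
    Module.FinitePresentation S (QuotSMulTop f N) := by
  refine Module.finitePresentation_of_surjective (Submodule.mkQ (f • (⊤ : Submodule S N)))
    (Submodule.mkQ_surjective _) ?_
  rw [Submodule.ker_mkQ]
  exact (Module.Finite.fg_top (R := S) (M := N)).map _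

variable (R S : Type u) [CommRing R] [CommRing S]
    [IsLocalRing R] [IsLocalRing S] [Algebra R S] [IsLocalHom (algebraMap R S)]
    (S₀ : Type u) [CommRing S₀] [Algebra R S₀] [Algebra.FinitePresentation R S₀] [Algebra S₀ S]
    [IsScalarTower R S₀ S] (T₀ : Submonoid S₀) [IsLocalization T₀ S]

include S₀ T₀ in
theorem isWeaklyRegular_and_flat_quot_of_fibre (g : List S) (hg : ∀ b ∈ g, b ∈ maximalIdeal S) :
    ∀ (N : Type u) [AddCommGroup N] [Module S N] [Module R N] [IsScalarTower R S N]
    [Module.FinitePresentation S N] [Module.Flat R N],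
    IsWeaklyRegular (N ⧸ (maximalIdeal R).map (algebraMap R S) • (⊤ : Submodule S N)) g →
    IsWeaklyRegular N g ∧ ∀ i ≤ g.length,
      Module.Flat R (N ⧸ Ideal.ofList (g.take i) • (⊤ : Submodule S N)) := by
  induction g with
  | nil =>
    intro N _ _ _ _ _ _ _
    refine ⟨IsWeaklyRegular.nil S N, ?_⟩
    intro i hi
    have h0 : Ideal.ofList (([] : List S).take i) • (⊤ : Submodule S N) = ⊥ := by
      simp
    exact Module.Flat.of_linearEquiv ((Submodule.quotEquivOfEqBot _ h0).restrictScalars R)
  | cons f g ih =>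
    intro N _ _ _ _ _ _ hreg
    rw [isWeaklyRegular_cons_iff] at hreg
    obtain ⟨hf, hrest⟩ := hreg
    have hfm : f ∈ maximalIdeal S := hg f (List.mem_cons_self)
    obtain ⟨hregf, hflat⟩ := isSMulRegular_and_flat_quot_of_fibre R S S₀ T₀ N f hfm (by
      intro y hy
      have h1 : f • (Submodule.Quotient.mk y :
          N ⧸ (maximalIdeal R).map (algebraMap R S) • (⊤ : Submodule S N)) = f • 0 := by
        rw [smul_zero, ← Submodule.Quotient.mk_smul, Submodule.Quotient.mk_eq_zero]
        exact hy
      exact (Submodule.Quotient.mk_eq_zero _).1 (hf h1))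
    haveI : Module.Flat R (QuotSMulTop f N) := hflat
    haveI : Module.FinitePresentation S (QuotSMulTop f N) := finitePresentation_quotSMulTop N f
    have hrest' : IsWeaklyRegular (QuotSMulTop f N ⧸ (maximalIdeal R).map (algebraMap R S) •
        (⊤ : Submodule S (QuotSMulTop f N))) g :=
      (LinearEquiv.isWeaklyRegular_congr (quotSwap N _ f) g).2 hrest
    obtain ⟨ih1, ih2⟩ := ih (fun b hb => hg b (List.mem_cons_of_mem _ hb)) (QuotSMulTop f N) hrest'
    refine ⟨(isWeaklyRegular_cons_iff N f g).2 ⟨hregf, ih1⟩, ?_⟩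
    intro i hi
    cases i with
    | zero =>
      have h0 : Ideal.ofList ((f :: g).take 0) • (⊤ : Submodule S N) = ⊥ := by
        simp
      exact Module.Flat.of_linearEquiv ((Submodule.quotEquivOfEqBot _ h0).restrictScalars R)
    | succ j =>
      have hj : j ≤ g.length := by simpa using hi
      haveI := ih2 j hj
      rw [List.take_succ_cons]
      exact Module.Flat.of_linearEquiv
        ((Submodule.quotOfListConsSMulTopEquivQuotSMulTopInner N f (g.take j)).restrictScalars R)

end RegLocal

end Groth.Agent.Lib.Helper21.FlatDesc
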