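import Mathlib
import Groth.Prelude.Def_Mor2

/-!
# Helper21 — RegImm: basic regular closed immersions (isomorphisms, `Spec (R/(rs)) → Spec R`)
-/

set_option autoImplicit false
universe u

namespace Groth.Agent.Lib.Helper21.RegImm

open AlgebraicGeometry CategoryTheory RingTheory.Sequence

/-- an isomorphism is a regular closed immersion (empty regular sequence). -/
theorem of_isIso {Z X : Scheme.{u}} (e : Z ⟶ X) [IsIso e] : Mor2.IsRegularClosedImmersion e := by
  refine ⟨inferInstance, fun z => ?_⟩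
  obtain ⟨_, ⟨U, hU : IsAffineOpen U, rfl⟩, hzU, -⟩ :=
    X.isBasis_affineOpens.exists_subset_of_mem_open (Set.mem_univ (e z)) isOpen_univ
  haveI : Nonempty U := ⟨⟨e z, hzU⟩⟩
  refine ⟨U, hU, hzU, [], IsRegular.nil _ _, ?_⟩
  rw [Scheme.Hom.ker_apply, Ideal.ofList_nil]
  rw [RingHom.ker_eq_bot_iff_eq_zero]
  intro a ha
  have hinj : Function.Injective (e.app U).hom :=
    ((ConcreteCategory.isIso_iff_bijective (e.app U)).mp inferInstance).1
  exact hinj (ha.trans (map_zero _).symm)

set_option maxHeartbeats 800000 in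
/-- `Spec (R/(rs)) → Spec R` is a regular closed immersion for a regular sequence `rs`. -/
theorem specMap_mk_ofList (R : CommRingCat.{u}) (rs : List R) (h : IsRegular R rs) :
    Mor2.IsRegularClosedImmersion
      (Spec.map (CommRingCat.ofHom (Ideal.Quotient.mk (Ideal.ofList rs)))) := by
  refine ⟨inferInstance, fun z => ?_⟩
  let e : Γ(Spec R, ⊤) ≃+* R := (Scheme.ΓSpecIso R).commRingCatIsoToRingEquiv
  haveI := RingHomInvPair.of_ringEquiv e.symm
  haveI := RingHomInvPair.symm (↑e.symm : R →+* Γ(Spec R, ⊤)) (e.symm.symm : Γ(Spec R, ⊤) →+* R)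
  refine ⟨⊤, isAffineOpen_top (Spec R), trivial, rs.map e.symm,
    (e.symm.toSemilinearEquiv.isRegular_congr' rs).mp h, ?_⟩
  rw [Scheme.Hom.ker_apply]
  have hnat := Scheme.ΓSpecIso_naturality (CommRingCat.ofHom (Ideal.Quotient.mk (Ideal.ofList rs)))
  have hker : RingHom.ker ((Spec.map (CommRingCat.ofHom
      (Ideal.Quotient.mk (Ideal.ofList rs)))).appTop).hom =
      (Ideal.ofList rs).comap (e : Γ(Spec R, ⊤) →+* R) := by
    ext a
    rw [RingHom.mem_ker, Ideal.mem_comap]
    have h1 := congrArg (fun φ => φ.hom a) hnat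
    simp only [CommRingCat.hom_comp, RingHom.comp_apply, CommRingCat.hom_ofHom] at h1
    constructor
    · intro ha
      rw [ha, map_zero] at h1
      exact Ideal.Quotient.eq_zero_iff_mem.mp h1.symm
    · intro ha
      have h2 : Ideal.Quotient.mk (Ideal.ofList rs) (e a) = 0 := Ideal.Quotient.eq_zero_iff_mem.mpr ha
      have h3 : (Scheme.ΓSpecIso (CommRingCat.of (R ⧸ Ideal.ofList rs))).hom.hom
          (((Spec.map (CommRingCat.ofHom (Ideal.Quotient.mk (Ideal.ofList rs)))).appTop).hom a) = 0 :=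
        h1.trans h2
      have hinj : Function.Injective
          (Scheme.ΓSpecIso (CommRingCat.of (R ⧸ Ideal.ofList rs))).hom.hom :=
        ((ConcreteCategory.isIso_iff_bijective _).mp inferInstance).1
      exact hinj (h3.trans (map_zero _).symm)
  show RingHom.ker ((Spec.map (CommRingCat.ofHom
      (Ideal.Quotient.mk (Ideal.ofList rs)))).appTop).hom = _
  rw [hker]
  have h5 : (Ideal.ofList rs).comap (e : Γ(Spec R, ⊤) →+* R) =
      (Ideal.ofList rs).map (e.symm : (R : Type u) →+* Γ(Spec R, ⊤)) := by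
    ext a
    rw [Ideal.mem_comap]
    constructor
    · intro ha
      have h6 := Ideal.mem_map_of_mem (e.symm : (R : Type u) →+* Γ(Spec R, ⊤)) ha
      simpa using h6
    · intro ha
      have h6 := Ideal.mem_map_of_mem (e : Γ(Spec R, ⊤) →+* R) ha
      rw [Ideal.map_map] at h6
      simpa using h6
  rw [h5]
  exact Ideal.map_ofList (e.symm : (R : Type u) →+* Γ(Spec R, ⊤)) rs

end Groth.Agent.Lib.Helper21.RegImm
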