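import Mathlib
import Groth.Agent.Lib.Helper21.FlatDescK
import Groth.Agent.Lib.Helper17.FlatDict
import Groth.Agent.Lib.Helper29.FPDict

set_option backward.isDefEq.respectTransparency.types false
open AlgebraicGeometry CategoryTheory Limits TopologicalSpace

/-!
# Helper21 — FlatDescL: openness of the relative flat locus of a finitely presented module on a
scheme (EGA IV 11.3.1): `isOpen_isFlatOverAt`; pointwise dictionary `isFlatOverAt_iff_flat_localized`.
-/

namespace Groth.Agent.Lib.Helper21.FlatDesc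

open Groth.Agent.Lib.Helper17.ModStalk Groth.Agent.Lib.Helper17.FlatDict

universe u

variable {X S : Scheme.{u}}

/-- pointwise dictionary: relative flatness of a quasi-coherent module at `x` is flatness of the
localization of its sections over an affine `U ∋ x` at the prime of `x`, over `Γ(S, V)`. -/
theorem isFlatOverAt_iff_flat_localized (f : X ⟶ S) (F : X.Modules) [F.IsQuasicoherent]
    {U : X.Opens} {V : S.Opens} (hU : IsAffineOpen U) (hV : IsAffineOpen V) (hUV : U ≤ f ⁻¹ᵁ V)
    (x : X) (hx : x ∈ U) :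
    letI : Algebra Γ(S, V) Γ(X, U) := (f.appLE V U hUV).hom.toAlgebra
    letI : Module Γ(S, V) Γ(F, U) := Module.compHom Γ(F, U) (algebraMap Γ(S, V) Γ(X, U))
    haveI : IsScalarTower Γ(S, V) Γ(X, U) Γ(F, U) := IsScalarTower.of_compHom _ _ _
    FlatMod.IsFlatOverAt f F x ↔
      Module.Flat Γ(S, V) (LocalizedModule (hU.primeIdealOf ⟨x, hx⟩).asIdeal.primeCompl Γ(F, U)) := by
  letI algCB : Algebra Γ(S, V) Γ(X, U) := (f.appLE V U hUV).hom.toAlgebra
  letI mC : Module Γ(S, V) Γ(F, U) := Module.compHom Γ(F, U) (algebraMap Γ(S, V) Γ(X, U))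
  haveI : IsScalarTower Γ(S, V) Γ(X, U) Γ(F, U) := IsScalarTower.of_compHom _ _ _
  letI := moduleStalkSections F U x hx
  letI : Module Γ(S, V) (F.presheaf.stalk x) := Module.compHom _ (algebraMap Γ(S, V) Γ(X, U))
  haveI : IsScalarTower Γ(S, V) Γ(X, U) (F.presheaf.stalk x) := IsScalarTower.of_compHom _ _ _
  have key : FlatMod.IsFlatOverAt f F x ↔ Module.Flat Γ(S, V) (F.presheaf.stalk x) := by
    refine isFlatOverAt_iff_flat_of_affine f F x hV (hUV hx) (fun r n => ?_)
    change X.presheaf.germ U x hx (f.appLE V U hUV r) • n = _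
    congr 1
    change _ = (f.stalkMap x) (S.presheaf.germ V (f x) (hUV hx) r)
    rw [Scheme.Hom.germ_stalkMap_apply, Scheme.Hom.appLE]
    exact (TopCat.Presheaf.germ_res_apply X.presheaf (homOfLE hUV) x hx _)
  rw [key]
  haveI := isLocalizedModule_germLinear F hU x hx
  let e : LocalizedModule (hU.primeIdealOf ⟨x, hx⟩).asIdeal.primeCompl Γ(F, U) ≃ₗ[Γ(X, U)]
      F.presheaf.stalk x :=
    IsLocalizedModule.linearEquiv (hU.primeIdealOf ⟨x, hx⟩).asIdeal.primeCompl
      (LocalizedModule.mkLinearMap _ _) (germLinear F U x hx)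
  exact ⟨fun _ => Module.Flat.of_linearEquiv (e.restrictScalars Γ(S, V)),
    fun _ => Module.Flat.of_linearEquiv (e.restrictScalars Γ(S, V)).symm⟩


/-- **Openness of the flat locus of a finitely presented module** along a morphism locally of
finite presentation. -/
theorem isOpen_isFlatOverAt (f : X ⟶ S) [LocallyOfFinitePresentation f] (F : X.Modules)
    [SheafOfModules.IsFinitePresentation.{u} (R := X.ringCatSheaf) F] :
    IsOpen {x : X | FlatMod.IsFlatOverAt f F x} := by
  haveI : F.IsQuasicoherent := Groth.Agent.Lib.Helper29.FPDict.isQuasicoherent_of_isFinitePresentation F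
  rw [isOpen_iff_forall_mem_open]
  intro x hx
  obtain ⟨_, ⟨V, hV : IsAffineOpen V, rfl⟩, hfxV, -⟩ :=
    S.isBasis_affineOpens.exists_subset_of_mem_open (Set.mem_univ (f x)) isOpen_univ
  obtain ⟨_, ⟨U, hU : IsAffineOpen U, rfl⟩, hxU, hUV⟩ :=
    X.isBasis_affineOpens.exists_subset_of_mem_open (show x ∈ (f ⁻¹ᵁ V : Set X) from hfxV)
      (f ⁻¹ᵁ V).isOpen
  letI algCB : Algebra Γ(S, V) Γ(X, U) := (f.appLE V U hUV).hom.toAlgebra
  letI mC : Module Γ(S, V) Γ(F, U) := Module.compHom Γ(F, U) (algebraMap Γ(S, V) Γ(X, U))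
  haveI : IsScalarTower Γ(S, V) Γ(X, U) Γ(F, U) := IsScalarTower.of_compHom _ _ _
  haveI : Algebra.FinitePresentation Γ(S, V) Γ(X, U) :=
    (HasRingHomProperty.appLE @LocallyOfFinitePresentation f inferInstance ⟨V, hV⟩ ⟨U, hU⟩ hUV :
      RingHom.FinitePresentation _)
  haveI : Module.FinitePresentation Γ(X, U) Γ(F, U) :=
    Groth.Agent.Lib.Helper29.FPDict.fp_of_isAffineOpen F hU
  have hopen := isOpen_flatLocus_of_finitePresentation (R := Γ(S, V)) (S := Γ(X, U))
    (M := Γ(F, U))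
  refine ⟨Subtype.val '' ((fun y : U => hU.primeIdealOf y) ⁻¹'
    {q : PrimeSpectrum Γ(X, U) |
      Module.Flat Γ(S, V) (LocalizedModule q.asIdeal.primeCompl Γ(F, U))}), ?_, ?_, ?_⟩
  · rintro _ ⟨y, hy, rfl⟩
    exact (isFlatOverAt_iff_flat_localized f F hU hV hUV y.1 y.2).2 hy
  · exact U.2.isOpenMap_subtype_val _ (hopen.preimage hU.isoSpec.hom.continuous)
  · exact ⟨⟨x, hxU⟩, (isFlatOverAt_iff_flat_localized f F hU hV hUV x hxU).1 hx, rfl⟩

end Groth.Agent.Lib.Helper21.FlatDesc
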