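import Groth.Agent.Lib.lead.FormalC

/-!
# Zariski's connectedness theorem, layer 1 (helper21): sections of `M / m^n M` on a scheme over a
local ring, gluing along the closed fibre, a test module at a point, `H^0` as global sections
-/

set_option autoImplicit false
set_option backward.isDefEq.respectTransparency.types false
set_option linter.style.haveILetI false
universe u
open CategoryTheory CategoryTheory.Limits AlgebraicGeometry Opposite TopologicalSpace

namespace Groth.Agent.Lib.Helper21.ZarConn

open Formal Groth.Agent.Lib.Helper23.FQuot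

variable {A : Type u} [CommRing A] {X : Scheme.{u}} [X.Over (Spec (CommRingCat.of A))]

/-- the global function attached to `a : A`, in `Γ(X, ⊤)`. -/
noncomputable def gl (a : A) : Γ(X, ⊤) := Coh.toGlobal (X ↘ Spec (CommRingCat.of A)) a

theorem gl_eq (a : A) : gl (X := X) a =
    (X ↘ Spec (CommRingCat.of A)).appTop.hom ((Scheme.ΓSpecIso (CommRingCat.of A)).inv.hom a) := rfl

theorem gl_pow (a : A) (n : ℕ) : gl (X := X) (a ^ n) = gl (X := X) a ^ n :=
  map_pow (Coh.toGlobal (X ↘ Spec (CommRingCat.of A))) a n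

theorem smul_section_eq_zero {J : Ideal A} {P : X.Modules} (hP : Formal.KilledBy J P) {a : A}
    (ha : a ∈ J) (W : X.Opens) (s : Γ(P, W)) :
    (X.presheaf.map (homOfLE (le_top : W ≤ ⊤)).op (gl (X := X) a)) • s = 0 := by
  have h := hP a ha
  have h2 := congrArg (fun φ : P ⟶ P => φ.app W s) h
  exact h2

/-- a point maps into the basic open of `a` iff it lies in the basic open of the function `gl a`. -/
theorem mem_basicOpen_gl (a : A) (x : X) :
    x ∈ X.basicOpen (gl (X := X) a) ↔
      a ∉ ((X ↘ Spec (CommRingCat.of A)) x).asIdeal := by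
  rw [gl_eq]
  have h1 := Scheme.preimage_basicOpen_top (X ↘ Spec (CommRingCat.of A))
    ((Scheme.ΓSpecIso (CommRingCat.of A)).inv.hom a)
  have h2 : x ∈ (X ↘ Spec (CommRingCat.of A)) ⁻¹ᵁ
      (Spec (CommRingCat.of A)).basicOpen ((Scheme.ΓSpecIso (CommRingCat.of A)).inv.hom a) ↔
      a ∉ ((X ↘ Spec (CommRingCat.of A)) x).asIdeal := by
    rw [basicOpen_eq_of_affine]
    rfl
  rw [← h2, h1]

/-- the sections of a module killed by a power of the maximal ideal vanish over opens that avoid
the closed fibre. -/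
theorem section_eq_zero_of_disjoint [IsLocalRing A] {n : ℕ} {P : X.Modules}
    (hP : Formal.KilledBy (IsLocalRing.maximalIdeal A ^ n) P) (W : X.Opens)
    (hW : ∀ x ∈ W, (X ↘ Spec (CommRingCat.of A)) x ≠ IsLocalRing.closedPoint A)
    (s : Γ(P, W)) : s = 0 := by
  let F : TopCat.Sheaf Ab X := ⟨P.presheaf, P.isSheaf⟩
  let U : {a : A // a ∈ IsLocalRing.maximalIdeal A} → X.Opens :=
    fun a => W ⊓ X.basicOpen (gl (X := X) a.1)
  have hcover : W ≤ iSup U := by
    intro x hx
    have hne := hW x hx
    have hlt : ¬ IsLocalRing.maximalIdeal A ≤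
        ((X ↘ Spec (CommRingCat.of A)) x).asIdeal := by
      intro hle
      apply hne
      apply PrimeSpectrum.ext
      exact ((IsLocalRing.maximalIdeal.isMaximal A).eq_of_le
        ((X ↘ Spec (CommRingCat.of A)) x).2.ne_top hle).symm
    obtain ⟨a, ha, hax⟩ := Set.not_subset.mp hlt
    refine Opens.mem_iSup.mpr ⟨⟨a, ha⟩, hx, ?_⟩
    exact (mem_basicOpen_gl a x).mpr hax
  refine TopCat.Sheaf.eq_of_locally_eq' F U W (fun a => homOfLE inf_le_left) hcover s 0 ?_
  intro a
  rw [map_zero]
  -- the restriction of `gl a ^ n` to `U a` is a unit that kills the restriction of `s`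
  set s' : Γ(P, U a) := P.presheaf.map (homOfLE (inf_le_left : U a ≤ W)).op s with hs'
  have hk := smul_section_eq_zero hP (Ideal.pow_mem_pow a.2 n) (U a) s'
  have hunit : IsUnit (X.presheaf.map (homOfLE (le_top : U a ≤ ⊤)).op (gl (X := X) (a.1 ^ n))) := by
    rw [gl_pow, map_pow]
    refine IsUnit.pow n ?_
    have h0 : IsUnit (X.presheaf.map (homOfLE (X.basicOpen_le (gl (X := X) a.1))).op
        (gl (X := X) a.1)) := X.toRingedSpace.isUnit_res_basicOpen (gl (X := X) a.1)
    have h1 : U a ≤ X.basicOpen (gl (X := X) a.1) := inf_le_right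
    have h2 := h0.map (X.presheaf.map (homOfLE h1).op).hom
    have h3 : X.presheaf.map (homOfLE h1).op
        (X.presheaf.map (homOfLE (X.basicOpen_le (gl (X := X) a.1))).op (gl (X := X) a.1)) =
        X.presheaf.map (homOfLE (le_top : U a ≤ ⊤)).op (gl (X := X) a.1) := by
      rw [← ConcreteCategory.comp_apply, ← Functor.map_comp]
      rfl
    rw [← h3]
    exact h2
  exact (hunit.smul_eq_zero).mp hk





/-- glue a global section with zero along two opens covering `X` and meeting away from the closed
fibre. -/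
theorem exists_glued_section [IsLocalRing A] {n : ℕ} {P : X.Modules}
    (hP : Formal.KilledBy (IsLocalRing.maximalIdeal A ^ n) P) (σ : Γ(P, ⊤)) (W₁ W₂ : X.Opens)
    (hcov : (⊤ : X.Opens) ≤ W₁ ⊔ W₂)
    (hdisj : ∀ x ∈ W₁ ⊓ W₂, (X ↘ Spec (CommRingCat.of A)) x ≠ IsLocalRing.closedPoint A) :
    ∃ e : Γ(P, ⊤),
      P.presheaf.map (homOfLE (le_top : W₁ ≤ ⊤)).op e =
        P.presheaf.map (homOfLE (le_top : W₁ ≤ ⊤)).op σ ∧
      P.presheaf.map (homOfLE (le_top : W₂ ≤ ⊤)).op e = 0 := by
  let F : TopCat.Sheaf Ab X := ⟨P.presheaf, P.isSheaf⟩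
  let U : Bool → X.Opens := fun b => Bool.rec W₂ W₁ b
  let sf : ∀ b : Bool, Γ(P, U b) := fun b =>
    match b with
    | true => P.presheaf.map (homOfLE (le_top : W₁ ≤ ⊤)).op σ
    | false => 0
  have hzero : ∀ (W : X.Opens), W ≤ W₁ ⊓ W₂ → ∀ s t : Γ(P, W), s = t := by
    intro W hW s t
    rw [section_eq_zero_of_disjoint hP W (fun x hx => hdisj x (hW hx)) s,
      section_eq_zero_of_disjoint hP W (fun x hx => hdisj x (hW hx)) t]
  have hcompat : TopCat.Presheaf.IsCompatible F.1 U sf := by
    intro i j
    cases i <;> cases j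
    · rfl
    · exact hzero (U false ⊓ U true) (by rw [inf_comm]) _ _
    · exact hzero (U true ⊓ U false) le_rfl _ _
    · rfl
  have hcover : (⊤ : X.Opens) ≤ iSup U := by
    refine hcov.trans ?_
    apply sup_le
    · exact le_iSup U true
    · exact le_iSup U false
  obtain ⟨e, he, -⟩ := TopCat.Sheaf.existsUnique_gluing' F U ⊤ (fun b => homOfLE le_top) hcover sf
    hcompat
  exact ⟨e, he true, he false⟩





variable (x : X)

/-- the test module: the residue field at `x`, pushed forward to `X`. -/
noncomputable def Tx : X.Modules :=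
  (Scheme.Modules.pushforward (X.fromSpecResidueField x)).obj
    (Coh.structureModule (Spec (X.residueField x)))

/-- the canonical map from the structure sheaf to the test module. -/
noncomputable def gx : Coh.structureModule X ⟶ Tx x :=
  SheafOfModules.unitToPushforwardObjUnit (X.fromSpecResidueField x).toRingCatSheafHom

theorem gx_app (W : X.Opens) (r : Γ(X, W)) :
    (gx x).app W r = (X.fromSpecResidueField x).app W r := rfl

/-- sections of the structure module are functions, with multiplication as scalar action. -/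
theorem structureModule_smul (W : X.Opens) (r : Γ(X, W)) (s : Γ(Coh.structureModule X, W)) :
    r • s = (show Γ(X, W) from r * (show Γ(X, W) from s)) := rfl




/-- functions coming from the prime of the image of `x` vanish in the residue field at `x`. -/
theorem fromSpecResidueField_app_gl_eq_zero (x : X) {a : A}
    (ha : a ∈ ((X ↘ Spec (CommRingCat.of A)) x).asIdeal) (W : X.Opens) :
    (X.fromSpecResidueField x).app W
      (X.presheaf.map (homOfLE (le_top : W ≤ ⊤)).op (gl (X := X) a)) = 0 := by
  rw [← AlgebraicGeometry.basicOpen_eq_bot_iff, ← Scheme.preimage_basicOpen, Scheme.basicOpen_res]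
  ext z
  simp only [Opens.coe_bot, Set.mem_empty_iff_false, iff_false]
  intro hz
  have hz' : X.fromSpecResidueField x z ∈ W ⊓ X.basicOpen (gl (X := X) a) := hz
  rw [Scheme.fromSpecResidueField_apply] at hz'
  exact (mem_basicOpen_gl a x).mp hz'.2 ha

/-- the residue field sections over the preimage of a neighbourhood of `x` are nontrivial. -/
theorem nontrivial_sections (x : X) (W : X.Opens) (hx : x ∈ W) :
    Nontrivial Γ(Spec (X.residueField x), (X.fromSpecResidueField x) ⁻¹ᵁ W) := by
  haveI : Nonempty ↥((X.fromSpecResidueField x) ⁻¹ᵁ W) := by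
    refine ⟨⟨IsLocalRing.closedPoint (X.residueField x), ?_⟩⟩
    change X.fromSpecResidueField x _ ∈ W
    rw [Scheme.fromSpecResidueField_apply]
    exact hx
  infer_instance

/-- the map to the test module is killed by the prime of the image of `x`. -/
theorem smulMod_gx_eq_zero (x : X) {a : A}
    (ha : a ∈ ((X ↘ Spec (CommRingCat.of A)) x).asIdeal) :
    smulMod A (Coh.structureModule X) a ≫ gx x = 0 := by
  apply Scheme.Modules.hom_ext
  intro W
  ext r
  change (gx x).app W ((X.presheaf.map (homOfLE (le_top : W ≤ ⊤)).op (gl (X := X) a)) •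
    (show Γ(Coh.structureModule X, W) from r)) = 0
  rw [structureModule_smul, gx_app, map_mul, fromSpecResidueField_app_gl_eq_zero x ha W, zero_mul]
  rfl




/-- degree-zero cohomology is global sections. -/
noncomputable def h0 (P : X.Modules) : Coh.HH X P 0 ≃+ Γ(P, ⊤) :=
  Sheaf.H.equiv₀ (Coh.toAb P) Limits.isTerminalTop

theorem h0_symm_map {P Q : X.Modules} (φ : P ⟶ Q) (s : Γ(P, ⊤)) :
    Canon.HHlin A φ 0 ((h0 P).symm s) = (h0 Q).symm (φ.app ⊤ s) :=
  Sheaf.H.equiv₀_symm_naturality (Limits.isTerminalTop (α := Opens X))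
    ((SheafOfModules.toSheaf X.ringCatSheaf).map φ) s

/-- inclusion of ranges on `H^0`, in terms of global sections. -/
theorem exists_section_of_range_le {M N N' : X.Modules} (f : M ⟶ N) (t : N' ⟶ N)
    (h : LinearMap.range (Canon.HHlin A t 0) ≤ LinearMap.range (Canon.HHlin A f 0))
    (e' : Γ(N', ⊤)) : ∃ r : Γ(M, ⊤), f.app ⊤ r = t.app ⊤ e' := by
  obtain ⟨y, hy⟩ := h ⟨(h0 N').symm e', rfl⟩
  refine ⟨h0 M y, ?_⟩
  have h1 := h0_symm_map (A := A) f (h0 M y)
  rw [AddEquiv.symm_apply_apply, hy, h0_symm_map (A := A) t e'] at h1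
  exact ((h0 N).symm.injective h1).symm

end Groth.Agent.Lib.Helper21.ZarConn
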