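import Groth.Agent.Lib.Helper21.ThickDict1
import Groth.Agent.Lib.Helper28.PullbackInv2
import Groth.Agent.Lib.Helper28.TensorIso
import Groth.Agent.Lib.Helper23.Formal.QuotSections
import Groth.Agent.Lib.lead.FormalA

set_option autoImplicit false
set_option backward.isDefEq.respectTransparency.types false
set_option linter.style.haveILetI false
universe u
open CategoryTheory CategoryTheory.Limits AlgebraicGeometry Opposite TopologicalSpace

namespace Groth.Agent.Lib.Helper21.ThickDict

open Formal Groth.Agent.Lib.Helper23.FQuot Groth.Agent.Lib.Helper28 Groth.Agent.Lib.Helper28.QCohLoc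
  Groth.Agent.Lib.Helper28.GenLocus Groth.Agent.Lib.Helper28.PullbackInv

variable {A : Type u} [CommRing A] {Y : Scheme.{u}} [Y.Over (Spec (CommRingCat.of A))]

theorem smulMod_app (M : Y.Modules) (a : A) (U : Y.Opens) (y : Γ(M, U)) :
    (Formal.smulMod A M a).app U y =
      (phiU (Y ↘ Spec (CommRingCat.of A)) U a • y : Γ(M, U)) := rfl

variable (J : Ideal A)

/-- the thickening `Y ×_A A/J → Y` for a scheme over `A`. -/
noncomputable abbrev tι :
    pullback (Y ↘ Spec (CommRingCat.of A)) (Spec.map (CommRingCat.ofHom (Ideal.Quotient.mk J))) ⟶ Y :=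
  thickι J (Y ↘ Spec (CommRingCat.of A))

/-- the unit `L → ι_* ι^* L`. -/
noncomputable abbrev unitL (L : Y.Modules) :
    L ⟶ (Scheme.Modules.pushforward (tι (Y := Y) J)).obj ((Scheme.Modules.pullback (tι (Y := Y) J)).obj L) :=
  (Scheme.Modules.pullbackPushforwardAdjunction (tι (Y := Y) J)).unit.app L

theorem unitL_app (L : Y.Modules) (U : Y.Opens) (y : Γ(L, U)) :
    (unitL J L).app U y = pbs (tι (Y := Y) J) L U y := rfl

instance isClosedImmersion_tι : IsClosedImmersion (tι (Y := Y) J) := by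
  haveI : IsClosedImmersion (Spec.map (CommRingCat.ofHom (Ideal.Quotient.mk J))) :=
    IsClosedImmersion.spec_of_surjective _ Ideal.Quotient.mk_surjective
  exact MorphismProperty.pullback_fst _ _ this

theorem smulMod_comp_unitL (L : Y.Modules) (a : A) (ha : a ∈ J) :
    Formal.smulMod A L a ≫ unitL J L = 0 := by
  apply Scheme.Modules.hom_ext
  intro U
  ext y
  show (unitL J L).app U ((Formal.smulMod A L a).app U y) = 0
  rw [smulMod_app, unitL_app, pbs_smul, thickι_app_phiU J _ U a ha, zero_smul]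
  rfl

theorem exists_unit_fac (L : Y.Modules) {N : Y.Modules} (q : L ⟶ N) (hq : IsQuot J q) :
    ∃ θ : N ⟶ (Scheme.Modules.pushforward (tι (Y := Y) J)).obj
      ((Scheme.Modules.pullback (tι (Y := Y) J)).obj L), q ≫ θ = unitL J L :=
  hq.fac (unitL J L) (fun a ha => smulMod_comp_unitL J L a ha)

/-- a section `r • g` with `r ∈ J Γ(Y, U)` dies in the quotient by `J`. -/
theorem app_smul_eq_zero_of_mem_map (L : Y.Modules) {N : Y.Modules} (q : L ⟶ N) (hq : IsQuot J q)
    (U : Y.Opens) (r : Γ(Y, U)) (hr : r ∈ Ideal.map (phiU (Y ↘ Spec (CommRingCat.of A)) U) J)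
    (y : Γ(L, U)) : q.app U (r • y : Γ(L, U)) = 0 := by
  induction hr using Submodule.span_induction with
  | mem x hx =>
    obtain ⟨a, ha, rfl⟩ := hx
    have h := hq.zero a ha
    have h2 := congrArg (fun φ : L ⟶ N => φ.app U y) h
    exact h2
  | zero => rw [zero_smul, map_zero]
  | add x z _ _ hx hz => rw [add_smul, map_add, hx, hz, add_zero]
  | smul c x _ hx =>
    have h1 : ((c • x : Γ(Y, U)) • y : Γ(L, U)) = (c • (x • y : Γ(L, U)) : Γ(L, U)) := by
      rw [smul_eq_mul, mul_smul]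
    rw [h1, Scheme.Modules.Hom.app_smul, hx, smul_zero]

/-- **the dictionary for invertible modules**: `L / J L ≅ ι_* ι^* L` for the thickening
`ι : Y ×_A A/J → Y`. -/
theorem isIso_of_unit_fac (L : Y.Modules) (hL : PicF.IsInvertible L)
    [L.IsQuasicoherent] {N : Y.Modules} [N.IsQuasicoherent] (q : L ⟶ N) (hq : IsQuot J q)
    (θ : N ⟶ (Scheme.Modules.pushforward (tι (Y := Y) J)).obj
      ((Scheme.Modules.pullback (tι (Y := Y) J)).obj L))
    (hθ : q ≫ θ = unitL J L) : IsIso θ := by
  haveI := hq.epi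
  refine Groth.Agent.Lib.Helper28.TensorIso.isIso_of_bijective_on_basis θ (fun W => IsAffineOpen W ∧ ∃ g : Γ(L, W), IsGen L W g) ?_ ?_
  · intro U x hx
    obtain ⟨U₁, g₁, hxU₁, hg₁⟩ := exists_isGen L hL x
    obtain ⟨W, hW, hxW, hWU⟩ := Opens.isBasis_iff_nbhd.mp Y.isBasis_affineOpens
      (show x ∈ U ⊓ U₁ from ⟨hx, hxU₁⟩)
    exact ⟨W, ⟨hW, res L (hWU.trans inf_le_right) g₁, hg₁.res (hWU.trans inf_le_right)⟩, hxW,
      hWU.trans inf_le_left⟩
  · rintro W ⟨hW, g, hg⟩
    have hg' : IsGen ((Scheme.Modules.pullback (tι (Y := Y) J)).obj L) ((tι (Y := Y) J) ⁻¹ᵁ W)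
        (pbs (tι (Y := Y) J) L W g) := isGen_pbs hg
    have hkey : ∀ r : Γ(Y, W), θ.app W (q.app W (r • g : Γ(L, W))) =
        ((tι (Y := Y) J).app W r • pbs (tι (Y := Y) J) L W g :
          Γ((Scheme.Modules.pullback (tι (Y := Y) J)).obj L, (tι (Y := Y) J) ⁻¹ᵁ W)) := by
      intro r
      have h1 : θ.app W (q.app W (r • g : Γ(L, W))) = (unitL J L).app W (r • g : Γ(L, W)) := by
        rw [← hθ]; rfl
      rw [h1, unitL_app, pbs_smul]
    have hsurjq : ∀ n : Γ(N, W), ∃ r : Γ(Y, W), q.app W (r • g : Γ(L, W)) = n := by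
      intro n
      obtain ⟨y, hy⟩ := Groth.Agent.Lib.Helper23.Tower.surj_sections_of_epi q hW n
      refine ⟨hg.coef le_rfl y, ?_⟩
      have := hg.coef_smul le_rfl y
      rw [res_self] at this
      rw [this]
      exact hy
    constructor
    · intro n n' hnn'
      obtain ⟨r, rfl⟩ := hsurjq n
      obtain ⟨r', rfl⟩ := hsurjq n'
      rw [hkey, hkey] at hnn'
      have h0 : (tι (Y := Y) J).app W (r - r') = 0 := by
        have h1 := (hg' _ le_rfl).1 (a₁ := (tι (Y := Y) J).app W r) (a₂ := (tι (Y := Y) J).app W r') (by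
          show ((tι (Y := Y) J).app W r • res _ le_rfl (pbs (tι (Y := Y) J) L W g) :
              Γ((Scheme.Modules.pullback (tι (Y := Y) J)).obj L, (tι (Y := Y) J) ⁻¹ᵁ W)) =
            ((tι (Y := Y) J).app W r' • res _ le_rfl (pbs (tι (Y := Y) J) L W g) :
              Γ((Scheme.Modules.pullback (tι (Y := Y) J)).obj L, (tι (Y := Y) J) ⁻¹ᵁ W))
          rw [res_self]
          exact hnn')
        rw [map_sub, h1, sub_self]
      have h2 := mem_map_of_thickι_app_eq_zero J (Y ↘ Spec (CommRingCat.of A)) W hW (r - r') h0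
      have h3 := app_smul_eq_zero_of_mem_map J L q hq W (r - r') h2 g
      rw [sub_smul, map_sub, sub_eq_zero] at h3
      exact h3
    · intro z
      have hz := hg'.coef_smul le_rfl z
      rw [res_self] at hz
      obtain ⟨r, hr⟩ := Scheme.Hom.app_surjective (tι (Y := Y) J) W hW (hg'.coef le_rfl z)
      refine ⟨q.app W (r • g : Γ(L, W)), ?_⟩
      rw [hkey, hr]
      exact hz

end Groth.Agent.Lib.Helper21.ThickDict
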