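import Groth.Agent.Lib.Helper21.ProperGamma1

set_option autoImplicit false
set_option backward.isDefEq.respectTransparency.types false
set_option linter.style.haveILetI false
universe u
open CategoryTheory AlgebraicGeometry Opposite TopologicalSpace

namespace Groth.Agent.Lib.Helper21.ProperGamma

theorem isFinite_fromNormalization {X S : Scheme.{u}} (f : X ⟶ S) [IsProper f]
    [IsLocallyNoetherian S] : IsFinite f.fromNormalization := by
  refine { toIsAffineHom := inferInstance, finite_app := fun U hU => ?_ }
  rw [Scheme.Hom.fromNormalization_app f hU]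
  refine (RingHom.finite_respectsIso.cancel_right_isIso _ _).mpr ?_
  haveI : IsNoetherianRing Γ(S, U) := IsLocallyNoetherian.component_noetherian ⟨U, hU⟩
  letI := (f.app U).hom.toAlgebra
  have hfin : Module.Finite Γ(S, U) Γ(X, f ⁻¹ᵁ U) := finite_app_of_isProper f U hU
  haveI : IsNoetherian Γ(S, U) Γ(X, f ⁻¹ᵁ U) := isNoetherian_of_isNoetherianRing_of_finite _ _
  have h2 : Module.Finite Γ(S, U) (integralClosure Γ(S, U) Γ(X, f ⁻¹ᵁ U)) :=
    Module.Finite.of_injective (integralClosure Γ(S, U) Γ(X, f ⁻¹ᵁ U)).val.toLinearMap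
      Subtype.val_injective
  exact h2

end Groth.Agent.Lib.Helper21.ProperGamma
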