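import Groth.Agent.Lib.Helper21.ZarConn3
import Groth.Agent.Lib.Helper21.ProperGamma2
import Groth.Agent.Lib.Helper13.SteinUC
import Groth.Prelude.Def_ega3

set_option autoImplicit false
set_option backward.isDefEq.respectTransparency.types false
set_option linter.style.haveILetI false
universe u
open CategoryTheory CategoryTheory.Limits AlgebraicGeometry Opposite TopologicalSpace

namespace Groth.Agent.Lib.Helper21.ZarConn

/-- The first map of the Stein factorisation of a proper morphism is proper. -/
theorem isProper_toNormalization {X Y : Scheme.{u}} (f : X ⟶ Y) [IsProper f] :
    IsProper f.toNormalization := by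
  haveI : IsProper (f.toNormalization ≫ f.fromNormalization) := by
    rw [Scheme.Hom.toNormalization_fromNormalization]; infer_instance
  exact IsProper.of_comp f.toNormalization f.fromNormalization

/-- The Stein factorisation of a proper morphism over a locally Noetherian base has connected
fibres. -/
theorem isConnected_toNormalization_preimage {X Y : Scheme.{u}} (f : X ⟶ Y) [IsProper f]
    [IsLocallyNoetherian Y] (y' : f.normalization) :
    _root_.IsConnected (f.toNormalization ⁻¹' {y'}) := by
  haveI := Groth.Agent.Lib.Helper21.ProperGamma.isFinite_fromNormalization f
  haveI : IsLocallyNoetherian f.normalization :=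
    LocallyOfFiniteType.isLocallyNoetherian f.fromNormalization
  haveI := isProper_toNormalization f
  exact isConnected_preimage_singleton f.toNormalization
    (fun U => Groth.Agent.Lib.Helper13.SteinUC.isIso_toNormalization_app f U) y'

end Groth.Agent.Lib.Helper21.ZarConn
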