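import Mathlib
import Groth.Prelude.Def_GrQuot

set_option autoImplicit false
universe u
open DirectSum

namespace Groth.Agent.Lib.Helper21.GrAddSub

variable {ι : Type} [DecidableEq ι] [AddMonoid ι] {k R : Type*} [CommRing k] [CommRing R]
  [Algebra k R] (𝒜 : ι → Submodule k R)

/-- The additive-subgroup family underlying a submodule family. -/
def toAddSub (i : ι) : AddSubgroup R := (𝒜 i).toAddSubgroup

lemma mem_toAddSub {i : ι} {x : R} : x ∈ toAddSub 𝒜 i ↔ x ∈ 𝒜 i := Iff.rfl

variable [GradedAlgebra 𝒜]

instance gradedMonoid : SetLike.GradedMonoid (toAddSub 𝒜) where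
  one_mem := SetLike.one_mem_graded 𝒜
  mul_mem := fun _ _ _ _ ha hb => SetLike.mul_mem_graded (A := 𝒜) ha hb

noncomputable instance decomposition : DirectSum.Decomposition (toAddSub 𝒜) where
  decompose' := fun x => (DirectSum.decompose 𝒜 x)
  left_inv := fun x => by
    have := (DirectSum.decompose 𝒜).left_inv x
    exact this
  right_inv := fun x => by
    have := (DirectSum.decompose 𝒜).right_inv x
    exact this

noncomputable instance gradedRing : GradedRing (toAddSub 𝒜) where

lemma decompose_eq (x : R) (i : ι) :
    ((DirectSum.decompose (toAddSub 𝒜) x i : toAddSub 𝒜 i) : R) = (DirectSum.decompose 𝒜 x i : R) := rfl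

end Groth.Agent.Lib.Helper21.GrAddSub
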