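import Mathlib
import Groth.Agent.Lib.Helper21.TorLES

/-!
# `Tor_n(X, M) = 0` from a regular element killing `X` (helper21)
-/

set_option autoImplicit false
set_option backward.isDefEq.respectTransparency false
set_option backward.defeqAttrib.useBackward true
universe v u

namespace Groth.Agent.Lib.Helper21.TorReg

open CategoryTheory Limits HomologicalComplex Groth.Agent.Lib.Helper21.TorLES

section Abstract

variable {A : Type u} [Category.{v} A] [Abelian A]
  {D : Type*} [Category D] [Abelian D]
  {F₁ F₂ F₃ : A ⥤ D} [F₁.Additive] [F₂.Additive] [F₃.Additive]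
  (α : F₁ ⟶ F₂) (β : F₂ ⟶ F₃) (w : α ≫ β = 0)
  {X : A} (P : ProjectiveResolution X)
  (h : ∀ (Q : A) [Projective Q],
    (ShortComplex.mk (α.app Q) (β.app Q) (by rw [← NatTrans.comp_app, w]; rfl)).ShortExact)

include h in
lemma mono_homologyMap_of_isZero (n : ℕ) (h3 : IsZero (H P F₃ (n + 1))) :
    Mono (HomologicalComplex.homologyMap
      ((NatTrans.mapHomologicalComplex α (ComplexShape.down ℕ)).app P.complex) n) := by
  have hS := sc_shortExact α β w P h
  have hex := hS.homology_exact₁ (n + 1) n (by simp)
  exact hex.mono_g (h3.eq_of_src _ _)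

end Abstract

section Homotopy

variable {A : Type u} [Category.{v} A] [Abelian A]
  {D : Type*} [Category D] [Abelian D] (F : A ⥤ D) [F.Additive]
  {X : A} (P : ProjectiveResolution X)

/-- an endomorphism of a projective resolution lifting zero induces zero on `H_n(F(P))` -/
lemma homologyMap_map_eq_zero (g : P.complex ⟶ P.complex) (hg : g ≫ P.π = 0) (n : ℕ) :
    HomologicalComplex.homologyMap ((F.mapHomologicalComplex (ComplexShape.down ℕ)).map g) n = 0 := by
  have ho : Homotopy g 0 := ProjectiveResolution.liftHomotopyZero g hg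
  have ho2 := F.mapHomotopy ho (c := ComplexShape.down ℕ)
  rw [ho2.homologyMap_eq n, Functor.map_zero, HomologicalComplex.homologyMap_zero]

end Homotopy

section Module

open MonoidalCategory
open scoped Pointwise

variable {R : Type u} [CommRing R]

lemma smul_id_comp_π {X : ModuleCat.{u} R} (r : R) (hX : r • 𝟙 X = 0)
    (P : ProjectiveResolution X) : (r • 𝟙 P.complex) ≫ P.π = 0 := by
  rw [Linear.smul_comp, Category.id_comp]
  apply HomologicalComplex.to_single_hom_ext (j := 0)
  rw [HomologicalComplex.smul_f_apply, HomologicalComplex.zero_f]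
  have h1 : r • P.π.f 0 = P.π.f 0 ≫ (r • 𝟙 _) := by
    rw [Linear.comp_smul, Category.comp_id]
  rw [h1]
  have h2 : (r • 𝟙 (((ChainComplex.single₀ (ModuleCat.{u} R)).obj X).X 0)) = 0 := hX
  rw [h2, comp_zero]

lemma mapHC_smul (M : ModuleCat.{u} R) (r : R) {X : ModuleCat.{u} R} (P : ProjectiveResolution X) :
    (NatTrans.mapHomologicalComplex ((tensoringRight (ModuleCat.{u} R)).map (r • 𝟙 M))
      (ComplexShape.down ℕ)).app P.complex =
    (((tensoringRight (ModuleCat.{u} R)).obj M).mapHomologicalComplex (ComplexShape.down ℕ)).map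
      (r • 𝟙 P.complex) := by
  ext n : 1
  simp only [NatTrans.mapHomologicalComplex_app_f, Functor.mapHomologicalComplex_map_f,
    HomologicalComplex.smul_f_apply, HomologicalComplex.id_f]
  show P.complex.X n ◁ (r • 𝟙 M) = (r • 𝟙 (P.complex.X n)) ▷ M
  rw [MonoidalLinear.whiskerLeft_smul, MonoidalLinear.smul_whiskerRight]
  simp

/-- If `r` kills `X` and is a nonzerodivisor on `M`, then `Tor_{n+1}(X, M/rM) = 0` implies
`Tor_n(X, M) = 0`. -/
theorem isZero_tor_of_regular (X M : ModuleCat.{u} R) (r : R) (hX : r • 𝟙 X = 0)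
    (hreg : IsSMulRegular M r) (n : ℕ)
    (hN : IsZero (((Tor (ModuleCat.{u} R) (n + 1)).obj X).obj
      (ModuleCat.of R (M ⧸ (r • (⊤ : Submodule R M)))))) :
    IsZero (((Tor (ModuleCat.{u} R) n).obj X).obj M) := by
  let N : ModuleCat.{u} R := ModuleCat.of R (M ⧸ (r • (⊤ : Submodule R M)))
  let f : M ⟶ M := r • 𝟙 M
  let g : M ⟶ N := ModuleCat.ofHom (Submodule.mkQ (r • (⊤ : Submodule R M)))
  have hf : ∀ m : M, f.hom m = r • m := fun m => by
    simp [f]
  have w : f ≫ g = 0 := by
    ext m
    simp only [ModuleCat.hom_comp, LinearMap.comp_apply, hf, ModuleCat.hom_zero,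
      LinearMap.zero_apply]
    show Submodule.mkQ _ (r • m) = 0
    rw [Submodule.mkQ_apply, Submodule.Quotient.mk_eq_zero]
    exact Submodule.smul_mem_pointwise_smul m r ⊤ Submodule.mem_top
  have hS : (ShortComplex.mk f g w).ShortExact := by
    apply ModuleCat.shortComplex_shortExact
    · intro m
      constructor
      · intro hm
        have : m ∈ r • (⊤ : Submodule R M) := by
          rw [← Submodule.Quotient.mk_eq_zero]
          exact hm
        obtain ⟨m', -, rfl⟩ := (Submodule.mem_smul_pointwise_iff_exists _ _ _).mp this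
        exact ⟨m', hf m'⟩
      · rintro ⟨m', rfl⟩
        exact congrArg (fun φ => φ.hom m') w
    · intro a b hab
      rw [hf, hf] at hab
      exact hreg hab
    · exact Submodule.mkQ_surjective _
  let P := ProjectiveResolution.of X
  have e := fun (N' : ModuleCat.{u} R) => (tor_iso_homology_left n X N' P).some
  have e1 := (tor_iso_homology_left (n + 1) X N P).some
  have h3 : IsZero (H P ((tensoringRight (ModuleCat.{u} R)).obj N) (n + 1)) :=
    IsZero.of_iso hN e1.symm
  have hmono := mono_homologyMap_of_isZero _ _ (map_comp_zero_right f g w) P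
    (fun Q _ => shortExact_app_right f g w hS Q) n h3
  have hzero : HomologicalComplex.homologyMap
      ((NatTrans.mapHomologicalComplex ((tensoringRight (ModuleCat.{u} R)).map f)
        (ComplexShape.down ℕ)).app P.complex) n = 0 := by
    rw [mapHC_smul]
    exact homologyMap_map_eq_zero _ P _ (smul_id_comp_π r hX P) n
  refine IsZero.of_iso ?_ (e M)
  exact IsZero.of_mono_eq_zero _ hzero

end Module

end Groth.Agent.Lib.Helper21.TorReg
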