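import Groth.Agent.Lib.Helper21.QCohColim
import Groth.Agent.Lib.Helper28.QCohPush
import Groth.Agent.Lib.Helper6.GrothSSCollapse2
import Groth.Agent.Lib.Helper6.CohTopPush
import Groth.Agent.S0042
import Groth.Agent.S0800
import Groth.Agent.S0028
import Groth.Agent.S0032
import Mathlib

set_option backward.isDefEq.respectTransparency.types false
set_option linter.style.haveILetI false
set_option autoImplicit false
universe u
open CategoryTheory CategoryTheory.Limits AlgebraicGeometry Opposite TopologicalSpace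

namespace Groth.Agent.Lib.Helper21.FibVan

open Groth.Agent.Lib.Helper6

/-- an abelian sheaf all of whose stalks vanish is zero -/
theorem isZero_of_forall_isZero_stalk {Y : Scheme.{u}}
    (F : Sheaf (Opens.grothendieckTopology Y) AddCommGrpCat.{u})
    (h : ∀ y : Y, IsZero (TopCat.Presheaf.stalk
      (F.obj : TopCat.Presheaf AddCommGrpCat.{u} Y.toTopCat) y)) : IsZero F := by
  rw [IsZero.iff_id_eq_zero]
  ext U s
  refine TopCat.Presheaf.section_ext (X := Y.toTopCat) F U.unop _ _ (fun x hx => ?_)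
  haveI : Subsingleton ↑(TopCat.Presheaf.stalk (C := AddCommGrpCat.{u}) (X := Y.toTopCat) F.obj x) :=
    AddCommGrpCat.subsingleton_of_isZero (h x)
  exact Subsingleton.elim _ _

/-- coherent case, all fibres of dimension `≤ d`: `R^i h_* G = 0` for `i > d` -/
theorem isZero_RpushAb_of_isCoh {X S : Scheme.{u}} (h : X ⟶ S) [IsProper h] [IsLocallyNoetherian S]
    (d : ℕ) (hd : ∀ s : S, topologicalKrullDim ↥(h.fiber s) ≤ d) (G : X.Modules) (hG : Coh.IsCoh G)
    (i : ℕ) (hi : d < i) : IsZero ((Coh.RpushAb h i).obj (Coh.toAb G)) :=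
  isZero_of_forall_isZero_stalk _ fun s => Groth.Agent.S0042.result h s d (hd s) G hG i hi

/-- quasi-coherent case over a Noetherian affine base -/
theorem isZero_RpushAb_of_isQCoh {X S : Scheme.{u}} (h : X ⟶ S) [IsProper h] [IsLocallyNoetherian S]
    [IsAffine S] (d : ℕ) (hd : ∀ s : S, topologicalKrullDim ↥(h.fiber s) ≤ d) (N : X.Modules)
    [N.IsQuasicoherent] (i : ℕ) (hi : d < i) : IsZero ((Coh.RpushAb h i).obj (Coh.toAb N)) := by
  haveI : CompactSpace X := QuasiCompact.compactSpace_of_compactSpace h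
  haveI : QuasiSeparatedSpace X := quasiSeparatedSpace_of_quasiSeparated h
  obtain ⟨I, _, _, _, D, c, ⟨hc⟩, hpt, hD⟩ := QCohColim.exists_isColimit_isCoh N
  subst hpt
  haveI : PreservesColimitsOfShape I (Coh.RpushAb h i) := Groth.Agent.S0800.result h i I
  have hc' : IsColimit ((Coh.RpushAb h i).mapCocone
      ((SheafOfModules.toSheaf X.ringCatSheaf).mapCocone c)) :=
    isColimitOfPreserves (Coh.RpushAb h i) (isColimitOfPreserves _ hc)
  rw [IsZero.iff_id_eq_zero]
  refine hc'.hom_ext fun j => ?_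
  exact (isZero_RpushAb_of_isCoh h d hd (D.obj j) (hD j) i hi).eq_of_src _ _

/-- Leray for an affine morphism followed by any morphism -/
theorem nonempty_RpushAb_comp_iso {X Y Z : Scheme.{u}} (k : X ⟶ Y) (h : Y ⟶ Z) [IsAffineHom k]
    (M : X.Modules) [Coh.IsQCoh M] (p : ℕ) :
    Nonempty ((Coh.RpushAb (k ≫ h) p).obj (Coh.toAb M) ≅
      (Coh.RpushAb h p).obj ((Coh.pushAb k).obj (Coh.toAb M))) := by
  have : PreservesFiniteLimits (Coh.pushAb k) :=
    (TopCat.Sheaf.pullbackPushforwardAdjunction AddCommGrpCat.{u}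
      k.base).rightAdjoint_preservesLimits.{0, 0}.preservesFiniteLimits
  have : PreservesFiniteLimits (Coh.pushAb h) :=
    (TopCat.Sheaf.pullbackPushforwardAdjunction AddCommGrpCat.{u}
      h.base).rightAdjoint_preservesLimits.{0, 0}.preservesFiniteLimits
  obtain ⟨e⟩ := GrothSSCollapse.nonempty_iso' (Coh.pushAb k) (Coh.pushAb h)
    (fun Q hQ q hq => by
      have := hQ
      have : Injective ((Coh.pushAb k).obj Q) := CohTopPush.push_injective k.base Q
      obtain ⟨q', rfl⟩ : ∃ q', q = q' + 1 := ⟨q - 1, by omega⟩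
      exact Functor.isZero_rightDerived_obj_injective_succ _ q' _)
    (Coh.toAb M)
    (fun b hb => Groth.Agent.S0028.result k M b hb)
    p
  let i : Coh.pushAb k ⋙ Coh.pushAb h ≅ Coh.pushAb (k ≫ h) :=
    NatIso.ofComponents (fun _ => Iso.refl _) (by intros; simp; rfl)
  exact ⟨((GrothSS.rightDerivedIsoOfIso i p).app (Coh.toAb M)).symm ≪≫ e⟩

/-- a scheme with an affine morphism to a proper scheme, with all fibres of dimension `≤ d`, over a
Noetherian affine base -/
def Good (d : ℕ) (X : Scheme.{u}) : Prop :=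
  ∃ (X₀ S₀ : Scheme.{u}) (h : X₀ ⟶ S₀) (k : X ⟶ X₀), IsProper h ∧ IsAffine S₀ ∧
    IsLocallyNoetherian S₀ ∧ (∀ s : S₀, topologicalKrullDim ↥(h.fiber s) ≤ d) ∧ IsAffineHom k

theorem Good.of_isAffineHom {d : ℕ} {X X' : Scheme.{u}} (hX : Good d X) (q : X' ⟶ X)
    [IsAffineHom q] : Good d X' := by
  obtain ⟨X₀, S₀, h, k, h1, h2, h3, h4, h5⟩ := hX
  exact ⟨X₀, S₀, h, q ≫ k, h1, h2, h3, h4, inferInstance⟩

/-- **vanishing**: on a good scheme the cohomology of quasi-coherent modules vanishes above `d` -/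
theorem Good.subsingleton_HH {d : ℕ} {X : Scheme.{u}} (hX : Good d X) (M : X.Modules)
    [M.IsQuasicoherent] (i : ℕ) (hi : d < i) : Subsingleton (Coh.HH X M i) := by
  obtain ⟨X₀, S₀, h, k, h1, h2, h3, h4, h5⟩ := hX
  haveI : ((Scheme.Modules.pushforward k).obj M).IsQuasicoherent :=
    Groth.Agent.Lib.Helper28.QCohLoc.isQuasicoherent_pushforward k M
  have hz : IsZero ((Coh.RpushAb h i).obj (Coh.toAb ((Scheme.Modules.pushforward k).obj M))) :=
    isZero_RpushAb_of_isQCoh h d h4 _ i hi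
  obtain ⟨e⟩ := nonempty_RpushAb_comp_iso k h M i
  have hz' : IsZero ((Coh.RpushAb (k ≫ h) i).obj (Coh.toAb M)) := hz.of_iso e
  obtain ⟨φ⟩ := Groth.Agent.S0032.result (k ≫ h) M i
  have h0 : IsZero (((Coh.RpushAb (k ≫ h) i).obj (Coh.toAb M)).obj.obj (op ⊤)) := by
    have := ((sheafToPresheaf _ _ ⋙ (evaluation _ _).obj (op ⊤)).map_isZero hz')
    exact this
  haveI : Subsingleton ↑(((Coh.RpushAb (k ≫ h) i).obj (Coh.toAb M)).obj.obj (op ⊤)) :=
    AddCommGrpCat.subsingleton_of_isZero h0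
  exact φ.toEquiv.subsingleton

end Groth.Agent.Lib.Helper21.FibVan
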