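import Mathlib
import Groth.Prelude.Def_GrSyz
import Groth.Agent.Lib.Helper24.GrSyzLemmas

set_option autoImplicit false
universe u v
namespace Groth.Agent.Lib.Helper21.GrSyzIrrel
open GrSyz MvPolynomial Groth.Agent.Lib.Helper24.GrSyzL

variable (k : Type u) [Field k] (σ : Type v)

theorem irrel_eq_ker :
    (irrel (stdGr k σ)).toIdeal = RingHom.ker (constantCoeff : MvPolynomial σ k →+* k) := by
  apply le_antisymm (irrel_le_ker_constantCoeff k σ)
  intro p hp
  rw [RingHom.mem_ker] at hp
  rw [← MvPolynomial.support_sum_monomial_coeff p]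
  refine Ideal.sum_mem _ fun d hd => ?_
  have hd0 : d ≠ 0 := by
    rintro rfl
    rw [MvPolynomial.mem_support_iff] at hd
    exact hd (by rwa [constantCoeff_eq] at hp)
  apply Ideal.subset_span
  refine ⟨Finsupp.weight (fun _ : σ => (1 : ℤ)) d, ?_, ?_⟩
  · rcases (weight_one_nonneg σ d).lt_or_eq with h | h
    · exact h
    · exact absurd ((weight_one_eq_zero_iff σ d).1 h.symm) hd0
  · exact MvPolynomial.isWeightedHomogeneous_monomial _ _ _ rfl

instance irrel_isMaximal : (irrel (stdGr k σ)).toIdeal.IsMaximal := by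
  rw [irrel_eq_ker]
  exact RingHom.ker_isMaximal_of_surjective _ (fun c => ⟨C c, by simp⟩)

end Groth.Agent.Lib.Helper21.GrSyzIrrel
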