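import Mathlib
import Groth.Agent.Lib.Helper21.TorShift

set_option autoImplicit false
universe u
namespace Groth.Agent.Lib.Helper21.PolyPD
open MvPolynomial CategoryTheory

variable (k : Type u) [Field k] (m : ℕ)

/-- kill the first `j` variables -/
noncomputable def ev (j : ℕ) : MvPolynomial (Fin m) k →ₐ[k] MvPolynomial (Fin m) k :=
  aeval (fun i : Fin m => if (i : ℕ) < j then 0 else X i)

lemma ev_X (j : ℕ) (i : Fin m) : ev k m j (X i) = if (i : ℕ) < j then 0 else X i := by
  simp [ev]

/-- the ideal of polynomials vanishing when the first `j` variables are killed -/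
noncomputable def I (j : ℕ) : Ideal (MvPolynomial (Fin m) k) := RingHom.ker (ev k m j).toRingHom

lemma mem_I {j : ℕ} {f : MvPolynomial (Fin m) k} : f ∈ I k m j ↔ ev k m j f = 0 := Iff.rfl

lemma I_zero : I k m 0 = ⊥ := by
  have : ev k m 0 = AlgHom.id k _ := by
    apply MvPolynomial.algHom_ext
    intro i
    simp [ev_X]
  rw [eq_bot_iff]
  intro f hf
  rw [mem_I, this] at hf
  exact hf

lemma X_mem_I {j : ℕ} {i : Fin m} (h : (i : ℕ) < j) : X i ∈ I k m j := by
  rw [mem_I, ev_X, if_pos h]

lemma regular {j : ℕ} (hj : j < m) {f : MvPolynomial (Fin m) k}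
    (h : X ⟨j, hj⟩ * f ∈ I k m j) : f ∈ I k m j := by
  rw [mem_I, map_mul, ev_X, if_neg (by simp)] at h
  rcases mul_eq_zero.1 h with h | h
  · exact absurd h (X_ne_zero _)
  · exact h

lemma sub_ev_mem {j : ℕ} (hj : j < m) (f : MvPolynomial (Fin m) k) :
    f - ev k m (j + 1) f ∈ I k m j ⊔ Ideal.span {X ⟨j, hj⟩} := by
  induction f using MvPolynomial.induction_on with
  | C a => simp [ev]
  | add p q hp hq =>
    rw [map_add, add_sub_add_comm]
    exact Ideal.add_mem _ hp hq
  | mul_X p i hp =>
    rw [map_mul, ev_X]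
    by_cases hi : (i : ℕ) < j + 1
    · rw [if_pos hi, mul_zero, sub_zero]
      apply Ideal.mul_mem_left
      rcases Nat.lt_succ_iff_lt_or_eq.1 hi with h | h
      · exact Ideal.mem_sup_left (X_mem_I k m h)
      · apply Ideal.mem_sup_right
        have : i = ⟨j, hj⟩ := Fin.ext h
        rw [this]
        exact Ideal.subset_span rfl
    · rw [if_neg hi, ← sub_mul]
      exact Ideal.mul_mem_right _ _ hp

lemma I_le_succ (j : ℕ) : I k m j ≤ I k m (j + 1) := by
  intro f hf
  rw [mem_I] at hf ⊢
  have hcomp : (ev k m (j + 1)).comp (ev k m j) = ev k m (j + 1) := by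
    apply MvPolynomial.algHom_ext
    intro i
    rw [AlgHom.comp_apply, ev_X]
    by_cases h : (i : ℕ) < j
    · rw [if_pos h, map_zero, ev_X, if_pos (by omega)]
    · rw [if_neg h]
  rw [← hcomp, AlgHom.comp_apply, hf, map_zero]

lemma I_succ {j : ℕ} (hj : j < m) :
    I k m (j + 1) = I k m j ⊔ Ideal.span {X ⟨j, hj⟩} := by
  apply le_antisymm
  · intro f hf
    have := sub_ev_mem k m hj f
    rwa [(mem_I k m).1 hf, sub_zero] at this
  · rw [sup_le_iff, Ideal.span_le, Set.singleton_subset_iff]
    exact ⟨I_le_succ k m j, X_mem_I k m (by simp)⟩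

lemma ev_top (f : MvPolynomial (Fin m) k) : ev k m m f = C (constantCoeff f) := by
  have h : (ev k m m).toRingHom = (C : k →+* MvPolynomial (Fin m) k).comp constantCoeff := by
    apply MvPolynomial.ringHom_ext
    · intro a
      simp [ev]
    · intro i
      change ev k m m (X i) = C (constantCoeff (X i))
      rw [ev_X, if_pos i.2, constantCoeff_X, map_zero]
  exact RingHom.congr_fun h f

lemma I_top_eq_ker : I k m m = RingHom.ker (constantCoeff : MvPolynomial (Fin m) k →+* k) := by
  ext f
  rw [mem_I, ev_top, RingHom.mem_ker]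
  constructor
  · intro h
    exact C_injective _ _ (by rw [h, map_zero])
  · intro h
    rw [h, map_zero]

end Groth.Agent.Lib.Helper21.PolyPD
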