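import Mathlib
import Groth.Agent.Lib.Helper21.TorLES
import Groth.Agent.S6315

/-!
# `Tor` against the quotient by a regular sequence (helper21)
-/

set_option autoImplicit false
set_option backward.isDefEq.respectTransparency false
set_option backward.defeqAttrib.useBackward true
universe v u

namespace Groth.Agent.Lib.Helper21.TorSeq

open CategoryTheory Limits HomologicalComplex Groth.Agent.Lib.Helper21.TorLES

section Abstract

variable {A : Type u} [Category.{v} A] [Abelian A]
  {D : Type*} [Category D] [Abelian D]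
  {F₁ F₂ F₃ : A ⥤ D} [F₁.Additive] [F₂.Additive] [F₃.Additive]
  (α : F₁ ⟶ F₂) (β : F₂ ⟶ F₃) (w : α ≫ β = 0)
  {X : A} (P : ProjectiveResolution X)
  (h : ∀ (Q : A) [Projective Q],
    (ShortComplex.mk (α.app Q) (β.app Q) (by rw [← NatTrans.comp_app, w]; rfl)).ShortExact)

include h in
lemma isZero_H_succ_of_isZero (n : ℕ) (h2 : IsZero (H P F₂ (n + 1))) (h1 : IsZero (H P F₁ n)) :
    IsZero (H P F₃ (n + 1)) :=
  ((sc_shortExact α β w P h).homology_exact₃ (n + 1) n (by simp)).isZero_of_both_isZero h2 h1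

include h in
lemma epi_homologyMap_of_isZero (n : ℕ) (h3 : IsZero (H P F₃ n)) :
    Epi (HomologicalComplex.homologyMap
      ((NatTrans.mapHomologicalComplex α (ComplexShape.down ℕ)).app P.complex) n) := by
  have hex := (sc_shortExact α β w P h).homology_exact₂ n
  exact hex.epi_f (h3.eq_of_tgt _ _)

end Abstract

section Smul

variable {R : Type u} [CommRing R] {C : Type*} [Category C] [Abelian C] [Linear R C]
  {ι : Type*} {c : ComplexShape ι} {K L : HomologicalComplex C c}

lemma homologyMap_smul' (a : R) (φ : K ⟶ L) (i : ι) :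
    HomologicalComplex.homologyMap (a • φ) i = a • HomologicalComplex.homologyMap φ i := by
  dsimp [HomologicalComplex.homologyMap]
  rw [← ShortComplex.homologyMap_smul]
  rfl

end Smul

section TorFirst

open MonoidalCategory TorShift

variable {R : Type u} [CommRing R]

lemma mapHC_smul_left (M : ModuleCat.{u} R) (r : R) {X : ModuleCat.{u} R}
    (P : ProjectiveResolution X) :
    (NatTrans.mapHomologicalComplex ((tensoringLeft (ModuleCat.{u} R)).map (r • 𝟙 M))
      (ComplexShape.down ℕ)).app P.complex =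
    r • 𝟙 ((((tensoringLeft (ModuleCat.{u} R)).obj M).mapHomologicalComplex
      (ComplexShape.down ℕ)).obj P.complex) := by
  ext n : 1
  simp only [NatTrans.mapHomologicalComplex_app_f, HomologicalComplex.smul_f_apply,
    HomologicalComplex.id_f]
  show (r • 𝟙 M) ▷ (P.complex.X n) = r • 𝟙 _
  rw [MonoidalLinear.smul_whiskerRight]
  simp

lemma homologyMap_smul_left (M : ModuleCat.{u} R) (r : R) {X : ModuleCat.{u} R}
    (P : ProjectiveResolution X) (n : ℕ) :
    HomologicalComplex.homologyMap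
      ((NatTrans.mapHomologicalComplex ((tensoringLeft (ModuleCat.{u} R)).map (r • 𝟙 M))
        (ComplexShape.down ℕ)).app P.complex) n =
    r • 𝟙 (H P ((tensoringLeft (ModuleCat.{u} R)).obj M) n) := by
  rw [mapHC_smul_left, homologyMap_smul', HomologicalComplex.homologyMap_id]

variable {M₁ M₂ M₃ : ModuleCat.{u} R} (f : M₁ ⟶ M₂) (g : M₂ ⟶ M₃) (w : f ≫ g = 0)
  (hS : (ShortComplex.mk f g w).ShortExact) (N : ModuleCat.{u} R)

include hS in
/-- `Tor_{n+1}(M₂,N) = 0` and `Tor_n(M₁,N) = 0` imply `Tor_{n+1}(M₃,N) = 0`. -/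
lemma isZero_tor_succ_of_isZero (n : ℕ)
    (h2 : IsZero (((Tor (ModuleCat.{u} R) (n + 1)).obj M₂).obj N))
    (h1 : IsZero (((Tor (ModuleCat.{u} R) n).obj M₁).obj N)) :
    IsZero (((Tor (ModuleCat.{u} R) (n + 1)).obj M₃).obj N) := by
  let P := ProjectiveResolution.of N
  have e := fun (M : ModuleCat.{u} R) (k : ℕ) =>
    P.isoLeftDerivedObj ((tensoringLeft (ModuleCat.{u} R)).obj M) k
  refine IsZero.of_iso ?_ (e M₃ (n + 1))
  exact isZero_H_succ_of_isZero _ _ (map_comp_zero f g w) P
    (fun Q _ => shortExact_app f g w hS Q) n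
    (IsZero.of_iso h2 (e M₂ (n + 1)).symm) (IsZero.of_iso h1 (e M₁ n).symm)

end TorFirst

section TorSmul

open MonoidalCategory TorShift

variable {R : Type u} [CommRing R]
variable {M₁ M₃ : ModuleCat.{u} R} (r : R) (g : M₁ ⟶ M₃) (w : (r • 𝟙 M₁) ≫ g = 0)
  (hS : (ShortComplex.mk (r • 𝟙 M₁) g w).ShortExact) (N : ModuleCat.{u} R)

include hS in
/-- If `Tor_n(M₃, N) = 0` then multiplication by `r` is surjective on `Tor_n(M₁, N)`. -/
lemma surjective_smul_tor (n : ℕ)
    (h3 : IsZero (((Tor (ModuleCat.{u} R) n).obj M₃).obj N)) :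
    Function.Surjective
      (fun t : (((Tor (ModuleCat.{u} R) n).obj M₁).obj N : ModuleCat.{u} R) => r • t) := by
  let P := ProjectiveResolution.of N
  have e := fun (M : ModuleCat.{u} R) =>
    P.isoLeftDerivedObj ((tensoringLeft (ModuleCat.{u} R)).obj M) n
  have hepi := epi_homologyMap_of_isZero _ _ (map_comp_zero (r • 𝟙 M₁) g w) P
    (fun Q _ => shortExact_app (r • 𝟙 M₁) g w hS Q) n (IsZero.of_iso h3 (e M₃).symm)
  rw [homologyMap_smul_left] at hepi
  have hsurj : Function.Surjective
      (r • 𝟙 (H P ((tensoringLeft (ModuleCat.{u} R)).obj M₁) n)).hom :=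
    (ModuleCat.epi_iff_surjective _).1 hepi
  intro t
  obtain ⟨y, hy⟩ := hsurj ((e M₁).hom.hom t)
  refine ⟨(e M₁).inv.hom y, ?_⟩
  have h1 : (r • 𝟙 (H P ((tensoringLeft (ModuleCat.{u} R)).obj M₁) n)).hom y = r • y := rfl
  rw [h1] at hy
  show r • (e M₁).inv.hom y = t
  rw [← map_smul, hy]
  exact congrArg (fun φ => φ.hom t) (e M₁).hom_inv_id

end TorSmul

section Nakayama

variable {R : Type u} [CommRing R] [IsLocalRing R]

lemma isZero_of_surjective_smul (X : ModuleCat.{u} R) [Module.Finite R X] (r : R)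
    (hr : r ∈ IsLocalRing.maximalIdeal R)
    (hs : Function.Surjective (fun t : X => r • t)) : IsZero X := by
  have h1 : (⊤ : Submodule R X) ≤ IsLocalRing.maximalIdeal R • (⊤ : Submodule R X) := by
    intro t _
    obtain ⟨y, rfl⟩ := hs t
    exact Submodule.smul_mem_smul hr Submodule.mem_top
  have h2 := Submodule.eq_bot_of_le_smul_of_le_jacobson_bot (IsLocalRing.maximalIdeal R)
    (⊤ : Submodule R X) Module.Finite.fg_top h1 (IsLocalRing.maximalIdeal_le_jacobson ⊥)
  have : Subsingleton X := (Submodule.subsingleton_iff R).mp (subsingleton_of_bot_eq_top h2.symm)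
  exact ModuleCat.isZero_of_subsingleton X

end Nakayama

section Step

open MonoidalCategory TensorProduct

variable {A : Type u} [CommRing A] (I : Ideal A) (r : A)

lemma le_comap_sup :
    I ≤ Submodule.comap (LinearMap.id : A →ₗ[A] A) (I ⊔ Ideal.span {r}) :=
  fun _ ha => Ideal.mem_sup_left ha

/-- The projection `A/I → A/(I + (r))`. -/
noncomputable def quotMap :
    ModuleCat.of A (A ⧸ I) ⟶ ModuleCat.of A (A ⧸ (I ⊔ Ideal.span {r})) :=
  ModuleCat.ofHom (Submodule.mapQ I (I ⊔ Ideal.span {r}) LinearMap.id (le_comap_sup I r))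

lemma quotMap_apply (a : A) :
    (quotMap I r).hom (Ideal.Quotient.mk I a) = Ideal.Quotient.mk (I ⊔ Ideal.span {r}) a := rfl

lemma smul_quotMap : (r • 𝟙 (ModuleCat.of A (A ⧸ I))) ≫ quotMap I r = 0 := by
  refine ModuleCat.hom_ext (LinearMap.ext fun y => ?_)
  obtain ⟨a, rfl⟩ := Ideal.Quotient.mk_surjective y
  have h1 : ((r • 𝟙 (ModuleCat.of A (A ⧸ I))) ≫ quotMap I r).hom (Ideal.Quotient.mk I a) =
      (quotMap I r).hom (Ideal.Quotient.mk I (r * a)) := rfl
  rw [h1, quotMap_apply]
  show Ideal.Quotient.mk (I ⊔ Ideal.span {r}) (r * a) = 0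
  rw [Ideal.Quotient.eq_zero_iff_mem]
  exact Ideal.mem_sup_right (Ideal.mul_mem_right _ _ (Ideal.mem_span_singleton_self r))

variable {I r} in
lemma quot_shortExact (hr : IsSMulRegular (A ⧸ I) r) :
    (ShortComplex.mk (r • 𝟙 (ModuleCat.of A (A ⧸ I))) (quotMap I r)
      (smul_quotMap I r)).ShortExact := by
  refine ModuleCat.shortComplex_shortExact _ ?_ ?_ ?_
  · intro y
    constructor
    · intro hy
      obtain ⟨a, rfl⟩ := Ideal.Quotient.mk_surjective y
      have h1 : Ideal.Quotient.mk (I ⊔ Ideal.span {r}) a = 0 := hy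
      rw [Ideal.Quotient.eq_zero_iff_mem] at h1
      obtain ⟨b, hb, c, hc, hbc⟩ := Submodule.mem_sup.1 h1
      obtain ⟨d, rfl⟩ := Ideal.mem_span_singleton'.1 hc
      refine ⟨Ideal.Quotient.mk I d, ?_⟩
      show r • Ideal.Quotient.mk I d = Ideal.Quotient.mk I a
      rw [← hbc]
      have h2 : r • Ideal.Quotient.mk I d = Ideal.Quotient.mk I (r * d) := rfl
      rw [h2, map_add, Ideal.Quotient.eq_zero_iff_mem.2 hb, zero_add, mul_comm]
    · rintro ⟨z, rfl⟩
      exact congrArg (fun φ => φ.hom z) (smul_quotMap I r)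
  · intro a b hab
    exact hr hab
  · intro y
    obtain ⟨a, rfl⟩ := Ideal.Quotient.mk_surjective y
    exact ⟨Ideal.Quotient.mk I a, rfl⟩

/-- `Tor_i(A/I, N) = 0` for all `i ≥ 1`. -/
def TorVanish (I : Ideal A) (N : Type u) [AddCommGroup N] [Module A N] : Prop :=
  ∀ i : ℕ, 1 ≤ i → IsZero (((Tor (ModuleCat.{u} A) i).obj (ModuleCat.of A (A ⧸ I))).obj
    (ModuleCat.of A N))

variable (N : Type u) [AddCommGroup N] [Module A N]

lemma isSMulRegular_tensor_iff :
    IsSMulRegular (N ⧸ (I • ⊤ : Submodule A N)) r ↔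
      Function.Injective (LinearMap.rTensor N
        (r • 𝟙 (ModuleCat.of A (A ⧸ I)) : ModuleCat.of A (A ⧸ I) ⟶ _).hom) := by
  have e := TensorProduct.quotTensorEquivQuotSMul N I
  rw [← e.isSMulRegular_congr r]
  have h1 : (r • 𝟙 (ModuleCat.of A (A ⧸ I)) : ModuleCat.of A (A ⧸ I) ⟶ _).hom =
      r • (LinearMap.id : (A ⧸ I) →ₗ[A] (A ⧸ I)) := rfl
  rw [h1, LinearMap.rTensor_smul, LinearMap.rTensor_id]
  rfl

variable {I r} in
lemma torVanish_step_fwd (hr : IsSMulRegular (A ⧸ I) r) (hT : TorVanish I N)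
    (hN : IsSMulRegular (N ⧸ (I • ⊤ : Submodule A N)) r) :
    TorVanish (I ⊔ Ideal.span {r}) N := by
  have hS := quot_shortExact hr
  intro i hi
  obtain ⟨n, rfl⟩ : ∃ n, i = n + 1 := ⟨i - 1, by omega⟩
  rcases n with _ | n
  · rw [isZero_tor_one_iff_of_isZero _ _ _ hS (ModuleCat.of A N) (hT 1 le_rfl)]
    exact (isSMulRegular_tensor_iff I r N).1 hN
  · exact isZero_tor_succ_of_isZero _ _ _ hS (ModuleCat.of A N) (n + 1) (hT _ (by omega))
      (hT _ (by omega))

variable {I r} in
lemma torVanish_step_bwd [IsNoetherianRing A] [IsLocalRing A] [Module.Finite A N]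
    (hrm : r ∈ IsLocalRing.maximalIdeal A) (hr : IsSMulRegular (A ⧸ I) r)
    (hT : TorVanish (I ⊔ Ideal.span {r}) N) :
    TorVanish I N ∧ IsSMulRegular (N ⧸ (I • ⊤ : Submodule A N)) r := by
  have hS := quot_shortExact hr
  have h1 : TorVanish I N := by
    intro i hi
    have hfin : Module.Finite A (((Tor (ModuleCat.{u} A) i).obj
        (ModuleCat.of A (A ⧸ I))).obj (ModuleCat.of A N)) :=
      Groth.Agent.S6315.result A (A ⧸ I) N i
    exact isZero_of_surjective_smul _ r hrm
      (surjective_smul_tor r _ _ hS (ModuleCat.of A N) i (hT i hi))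
  refine ⟨h1, ?_⟩
  rw [isSMulRegular_tensor_iff]
  exact (isZero_tor_one_iff_of_isZero _ _ _ hS (ModuleCat.of A N) (h1 1 le_rfl)).1 (hT 1 le_rfl)

end Step

section Chain

open RingTheory.Sequence MonoidalCategory

variable {A : Type u} [CommRing A] (rs : List A) (N : Type u) [AddCommGroup N] [Module A N]

lemma ofList_take_succ (k : ℕ) (hk : k < rs.length) :
    Ideal.ofList (rs.take (k + 1)) = Ideal.ofList (rs.take k) ⊔ Ideal.span {rs[k]} := by
  rw [List.take_succ_eq_append_getElem hk, Ideal.ofList_append, Ideal.ofList_singleton]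

variable {rs} in
lemma regular_quot (hA : IsWeaklyRegular A rs) (k : ℕ) (hk : k < rs.length) :
    IsSMulRegular (A ⧸ Ideal.ofList (rs.take k)) rs[k] := by
  have h := hA.regular_mod_prev k hk
  have e : (A ⧸ (Ideal.ofList (rs.take k) • ⊤ : Submodule A A)) ≃ₗ[A]
      (A ⧸ Ideal.ofList (rs.take k)) :=
    Submodule.quotEquivOfEq _ _ (by rw [smul_eq_mul, Ideal.mul_top])
  exact (e.isSMulRegular_congr _).1 h

lemma torVanish_of_flat (I : Ideal A) [Module.Flat A (A ⧸ I)] : TorVanish I N := by
  intro i hi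
  obtain ⟨n, rfl⟩ : ∃ n, i = n + 1 := ⟨i - 1, by omega⟩
  let P := ProjectiveResolution.of (ModuleCat.of A N)
  have e := P.isoLeftDerivedObj
    ((tensoringLeft (ModuleCat.{u} A)).obj (ModuleCat.of A (A ⧸ I))) (n + 1)
  refine IsZero.of_iso ?_ e
  have : Module.Flat A (ModuleCat.of A (A ⧸ I)) := ‹Module.Flat A (A ⧸ I)›
  exact isZero_H_succ_of_flat (ModuleCat.of A (A ⧸ I)) P n

lemma torVanish_bot : TorVanish (⊥ : Ideal A) N := by
  haveI : Module.Flat A (A ⧸ (⊥ : Ideal A)) :=
    Module.Flat.of_linearEquiv (Submodule.quotEquivOfEqBot (⊥ : Submodule A A) rfl)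
  exact torVanish_of_flat N ⊥

variable {rs} in
/-- If `rs` is regular on `A` and on `N` then `Tor_i(A/(rs), N) = 0` for `i ≥ 1`. -/
theorem torVanish_of_isWeaklyRegular (hA : IsWeaklyRegular A rs) (hN : IsWeaklyRegular N rs) :
    TorVanish (Ideal.ofList rs) N := by
  have key : ∀ k, k ≤ rs.length → TorVanish (Ideal.ofList (rs.take k)) N := by
    intro k
    induction k with
    | zero =>
      intro _
      rw [List.take_zero, Ideal.ofList_nil]
      exact torVanish_bot N
    | succ k ih =>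
      intro hk
      rw [ofList_take_succ rs k hk]
      exact torVanish_step_fwd N (regular_quot hA k hk) (ih (by omega))
        (hN.regular_mod_prev k hk)
  have := key rs.length le_rfl
  rwa [List.take_length] at this

variable {rs} in
/-- Over a noetherian local ring, for `rs` in the maximal ideal regular on `A` and `N` finite:
vanishing of `Tor_i(A/(rs), N)`, `i ≥ 1`, implies that `rs` is regular on `N`. -/
theorem isWeaklyRegular_of_torVanish [IsNoetherianRing A] [IsLocalRing A] [Module.Finite A N]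
    (hm : ∀ r ∈ rs, r ∈ IsLocalRing.maximalIdeal A) (hA : IsWeaklyRegular A rs)
    (hT : TorVanish (Ideal.ofList rs) N) : IsWeaklyRegular N rs := by
  have key : ∀ j, j ≤ rs.length → TorVanish (Ideal.ofList (rs.take (rs.length - j))) N := by
    intro j
    induction j with
    | zero =>
      intro _
      rw [Nat.sub_zero, List.take_length]
      exact hT
    | succ j ih =>
      intro hj
      have hk : rs.length - (j + 1) < rs.length := by omega
      have h1 := ih (by omega)
      have h2 : rs.length - j = (rs.length - (j + 1)) + 1 := by omega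
      rw [h2, ofList_take_succ rs _ hk] at h1
      exact (torVanish_step_bwd N (hm _ (List.getElem_mem hk)) (regular_quot hA _ hk) h1).1
  refine ⟨fun k hk => ?_⟩
  have h1 := key (rs.length - (k + 1)) (by omega)
  have h2 : rs.length - (rs.length - (k + 1)) = k + 1 := by omega
  rw [h2, ofList_take_succ rs k hk] at h1
  exact (torVanish_step_bwd N (hm _ (List.getElem_mem hk)) (regular_quot hA k hk) h1).2

end Chain

end Groth.Agent.Lib.Helper21.TorSeq
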