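import Mathlib
import Groth.Agent.Lib.Helper21.PolyPDA
import Groth.Agent.Lib.Helper21.TorSeq
import Groth.Agent.Lib.Helper21.GrSyzIrrel
import Groth.Agent.Lib.Helper21.DepthKit8
import Groth.Agent.S6880

/-!
# Depth of a polynomial ring at the irrelevant ideal (helper21)
-/

set_option autoImplicit false
universe u

namespace Groth.Agent.Lib.Helper21.PolyDepth

open MvPolynomial RingTheory.Sequence IsLocalRing Module Pointwise GrSyz
open Groth.Agent.Lib.Helper21.PolyPD Groth.Agent.Lib.Helper21.DepthKit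

section Max

variable {A : Type u} [CommRing A] [IsNoetherianRing A]
variable {M : Type u} [AddCommGroup M] [Module A M] [Module.Finite A M]

/-- for a maximal ideal, `depth_𝔪 M = depth M_𝔪`. -/
theorem idealDepth_eq_depth_of_isMaximal (𝔪 : Ideal A) [h𝔪 : 𝔪.IsMaximal] :
    LocCoh.idealDepth 𝔪 M =
      LocCoh.depth (Localization.AtPrime 𝔪) (LocalizedModule 𝔪.primeCompl M) := by
  rw [idealDepth_eq_iInf_depth_localization]
  apply le_antisymm
  · exact iInf₂_le_of_le ⟨𝔪, inferInstance⟩ le_rfl le_rfl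
  · refine le_iInf₂ fun p hp => ?_
    have hpe : p = ⟨𝔪, inferInstance⟩ :=
      PrimeSpectrum.ext (h𝔪.eq_of_le p.2.ne_top hp).symm
    rw [hpe]

end Max

section Poly

variable (k : Type u) [Field k] (m : ℕ)

lemma ofList_take_X (j : ℕ) (hj : j ≤ m) :
    Ideal.ofList ((List.ofFn (fun i : Fin m => (X i : MvPolynomial (Fin m) k))).take j) =
      I k m j := by
  induction j with
  | zero => rw [List.take_zero, Ideal.ofList_nil, I_zero]
  | succ j ih =>
    have hj' : j < m := hj
    rw [TorSeq.ofList_take_succ _ j (by simpa using hj'), ih (by omega), I_succ k m hj']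
    congr 2
    simp

theorem isWeaklyRegular_X :
    IsWeaklyRegular (MvPolynomial (Fin m) k)
      (List.ofFn (fun i : Fin m => (X i : MvPolynomial (Fin m) k))) := by
  refine ⟨fun j hj => ?_⟩
  have hj' : j < m := by simpa using hj
  rw [isSMulRegular_iff_right_eq_zero_of_smul]
  intro y hy
  obtain ⟨f, rfl⟩ := Submodule.Quotient.mk_surjective _ y
  rw [← Submodule.Quotient.mk_smul, Submodule.Quotient.mk_eq_zero] at hy
  rw [Submodule.Quotient.mk_eq_zero]
  have hI : (Ideal.ofList ((List.ofFn (fun i : Fin m => (X i : MvPolynomial (Fin m) k))).take j) •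
      ⊤ : Submodule (MvPolynomial (Fin m) k) (MvPolynomial (Fin m) k)) = I k m j := by
    rw [smul_eq_mul, Ideal.mul_top, ofList_take_X k m j (by omega)]
  rw [hI] at hy ⊢
  have hx : (List.ofFn (fun i : Fin m => (X i : MvPolynomial (Fin m) k)))[j] = X ⟨j, hj'⟩ := by
    simp
  rw [hx, smul_eq_mul] at hy
  exact regular k m hj' hy

lemma irrel_eq_I : (irrel (stdGr k (Fin m))).toIdeal = I k m m := by
  rw [Groth.Agent.Lib.Helper21.GrSyzIrrel.irrel_eq_ker, I_top_eq_ker]

theorem idealDepth_irrel_self :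
    LocCoh.idealDepth (irrel (stdGr k (Fin m))).toIdeal (MvPolynomial (Fin m) k) = m := by
  set 𝔪 := (irrel (stdGr k (Fin m))).toIdeal with h𝔪
  haveI : 𝔪.IsMaximal := Groth.Agent.Lib.Helper21.GrSyzIrrel.irrel_isMaximal k (Fin m)
  apply le_antisymm
  · have hp : (⟨𝔪, inferInstance⟩ : PrimeSpectrum (MvPolynomial (Fin m) k)) ∈
        Module.support (MvPolynomial (Fin m) k) (MvPolynomial (Fin m) k) := by
      rw [Module.support_eq_zeroLocus, Module.annihilator_eq_bot.2 inferInstance]
      simp
    have h1 := idealDepth_le_supportDim_localization 𝔪 ⟨𝔪, inferInstance⟩ le_rfl hp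
    rw [supportDim_eq_of_equiv (Groth.Agent.S6880.locSelfEquiv 𝔪), supportDim_self_eq_ringKrullDim,
      IsLocalization.AtPrime.ringKrullDim_eq_height 𝔪] at h1
    have h2 : ((𝔪.height : ℕ∞) : WithBot ℕ∞) ≤ ringKrullDim (MvPolynomial (Fin m) k) :=
      Ideal.height_le_ringKrullDim_of_ne_top (Ideal.IsPrime.ne_top inferInstance)
    rw [MvPolynomial.ringKrullDim_of_isNoetherianRing, ringKrullDim_eq_zero_of_field] at h2
    have h3 := h1.trans h2
    simp only [Nat.card_eq_fintype_card, Fintype.card_fin, zero_add] at h3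
    exact_mod_cast h3
  · have h := length_le_idealDepth (I := 𝔪) _ (isWeaklyRegular_X k m) (fun r hr => by
      obtain ⟨i, rfl⟩ := (List.mem_ofFn' _ _).1 hr
      rw [h𝔪, irrel_eq_I]
      exact X_mem_I k m i.2)
    simpa using h

theorem depth_localization_irrel :
    LocCoh.depth (Localization.AtPrime (irrel (stdGr k (Fin m))).toIdeal)
      (Localization.AtPrime (irrel (stdGr k (Fin m))).toIdeal) = m := by
  haveI : ((irrel (stdGr k (Fin m))).toIdeal).IsMaximal :=
    Groth.Agent.Lib.Helper21.GrSyzIrrel.irrel_isMaximal k (Fin m)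
  rw [← depth_congr (Groth.Agent.S6880.locSelfEquiv _), ← idealDepth_eq_depth_of_isMaximal,
    idealDepth_irrel_self]

end Poly

end Groth.Agent.Lib.Helper21.PolyDepth
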