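import Mathlib
import Groth.Agent.Lib.Helper21.DepthKit12
import Groth.Agent.Lib.Helper21.FlatLocal5

/-!
# Helper21 — MCop1: codepth of a module at most `k`, local algebra
-/

set_option autoImplicit false

namespace Groth.Agent.Lib.Helper21.MCop

open IsLocalRing TensorProduct Module
open Groth.Agent.Lib.Helper21

universe u

/-- the codepth of the module `M` over the local ring `R` is at most `k`
(the zero module qualifies). -/
def McopLE (R : Type u) [CommRing R] [IsLocalRing R] (M : Type u) [AddCommGroup M] [Module R M]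
    (k : ℕ) : Prop :=
  Module.supportDim R M ≤ ((LocCoh.depth R M : ℕ∞) : WithBot ℕ∞) + k

section Basic

variable {R : Type u} [CommRing R] [IsLocalRing R] {M : Type u} [AddCommGroup M] [Module R M]

theorem mcopLE_of_subsingleton [Subsingleton M] (k : ℕ) : McopLE R M k := by
  unfold McopLE
  rw [Module.supportDim_eq_bot_of_subsingleton]
  exact bot_le

theorem mcopLE_congr {M' : Type u} [AddCommGroup M'] [Module R M'] (e : M ≃ₗ[R] M') (k : ℕ) :
    McopLE R M k ↔ McopLE R M' k := by
  unfold McopLE
  have h1 : LocCoh.depth R M = LocCoh.depth R M' := DepthKit.idealDepth_congr _ e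
  rw [Module.supportDim_eq_of_equiv e, h1]

theorem mcopLE_semilinear {S : Type u} [CommRing S] [IsLocalRing S] {Y : Type u} [AddCommGroup Y]
    [Module S Y] [Module.Finite S Y] (φ : R →+* S) (hφ : Function.Surjective φ) (e : M ≃+ Y)
    (he : ∀ (a : R) (x : M), e (a • x) = φ a • e x) (k : ℕ) :
    McopLE R M k ↔ McopLE S Y k := by
  unfold McopLE
  rw [DepthKit.supportDim_eq_of_semilinear φ hφ e he, DepthKit.depth_eq_of_semilinear φ hφ e he]

theorem mcopLE_of_supportDim_le (k : ℕ) (h : Module.supportDim R M ≤ k) : McopLE R M k := by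
  unfold McopLE
  refine h.trans ?_
  have h0 : ((0 : ℕ∞) : WithBot ℕ∞) ≤ ((LocCoh.depth R M : ℕ∞) : WithBot ℕ∞) :=
    WithBot.coe_le_coe.mpr zero_le
  calc (k : WithBot ℕ∞) = ((0 : ℕ∞) : WithBot ℕ∞) + k := by simp
    _ ≤ _ := by gcongr

theorem mcopLE_mono {k m : ℕ} (hkm : k ≤ m) (h : McopLE R M k) : McopLE R M m := by
  unfold McopLE at h ⊢
  refine h.trans ?_
  gcongr

end Basic

section Flat

variable {R S : Type u} [CommRing R] [CommRing S] [IsLocalRing R] [IsLocalRing S]
  [IsNoetherianRing R] [IsNoetherianRing S] [Algebra R S] [IsLocalHom (algebraMap R S)]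

/-- **codepth along a flat local homomorphism with Cohen–Macaulay source**: the codepth of `N` is the
codepth of its closed fibre. -/
theorem mcopLE_flat_iff (hR : LocCoh.IsCohenMacaulayLocalRing R)
    (N : Type u) [AddCommGroup N] [Module S N] [Module R N] [IsScalarTower R S N]
    [Module.Finite S N] [Module.Flat R N] (k : ℕ) :
    McopLE S N k ↔ McopLE S (FlatLocal.fibre R S N) k := by
  by_cases hN : Subsingleton N
  · haveI : Subsingleton (FlatLocal.fibre R S N) := Quotient.instSubsingletonQuotient _
    exact ⟨fun _ => mcopLE_of_subsingleton k, fun _ => mcopLE_of_subsingleton k⟩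
  rw [not_subsingleton_iff_nontrivial] at hN
  haveI : Nontrivial (FlatLocal.fibre R S N) := FlatLocal.nontrivial_fibre N
  have e : N ⊗[R] R ≃ₗ[S] N := TensorProduct.AlgebraTensorModule.rid R S N
  have h1 := FlatLocal.depth_tensor (R := R) (S := S) N R
  have h2 := FlatLocal.supportDim_tensor (R := R) (S := S) N R
  have h0 : LocCoh.depth S (N ⊗[R] R) = LocCoh.depth S N := DepthKit.idealDepth_congr _ e
  rw [h0] at h1
  rw [Module.supportDim_eq_of_equiv e] at h2
  have h3 := hR.supportDim_eq_depth
  obtain ⟨a, ha⟩ := DepthKit.exists_nat_depth (A := R) (M := R)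
  obtain ⟨x, hx⟩ := DepthKit.exists_nat_supportDim (A := S) (M := FlatLocal.fibre R S N)
  obtain ⟨y, hy⟩ := DepthKit.exists_nat_depth (A := S) (M := FlatLocal.fibre R S N)
  unfold McopLE
  rw [h1, h2, h3, ha, hx, hy]
  constructor
  · intro h
    have h' : a + x ≤ a + y + k := by exact_mod_cast h
    have : x ≤ y + k := by omega
    exact_mod_cast this
  · intro h
    have h' : x ≤ y + k := by exact_mod_cast h
    have : a + x ≤ a + y + k := by omega
    exact_mod_cast this

end Flat

end Groth.Agent.Lib.Helper21.MCop
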