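import Mathlib
import Groth.Agent.Lib.Helper7.FibreCMComp
import Groth.Agent.Lib.Helper21.MCop1

/-!
# Helper21 — MCop2: the codepth of the closed fibre of a module along a composite
-/

set_option autoImplicit false

namespace Groth.Agent.Lib.Helper21.MCop

open IsLocalRing TensorProduct Module Pointwise
open Groth.Agent.Lib.Helper21 Groth.Agent.Lib.Helper7.FibreCMComp

universe u

variable (A B C : Type u) [CommRing A] [CommRing B] [CommRing C]
  [IsLocalRing A] [IsLocalRing B] [IsLocalRing C]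
  [Algebra A B] [Algebra B C] [Algebra A C] [IsScalarTower A B C]
  [IsLocalHom (algebraMap A B)] [IsLocalHom (algebraMap B C)]
  (N : Type u) [AddCommGroup N] [Module C N] [Module B N] [IsScalarTower B C N]

/-- the `B̄`-module structure on `N / m_A N`. -/
noncomputable abbrev modBar : Module (B ⧸ IB A B) (N ⧸ (IC A B C • (⊤ : Submodule C N))) :=
  Module.compHom _ (algebraMap (B ⧸ IB A B) (C ⧸ IC A B C))

attribute [local instance] modBar

instance towerBar : IsScalarTower (B ⧸ IB A B) (C ⧸ IC A B C)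
    (N ⧸ (IC A B C • (⊤ : Submodule C N))) :=
  IsScalarTower.of_algebraMap_smul fun _ _ => rfl

instance towerB : IsScalarTower B (B ⧸ IB A B) (N ⧸ (IC A B C • (⊤ : Submodule C N))) := by
  refine IsScalarTower.of_algebraMap_smul fun b x => ?_
  obtain ⟨n, rfl⟩ := Submodule.Quotient.mk_surjective _ x
  show (algebraMap (B ⧸ IB A B) (C ⧸ IC A B C) (Ideal.Quotient.mk _ b)) •
    (Submodule.Quotient.mk n : N ⧸ (IC A B C • (⊤ : Submodule C N))) =
      b • (Submodule.Quotient.mk n : N ⧸ (IC A B C • (⊤ : Submodule C N)))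
  rw [Ideal.Quotient.algebraMap_quotient_map_quotient]
  show (Submodule.Quotient.mk (algebraMap B C b • n) : N ⧸ (IC A B C • (⊤ : Submodule C N))) =
    Submodule.Quotient.mk (b • n)
  rw [algebraMap_smul]

/-- base change of flatness to the closed fibres. -/
theorem flat_bar_module [Module.Flat B N] :
    Module.Flat (B ⧸ IB A B) (N ⧸ (IC A B C • (⊤ : Submodule C N))) := by
  have hset : (IB A B) • (⊤ : Submodule B N) =
      (IC A B C • (⊤ : Submodule C N)).restrictScalars B := by
    have := Ideal.smul_restrictScalars (IB A B) (⊤ : Submodule C N)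
    rw [this]
    rfl
  let ε₀ : (N ⧸ (IB A B) • (⊤ : Submodule B N)) ≃ₗ[B] (N ⧸ (IC A B C • (⊤ : Submodule C N))) :=
    (Submodule.quotEquivOfEq _ _ hset) ≪≫ₗ
      Submodule.Quotient.restrictScalarsEquiv B (IC A B C • (⊤ : Submodule C N))
  let ε : (N ⧸ (IB A B) • (⊤ : Submodule B N)) ≃ₗ[B ⧸ IB A B]
      (N ⧸ (IC A B C • (⊤ : Submodule C N))) :=
    ε₀.extendScalarsOfSurjective Ideal.Quotient.mk_surjective
  haveI : Module.Flat (B ⧸ IB A B) ((B ⧸ IB A B) ⊗[B] N) := inferInstance
  haveI : Module.Flat (B ⧸ IB A B) (N ⧸ (IB A B) • (⊤ : Submodule B N)) :=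
    Module.Flat.of_linearEquiv
      ((TensorProduct.quotTensorEquivQuotSMul N (IB A B)).extendScalarsOfSurjective
        Ideal.Quotient.mk_surjective).symm
  exact Module.Flat.of_linearEquiv ε.symm

set_option maxHeartbeats 1600000 in
set_option synthInstance.maxHeartbeats 200000 in
/-- the closed fibre of `N / m_A N` over `B̄` is `N / m_B N`, semilinearly along `C → C̄`. -/
theorem exists_fibre_semilinear :
    ∃ e : (N ⧸ (JC B C • (⊤ : Submodule C N))) ≃+
        FlatLocal.fibre (B ⧸ IB A B) (C ⧸ IC A B C) (N ⧸ (IC A B C • (⊤ : Submodule C N))),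
      ∀ (c : C) (x : N ⧸ (JC B C • (⊤ : Submodule C N))),
        e (c • x) = Ideal.Quotient.mk (IC A B C) c • e x := by
  set 𝔪 : Ideal (C ⧸ IC A B C) :=
    (maximalIdeal (B ⧸ IB A B)).map (algebraMap (B ⧸ IB A B) (C ⧸ IC A B C)) with h𝔪def
  have h𝔪 : 𝔪 = (JC B C).map (algebraMap C (C ⧸ IC A B C)) := by
    rw [h𝔪def, ← IsLocalRing.map_maximalIdeal_of_surjective (Ideal.Quotient.mk (IB A B))
      Ideal.Quotient.mk_surjective]
    have e1 := Ideal.map_map (I := maximalIdeal B) (Ideal.Quotient.mk (IB A B))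
      (algebraMap (B ⧸ IB A B) (C ⧸ IC A B C))
    have e2 := Ideal.map_map (I := maximalIdeal B) (algebraMap B C)
      (Ideal.Quotient.mk (IC A B C))
    rw [e1]
    exact e2.symm
  haveI tw : IsScalarTower C (C ⧸ IC A B C) (N ⧸ (IC A B C • (⊤ : Submodule C N))) :=
    IsScalarTower.of_algebraMap_smul fun _ _ => rfl
  let q1 : N →ₗ[C] (N ⧸ (IC A B C • (⊤ : Submodule C N))) :=
    (IC A B C • (⊤ : Submodule C N)).mkQ
  have hq1 : Function.Surjective q1 := Submodule.mkQ_surjective _
  let P : Submodule (C ⧸ IC A B C) (N ⧸ (IC A B C • (⊤ : Submodule C N))) := 𝔪 • ⊤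
  haveI tw2 : IsScalarTower C (C ⧸ IC A B C) ((N ⧸ (IC A B C • (⊤ : Submodule C N))) ⧸ P) :=
    IsScalarTower.of_algebraMap_smul fun c x => by
      obtain ⟨y, rfl⟩ := Submodule.Quotient.mk_surjective _ x
      rfl
  let q2 : (N ⧸ (IC A B C • (⊤ : Submodule C N))) →ₗ[C]
      ((N ⧸ (IC A B C • (⊤ : Submodule C N))) ⧸ P) := P.mkQ.restrictScalars C
  have hq2 : Function.Surjective q2 := Submodule.mkQ_surjective _
  let π : N →ₗ[C] ((N ⧸ (IC A B C • (⊤ : Submodule C N))) ⧸ P) := q2.comp q1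
  have hπ : Function.Surjective π := hq2.comp hq1
  have hP : P.restrictScalars C = (JC B C • (⊤ : Submodule C N)).map q1 := by
    show (𝔪 • (⊤ : Submodule (C ⧸ IC A B C) _)).restrictScalars C = _
    rw [h𝔪, Ideal.smul_restrictScalars, Submodule.map_smul'', Submodule.map_top,
      LinearMap.range_eq_top.2 hq1]
    rfl
  have hker : LinearMap.ker π = JC B C • (⊤ : Submodule C N) := by
    ext x
    rw [LinearMap.mem_ker]
    show q2 (q1 x) = 0 ↔ _
    have h1 : q2 (q1 x) = 0 ↔ q1 x ∈ P.restrictScalars C := by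
      show P.mkQ (q1 x) = 0 ↔ _
      rw [Submodule.mkQ_apply, Submodule.Quotient.mk_eq_zero]
      rfl
    rw [h1, hP]
    constructor
    · rintro ⟨y, hy, hyx⟩
      have h2 : x - y ∈ IC A B C • (⊤ : Submodule C N) := by
        rw [← Submodule.ker_mkQ (IC A B C • (⊤ : Submodule C N)), LinearMap.mem_ker, map_sub]
        exact sub_eq_zero.2 hyx.symm
      have h3 : IC A B C • (⊤ : Submodule C N) ≤ JC B C • (⊤ : Submodule C N) :=
        Submodule.smul_mono_left (IC_le_JC A B C)
      have : x = y + (x - y) := by abel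
      rw [this]
      exact Submodule.add_mem _ hy (h3 h2)
    · intro hx
      exact ⟨x, hx, rfl⟩
  let e : (N ⧸ (JC B C • (⊤ : Submodule C N))) ≃ₗ[C]
      ((N ⧸ (IC A B C • (⊤ : Submodule C N))) ⧸ P) :=
    (Submodule.quotEquivOfEq _ _ hker.symm) ≪≫ₗ (π.quotKerEquivOfSurjective hπ)
  refine ⟨e.toAddEquiv, fun c x => ?_⟩
  show e (c • x) = _
  rw [map_smul]
  exact (algebraMap_smul (C ⧸ IC A B C) c (e x)).symm

set_option maxHeartbeats 1600000 in
set_option synthInstance.maxHeartbeats 200000 in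
/-- **codepth of the closed fibres of a module along a composite**: for local homomorphisms
`A → B → C`, `N` a finite `C`-module flat over `B`, and `B / m_A B` Cohen–Macaulay, the codepths of
`N / m_A N` and `N / m_B N` agree. -/
theorem mq_comp_iff [IsNoetherianRing (C ⧸ IC A B C)]
    (hB : LocCoh.IsCohenMacaulayLocalRing (B ⧸ IB A B)) [Module.Finite C N] [Module.Flat B N]
    (k : ℕ) :
    McopLE C (N ⧸ (IC A B C • (⊤ : Submodule C N))) k ↔
      McopLE C (N ⧸ (JC B C • (⊤ : Submodule C N))) k := by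
  haveI : IsNoetherianRing (B ⧸ IB A B) := by haveI := hB; infer_instance
  haveI := flat_bar_module A B C N
  haveI tw : IsScalarTower C (C ⧸ IC A B C) (N ⧸ (IC A B C • (⊤ : Submodule C N))) :=
    IsScalarTower.of_algebraMap_smul fun _ _ => rfl
  haveI : Module.Finite (C ⧸ IC A B C) (N ⧸ (IC A B C • (⊤ : Submodule C N))) :=
    Module.Finite.of_restrictScalars_finite C _ _
  have h1 := mcopLE_flat_iff (R := B ⧸ IB A B) (S := C ⧸ IC A B C) hB
    (N ⧸ (IC A B C • (⊤ : Submodule C N))) k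
  have hsurj : Function.Surjective (Ideal.Quotient.mk (IC A B C)) := Ideal.Quotient.mk_surjective
  have h2 : McopLE C (N ⧸ (IC A B C • (⊤ : Submodule C N))) k ↔
      McopLE (C ⧸ IC A B C) (N ⧸ (IC A B C • (⊤ : Submodule C N))) k :=
    mcopLE_semilinear (Ideal.Quotient.mk (IC A B C)) hsurj (AddEquiv.refl _)
      (fun c x => (algebraMap_smul (C ⧸ IC A B C) c x).symm) k
  obtain ⟨e, he⟩ := exists_fibre_semilinear A B C N
  have h3 : McopLE C (N ⧸ (JC B C • (⊤ : Submodule C N))) k ↔
      McopLE (C ⧸ IC A B C)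
        (FlatLocal.fibre (B ⧸ IB A B) (C ⧸ IC A B C) (N ⧸ (IC A B C • (⊤ : Submodule C N)))) k :=
    mcopLE_semilinear (Ideal.Quotient.mk (IC A B C)) hsurj e he k
  rw [h2, h1, h3]

end Groth.Agent.Lib.Helper21.MCop
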