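import Mathlib
import Groth.Prelude.Def_EGA4b
import Groth.Agent.Lib.Helper21.MCop2
import Groth.Agent.Lib.Helper21.CMKit
import Groth.Agent.Lib.Helper21.FibreBCAlg
import Groth.Agent.Lib.Helper21.FlatLocal6

/-!
# Helper21 — MCop3: fibre local rings as localizations of fibre rings
-/

set_option autoImplicit false

namespace Groth.Agent.Lib.Helper21.MCop

open IsLocalRing TensorProduct Module
open Groth.Agent.Lib.Helper21

universe u

section FibLoc

variable (R S : Type u) [CommRing R] [CommRing S] [Algebra R S]

/-- the fibre local ring at the contraction of a prime of the fibre ring is the localization of the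
fibre ring. -/
theorem nonempty_fibLocRing_equiv_aux (p : Ideal R) [p.IsPrime] (Q : Ideal (p.Fiber S)) [Q.IsPrime] :
    Nonempty (EGA4.FibLocRing R S (Q.comap (Algebra.TensorProduct.includeRight :
      S →ₐ[R] p.Fiber S)) ≃+* Localization.AtPrime Q) := by
  set r := Q.comap (Algebra.TensorProduct.includeRight : S →ₐ[R] p.Fiber S) with hr
  have e := Ideal.Fiber.algEquivAux₂ p Q
  have hp : r.comap (algebraMap R S) = p := by
    have h1 : Q.LiesOver p := inferInstance
    have h2 := h1.over
    rw [h2, Ideal.under, hr]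
    ext x
    simp only [Ideal.mem_comap]
    have : (Algebra.TensorProduct.includeRight : S →ₐ[R] p.Fiber S) (algebraMap R S x) =
        algebraMap R (p.Fiber S) x := AlgHom.commutes _ x
    rw [this]
  have hI : (r.comap (algebraMap R S)).map (algebraMap R (Localization.AtPrime r)) =
      (p.map (algebraMap R S)).map (algebraMap S (Localization.AtPrime r)) := by
    rw [hp, Ideal.map_map, ← IsScalarTower.algebraMap_eq]
  exact ⟨(Ideal.quotEquivOfEq hI).trans e.symm.toRingEquiv⟩

/-- the fibre local ring at a prime is a localization of the fibre ring. -/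
theorem exists_fibLocRing_equiv (r : Ideal S) [r.IsPrime] :
    ∃ (Q : Ideal ((r.under R).Fiber S)) (_ : Q.IsPrime),
      Nonempty (EGA4.FibLocRing R S r ≃+* Localization.AtPrime Q) := by
  let p : PrimeSpectrum R := ⟨r.under R, inferInstance⟩
  let r' : PrimeSpectrum.comap (algebraMap R S) ⁻¹' {p} := ⟨⟨r, inferInstance⟩, rfl⟩
  let Q := PrimeSpectrum.preimageEquivFiber R S p r'
  have hQ : Q.asIdeal.comap (Algebra.TensorProduct.includeRight :
      S →ₐ[R] (r.under R).Fiber S) = r := by
    have := (PrimeSpectrum.preimageEquivFiber R S p).left_inv r'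
    have h2 := congrArg (fun z : PrimeSpectrum.comap (algebraMap R S) ⁻¹' {p} => z.1.asIdeal) this
    exact h2
  haveI := Q.isPrime
  obtain ⟨e⟩ := nonempty_fibLocRing_equiv_aux R S (r.under R) Q.asIdeal
  refine ⟨Q.asIdeal, Q.isPrime, ?_⟩
  have key : ∀ (r₁ : Ideal S) [r₁.IsPrime] (h : r₁ = r),
      Nonempty (EGA4.FibLocRing R S r₁ ≃+* EGA4.FibLocRing R S r) := by
    intro r₁ _ h
    subst h
    exact ⟨RingEquiv.refl _⟩
  obtain ⟨e'⟩ := key _ hQ
  exact ⟨e'.symm.trans e⟩

/-- the fibre local rings of a finite type algebra are Noetherian. -/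
theorem isNoetherianRing_fibLocRing [Algebra.FiniteType R S] (r : Ideal S) [r.IsPrime] :
    IsNoetherianRing (EGA4.FibLocRing R S r) := by
  obtain ⟨Q, hQ, ⟨e⟩⟩ := exists_fibLocRing_equiv R S r
  haveI : Algebra.FiniteType (r.under R).ResidueField ((r.under R).Fiber S) := inferInstance
  haveI : IsNoetherianRing ((r.under R).Fiber S) :=
    Algebra.FiniteType.isNoetherianRing (r.under R).ResidueField _
  haveI : IsNoetherianRing (Localization.AtPrime Q) :=
    IsLocalization.isNoetherianRing Q.primeCompl _ inferInstance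
  exact isNoetherianRing_of_ringEquiv _ e.symm

/-- the fibre local rings of a polynomial ring are Cohen–Macaulay. -/
theorem isCM_fibLocRing_mvPolynomial (n : ℕ) (r : Ideal (MvPolynomial (Fin n) R)) [r.IsPrime] :
    LocCoh.IsCohenMacaulayLocalRing (EGA4.FibLocRing R (MvPolynomial (Fin n) R) r) := by
  obtain ⟨Q, hQ, ⟨e⟩⟩ := exists_fibLocRing_equiv R (MvPolynomial (Fin n) R) r
  let ε : (r.under R).Fiber (MvPolynomial (Fin n) R) ≃ₐ[(r.under R).ResidueField]
      MvPolynomial (Fin n) (r.under R).ResidueField :=
    MvPolynomial.algebraTensorAlgEquiv R (r.under R).ResidueField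
  haveI : IsRegularRing ((r.under R).Fiber (MvPolynomial (Fin n) R)) :=
    IsRegularRing.of_ringEquiv ε.symm.toRingEquiv
  have hCM := (CMKit.isCM_of_isRegularRing
    ((r.under R).Fiber (MvPolynomial (Fin n) R))).isCohenMacaulayLocalRing_localization Q
  exact FibreBCAlg.isCMLocal_of_ringEquiv e.symm hCM

end FibLoc

section Comp

open Groth.Agent.Lib.Helper21.FlatLocal Groth.Agent.Lib.Helper7.FibreCMComp

variable (A₀ P B : Type u) [CommRing A₀] [CommRing P] [CommRing B] [Algebra A₀ P] [Algebra P B]
  [Algebra A₀ B] [IsScalarTower A₀ P B]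
  (N : Type u) [AddCommGroup N] [Module B N] [Module P N] [IsScalarTower P B N]
  (q : Ideal B) [q.IsPrime]

attribute [local instance] Localization.AtPrime.algebraOfLiesOver
attribute [local instance] moduleLoc

set_option maxHeartbeats 1600000 in
set_option synthInstance.maxHeartbeats 200000 in
/-- **codepth of the fibre modules along a composite `A₀ → P → B`**. -/
theorem mcop_fib_comp_iff [IsNoetherianRing (EGA4.FibLocRing A₀ B q)]
    (hCM : LocCoh.IsCohenMacaulayLocalRing (EGA4.FibLocRing A₀ P (q.under P)))
    [Module.Finite (Localization.AtPrime q) (LocalizedModule q.primeCompl N)]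
    [Module.Flat P (LocalizedModule q.primeCompl N)] (k : ℕ) :
    McopLE (Localization.AtPrime q) (EGA4.FibLocMod A₀ B q N) k ↔
      McopLE (Localization.AtPrime q) (EGA4.FibLocMod P B q N) k := by
  set p' := q.under P with hp'
  set p₀ := q.under A₀ with hp₀
  haveI h1 : q.LiesOver p' := ⟨rfl⟩
  haveI h2 : q.LiesOver p₀ := ⟨rfl⟩
  haveI h3 : p'.LiesOver p₀ := ⟨by rw [hp₀, hp', Ideal.under_under]⟩
  haveI := isLocalHom_loc p₀ p'
  haveI := isLocalHom_loc p' q
  haveI hfl : Module.Flat (Localization.AtPrime p') (LocalizedModule q.primeCompl N) :=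
    (Module.flat_iff_of_isLocalization (Localization.AtPrime p') p'.primeCompl _).2 inferInstance
  have hIC : IC (Localization.AtPrime p₀) (Localization.AtPrime p') (Localization.AtPrime q) =
      (q.comap (algebraMap A₀ B)).map (algebraMap A₀ (Localization.AtPrime q)) := by
    rw [IC_eq]
    exact map_maximalIdeal_loc p₀ q
  have hJC : JC (Localization.AtPrime p') (Localization.AtPrime q) =
      (q.comap (algebraMap P B)).map (algebraMap P (Localization.AtPrime q)) :=
    map_maximalIdeal_loc p' q
  have hIB : IB (Localization.AtPrime p₀) (Localization.AtPrime p') =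
      (p'.comap (algebraMap A₀ P)).map (algebraMap A₀ (Localization.AtPrime p')) := by
    have := map_maximalIdeal_loc p₀ p'
    refine this.trans ?_
    congr 1
    exact h3.over
  haveI : IsNoetherianRing (Localization.AtPrime q ⧸
      IC (Localization.AtPrime p₀) (Localization.AtPrime p') (Localization.AtPrime q)) :=
    isNoetherianRing_of_ringEquiv _ (Ideal.quotEquivOfEq hIC.symm)
  have hCM' : LocCoh.IsCohenMacaulayLocalRing (Localization.AtPrime p' ⧸
      IB (Localization.AtPrime p₀) (Localization.AtPrime p')) :=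
    FibreBCAlg.isCMLocal_of_ringEquiv (Ideal.quotEquivOfEq hIB.symm) hCM
  have key := mq_comp_iff (Localization.AtPrime p₀) (Localization.AtPrime p')
    (Localization.AtPrime q) (LocalizedModule q.primeCompl N) hCM' k
  have e1 : (LocalizedModule q.primeCompl N ⧸
      (IC (Localization.AtPrime p₀) (Localization.AtPrime p') (Localization.AtPrime q) •
        (⊤ : Submodule (Localization.AtPrime q) (LocalizedModule q.primeCompl N))))
      ≃ₗ[Localization.AtPrime q] EGA4.FibLocMod A₀ B q N :=
    Submodule.quotEquivOfEq _ _ (by rw [hIC])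
  have e2 : (LocalizedModule q.primeCompl N ⧸
      (JC (Localization.AtPrime p') (Localization.AtPrime q) •
        (⊤ : Submodule (Localization.AtPrime q) (LocalizedModule q.primeCompl N))))
      ≃ₗ[Localization.AtPrime q] EGA4.FibLocMod P B q N :=
    Submodule.quotEquivOfEq _ _ (by rw [hJC])
  rw [← mcopLE_congr e1 k, ← mcopLE_congr e2 k]
  exact key

end Comp

end Groth.Agent.Lib.Helper21.MCop
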