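import Mathlib
import Groth.Prelude.Def_EGA4b
import Groth.Agent.Lib.Helper21.FibreStalk
import Groth.Agent.Lib.Helper24.FibreDim.Main4944
import Groth.Agent.Lib.Helper18.Chev.Main

/-!
# Helper21 — MCopChev: Chevalley's semicontinuity theorem in terms of fibre local rings of ring maps
-/

set_option autoImplicit false

namespace Groth.Agent.Lib.Helper21.MCop

open AlgebraicGeometry CategoryTheory IsLocalRing
open Groth.Agent.Lib.Helper21.FibreStalk Groth.Agent.Lib.Helper24.FibreDim Groth.Agent.Lib.lead

universe u

section Dict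

variable (R S : Type u) [CommRing R] [CommRing S] [Algebra R S]

/-- the morphism of spectra attached to an algebra. -/
noncomputable abbrev specMap : Spec (CommRingCat.of S) ⟶ Spec (CommRingCat.of R) :=
  Spec.map (CommRingCat.ofHom (algebraMap R S))

set_option maxHeartbeats 800000 in
/-- the local ring of the fibre of `Spec S → Spec R` at a prime is the fibre local ring. -/
theorem nonempty_fiberStalk_specMap_equiv (p : PrimeSpectrum S) :
    Nonempty (((specMap R S).fiber ((specMap R S) p)).presheaf.stalk ((specMap R S).asFiber p) ≃+*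
      EGA4.FibLocRing R S p.asIdeal) := by
  obtain ⟨e⟩ := nonempty_fibreStalkEquiv (specMap R S) p
  let f : CommRingCat.of R ⟶ CommRingCat.of S := CommRingCat.ofHom (algebraMap R S)
  let e₁ := (Spec.stalkIso (CommRingCat.of R) (p.comap f.hom)).commRingCatIsoToRingEquiv
  let e₂ := (Spec.stalkIso (CommRingCat.of S) p).commRingCatIsoToRingEquiv
  let L := Localization.localRingHom (PrimeSpectrum.comap f.hom p).asIdeal p.asIdeal f.hom rfl
  have h3 : ∀ y, (Spec.stalkIso (CommRingCat.of S) p).hom.hom
      ((Spec.stalkIso (CommRingCat.of S) p).inv.hom y) = y := fun y => by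
    rw [← RingHom.comp_apply, ← CommRingCat.hom_comp, Iso.inv_hom_id]; rfl
  have hcomm : ∀ a, e₂ (((specMap R S).stalkMap p).hom a) = L (e₁ a) := by
    intro a
    have h := Scheme.localRingHom_comp_stalkIso f p
    have h2 := congrArg (fun g => (Spec.stalkIso (CommRingCat.of S) p).hom.hom (g.hom a)) h
    simp only [CommRingCat.hom_comp, RingHom.comp_apply] at h2
    rw [h3] at h2
    exact h2.symm
  have hI : (fibIdeal (specMap R S) p).map e₂.toRingHom =
      (p.asIdeal.comap (algebraMap R S)).map (algebraMap R (Localization.AtPrime p.asIdeal)) := by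
    have h1 : (fibIdeal (specMap R S) p).map e₂.toRingHom =
        (maximalIdeal _).map (L.comp e₁.toRingHom) := by
      show ((maximalIdeal _).map ((specMap R S).stalkMap p).hom).map e₂.toRingHom = _
      rw [Ideal.map_map]
      congr 1
      ext a
      exact hcomm a
    rw [h1, ← Ideal.map_map, IsLocalRing.map_maximalIdeal_of_surjective e₁.toRingHom e₁.surjective,
      ← Localization.AtPrime.map_eq_maximalIdeal, Ideal.map_map]
    congr 1
    ext a
    show L (algebraMap R _ a) = algebraMap R (Localization.AtPrime p.asIdeal) a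
    rw [Localization.localRingHom_to_map]
    exact (IsScalarTower.algebraMap_apply R S (Localization.AtPrime p.asIdeal) a).symm
  exact ⟨e.trans (Ideal.quotientEquiv _ _ e₂ hI.symm)⟩

/-- the local dimension of the fibres of `Spec S → Spec R`. -/
noncomputable def fibDim (p : PrimeSpectrum S) : WithBot ℕ∞ :=
  FlatMor.fibreDimAt (specMap R S) p

instance lft_specMap [Algebra.FiniteType R S] : LocallyOfFiniteType (specMap R S) := by
  rw [HasRingHomProperty.Spec_iff (P := @LocallyOfFiniteType)]
  exact RingHom.finiteType_algebraMap.mpr inferInstance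

/-- **Chevalley's semicontinuity theorem**, for spectra. -/
theorem isOpen_fibDim_le [Algebra.FiniteType R S] (k : ℕ) :
    IsOpen {p : PrimeSpectrum S | fibDim R S p ≤ k} :=
  Groth.Agent.Lib.Helper18.Chev.isOpen_fibreDimAt_le (specMap R S) k

theorem ringKrullDim_fibLocRing_le_fibDim [Algebra.FiniteType R S] (p : PrimeSpectrum S) :
    ringKrullDim (EGA4.FibLocRing R S p.asIdeal) ≤ fibDim R S p := by
  obtain ⟨e⟩ := nonempty_fiberStalk_specMap_equiv R S p
  rw [← ringKrullDim_eq_of_ringEquiv e, FibreOrder.ringKrullDim_fiber_stalk]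
  unfold fibDim
  rw [fibreDimAt_eq_tr_add_G]
  exact_mod_cast le_add_self

theorem fibDim_eq_of_closed [Algebra.FiniteType R S] (p : PrimeSpectrum S)
    (hcl : ∀ p' : PrimeSpectrum S, p ≤ p' →
      p'.asIdeal.comap (algebraMap R S) = p.asIdeal.comap (algebraMap R S) → p' = p) :
    fibDim R S p = ringKrullDim (EGA4.FibLocRing R S p.asIdeal) := by
  obtain ⟨e⟩ := nonempty_fiberStalk_specMap_equiv R S p
  rw [← ringKrullDim_eq_of_ringEquiv e, FibreOrder.ringKrullDim_fiber_stalk]
  unfold fibDim
  rw [fibreDimAt_eq_tr_add_G]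
  have htr : tr (specMap R S) p = 0 := by
    apply tr_eq_zero_of_closed
    intro x' h1 h2
    apply hcl x' ((PrimeSpectrum.le_iff_specializes _ _).mpr h2)
    have h3 := congrArg PrimeSpectrum.asIdeal h1
    exact h3
  rw [htr, Nat.cast_zero, zero_add]

end Dict

end Groth.Agent.Lib.Helper21.MCop
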