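import Mathlib
import Groth.Prelude.Def_EGA4b
import Groth.Agent.Lib.Helper7.LocQuotDim

set_option autoImplicit false

namespace Groth.Agent.Lib.Helper21.MCop

universe u

section Supp

variable {B : Type u} [CommRing B] (S : Submonoid B) (N : Type u) [AddCommGroup N] [Module B N]

theorem mk_eq_zero_iff' (n : N) (s : S) :
    LocalizedModule.mk n s = 0 ↔ ∃ t : S, t • n = 0 := by
  rw [IsLocalizedModule.mk_eq_mk', IsLocalizedModule.mk'_eq_zero']

theorem support_localizedModule :
    Module.support (Localization S) (LocalizedModule S N) =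
      PrimeSpectrum.comap (algebraMap B (Localization S)) ⁻¹' Module.support B N := by
  apply subset_antisymm
  · intro p hp
    rw [Module.mem_support_iff'] at hp
    obtain ⟨m, hm⟩ := hp
    induction m using LocalizedModule.induction_on with
    | h n s =>
      rw [Set.mem_preimage, Module.mem_support_iff']
      refine ⟨n, fun b hb h0 => ?_⟩
      refine hm (algebraMap B _ b) hb ?_
      rw [← Localization.mk_one_eq_algebraMap, LocalizedModule.mk_smul_mk, h0,
        LocalizedModule.zero_mk]
  · intro p hp
    rw [Set.mem_preimage, Module.mem_support_iff'] at hp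
    obtain ⟨n, hn⟩ := hp
    rw [Module.mem_support_iff']
    refine ⟨LocalizedModule.mk n 1, ?_⟩
    intro r hr h0
    obtain ⟨b, s, rfl⟩ := IsLocalization.exists_mk'_eq S r
    rw [← Localization.mk_eq_mk'_apply, LocalizedModule.mk_smul_mk, mk_eq_zero_iff'] at h0
    obtain ⟨t, ht⟩ := h0
    rw [Submonoid.smul_def, ← mul_smul] at ht
    refine hn _ ?_ ht
    show algebraMap B (Localization S) ((t : B) * b) ∉ p.asIdeal
    rw [map_mul]
    intro hmem
    rcases p.isPrime.mem_or_mem hmem with h1 | h1
    · exact p.isPrime.ne_top (Ideal.eq_top_of_isUnit_mem _ h1 (IsLocalization.map_units _ t))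
    · apply hr
      rw [IsLocalization.mk'_eq_mul_mk'_one]
      exact Ideal.mul_mem_right _ _ h1

end Supp

section AlgDim

variable (P B : Type u) [CommRing P] [CommRing B] [Algebra P B]
  (N : Type u) [AddCommGroup N] [Module B N] [Module.Finite B N]

theorem support_fibLocMod (q : Ideal B) [q.IsPrime] :
    Module.support (Localization.AtPrime q) (EGA4.FibLocMod P B q N) =
      PrimeSpectrum.zeroLocus
        (((Module.annihilator B N).map (algebraMap B (Localization.AtPrime q)) ⊔
        (q.comap (algebraMap P B)).map (algebraMap P (Localization.AtPrime q)) : Ideal _) : Set _) := by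
  rw [Module.support_quotient, support_localizedModule, Module.support_eq_zeroLocus,
    PrimeSpectrum.preimage_comap_zeroLocus, PrimeSpectrum.zeroLocus_sup]
  congr 1
  rw [Ideal.map, PrimeSpectrum.zeroLocus_span]

theorem supportDim_fibLocMod (q : Ideal B) [q.IsPrime] :
    Module.supportDim (Localization.AtPrime q) (EGA4.FibLocMod P B q N) =
      ringKrullDim (Localization.AtPrime q ⧸
        ((Module.annihilator B N).map (algebraMap B (Localization.AtPrime q)) ⊔
        (q.comap (algebraMap P B)).map (algebraMap P (Localization.AtPrime q)))) := by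
  rw [ringKrullDim_quotient, Module.supportDim, support_fibLocMod]

end AlgDim

section QuotIso

variable (P B : Type u) [CommRing P] [CommRing B] [Algebra P B]

theorem ringKrullDim_fibLocRing_quotient (I : Ideal B) (z : Ideal (B ⧸ I)) [z.IsPrime] :
    ringKrullDim (EGA4.FibLocRing P (B ⧸ I) z) =
      ringKrullDim (Localization.AtPrime (z.comap (Ideal.Quotient.mk I)) ⧸
        (I.map (algebraMap B (Localization.AtPrime (z.comap (Ideal.Quotient.mk I)))) ⊔
        ((z.comap (Ideal.Quotient.mk I)).comap (algebraMap P B)).map
          (algebraMap P (Localization.AtPrime (z.comap (Ideal.Quotient.mk I)))))) := by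
  set q : Ideal B := z.comap (Ideal.Quotient.mk I) with hq
  have hIq : I ≤ q := fun x hx => by
    show Ideal.Quotient.mk I x ∈ z
    rw [Ideal.Quotient.eq_zero_iff_mem.mpr hx]; exact z.zero_mem
  have hzq : q.map (Ideal.Quotient.mk I) = z :=
    Ideal.map_comap_of_surjective _ Ideal.Quotient.mk_surjective z
  haveI : (q.map (Ideal.Quotient.mk I)).IsPrime := hzq ▸ inferInstance
  haveI hloc : IsLocalization.AtPrime
      (Localization.AtPrime q ⧸ I.map (algebraMap B (Localization.AtPrime q))) z := by
    have : IsLocalization.AtPrime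
      (Localization.AtPrime q ⧸ I.map (algebraMap B (Localization.AtPrime q)))
        (q.map (Ideal.Quotient.mk I)) := by
      unfold IsLocalization.AtPrime
      rw [← Groth.Agent.Lib.Helper7.LocQuotDim.algebraMapSubmonoid_primeCompl B q I hIq]
      infer_instance
    convert this
    all_goals exact hzq.symm
  let e : Localization.AtPrime z ≃ₐ[B ⧸ I]
      (Localization.AtPrime q ⧸ I.map (algebraMap B (Localization.AtPrime q))) :=
    IsLocalization.algEquiv z.primeCompl _ _
  set Iq := I.map (algebraMap B (Localization.AtPrime q)) with hIq'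
  set 𝔭 := (q.comap (algebraMap P B)).map (algebraMap P (Localization.AtPrime q)) with h𝔭
  have hcomap : z.comap (algebraMap P (B ⧸ I)) = q.comap (algebraMap P B) := by
    rw [hq, Ideal.comap_comap]; rfl
  have hJ : ((z.comap (algebraMap P (B ⧸ I))).map (algebraMap P (Localization.AtPrime z))).map
      e.toRingEquiv.toRingHom = 𝔭.map (Ideal.Quotient.mk Iq) := by
    rw [hcomap, h𝔭, Ideal.map_map, Ideal.map_map]
    congr 1
    ext a
    show e (algebraMap P (Localization.AtPrime z) a) =
      Ideal.Quotient.mk Iq (algebraMap P (Localization.AtPrime q) a)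
    rw [IsScalarTower.algebraMap_apply P (B ⧸ I) (Localization.AtPrime z), e.commutes,
      IsScalarTower.algebraMap_apply P B (Localization.AtPrime q)]
    rfl
  have h2 : ringKrullDim ((Localization.AtPrime q ⧸ Iq) ⧸ 𝔭.map (Ideal.Quotient.mk Iq)) =
      ringKrullDim (Localization.AtPrime q ⧸ Iq ⊔ 𝔭) :=
    ringKrullDim_eq_of_ringEquiv (DoubleQuot.quotQuotEquivQuotSup Iq 𝔭)
  exact (ringKrullDim_eq_of_ringEquiv (Ideal.quotientEquiv _ _ e.toRingEquiv hJ.symm)).trans h2

end QuotIso

section Main

variable (P B : Type u) [CommRing P] [CommRing B] [Algebra P B]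
  (N : Type u) [AddCommGroup N] [Module B N] [Module.Finite B N]

/-- the dimension of the fibre local ring of `B ⧸ Ann N` is the dimension of the support of the
fibre module. -/
theorem ringKrullDim_fibLocRing_annihilator (z : Ideal (B ⧸ Module.annihilator B N)) [z.IsPrime] :
    ringKrullDim (EGA4.FibLocRing P (B ⧸ Module.annihilator B N) z) =
      Module.supportDim (Localization.AtPrime (z.comap (Ideal.Quotient.mk (Module.annihilator B N))))
        (EGA4.FibLocMod P B (z.comap (Ideal.Quotient.mk (Module.annihilator B N))) N) := by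
  rw [ringKrullDim_fibLocRing_quotient, supportDim_fibLocMod]

end Main

end Groth.Agent.Lib.Helper21.MCop
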