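import Mathlib
import Groth.Prelude.Def_EGA4b
import Groth.Agent.Lib.Helper21.MCop3
import Groth.Agent.Lib.Helper21.MCopChev
import Groth.Agent.Lib.Helper21.MCopDim
import Groth.Agent.Lib.Helper21.FlatDescI

set_option autoImplicit false

namespace Groth.Agent.Lib.Helper21.MCop

universe u

section LemmaA

variable (A₀ P B : Type u) [CommRing A₀] [CommRing P] [CommRing B] [Algebra A₀ P] [Algebra P B]
  [Algebra A₀ B] [IsScalarTower A₀ P B]
  (N : Type u) [AddCommGroup N] [Module B N] [Module P N] [IsScalarTower P B N]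

set_option maxHeartbeats 800000 in
theorem lemmaA [Algebra.FinitePresentation P B] [Algebra.FiniteType A₀ B]
    [Module.FinitePresentation B N]
    (hPCM : ∀ (r : Ideal P) [r.IsPrime], LocCoh.IsCohenMacaulayLocalRing (EGA4.FibLocRing A₀ P r))
    (k : ℕ) (q : PrimeSpectrum B)
    (hflat : Module.Flat P (LocalizedModule q.asIdeal.primeCompl N))
    (hdim : Module.supportDim (Localization.AtPrime q.asIdeal)
      (EGA4.FibLocMod P B q.asIdeal N) ≤ k)
    (hcl : ∀ q' : PrimeSpectrum B, q ≤ q' →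
      q'.asIdeal.comap (algebraMap P B) = q.asIdeal.comap (algebraMap P B) → q' = q) :
    ∃ U : Set (PrimeSpectrum B), IsOpen U ∧ q ∈ U ∧ ∀ q' ∈ U,
      Module.Flat P (LocalizedModule q'.asIdeal.primeCompl N) ∧
      McopLE (Localization.AtPrime q'.asIdeal) (EGA4.FibLocMod A₀ B q'.asIdeal N) k := by
  classical
  set I := Module.annihilator B N with hI
  let π : PrimeSpectrum (B ⧸ I) → PrimeSpectrum B := PrimeSpectrum.comap (Ideal.Quotient.mk I)
  have hπ : Topology.IsClosedEmbedding π :=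
    PrimeSpectrum.isClosedEmbedding_comap_of_surjective _ _ Ideal.Quotient.mk_surjective
  let V : Set (PrimeSpectrum (B ⧸ I)) := {z | fibDim P (B ⧸ I) z ≤ k}
  have hV : IsOpen V := isOpen_fibDim_le P (B ⧸ I) k
  let U₁ : Set (PrimeSpectrum B) := {q' | Module.Flat P (LocalizedModule q'.asIdeal.primeCompl N)}
  have hU₁ : IsOpen U₁ :=
    Groth.Agent.Lib.Helper21.FlatDesc.isOpen_flatLocus_of_finitePresentation (R := P) (S := B) (M := N)
  let U₂ : Set (PrimeSpectrum B) := (π '' Vᶜ)ᶜ
  have hU₂ : IsOpen U₂ := (hπ.isClosedMap _ hV.isClosed_compl).isOpen_compl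
  refine ⟨U₁ ∩ U₂, hU₁.inter hU₂, ⟨hflat, ?_⟩, ?_⟩
  · rintro ⟨z, hzV, hzq⟩
    apply hzV
    subst hzq
    show fibDim P (B ⧸ I) z ≤ k
    rw [fibDim_eq_of_closed P (B ⧸ I) z ?_, ringKrullDim_fibLocRing_annihilator]
    · exact hdim
    · intro z' hzz' hcomap
      apply hπ.injective
      apply hcl (π z')
      · exact Ideal.comap_mono (show z.asIdeal ≤ z'.asIdeal from hzz')
      · show (z'.asIdeal.comap (Ideal.Quotient.mk I)).comap (algebraMap P B) =
          (z.asIdeal.comap (Ideal.Quotient.mk I)).comap (algebraMap P B)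
        rw [Ideal.comap_comap, Ideal.comap_comap]
        exact hcomap
  · rintro q' ⟨h1, h2⟩
    refine ⟨h1, ?_⟩
    haveI : Module.Flat P (LocalizedModule q'.asIdeal.primeCompl N) := h1
    haveI : IsNoetherianRing (EGA4.FibLocRing A₀ B q'.asIdeal) :=
      isNoetherianRing_fibLocRing A₀ B q'.asIdeal
    rw [mcop_fib_comp_iff A₀ P B N q'.asIdeal (hPCM _) k]
    by_cases hq' : q' ∈ Set.range π
    · obtain ⟨z', rfl⟩ := hq'
      apply mcopLE_of_supportDim_le
      have hz'V : z' ∈ V := by
        by_contra hn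
        exact h2 ⟨z', hn, rfl⟩
      calc Module.supportDim _ _ = ringKrullDim (EGA4.FibLocRing P (B ⧸ I) z'.asIdeal) :=
            (ringKrullDim_fibLocRing_annihilator P B N z'.asIdeal).symm
        _ ≤ fibDim P (B ⧸ I) z' := ringKrullDim_fibLocRing_le_fibDim P (B ⧸ I) z'
        _ ≤ k := hz'V
    · rw [_root_.range_comap_of_surjective _ _ Ideal.Quotient.mk_surjective, Ideal.mk_ker,
        ← Module.support_eq_zeroLocus, Module.notMem_support_iff] at hq'
      haveI := hq'
      exact mcopLE_of_subsingleton k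

end LemmaA

end Groth.Agent.Lib.Helper21.MCop
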