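import Mathlib
import Groth.Prelude.Def_EGA4b
import Groth.Agent.Lib.Helper21.DepthKit12
import Groth.Agent.Lib.Helper21.MCop1

set_option autoImplicit false

namespace Groth.Agent.Lib.Helper21.MCop

open RingTheory.Sequence IsLocalRing Pointwise

universe u

section Units

variable {S : Type u} [CommRing S]

theorem unit_mul_smul_top (M : Type u) [AddCommGroup M] [Module S M] (u : Sˣ) (a : S) :
    ((u : S) * a) • (⊤ : Submodule S M) = a • (⊤ : Submodule S M) := by
  ext x
  simp only [Submodule.mem_smul_pointwise_iff_exists, Submodule.mem_top, true_and]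
  constructor
  · rintro ⟨m, rfl⟩
    exact ⟨(u : S) • m, by rw [smul_smul, mul_comm]⟩
  · rintro ⟨m, rfl⟩
    refine ⟨((u⁻¹ : Sˣ) : S) • m, ?_⟩
    rw [smul_smul, mul_assoc, mul_comm a, ← mul_assoc, Units.mul_inv, one_mul]

theorem isSMulRegular_unit_mul_iff (M : Type u) [AddCommGroup M] [Module S M] (u : Sˣ) (a : S) :
    IsSMulRegular M ((u : S) * a) ↔ IsSMulRegular M a := by
  constructor
  · intro h
    exact IsSMulRegular.of_mul h
  · intro h
    exact IsSMulRegular.mul (u.isUnit.isSMulRegular M) h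

theorem isWeaklyRegular_of_forall₂_unit {rs rs' : List S}
    (h : List.Forall₂ (fun a b => ∃ u : Sˣ, b = (u : S) * a) rs rs') :
    ∀ (M : Type u) [AddCommGroup M] [Module S M],
      IsWeaklyRegular M rs ↔ IsWeaklyRegular M rs' := by
  induction h with
  | nil => intro M _ _; exact Iff.rfl
  | @cons a b l₁ l₂ hab _ ih =>
    intro M _ _
    obtain ⟨u, rfl⟩ := hab
    rw [isWeaklyRegular_cons_iff, isWeaklyRegular_cons_iff, isSMulRegular_unit_mul_iff]
    refine and_congr_right fun _ => ?_
    rw [ih (QuotSMulTop a M)]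
    exact (Submodule.quotEquivOfEq _ _ (unit_mul_smul_top M u a).symm).isWeaklyRegular_congr l₂

end Units

section Lift

variable {B : Type u} [CommRing B] (T : Submonoid B) (S : Type u) [CommRing S] [Algebra B S]
  [IsLocalization T S]

include T in
theorem exists_list_lift_units (rs : List S) :
    ∃ bs : List B, List.Forall₂ (fun a b => ∃ u : Sˣ, b = (u : S) * a) rs
      (bs.map (algebraMap B S)) := by
  induction rs with
  | nil => exact ⟨[], by simp⟩
  | cons r rs ih =>
    obtain ⟨bs, hbs⟩ := ih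
    obtain ⟨⟨b, t⟩, hbt⟩ := IsLocalization.surj T r
    refine ⟨b :: bs, ?_⟩
    rw [List.map_cons]
    refine List.Forall₂.cons ⟨(IsLocalization.map_units S t).unit, ?_⟩ hbs
    rw [IsUnit.unit_spec, mul_comm]
    exact hbt.symm

end Lift

section Reg

variable {S : Type u} [CommRing S] [IsLocalRing S] (J : Ideal S) [IsNoetherianRing (S ⧸ J)]
  [IsLocalRing (S ⧸ J)]
  (X : Type u) [AddCommGroup X] [Module S X] [Module.Finite S X]

theorem exists_regular_seq [Nontrivial (X ⧸ J • (⊤ : Submodule S X))] :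
    ∃ rs : List S, (∀ r ∈ rs, r ∈ maximalIdeal S) ∧
      IsWeaklyRegular (X ⧸ J • (⊤ : Submodule S X)) rs ∧
      (rs.length : ℕ∞) = LocCoh.depth S (X ⧸ J • (⊤ : Submodule S X)) := by
  haveI : Module.Finite (S ⧸ J) (X ⧸ J • (⊤ : Submodule S X)) :=
    Module.Finite.of_restrictScalars_finite S _ _
  obtain ⟨ss, h1, h2, h3⟩ := DepthKit.exists_seq_length_eq_depth (A := S ⧸ J)
    (M := X ⧸ J • (⊤ : Submodule S X))
  have hs : Function.Surjective (algebraMap S (S ⧸ J)) := Ideal.Quotient.mk_surjective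
  obtain ⟨rs, hr1, hr2⟩ := DepthKit.exists_list_lift hs (maximalIdeal S) ss (by
    rw [DepthKit.map_maximalIdeal_of_surjective hs]; exact h1)
  refine ⟨rs, hr2, ?_, ?_⟩
  · rw [← isWeaklyRegular_map_algebraMap_iff (S ⧸ J), hr1]
    exact h2
  · rw [DepthKit.depth_eq_of_surjective (X ⧸ J • (⊤ : Submodule S X)) hs, ← h3, ← hr1,
      List.length_map]

set_option maxHeartbeats 800000 in
theorem supportDim_quot_regular_add_length [Nontrivial (X ⧸ J • (⊤ : Submodule S X))]
    (rs : List S) (hmem : ∀ r ∈ rs, r ∈ maximalIdeal S)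
    (hreg : IsWeaklyRegular (X ⧸ J • (⊤ : Submodule S X)) rs) :
    Module.supportDim S ((X ⧸ J • (⊤ : Submodule S X)) ⧸
      (Ideal.ofList rs • (⊤ : Submodule S (X ⧸ J • (⊤ : Submodule S X))))) + rs.length =
      Module.supportDim S (X ⧸ J • (⊤ : Submodule S X)) := by
  haveI : Module.Finite (S ⧸ J) (X ⧸ J • (⊤ : Submodule S X)) :=
    Module.Finite.of_restrictScalars_finite S _ _
  have hs : Function.Surjective (algebraMap S (S ⧸ J)) := Ideal.Quotient.mk_surjective
  set M' := X ⧸ J • (⊤ : Submodule S X) with hM'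
  set ss : List (S ⧸ J) := rs.map (algebraMap S (S ⧸ J)) with hss
  have hreg' : IsWeaklyRegular M' ss := (isWeaklyRegular_map_algebraMap_iff (S ⧸ J) M' rs).2 hreg
  have hmem' : ∀ s ∈ ss, s ∈ maximalIdeal (S ⧸ J) := by
    intro s hs'
    obtain ⟨r, hr, rfl⟩ := List.mem_map.1 hs'
    rw [← DepthKit.map_maximalIdeal_of_surjective hs]
    exact Ideal.mem_map_of_mem _ (hmem r hr)
  have hreg'' : IsRegular M' ss :=
    (IsLocalRing.isRegular_iff_isWeaklyRegular_of_subset_maximalIdeal hmem').2 hreg'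
  have key := Module.supportDim_add_length_eq_supportDim_of_isRegular ss hreg''
  rw [hss, List.length_map] at key
  rw [DepthKit.supportDim_eq_of_surjective M' hs, ← key]
  congr 1
  have h : (Ideal.ofList rs • (⊤ : Submodule S M')) =
      (Ideal.ofList (rs.map (algebraMap S (S ⧸ J))) • (⊤ : Submodule (S ⧸ J) M')).restrictScalars S := by
    rw [← Ideal.map_ofList, Ideal.smul_restrictScalars, Submodule.restrictScalars_top]
  let e : (M' ⧸ (Ideal.ofList rs • (⊤ : Submodule S M'))) ≃ₗ[S]
      (M' ⧸ (Ideal.ofList (rs.map (algebraMap S (S ⧸ J))) • (⊤ : Submodule (S ⧸ J) M'))) :=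
    (Submodule.quotEquivOfEq _ _ h).trans (Submodule.Quotient.restrictScalarsEquiv S _)
  rw [Module.supportDim_eq_of_equiv e]
  exact DepthKit.supportDim_eq_of_surjective _ hs

end Reg

section SuppLe

variable {S : Type u} [CommRing S] (X : Type u) [AddCommGroup X] [Module S X] [Module.Finite S X]

theorem supportDim_quot_le (J K L : Ideal S) (h : J ⊔ K ≤ L) :
    Module.supportDim S (X ⧸ L • (⊤ : Submodule S X)) ≤
      Module.supportDim S ((X ⧸ J • (⊤ : Submodule S X)) ⧸
        K • (⊤ : Submodule S (X ⧸ J • (⊤ : Submodule S X)))) := by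
  have hsub : Module.support S (X ⧸ L • (⊤ : Submodule S X)) ⊆
      Module.support S ((X ⧸ J • (⊤ : Submodule S X)) ⧸
        K • (⊤ : Submodule S (X ⧸ J • (⊤ : Submodule S X)))) := by
    rw [Module.support_quotient, Module.support_quotient, Module.support_quotient]
    rintro p ⟨h1, h2⟩
    refine ⟨⟨h1, ?_⟩, ?_⟩
    · exact PrimeSpectrum.zeroLocus_anti_mono_ideal (le_sup_left.trans h) h2
    · exact PrimeSpectrum.zeroLocus_anti_mono_ideal (le_sup_right.trans h) h2
  exact Order.krullDim_le_of_strictMono (Set.inclusion hsub) (fun a b hab => hab)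

end SuppLe

end Groth.Agent.Lib.Helper21.MCop
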