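import Mathlib
import Groth.Agent.Lib.Helper18.Chev.AlgCore

/-!
# Helper21 — Coprof7a: transcendence bases in charts and generic position
-/

set_option autoImplicit false

namespace Groth.Agent.Lib.Helper21.Coprof

open IsLocalRing MvPolynomial

universe u

/-- lifts of a (finite) transcendence basis of `A/P` over `R/p`. -/
theorem exists_vec_transcendenceBasis {R A : Type u} [CommRing R] [CommRing A] [Algebra R A]
    [Algebra.FiniteType R A] (P : Ideal A) [P.IsPrime] (p : Ideal R) [p.IsPrime] [P.LiesOver p] :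
    ∃ (e : ℕ) (a : Fin e → A),
      AlgebraicIndependent (R ⧸ p) (fun i => Ideal.Quotient.mk P (a i)) ∧
      Algebra.IsAlgebraic
        (Algebra.adjoin (R ⧸ p) (Set.range fun i => Ideal.Quotient.mk P (a i))) (A ⧸ P) := by
  classical
  haveI : Algebra.FiniteType R (A ⧸ P) :=
    Algebra.FiniteType.of_surjective (Ideal.Quotient.mkₐ R P) Ideal.Quotient.mk_surjective
  haveI : Algebra.FiniteType (R ⧸ p) (A ⧸ P) :=
    Algebra.FiniteType.of_restrictScalars_finiteType R (R ⧸ p) (A ⧸ P)
  obtain ⟨t, ht⟩ := (Algebra.FiniteType.out : (⊤ : Subalgebra (R ⧸ p) (A ⧸ P)).FG)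
  haveI : Algebra.IsAlgebraic (Algebra.adjoin (R ⧸ p) (↑t : Set (A ⧸ P))) (A ⧸ P) := by
    rw [ht]
    exact ⟨fun x => isAlgebraic_algebraMap (⟨x, Algebra.mem_top⟩ : (⊤ : Subalgebra (R ⧸ p) (A ⧸ P)))⟩
  have hinj : Function.Injective (algebraMap (R ⧸ p) (A ⧸ P)) :=
    FaithfulSMul.algebraMap_injective _ _
  obtain ⟨s, -, hst, hs⟩ := exists_isTranscendenceBasis_between (R := R ⧸ p) (A := A ⧸ P)
    (∅ : Set (A ⧸ P)) (↑t) (Set.empty_subset _)
    (by
      show AlgebraicIndependent (R ⧸ p) (fun x : (∅ : Set (A ⧸ P)) => id x.1)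
      rw [algebraicIndependent_empty_type_iff]
      exact hinj)
  have hfin : Finite s := (t.finite_toSet.subset hst).to_subtype
  letI := Fintype.ofFinite s
  let eq : Fin (Fintype.card s) ≃ s := (Fintype.equivFin s).symm
  choose lift hlift using fun y : A ⧸ P => Ideal.Quotient.mk_surjective (I := P) y
  refine ⟨Fintype.card s, fun i => lift (eq i).1, ?_, ?_⟩
  · have h1 : (fun i => Ideal.Quotient.mk P (lift (eq i).1)) = ((↑) : s → A ⧸ P) ∘ eq := by
      funext i
      exact hlift _
    rw [h1]
    exact hs.1.comp eq eq.injective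
  · have hrange : (Set.range fun i => Ideal.Quotient.mk P (lift (eq i).1)) =
        Set.range ((↑) : s → A ⧸ P) := by
      ext y
      constructor
      · rintro ⟨i, rfl⟩
        exact ⟨eq i, (hlift _).symm⟩
      · rintro ⟨z, rfl⟩
        exact ⟨eq.symm z, by simp [hlift]⟩
    rw [hrange]
    exact hs.isAlgebraic

attribute [local instance] MvPolynomial.algebraMvPolynomial

set_option maxHeartbeats 800000 in
/-- **generic position**: sections whose residues are algebraically independent over the residue
ring of the base act on the local ring through a map whose contraction of the maximal ideal is the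
extension of the maximal ideal of the base. -/
theorem mem_map_C_of_algebraicIndependent (A B : Type u) [CommRing A] [CommRing B] [Algebra A B]
    (q : Ideal B) [q.IsPrime] (p : Ideal A) [p.IsPrime] [q.LiesOver p]
    (R' : Type u) [CommRing R'] [Algebra A R'] [IsLocalization.AtPrime R' p] [IsLocalRing R']
    (O : Type u) [CommRing O] [Algebra B O] [IsLocalization.AtPrime O q] [IsLocalRing O]
    [Algebra A O] [IsScalarTower A B O] [Algebra R' O] [IsScalarTower A R' O]
    (e : ℕ) (a : Fin e → B)
    (hind : AlgebraicIndependent (A ⧸ p) (fun i => Ideal.Quotient.mk q (a i)))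
    (F : MvPolynomial (Fin e) R')
    (hF : aeval (R := R') (fun i => algebraMap B O (a i)) F ∈ maximalIdeal O) :
    F ∈ (maximalIdeal R').map (C : R' →+* MvPolynomial (Fin e) R') := by
  classical
  obtain ⟨⟨F₀, s⟩, hFs⟩ := IsLocalization.surj (p.primeCompl.map (C (σ := Fin e)))
    (S := MvPolynomial (Fin e) R') F
  obtain ⟨s₀, hs₀, hs₀eq⟩ := s.2
  have hFs' : F * C (algebraMap A R' s₀) = MvPolynomial.map (algebraMap A R') F₀ := by
    have h1 : algebraMap (MvPolynomial (Fin e) A) (MvPolynomial (Fin e) R') (s : MvPolynomial (Fin e) A)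
        = C (algebraMap A R' s₀) := by
      rw [← hs₀eq]
      show MvPolynomial.map (algebraMap A R') (C s₀) = _
      rw [MvPolynomial.map_C]
    rw [← h1]
    exact hFs
  -- evaluate
  have h2 : aeval (R := R') (fun i => algebraMap B O (a i)) (MvPolynomial.map (algebraMap A R') F₀) =
      algebraMap B O (aeval (R := A) a F₀) := by
    rw [MvPolynomial.aeval_map_algebraMap]
    exact MvPolynomial.aeval_algebraMap_apply O a F₀
  have h3 : algebraMap B O (aeval (R := A) a F₀) ∈ maximalIdeal O := by
    rw [← h2, ← hFs', map_mul]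
    exact Ideal.mul_mem_right _ _ hF
  have h4 : aeval (R := A) a F₀ ∈ q :=
    (IsLocalization.AtPrime.to_map_mem_maximal_iff O q _).mp h3
  have h5 : aeval (fun i => Ideal.Quotient.mk q (a i)) (MvPolynomial.map (Ideal.Quotient.mk p) F₀) = 0 := by
    rw [← Groth.Agent.Lib.Helper18.Chev.mk_aeval a q p F₀]
    exact Ideal.Quotient.eq_zero_iff_mem.mpr h4
  have h6 : MvPolynomial.map (Ideal.Quotient.mk p) F₀ = 0 := by
    have := hind
    rw [algebraicIndependent_iff_injective_aeval] at this
    exact this (by rw [h5, map_zero])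
  have h7 : F₀ ∈ p.map (C : A →+* MvPolynomial (Fin e) A) := by
    rw [MvPolynomial.mem_map_C_iff]
    intro m
    have := congrArg (MvPolynomial.coeff m) h6
    rw [MvPolynomial.coeff_map, MvPolynomial.coeff_zero] at this
    exact Ideal.Quotient.eq_zero_iff_mem.mp this
  have h8 : MvPolynomial.map (algebraMap A R') F₀ ∈
      (maximalIdeal R').map (C : R' →+* MvPolynomial (Fin e) R') := by
    rw [MvPolynomial.mem_map_C_iff]
    intro m
    rw [MvPolynomial.coeff_map]
    rw [MvPolynomial.mem_map_C_iff] at h7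
    exact (IsLocalization.AtPrime.to_map_mem_maximal_iff R' p _).mpr (h7 m)
  rw [← hFs'] at h8
  have hunit : IsUnit (C (σ := Fin e) (algebraMap A R' s₀)) :=
    ((IsLocalization.AtPrime.isUnit_to_map_iff R' p s₀).mpr hs₀).map C
  exact (Ideal.mul_unit_mem_iff_mem _ hunit).mp h8

end Groth.Agent.Lib.Helper21.Coprof
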