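import Mathlib
import Groth.Agent.Lib.Helper7.MiracleFlat
import Groth.Agent.Lib.Helper5.LciE
import Groth.Agent.Lib.Helper21.DepthKit1
import Groth.Agent.Lib.Helper21.FlatDescQ1

/-!
# Helper21 — CMAff1: closed-fibre flatness over a polynomial ring from a regular sequence
-/

set_option autoImplicit false

namespace Groth.Agent.Lib.Helper21.CMAff

open IsLocalRing MvPolynomial RingTheory.Sequence
open scoped Pointwise

universe u

section Dim

variable (κ : Type u) [Field κ] (n : ℕ)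

/-- a regular local localization of a polynomial ring over a field in which the variables lie in
the maximal ideal has dimension `n`. -/
theorem ringKrullDim_localization_eq (D' : Type u) [CommRing D'] (e : MvPolynomial (Fin n) κ ≃+* D')
    (𝔫 : Ideal D') [𝔫.IsPrime] (hX : ∀ i, e (X i) ∈ 𝔫) :
    ringKrullDim (Localization.AtPrime 𝔫) = n := by
  haveI : IsNoetherianRing D' := isNoetherianRing_of_ringEquiv _ e
  apply le_antisymm
  · rw [IsLocalization.AtPrime.ringKrullDim_eq_height 𝔫]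
    have h2 : ((𝔫.height : ℕ∞) : WithBot ℕ∞) ≤ ringKrullDim D' :=
      Ideal.height_le_ringKrullDim_of_ne_top (Ideal.IsPrime.ne_top inferInstance)
    rw [← ringKrullDim_eq_of_ringEquiv e, MvPolynomial.ringKrullDim_of_isNoetherianRing,
      ringKrullDim_eq_zero_of_field] at h2
    simpa using h2
  · letI aDD' : Algebra (MvPolynomial (Fin n) κ) D' := e.toRingHom.toAlgebra
    let el : MvPolynomial (Fin n) κ ≃ₗ[MvPolynomial (Fin n) κ] D' :=
      { e.toAddEquiv with
        map_smul' := fun r x => by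
          show e (r * x) = e r * e x
          exact map_mul e r x }
    haveI : Module.Flat (MvPolynomial (Fin n) κ) D' := Module.Flat.of_linearEquiv el.symm
    have h1 : IsWeaklyRegular D'
        ((List.ofFn fun i : Fin n => (X i : MvPolynomial (Fin n) κ)).map
          (algebraMap (MvPolynomial (Fin n) κ) D')) :=
      IsWeaklyRegular.of_flat (Groth.Agent.Lib.Helper5.Lci.isWeaklyRegular_X (R := κ) n)
    have h2 := IsWeaklyRegular.of_flat (S := Localization.AtPrime 𝔫) h1
    have hm : ∀ r ∈ ((List.ofFn fun i : Fin n => (X i : MvPolynomial (Fin n) κ)).map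
        (algebraMap (MvPolynomial (Fin n) κ) D')).map (algebraMap D' (Localization.AtPrime 𝔫)),
        r ∈ maximalIdeal (Localization.AtPrime 𝔫) := by
      intro r hr
      simp only [List.map_map, List.mem_map, List.mem_ofFn'] at hr
      obtain ⟨_, ⟨i, rfl⟩, rfl⟩ := hr
      rw [Function.comp_apply, IsLocalization.AtPrime.to_map_mem_maximal_iff _ 𝔫]
      exact hX i
    have h3 := Groth.Agent.Lib.Helper21.DepthKit.length_le_supportDim
      (A := Localization.AtPrime 𝔫) (M := Localization.AtPrime 𝔫) _ h2 hm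
    rw [Module.supportDim_self_eq_ringKrullDim, List.length_map, List.length_map,
      List.length_ofFn] at h3
    exact h3

end Dim

section Fibre

variable (R O : Type u) [CommRing R] [CommRing O] [IsLocalRing R] [IsLocalRing O]
  [Algebra R O] [IsLocalHom (algebraMap R O)] (n : ℕ)
  [Algebra (MvPolynomial (Fin n) R) O] [IsScalarTower R (MvPolynomial (Fin n) R) O]

set_option maxHeartbeats 1600000 in
set_option synthInstance.maxHeartbeats 200000 in
/-- **closed-fibre flatness over the polynomial ring** when the variables act through a sequence in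
the maximal ideal which is regular on the closed fibre. -/
theorem flat_mvPolynomial_fibre
    (hf : ∀ i, algebraMap (MvPolynomial (Fin n) R) O (X i) ∈ maximalIdeal O)
    [IsNoetherianRing (O ⧸ (maximalIdeal R).map (algebraMap R O))]
    (hreg : IsWeaklyRegular (O ⧸ (maximalIdeal R).map (algebraMap R O))
      (List.ofFn fun i => Ideal.Quotient.mk ((maximalIdeal R).map (algebraMap R O))
        (algebraMap (MvPolynomial (Fin n) R) O (X i)))) :
    Module.Flat (MvPolynomial (Fin n) R ⧸ (maximalIdeal R).map (C : R →+* MvPolynomial (Fin n) R))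
      (O ⧸ (maximalIdeal R).map (C : R →+* MvPolynomial (Fin n) R) •
        (⊤ : Submodule (MvPolynomial (Fin n) R) O)) := by
  classical
  set I : Ideal (MvPolynomial (Fin n) R) :=
    (maximalIdeal R).map (C : R →+* MvPolynomial (Fin n) R) with hI
  set 𝔣 : Ideal O := (maximalIdeal R).map (algebraMap R O) with h𝔣
  have hcomp : (algebraMap (MvPolynomial (Fin n) R) O).comp (C : R →+* MvPolynomial (Fin n) R) =
      algebraMap R O := by
    rw [← MvPolynomial.algebraMap_eq]
    exact (IsScalarTower.algebraMap_eq R (MvPolynomial (Fin n) R) O).symm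
  have hI𝔣 : I ≤ 𝔣.comap (algebraMap (MvPolynomial (Fin n) R) O) := by
    rw [hI, Ideal.map_le_iff_le_comap, Ideal.comap_comap, hcomp]
    exact Ideal.le_comap_map
  have h𝔣m : 𝔣 ≤ maximalIdeal O := IsLocalRing.map_maximalIdeal_le (algebraMap R O)
  haveI : Nontrivial (O ⧸ 𝔣) :=
    Ideal.Quotient.nontrivial_iff.mpr (fun h => (maximalIdeal.isMaximal O).ne_top
      (top_le_iff.mp (h ▸ h𝔣m)))
  haveI : IsLocalRing (O ⧸ 𝔣) :=
    IsLocalRing.of_surjective' (Ideal.Quotient.mk 𝔣) Ideal.Quotient.mk_surjective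
  let θ : (MvPolynomial (Fin n) R ⧸ I) →+* (O ⧸ 𝔣) :=
    Ideal.quotientMap 𝔣 (algebraMap (MvPolynomial (Fin n) R) O) hI𝔣
  letI aD'Ō : Algebra (MvPolynomial (Fin n) R ⧸ I) (O ⧸ 𝔣) := θ.toAlgebra
  letI : Field (R ⧸ maximalIdeal R) := Ideal.Quotient.field _
  let e : MvPolynomial (Fin n) (R ⧸ maximalIdeal R) ≃ₐ[R] (MvPolynomial (Fin n) R ⧸ I) :=
    MvPolynomial.quotientEquivQuotientMvPolynomial (maximalIdeal R)
  haveI : IsRegularRing (MvPolynomial (Fin n) R ⧸ I) := IsRegularRing.of_ringEquiv e.toRingEquiv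
  set 𝔫 : Ideal (MvPolynomial (Fin n) R ⧸ I) := (maximalIdeal (O ⧸ 𝔣)).comap θ with h𝔫
  haveI : 𝔫.IsPrime := Ideal.comap_isPrime _ _
  -- the local homomorphism `A' → Ō`
  have hunit : ∀ y : 𝔫.primeCompl, IsUnit (θ y) := fun y => by
    by_contra h
    exact y.2 ((IsLocalRing.mem_maximalIdeal _).mpr h)
  let θ' : Localization.AtPrime 𝔫 →+* (O ⧸ 𝔣) := IsLocalization.lift (M := 𝔫.primeCompl) hunit
  letI aA'Ō : Algebra (Localization.AtPrime 𝔫) (O ⧸ 𝔣) := θ'.toAlgebra
  haveI tw1 : IsScalarTower (MvPolynomial (Fin n) R ⧸ I) (Localization.AtPrime 𝔫) (O ⧸ 𝔣) :=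
    IsScalarTower.of_algebraMap_eq fun x => (IsLocalization.lift_eq hunit x).symm
  haveI hloc : IsLocalHom (algebraMap (Localization.AtPrime 𝔫) (O ⧸ 𝔣)) := by
    constructor
    intro a ha
    obtain ⟨p, s, rfl⟩ := IsLocalization.exists_mk'_eq 𝔫.primeCompl a
    have h1 : θ' (IsLocalization.mk' (Localization.AtPrime 𝔫) p s) * θ s = θ p := by
      rw [← IsLocalization.lift_eq (S := Localization.AtPrime 𝔫) hunit
          (s : MvPolynomial (Fin n) R ⧸ I),
        ← IsLocalization.lift_eq (S := Localization.AtPrime 𝔫) hunit p, ← map_mul,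
        IsLocalization.mk'_spec]
    have h2 : IsUnit (θ p) := by
      rw [← h1]
      exact IsUnit.mul ha (hunit s)
    have h3 : p ∈ 𝔫.primeCompl := fun hp => (IsLocalRing.mem_maximalIdeal _).mp hp h2
    exact (IsLocalization.AtPrime.isUnit_mk'_iff (Localization.AtPrime 𝔫) 𝔫 p s).mpr h3
  -- the variables
  have hθX : ∀ i, θ (Ideal.Quotient.mk I (X i)) =
      Ideal.Quotient.mk 𝔣 (algebraMap (MvPolynomial (Fin n) R) O (X i)) := fun i =>
    Ideal.quotientMap_mk
  have hX𝔫 : ∀ i, Ideal.Quotient.mk I (X i) ∈ 𝔫 := by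
    intro i
    show θ _ ∈ maximalIdeal (O ⧸ 𝔣)
    rw [hθX]
    rw [IsLocalRing.mem_maximalIdeal, mem_nonunits_iff]
    intro hu
    have := (IsLocalHom.of_surjective (Ideal.Quotient.mk 𝔣) Ideal.Quotient.mk_surjective).map_nonunit _ hu
    exact (IsLocalRing.mem_maximalIdeal _).mp (hf i) this
  have heX : ∀ i, e (X i) = Ideal.Quotient.mk I (X i) := by
    intro i
    show (MvPolynomial.quotientEquivQuotientMvPolynomial (maximalIdeal R)) (X i) = _
    simp [MvPolynomial.quotientEquivQuotientMvPolynomial]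
    rfl
  have hd : ringKrullDim (Localization.AtPrime 𝔫) = n :=
    ringKrullDim_localization_eq (R ⧸ maximalIdeal R) n _ e.toRingEquiv 𝔫 (fun i => by
      show e (X i) ∈ 𝔫
      rw [heX]; exact hX𝔫 i)
  set xs : List (Localization.AtPrime 𝔫) := List.ofFn fun i : Fin n =>
    algebraMap (MvPolynomial (Fin n) R ⧸ I) (Localization.AtPrime 𝔫)
      (Ideal.Quotient.mk I (X i)) with hxsdef
  have hxs : ∀ x ∈ xs, x ∈ maximalIdeal (Localization.AtPrime 𝔫) := by
    intro x hx
    obtain ⟨i, rfl⟩ := (List.mem_ofFn' _ _).mp hx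
    rw [IsLocalization.AtPrime.to_map_mem_maximal_iff _ 𝔫]
    exact hX𝔫 i
  have hmap : xs.map (algebraMap (Localization.AtPrime 𝔫) (O ⧸ 𝔣)) =
      List.ofFn fun i => Ideal.Quotient.mk 𝔣 (algebraMap (MvPolynomial (Fin n) R) O (X i)) := by
    rw [hxsdef, List.map_ofFn]
    congr 1
    funext i
    rw [Function.comp_apply, ← IsScalarTower.algebraMap_apply]
    exact hθX i
  have hreg' : IsWeaklyRegular (O ⧸ 𝔣) xs := by
    rw [← isWeaklyRegular_map_algebraMap_iff (O ⧸ 𝔣) (O ⧸ 𝔣) xs, hmap]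
    exact hreg
  haveI hflA' : Module.Flat (Localization.AtPrime 𝔫) (O ⧸ 𝔣) :=
    Groth.Agent.Lib.Helper7.MiracleFlat.flat_of_isWeaklyRegular (A := Localization.AtPrime 𝔫)
      (B := O ⧸ 𝔣) (O ⧸ 𝔣) xs hxs n hd (by rw [hxsdef, List.length_ofFn]) hreg'
  have hflD' : Module.Flat (MvPolynomial (Fin n) R ⧸ I) (O ⧸ 𝔣) :=
    (Module.flat_iff_of_isLocalization (Localization.AtPrime 𝔫) 𝔫.primeCompl (O ⧸ 𝔣)).mp hflA'
  -- transfer to the module quotient
  have hset : I • (⊤ : Submodule (MvPolynomial (Fin n) R) O) =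
      𝔣.restrictScalars (MvPolynomial (Fin n) R) := by
    rw [Ideal.smul_top_eq_map, hI, Ideal.map_map, hcomp]
  haveI tw2 : IsScalarTower (MvPolynomial (Fin n) R) (MvPolynomial (Fin n) R ⧸ I) (O ⧸ 𝔣) :=
    IsScalarTower.of_algebraMap_smul (R := MvPolynomial (Fin n) R)
        (A := MvPolynomial (Fin n) R ⧸ I) (M := O ⧸ 𝔣) fun c (y : O ⧸ 𝔣) => by
      obtain ⟨o, rfl⟩ := Ideal.Quotient.mk_surjective (I := 𝔣) y
      show θ (Ideal.Quotient.mk I c) * Ideal.Quotient.mk 𝔣 o = _
      rw [Ideal.quotientMap_mk, ← map_mul (Ideal.Quotient.mk 𝔣), ← Algebra.smul_def]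
      rfl
  let ε₀ : (O ⧸ I • (⊤ : Submodule (MvPolynomial (Fin n) R) O)) ≃ₗ[MvPolynomial (Fin n) R]
      (O ⧸ 𝔣) :=
    (Submodule.quotEquivOfEq _ _ hset) ≪≫ₗ
      Submodule.Quotient.restrictScalarsEquiv (MvPolynomial (Fin n) R) 𝔣
  let ε : (O ⧸ I • (⊤ : Submodule (MvPolynomial (Fin n) R) O)) ≃ₗ[MvPolynomial (Fin n) R ⧸ I]
      (O ⧸ 𝔣) := ε₀.extendScalarsOfSurjective Ideal.Quotient.mk_surjective
  haveI := hflD'
  exact Module.Flat.of_linearEquiv ε

end Fibre

end Groth.Agent.Lib.Helper21.CMAff
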