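import Mathlib
import Groth.Agent.Lib.Helper21.CMAff1
import Groth.Agent.Lib.Helper21.FlatDescQ2

/-!
# Helper21 — MCop4: closed-fibre flatness of a module over a polynomial ring from a regular sequence
-/

set_option autoImplicit false

namespace Groth.Agent.Lib.Helper21.MCop

open IsLocalRing MvPolynomial RingTheory.Sequence TensorProduct
open scoped Pointwise
open Groth.Agent.Lib.Helper21.CMAff Groth.Agent.Lib.Helper21.FlatDesc

universe u

section Fibre

variable (R O : Type u) [CommRing R] [CommRing O] [IsLocalRing R] [IsLocalRing O]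
  [Algebra R O] [IsLocalHom (algebraMap R O)] (n : ℕ)
  [Algebra (MvPolynomial (Fin n) R) O] [IsScalarTower R (MvPolynomial (Fin n) R) O]
  (M : Type u) [AddCommGroup M] [Module O M] [Module (MvPolynomial (Fin n) R) M]
  [IsScalarTower (MvPolynomial (Fin n) R) O M] [Module.Finite O M]

set_option maxHeartbeats 1600000 in
set_option synthInstance.maxHeartbeats 200000 in
/-- **closed-fibre flatness of a module over the polynomial ring** when the variables act through a
sequence in the maximal ideal which is regular on the closed fibre of the module. -/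
theorem flat_mvPolynomial_fibre_module
    (hf : ∀ i, algebraMap (MvPolynomial (Fin n) R) O (X i) ∈ maximalIdeal O)
    [IsNoetherianRing (O ⧸ (maximalIdeal R).map (algebraMap R O))]
    (hreg : IsWeaklyRegular (M ⧸ (maximalIdeal R).map (algebraMap R O) • (⊤ : Submodule O M))
      (List.ofFn fun i => algebraMap (MvPolynomial (Fin n) R) O (X i))) :
    Module.Flat (MvPolynomial (Fin n) R ⧸ (maximalIdeal R).map (C : R →+* MvPolynomial (Fin n) R))
      (M ⧸ (maximalIdeal R).map (C : R →+* MvPolynomial (Fin n) R) •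
        (⊤ : Submodule (MvPolynomial (Fin n) R) M)) := by
  classical
  set I : Ideal (MvPolynomial (Fin n) R) :=
    (maximalIdeal R).map (C : R →+* MvPolynomial (Fin n) R) with hI
  set 𝔣 : Ideal O := (maximalIdeal R).map (algebraMap R O) with h𝔣
  have hcomp : (algebraMap (MvPolynomial (Fin n) R) O).comp (C : R →+* MvPolynomial (Fin n) R) =
      algebraMap R O := by
    rw [← MvPolynomial.algebraMap_eq]
    exact (IsScalarTower.algebraMap_eq R (MvPolynomial (Fin n) R) O).symm
  have hI𝔣' : I.map (algebraMap (MvPolynomial (Fin n) R) O) = 𝔣 := by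
    rw [hI, Ideal.map_map, hcomp]
  have hI𝔣 : I ≤ 𝔣.comap (algebraMap (MvPolynomial (Fin n) R) O) := by
    rw [← Ideal.map_le_iff_le_comap, hI𝔣']
  have h𝔣m : 𝔣 ≤ maximalIdeal O := IsLocalRing.map_maximalIdeal_le (algebraMap R O)
  haveI : Nontrivial (O ⧸ 𝔣) :=
    Ideal.Quotient.nontrivial_iff.mpr (fun h => (maximalIdeal.isMaximal O).ne_top
      (top_le_iff.mp (h ▸ h𝔣m)))
  haveI : IsLocalRing (O ⧸ 𝔣) :=
    IsLocalRing.of_surjective' (Ideal.Quotient.mk 𝔣) Ideal.Quotient.mk_surjective
  let θ : (MvPolynomial (Fin n) R ⧸ I) →+* (O ⧸ 𝔣) :=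
    Ideal.quotientMap 𝔣 (algebraMap (MvPolynomial (Fin n) R) O) hI𝔣
  letI aD'Ō : Algebra (MvPolynomial (Fin n) R ⧸ I) (O ⧸ 𝔣) := θ.toAlgebra
  letI : Field (R ⧸ maximalIdeal R) := Ideal.Quotient.field _
  let e : MvPolynomial (Fin n) (R ⧸ maximalIdeal R) ≃ₐ[R] (MvPolynomial (Fin n) R ⧸ I) :=
    MvPolynomial.quotientEquivQuotientMvPolynomial (maximalIdeal R)
  haveI : IsRegularRing (MvPolynomial (Fin n) R ⧸ I) := IsRegularRing.of_ringEquiv e.toRingEquiv
  set 𝔫 : Ideal (MvPolynomial (Fin n) R ⧸ I) := (maximalIdeal (O ⧸ 𝔣)).comap θ with h𝔫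
  haveI : 𝔫.IsPrime := Ideal.comap_isPrime _ _
  -- the local homomorphism `A' → Ō`
  have hunit : ∀ y : 𝔫.primeCompl, IsUnit (θ y) := fun y => by
    by_contra h
    exact y.2 ((IsLocalRing.mem_maximalIdeal _).mpr h)
  let θ' : Localization.AtPrime 𝔫 →+* (O ⧸ 𝔣) := IsLocalization.lift (M := 𝔫.primeCompl) hunit
  letI aA'Ō : Algebra (Localization.AtPrime 𝔫) (O ⧸ 𝔣) := θ'.toAlgebra
  haveI tw1 : IsScalarTower (MvPolynomial (Fin n) R ⧸ I) (Localization.AtPrime 𝔫) (O ⧸ 𝔣) :=
    IsScalarTower.of_algebraMap_eq fun x => (IsLocalization.lift_eq hunit x).symm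
  haveI hloc : IsLocalHom (algebraMap (Localization.AtPrime 𝔫) (O ⧸ 𝔣)) := by
    constructor
    intro a ha
    obtain ⟨p, s, rfl⟩ := IsLocalization.exists_mk'_eq 𝔫.primeCompl a
    have h1 : θ' (IsLocalization.mk' (Localization.AtPrime 𝔫) p s) * θ s = θ p := by
      rw [← IsLocalization.lift_eq (S := Localization.AtPrime 𝔫) hunit
          (s : MvPolynomial (Fin n) R ⧸ I),
        ← IsLocalization.lift_eq (S := Localization.AtPrime 𝔫) hunit p, ← map_mul,
        IsLocalization.mk'_spec]
    have h2 : IsUnit (θ p) := by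
      rw [← h1]
      exact IsUnit.mul ha (hunit s)
    have h3 : p ∈ 𝔫.primeCompl := fun hp => (IsLocalRing.mem_maximalIdeal _).mp hp h2
    exact (IsLocalization.AtPrime.isUnit_mk'_iff (Localization.AtPrime 𝔫) 𝔫 p s).mpr h3
  -- the variables
  have hθX : ∀ i, θ (Ideal.Quotient.mk I (X i)) =
      Ideal.Quotient.mk 𝔣 (algebraMap (MvPolynomial (Fin n) R) O (X i)) := fun i =>
    Ideal.quotientMap_mk
  have hX𝔫 : ∀ i, Ideal.Quotient.mk I (X i) ∈ 𝔫 := by
    intro i
    show θ _ ∈ maximalIdeal (O ⧸ 𝔣)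
    rw [hθX]
    rw [IsLocalRing.mem_maximalIdeal, mem_nonunits_iff]
    intro hu
    have := (IsLocalHom.of_surjective (Ideal.Quotient.mk 𝔣) Ideal.Quotient.mk_surjective).map_nonunit _ hu
    exact (IsLocalRing.mem_maximalIdeal _).mp (hf i) this
  have heX : ∀ i, e (X i) = Ideal.Quotient.mk I (X i) := by
    intro i
    show (MvPolynomial.quotientEquivQuotientMvPolynomial (maximalIdeal R)) (X i) = _
    simp [MvPolynomial.quotientEquivQuotientMvPolynomial]
    rfl
  have hd : ringKrullDim (Localization.AtPrime 𝔫) = n :=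
    ringKrullDim_localization_eq (R ⧸ maximalIdeal R) n _ e.toRingEquiv 𝔫 (fun i => by
      show e (X i) ∈ 𝔫
      rw [heX]; exact hX𝔫 i)
  set xs : List (Localization.AtPrime 𝔫) := List.ofFn fun i : Fin n =>
    algebraMap (MvPolynomial (Fin n) R ⧸ I) (Localization.AtPrime 𝔫)
      (Ideal.Quotient.mk I (X i)) with hxsdef
  have hxs : ∀ x ∈ xs, x ∈ maximalIdeal (Localization.AtPrime 𝔫) := by
    intro x hx
    obtain ⟨i, rfl⟩ := (List.mem_ofFn' _ _).mp hx
    rw [IsLocalization.AtPrime.to_map_mem_maximal_iff _ 𝔫]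
    exact hX𝔫 i
  have hmap : xs.map (algebraMap (Localization.AtPrime 𝔫) (O ⧸ 𝔣)) =
      (List.ofFn fun i => algebraMap (MvPolynomial (Fin n) R) O (X i)).map
        (algebraMap O (O ⧸ 𝔣)) := by
    rw [hxsdef, List.map_ofFn, List.map_ofFn]
    congr 1
    funext i
    rw [Function.comp_apply, Function.comp_apply, ← IsScalarTower.algebraMap_apply]
    exact hθX i
  -- the module `M̄`
  set Mbar := M ⧸ 𝔣 • (⊤ : Submodule O M) with hMbar
  haveI twO : IsScalarTower O (O ⧸ 𝔣) Mbar := IsScalarTower.of_algebraMap_smul fun _ _ => rfl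
  letI mA' : Module (Localization.AtPrime 𝔫) Mbar :=
    Module.compHom Mbar (algebraMap (Localization.AtPrime 𝔫) (O ⧸ 𝔣))
  haveI twA' : IsScalarTower (Localization.AtPrime 𝔫) (O ⧸ 𝔣) Mbar :=
    IsScalarTower.of_algebraMap_smul fun _ _ => rfl
  letI mD' : Module (MvPolynomial (Fin n) R ⧸ I) Mbar :=
    Module.compHom Mbar (algebraMap (MvPolynomial (Fin n) R ⧸ I) (O ⧸ 𝔣))
  haveI twD' : IsScalarTower (MvPolynomial (Fin n) R ⧸ I) (O ⧸ 𝔣) Mbar :=
    IsScalarTower.of_algebraMap_smul fun _ _ => rfl
  haveI twD'A' : IsScalarTower (MvPolynomial (Fin n) R ⧸ I) (Localization.AtPrime 𝔫) Mbar :=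
    IsScalarTower.of_algebraMap_smul (R := MvPolynomial (Fin n) R ⧸ I)
        (A := Localization.AtPrime 𝔫) (M := Mbar) fun c (y : Mbar) => by
      show (algebraMap (Localization.AtPrime 𝔫) (O ⧸ 𝔣)
        (algebraMap (MvPolynomial (Fin n) R ⧸ I) (Localization.AtPrime 𝔫) c)) • y =
        (algebraMap (MvPolynomial (Fin n) R ⧸ I) (O ⧸ 𝔣) c) • y
      rw [← IsScalarTower.algebraMap_apply]
  haveI : Module.Finite (O ⧸ 𝔣) Mbar := Module.Finite.of_restrictScalars_finite O _ _
  have hreg' : IsWeaklyRegular Mbar xs := by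
    rw [← isWeaklyRegular_map_algebraMap_iff (O ⧸ 𝔣) Mbar xs, hmap,
      isWeaklyRegular_map_algebraMap_iff (O ⧸ 𝔣) Mbar]
    exact hreg
  haveI hflA' : Module.Flat (Localization.AtPrime 𝔫) Mbar :=
    Groth.Agent.Lib.Helper7.MiracleFlat.flat_of_isWeaklyRegular (A := Localization.AtPrime 𝔫)
      (B := O ⧸ 𝔣) Mbar xs hxs n hd (by rw [hxsdef, List.length_ofFn]) hreg'
  have hflD' : Module.Flat (MvPolynomial (Fin n) R ⧸ I) Mbar :=
    (Module.flat_iff_of_isLocalization (Localization.AtPrime 𝔫) 𝔫.primeCompl Mbar).mp hflA'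
  -- transfer to the module quotient
  have hset : I • (⊤ : Submodule (MvPolynomial (Fin n) R) M) =
      (𝔣 • (⊤ : Submodule O M)).restrictScalars (MvPolynomial (Fin n) R) := by
    rw [← hI𝔣', Ideal.smul_restrictScalars]
    rfl
  haveI tw2 : IsScalarTower (MvPolynomial (Fin n) R) (MvPolynomial (Fin n) R ⧸ I) Mbar :=
    IsScalarTower.of_algebraMap_smul (R := MvPolynomial (Fin n) R)
        (A := MvPolynomial (Fin n) R ⧸ I) (M := Mbar) fun c (y : Mbar) => by
      obtain ⟨m, rfl⟩ := Submodule.Quotient.mk_surjective _ y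
      show θ (Ideal.Quotient.mk I c) • (Submodule.Quotient.mk m : Mbar) = _
      rw [Ideal.quotientMap_mk]
      show (Submodule.Quotient.mk (algebraMap (MvPolynomial (Fin n) R) O c • m) : Mbar) =
        Submodule.Quotient.mk (c • m)
      rw [algebraMap_smul]
  let ε₀ : (M ⧸ I • (⊤ : Submodule (MvPolynomial (Fin n) R) M)) ≃ₗ[MvPolynomial (Fin n) R]
      Mbar :=
    (Submodule.quotEquivOfEq _ _ hset) ≪≫ₗ
      Submodule.Quotient.restrictScalarsEquiv (MvPolynomial (Fin n) R) (𝔣 • (⊤ : Submodule O M))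
  let ε : (M ⧸ I • (⊤ : Submodule (MvPolynomial (Fin n) R) M)) ≃ₗ[MvPolynomial (Fin n) R ⧸ I]
      Mbar := ε₀.extendScalarsOfSurjective Ideal.Quotient.mk_surjective
  haveI := hflD'
  exact Module.Flat.of_linearEquiv ε

end Fibre

section FibreGen

variable (R O : Type u) [CommRing R] [CommRing O] [IsLocalRing R] [IsLocalRing O]
  [Algebra R O] [IsLocalHom (algebraMap R O)] (n : ℕ)
  [Algebra (MvPolynomial (Fin n) R) O] [IsScalarTower R (MvPolynomial (Fin n) R) O]
  (M : Type u) [AddCommGroup M] [Module O M] [Module (MvPolynomial (Fin n) R) M]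
  [IsScalarTower (MvPolynomial (Fin n) R) O M]

set_option maxHeartbeats 1600000 in
set_option synthInstance.maxHeartbeats 200000 in
/-- **closed-fibre flatness of a module over the polynomial ring** when the variables act through
elements which are algebraically independent modulo the maximal ideals. -/
theorem flat_mvPolynomial_fibre_generic_module
    (hgen : ∀ F : MvPolynomial (Fin n) R, algebraMap (MvPolynomial (Fin n) R) O F ∈ maximalIdeal O →
      F ∈ (maximalIdeal R).map (C : R →+* MvPolynomial (Fin n) R)) :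
    Module.Flat (MvPolynomial (Fin n) R ⧸ (maximalIdeal R).map (C : R →+* MvPolynomial (Fin n) R))
      (M ⧸ (maximalIdeal R).map (C : R →+* MvPolynomial (Fin n) R) •
        (⊤ : Submodule (MvPolynomial (Fin n) R) M)) := by
  classical
  set I : Ideal (MvPolynomial (Fin n) R) :=
    (maximalIdeal R).map (C : R →+* MvPolynomial (Fin n) R) with hI
  set 𝔣 : Ideal O := (maximalIdeal R).map (algebraMap R O) with h𝔣
  have hcomp : (algebraMap (MvPolynomial (Fin n) R) O).comp (C : R →+* MvPolynomial (Fin n) R) =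
      algebraMap R O := by
    rw [← MvPolynomial.algebraMap_eq]
    exact (IsScalarTower.algebraMap_eq R (MvPolynomial (Fin n) R) O).symm
  have hI𝔣' : I.map (algebraMap (MvPolynomial (Fin n) R) O) = 𝔣 := by
    rw [hI, Ideal.map_map, hcomp]
  have hI𝔣 : I ≤ 𝔣.comap (algebraMap (MvPolynomial (Fin n) R) O) := by
    rw [← Ideal.map_le_iff_le_comap, hI𝔣']
  have h𝔣m : 𝔣 ≤ maximalIdeal O := IsLocalRing.map_maximalIdeal_le (algebraMap R O)
  haveI : Nontrivial (O ⧸ 𝔣) :=
    Ideal.Quotient.nontrivial_iff.mpr (fun h => (maximalIdeal.isMaximal O).ne_top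
      (top_le_iff.mp (h ▸ h𝔣m)))
  haveI : IsLocalRing (O ⧸ 𝔣) :=
    IsLocalRing.of_surjective' (Ideal.Quotient.mk 𝔣) Ideal.Quotient.mk_surjective
  let θ : (MvPolynomial (Fin n) R ⧸ I) →+* (O ⧸ 𝔣) :=
    Ideal.quotientMap 𝔣 (algebraMap (MvPolynomial (Fin n) R) O) hI𝔣
  letI aD'Ō : Algebra (MvPolynomial (Fin n) R ⧸ I) (O ⧸ 𝔣) := θ.toAlgebra
  letI : Field (R ⧸ maximalIdeal R) := Ideal.Quotient.field _
  let e : MvPolynomial (Fin n) (R ⧸ maximalIdeal R) ≃ₐ[R] (MvPolynomial (Fin n) R ⧸ I) :=
    MvPolynomial.quotientEquivQuotientMvPolynomial (maximalIdeal R)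
  haveI : IsDomain (MvPolynomial (Fin n) R ⧸ I) :=
    e.symm.toRingEquiv.toMulEquiv.isDomain (MvPolynomial (Fin n) (R ⧸ maximalIdeal R))
  -- nonzero elements act through units
  have hunit : ∀ y : nonZeroDivisors (MvPolynomial (Fin n) R ⧸ I), IsUnit (θ y) := by
    rintro ⟨y, hy⟩
    obtain ⟨F, rfl⟩ := Ideal.Quotient.mk_surjective y
    have hF : F ∉ I := by
      intro h
      have h0 : Ideal.Quotient.mk I F = 0 := Ideal.Quotient.eq_zero_iff_mem.mpr h
      exact nonZeroDivisors.ne_zero hy h0
    show IsUnit (θ (Ideal.Quotient.mk I F))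
    rw [show θ (Ideal.Quotient.mk I F) =
      Ideal.Quotient.mk 𝔣 (algebraMap (MvPolynomial (Fin n) R) O F) from Ideal.quotientMap_mk]
    apply IsUnit.map
    by_contra hnu
    exact hF (hgen F ((IsLocalRing.mem_maximalIdeal _).mpr hnu))
  let K := FractionRing (MvPolynomial (Fin n) R ⧸ I)
  let θ' : K →+* (O ⧸ 𝔣) :=
    IsLocalization.lift (M := nonZeroDivisors (MvPolynomial (Fin n) R ⧸ I)) hunit
  letI aKŌ : Algebra K (O ⧸ 𝔣) := θ'.toAlgebra
  haveI tw1 : IsScalarTower (MvPolynomial (Fin n) R ⧸ I) K (O ⧸ 𝔣) :=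
    IsScalarTower.of_algebraMap_eq fun x => (IsLocalization.lift_eq hunit x).symm
  -- the module `M̄`
  set Mbar := M ⧸ 𝔣 • (⊤ : Submodule O M) with hMbar
  haveI twO : IsScalarTower O (O ⧸ 𝔣) Mbar := IsScalarTower.of_algebraMap_smul fun _ _ => rfl
  letI mK : Module K Mbar := Module.compHom Mbar (algebraMap K (O ⧸ 𝔣))
  haveI twK : IsScalarTower K (O ⧸ 𝔣) Mbar := IsScalarTower.of_algebraMap_smul fun _ _ => rfl
  letI mD' : Module (MvPolynomial (Fin n) R ⧸ I) Mbar :=
    Module.compHom Mbar (algebraMap (MvPolynomial (Fin n) R ⧸ I) (O ⧸ 𝔣))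
  haveI twD' : IsScalarTower (MvPolynomial (Fin n) R ⧸ I) (O ⧸ 𝔣) Mbar :=
    IsScalarTower.of_algebraMap_smul fun _ _ => rfl
  haveI twD'K : IsScalarTower (MvPolynomial (Fin n) R ⧸ I) K Mbar :=
    IsScalarTower.of_algebraMap_smul (R := MvPolynomial (Fin n) R ⧸ I) (A := K) (M := Mbar)
        fun c (y : Mbar) => by
      show (algebraMap K (O ⧸ 𝔣) (algebraMap (MvPolynomial (Fin n) R ⧸ I) K c)) • y =
        (algebraMap (MvPolynomial (Fin n) R ⧸ I) (O ⧸ 𝔣) c) • y
      rw [← IsScalarTower.algebraMap_apply]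
  haveI hflK : Module.Flat K Mbar := inferInstance
  have hflD' : Module.Flat (MvPolynomial (Fin n) R ⧸ I) Mbar :=
    (Module.flat_iff_of_isLocalization K (nonZeroDivisors (MvPolynomial (Fin n) R ⧸ I))
      Mbar).mp hflK
  -- transfer to the module quotient
  have hset : I • (⊤ : Submodule (MvPolynomial (Fin n) R) M) =
      (𝔣 • (⊤ : Submodule O M)).restrictScalars (MvPolynomial (Fin n) R) := by
    rw [← hI𝔣', Ideal.smul_restrictScalars]
    rfl
  haveI tw2 : IsScalarTower (MvPolynomial (Fin n) R) (MvPolynomial (Fin n) R ⧸ I) Mbar :=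
    IsScalarTower.of_algebraMap_smul (R := MvPolynomial (Fin n) R)
        (A := MvPolynomial (Fin n) R ⧸ I) (M := Mbar) fun c (y : Mbar) => by
      obtain ⟨m, rfl⟩ := Submodule.Quotient.mk_surjective _ y
      show θ (Ideal.Quotient.mk I c) • (Submodule.Quotient.mk m : Mbar) = _
      rw [Ideal.quotientMap_mk]
      show (Submodule.Quotient.mk (algebraMap (MvPolynomial (Fin n) R) O c • m) : Mbar) =
        Submodule.Quotient.mk (c • m)
      rw [algebraMap_smul]
  let ε₀ : (M ⧸ I • (⊤ : Submodule (MvPolynomial (Fin n) R) M)) ≃ₗ[MvPolynomial (Fin n) R]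
      Mbar :=
    (Submodule.quotEquivOfEq _ _ hset) ≪≫ₗ
      Submodule.Quotient.restrictScalarsEquiv (MvPolynomial (Fin n) R) (𝔣 • (⊤ : Submodule O M))
  let ε : (M ⧸ I • (⊤ : Submodule (MvPolynomial (Fin n) R) M)) ≃ₗ[MvPolynomial (Fin n) R ⧸ I]
      Mbar := ε₀.extendScalarsOfSurjective Ideal.Quotient.mk_surjective
  haveI := hflD'
  exact Module.Flat.of_linearEquiv ε

end FibreGen

section Main

set_option maxHeartbeats 1600000 in
set_option synthInstance.maxHeartbeats 200000 in
/-- **Flatness of a module over `R[T₁..Tₙ]` from flatness of the closed fibre**: `R → S` local, `S`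
essentially finitely presented over `R`, `M` a finitely presented `S`-module flat over `R`, with
`M / m_R M` flat over `k[T₁..Tₙ]`. Then `M` is flat over `R[T₁..Tₙ]`, `Tᵢ ↦ fᵢ`. -/
theorem flat_mvPolynomial_of_fibreFlat_module (R S : Type u) [CommRing R] [CommRing S]
    [IsLocalRing R] [IsLocalRing S] [Algebra R S] [IsLocalHom (algebraMap R S)]
    (S₀ : Type u) [CommRing S₀] [Algebra R S₀] [Algebra.FinitePresentation R S₀] [Algebra S₀ S]
    [IsScalarTower R S₀ S] (T₀ : Submonoid S₀) [IsLocalization T₀ S]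
    (M : Type u) [AddCommGroup M] [Module S M] [Module R M] [IsScalarTower R S M]
    [Module.FinitePresentation S M] [Module.Flat R M]
    (n : ℕ) (f : Fin n → S)
    (hfibQ : letI : Algebra (MvPolynomial (Fin n) R) S := (aeval (R := R) f).toRingHom.toAlgebra
      letI : Module (MvPolynomial (Fin n) R) M :=
        Module.compHom M (algebraMap (MvPolynomial (Fin n) R) S)
      Module.Flat
        (MvPolynomial (Fin n) R ⧸ (maximalIdeal R).map (C : R →+* MvPolynomial (Fin n) R))
        (M ⧸ (maximalIdeal R).map (C : R →+* MvPolynomial (Fin n) R) •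
          (⊤ : Submodule (MvPolynomial (Fin n) R) M))) :
    letI : Algebra (MvPolynomial (Fin n) R) S := (aeval (R := R) f).toRingHom.toAlgebra
    letI : Module (MvPolynomial (Fin n) R) M :=
      Module.compHom M (algebraMap (MvPolynomial (Fin n) R) S)
    Module.Flat (MvPolynomial (Fin n) R) M := by
  letI aXS : Algebra (MvPolynomial (Fin n) R) S := (aeval (R := R) f).toRingHom.toAlgebra
  letI mXM : Module (MvPolynomial (Fin n) R) M :=
    Module.compHom M (algebraMap (MvPolynomial (Fin n) R) S)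
  haveI twXSM : IsScalarTower (MvPolynomial (Fin n) R) S M :=
    IsScalarTower.of_algebraMap_smul fun _ _ => rfl
  haveI twXS : IsScalarTower R (MvPolynomial (Fin n) R) S := IsScalarTower.of_algebraMap_eq fun r =>
    ((aeval (R := R) f).commutes r).symm
  haveI hfib : Module.Flat
      (MvPolynomial (Fin n) R ⧸ (maximalIdeal R).map (algebraMap R (MvPolynomial (Fin n) R)))
      ((MvPolynomial (Fin n) R ⧸ (maximalIdeal R).map (algebraMap R (MvPolynomial (Fin n) R)))
        ⊗[MvPolynomial (Fin n) R] M) :=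
    flat_quot_tensor_of_flat_quot_smul _ M hfibQ
  -- spreading out
  let σ : MvPolynomial (Fin n) R →ₐ[R] S := aeval (R := R) f
  obtain ⟨t, φ, ψ, hψφ, hψ, ht⟩ := exists_spread R (MvPolynomial (Fin n) R) S₀ S T₀ σ
  have hσ : ∀ x, ψ (φ x) = algebraMap (MvPolynomial (Fin n) R) S x := fun x => by
    have := congrArg (fun g => g x) hψφ
    exact this
  letI aφ : Algebra (MvPolynomial (Fin n) R) (Localization.Away t) := φ.toRingHom.toAlgebra
  letI aψ : Algebra (Localization.Away t) S := ψ.toRingHom.toAlgebra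
  haveI tw1 : IsScalarTower R (MvPolynomial (Fin n) R) (Localization.Away t) :=
    IsScalarTower.of_algebraMap_eq fun r => (φ.commutes r).symm
  haveI tw2 : IsScalarTower R (Localization.Away t) S :=
    IsScalarTower.of_algebraMap_eq fun r => (ψ.commutes r).symm
  haveI tw3 : IsScalarTower S₀ (Localization.Away t) S :=
    IsScalarTower.of_algebraMap_eq fun x => (hψ x).symm
  haveI tw6 : IsScalarTower (MvPolynomial (Fin n) R) (Localization.Away t) S :=
    IsScalarTower.of_algebraMap_eq fun x => (hσ x).symm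
  haveI : Algebra.FinitePresentation S₀ (Localization.Away t) :=
    IsLocalization.Away.finitePresentation t
  haveI : Algebra.FinitePresentation R (Localization.Away t) :=
    Algebra.FinitePresentation.trans R S₀ (Localization.Away t)
  haveI hAt : IsLocalization.AtPrime S ((maximalIdeal S).comap (algebraMap S₀ S)) :=
    isLocalization_atPrime_of_isLocalRing T₀
  have hle : Submonoid.powers t ≤ ((maximalIdeal S).comap (algebraMap S₀ S)).primeCompl := by
    rintro _ ⟨k, rfl⟩
    exact fun h => ht (Ideal.IsPrime.mem_of_pow_mem inferInstance k h)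
  haveI hloc'' : IsLocalization
      (((maximalIdeal S).comap (algebraMap S₀ S)).primeCompl.map
        (algebraMap S₀ (Localization.Away t))) S :=
    IsLocalization.isLocalization_of_submonoid_le (Localization.Away t) S (Submonoid.powers t)
      ((maximalIdeal S).comap (algebraMap S₀ S)).primeCompl hle
  -- module structures
  letI mC'M : Module (Localization.Away t) M := Module.compHom M (algebraMap (Localization.Away t) S)
  haveI twC'SM : IsScalarTower (Localization.Away t) S M :=
    IsScalarTower.of_algebraMap_smul fun _ _ => rfl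
  haveI twCC'M : IsScalarTower (MvPolynomial (Fin n) R) (Localization.Away t) M :=
    IsScalarTower.of_algebraMap_smul (R := MvPolynomial (Fin n) R) (A := Localization.Away t)
        (M := M) fun c (m : M) => by
      show (algebraMap (Localization.Away t) S (algebraMap (MvPolynomial (Fin n) R)
        (Localization.Away t) c)) • m = (algebraMap (MvPolynomial (Fin n) R) S c) • m
      rw [← IsScalarTower.algebraMap_apply]
  haveI twRC'M : IsScalarTower R (Localization.Away t) M :=
    IsScalarTower.of_algebraMap_smul (R := R) (A := Localization.Away t) (M := M)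
        fun r (m : M) => by
      show (algebraMap (Localization.Away t) S (algebraMap R (Localization.Away t) r)) • m = r • m
      rw [← IsScalarTower.algebraMap_apply, algebraMap_smul]
  haveI twRCM : IsScalarTower R (MvPolynomial (Fin n) R) M :=
    IsScalarTower.of_algebraMap_smul (R := R) (A := MvPolynomial (Fin n) R) (M := M)
        fun r (m : M) => by
      show (algebraMap (MvPolynomial (Fin n) R) S (algebraMap R (MvPolynomial (Fin n) R) r)) • m =
        r • m
      rw [← IsScalarTower.algebraMap_apply, algebraMap_smul]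
  exact flat_of_flat_fibre_essFP R (MvPolynomial (Fin n) R) (Localization.Away t) S
      (((maximalIdeal S).comap (algebraMap S₀ S)).primeCompl.map
        (algebraMap S₀ (Localization.Away t))) M

set_option maxHeartbeats 1600000 in
set_option synthInstance.maxHeartbeats 200000 in
/-- **Flatness of a module over `R[T₁..Tₙ]`**: `f₁..fₙ ∈ m_S` regular on the closed fibre
`M / m_R M` (over the Noetherian ring `S / m_R S`). -/
theorem flat_mvPolynomial_of_fibre_module (R S : Type u) [CommRing R] [CommRing S]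
    [IsLocalRing R] [IsLocalRing S] [Algebra R S] [IsLocalHom (algebraMap R S)]
    (S₀ : Type u) [CommRing S₀] [Algebra R S₀] [Algebra.FinitePresentation R S₀] [Algebra S₀ S]
    [IsScalarTower R S₀ S] (T₀ : Submonoid S₀) [IsLocalization T₀ S]
    (M : Type u) [AddCommGroup M] [Module S M] [Module R M] [IsScalarTower R S M]
    [Module.FinitePresentation S M] [Module.Flat R M]
    (n : ℕ) (f : Fin n → S) (hf : ∀ i, f i ∈ maximalIdeal S)
    [IsNoetherianRing (S ⧸ (maximalIdeal R).map (algebraMap R S))]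
    (hreg : IsWeaklyRegular (M ⧸ (maximalIdeal R).map (algebraMap R S) • (⊤ : Submodule S M))
      (List.ofFn f)) :
    letI : Algebra (MvPolynomial (Fin n) R) S := (aeval (R := R) f).toRingHom.toAlgebra
    letI : Module (MvPolynomial (Fin n) R) M :=
      Module.compHom M (algebraMap (MvPolynomial (Fin n) R) S)
    Module.Flat (MvPolynomial (Fin n) R) M := by
  letI aXS : Algebra (MvPolynomial (Fin n) R) S := (aeval (R := R) f).toRingHom.toAlgebra
  letI mXM : Module (MvPolynomial (Fin n) R) M :=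
    Module.compHom M (algebraMap (MvPolynomial (Fin n) R) S)
  haveI twXSM : IsScalarTower (MvPolynomial (Fin n) R) S M :=
    IsScalarTower.of_algebraMap_smul fun _ _ => rfl
  haveI twXS : IsScalarTower R (MvPolynomial (Fin n) R) S := IsScalarTower.of_algebraMap_eq fun r =>
    ((aeval (R := R) f).commutes r).symm
  have hX : ∀ i, algebraMap (MvPolynomial (Fin n) R) S (X i) = f i := fun i => aeval_X f i
  haveI : Module.Finite S M := inferInstance
  have hfibQ := flat_mvPolynomial_fibre_module R S n M (fun i => by rw [hX]; exact hf i)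
    (by simp_rw [hX]; exact hreg)
  exact flat_mvPolynomial_of_fibreFlat_module R S S₀ T₀ M n f hfibQ

set_option maxHeartbeats 1600000 in
set_option synthInstance.maxHeartbeats 200000 in
/-- **Flatness of a module over `R[T₁..Tₙ]`, generic case**: `f₁..fₙ ∈ S` algebraically
independent modulo the maximal ideals. -/
theorem flat_mvPolynomial_of_generic_module (R S : Type u) [CommRing R] [CommRing S]
    [IsLocalRing R] [IsLocalRing S] [Algebra R S] [IsLocalHom (algebraMap R S)]
    (S₀ : Type u) [CommRing S₀] [Algebra R S₀] [Algebra.FinitePresentation R S₀] [Algebra S₀ S]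
    [IsScalarTower R S₀ S] (T₀ : Submonoid S₀) [IsLocalization T₀ S]
    (M : Type u) [AddCommGroup M] [Module S M] [Module R M] [IsScalarTower R S M]
    [Module.FinitePresentation S M] [Module.Flat R M]
    (n : ℕ) (f : Fin n → S)
    (hgen : ∀ F : MvPolynomial (Fin n) R, aeval (R := R) f F ∈ maximalIdeal S →
      F ∈ (maximalIdeal R).map (C : R →+* MvPolynomial (Fin n) R)) :
    letI : Algebra (MvPolynomial (Fin n) R) S := (aeval (R := R) f).toRingHom.toAlgebra
    letI : Module (MvPolynomial (Fin n) R) M :=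
      Module.compHom M (algebraMap (MvPolynomial (Fin n) R) S)
    Module.Flat (MvPolynomial (Fin n) R) M := by
  letI aXS : Algebra (MvPolynomial (Fin n) R) S := (aeval (R := R) f).toRingHom.toAlgebra
  letI mXM : Module (MvPolynomial (Fin n) R) M :=
    Module.compHom M (algebraMap (MvPolynomial (Fin n) R) S)
  haveI twXSM : IsScalarTower (MvPolynomial (Fin n) R) S M :=
    IsScalarTower.of_algebraMap_smul fun _ _ => rfl
  haveI twXS : IsScalarTower R (MvPolynomial (Fin n) R) S := IsScalarTower.of_algebraMap_eq fun r =>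
    ((aeval (R := R) f).commutes r).symm
  have hfibQ := flat_mvPolynomial_fibre_generic_module R S n M hgen
  exact flat_mvPolynomial_of_fibreFlat_module R S S₀ T₀ M n f hfibQ

end Main

end Groth.Agent.Lib.Helper21.MCop
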