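import Mathlib
import Groth.Prelude.Def_EGA4b
import Groth.Agent.Lib.Helper21.MCop4
import Groth.Agent.Lib.Helper21.MCop3
import Groth.Agent.Lib.Helper21.FlatDescQ4
import Groth.Agent.Lib.Helper21.Coprof7a

set_option autoImplicit false

namespace Groth.Agent.Lib.Helper21.MCop

open IsLocalRing MvPolynomial RingTheory.Sequence TensorProduct
open scoped Pointwise
open Groth.Agent.Lib.Helper21.FlatDesc

universe u

section FlatP

set_option maxHeartbeats 1600000 in
set_option synthInstance.maxHeartbeats 200000 in
theorem flat_mvPolynomial_loc (A₀ B : Type u) [CommRing A₀] [CommRing B] [Algebra A₀ B]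
    [Algebra.FinitePresentation A₀ B]
    (N : Type u) [AddCommGroup N] [Module B N] [Module A₀ N] [IsScalarTower A₀ B N]
    [Module.FinitePresentation B N]
    (q : Ideal B) [q.IsPrime] (hflat : Module.Flat A₀ (LocalizedModule q.primeCompl N))
    (r : ℕ) (g : Fin r → B) (hg : ∀ i, g i ∈ q)
    (hreg : IsWeaklyRegular (EGA4.FibLocMod A₀ B q N)
      (List.ofFn (fun i => algebraMap B (Localization.AtPrime q) (g i)))) :
    letI : Algebra (MvPolynomial (Fin r) A₀) B := (MvPolynomial.aeval g).toRingHom.toAlgebra
    letI : Module (MvPolynomial (Fin r) A₀) N :=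
      Module.compHom N (algebraMap (MvPolynomial (Fin r) A₀) B)
    haveI : IsScalarTower (MvPolynomial (Fin r) A₀) B N :=
      IsScalarTower.of_algebraMap_smul fun _ _ => rfl
    Module.Flat (MvPolynomial (Fin r) A₀) (LocalizedModule q.primeCompl N) := by
  letI algPB : Algebra (MvPolynomial (Fin r) A₀) B := (MvPolynomial.aeval g).toRingHom.toAlgebra
  letI modPN : Module (MvPolynomial (Fin r) A₀) N :=
    Module.compHom N (algebraMap (MvPolynomial (Fin r) A₀) B)
  haveI twPBN : IsScalarTower (MvPolynomial (Fin r) A₀) B N :=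
    IsScalarTower.of_algebraMap_smul fun _ _ => rfl
  show Module.Flat (MvPolynomial (Fin r) A₀) (LocalizedModule q.primeCompl N)
  set p := q.comap (algebraMap A₀ B) with hp
  let R := Localization.AtPrime p
  let S := Localization.AtPrime q
  let Nq := LocalizedModule q.primeCompl N
  letI algRS : Algebra R S := (Localization.localRingHom p q (algebraMap A₀ B) rfl).toAlgebra
  haveI : IsLocalHom (algebraMap R S) := Localization.isLocalHom_localRingHom p q _ rfl
  haveI twARS : IsScalarTower A₀ R S := IsScalarTower.of_algebraMap_eq fun a => by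
    show algebraMap A₀ S a = Localization.localRingHom p q (algebraMap A₀ B) rfl (algebraMap A₀ R a)
    rw [Localization.localRingHom_to_map, IsScalarTower.algebraMap_apply A₀ B S]
  letI modRN : Module R Nq := Module.compHom Nq (algebraMap R S)
  haveI twRSN : IsScalarTower R S Nq := IsScalarTower.of_algebraMap_smul fun _ _ => rfl
  haveI twARN : IsScalarTower A₀ R Nq := ⟨fun a r n => by
    show algebraMap R S (a • r) • n = a • (algebraMap R S r • n)
    rw [Algebra.smul_def, map_mul, mul_smul, ← IsScalarTower.algebraMap_apply A₀ R S,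
      algebraMap_smul]⟩
  haveI flatRN : Module.Flat R Nq := (Module.flat_iff_of_isLocalization R p.primeCompl Nq).2 hflat
  obtain ⟨S₀, _, a, b, T, hab, ha, hloc⟩ := EssFP.localRingHom (algebraMap A₀ B)
    (RingHom.finitePresentation_algebraMap.2 inferInstance) q
  letI : Algebra R S₀ := a.toAlgebra
  letI : Algebra S₀ S := b.toAlgebra
  haveI : IsScalarTower R S₀ S := IsScalarTower.of_algebraMap_eq fun r => by
    show Localization.localRingHom p q (algebraMap A₀ B) rfl r = b (a r)
    rw [hab]; rfl
  haveI : Algebra.FinitePresentation R S₀ := ha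
  haveI : IsLocalization T S := hloc
  let f : Fin r → S := fun i => algebraMap B S (g i)
  have hf : ∀ i, f i ∈ maximalIdeal S := fun i =>
    (IsLocalization.AtPrime.to_map_mem_maximal_iff S q (g i)).2 (hg i)
  have hmax : (maximalIdeal R).map (algebraMap R S) = p.map (algebraMap A₀ S) := by
    rw [← Localization.AtPrime.map_eq_maximalIdeal, Ideal.map_map, ← IsScalarTower.algebraMap_eq]
  haveI : IsNoetherianRing (S ⧸ (maximalIdeal R).map (algebraMap R S)) := by
    haveI := isNoetherianRing_fibLocRing A₀ B q
    exact isNoetherianRing_of_ringEquiv _ (Ideal.quotEquivOfEq hmax.symm)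
  have hreg' : IsWeaklyRegular
      (Nq ⧸ (maximalIdeal R).map (algebraMap R S) • (⊤ : Submodule S Nq)) (List.ofFn f) :=
    ((Submodule.quotEquivOfEq _ _ (by rw [hmax])).isWeaklyRegular_congr _).2 hreg
  have key := flat_mvPolynomial_of_fibre_module R S S₀ T Nq r f hf hreg'
  letI algRTS : Algebra (MvPolynomial (Fin r) R) S := (aeval (R := R) f).toRingHom.toAlgebra
  letI modRTN : Module (MvPolynomial (Fin r) R) Nq :=
    Module.compHom Nq (algebraMap (MvPolynomial (Fin r) R) S)
  have key' : Module.Flat (MvPolynomial (Fin r) R) Nq := key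
  letI algPRT : Algebra (MvPolynomial (Fin r) A₀) (MvPolynomial (Fin r) R) :=
    MvPolynomial.algebraMvPolynomial
  haveI : IsLocalization (p.primeCompl.map (C (σ := Fin r))) (MvPolynomial (Fin r) R) :=
    MvPolynomial.isLocalization p.primeCompl R
  haveI : Module.Flat (MvPolynomial (Fin r) A₀) (MvPolynomial (Fin r) R) :=
    IsLocalization.flat _ (p.primeCompl.map (C (σ := Fin r)))
  have hcomp : ∀ P : MvPolynomial (Fin r) A₀,
      aeval (R := R) f (MvPolynomial.map (algebraMap A₀ R) P) = algebraMap B S (aeval g P) := by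
    intro P
    induction P using MvPolynomial.induction_on with
    | C a =>
      rw [map_C, aeval_C, aeval_C, ← IsScalarTower.algebraMap_apply,
        ← IsScalarTower.algebraMap_apply]
    | add P Q hP hQ => rw [map_add, map_add, map_add, map_add, hP, hQ]
    | mul_X P i hP => rw [map_mul, map_mul, map_mul, map_mul, hP, map_X, aeval_X, aeval_X]
  haveI : IsScalarTower (MvPolynomial (Fin r) A₀) (MvPolynomial (Fin r) R) Nq := by
    refine IsScalarTower.of_algebraMap_smul fun P x => ?_
    show aeval (R := R) f (MvPolynomial.map (algebraMap A₀ R) P) • x = P • x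
    rw [hcomp, algebraMap_smul]
    exact algebraMap_smul B P x
  exact Module.Flat.trans (MvPolynomial (Fin r) A₀) (MvPolynomial (Fin r) R) Nq

set_option maxHeartbeats 1600000 in
set_option synthInstance.maxHeartbeats 200000 in
theorem flat_mvPolynomial_loc_generic (A₀ B : Type u) [CommRing A₀] [CommRing B] [Algebra A₀ B]
    [Algebra.FinitePresentation A₀ B]
    (N : Type u) [AddCommGroup N] [Module B N] [Module A₀ N] [IsScalarTower A₀ B N]
    [Module.FinitePresentation B N]
    (q : Ideal B) [q.IsPrime] (hflat : Module.Flat A₀ (LocalizedModule q.primeCompl N))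
    (r : ℕ) (g : Fin r → B)
    (hind : AlgebraicIndependent (A₀ ⧸ q.comap (algebraMap A₀ B))
      (fun i => Ideal.Quotient.mk q (g i))) :
    letI : Algebra (MvPolynomial (Fin r) A₀) B := (MvPolynomial.aeval g).toRingHom.toAlgebra
    letI : Module (MvPolynomial (Fin r) A₀) N :=
      Module.compHom N (algebraMap (MvPolynomial (Fin r) A₀) B)
    haveI : IsScalarTower (MvPolynomial (Fin r) A₀) B N :=
      IsScalarTower.of_algebraMap_smul fun _ _ => rfl
    Module.Flat (MvPolynomial (Fin r) A₀) (LocalizedModule q.primeCompl N) := by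
  letI algPB : Algebra (MvPolynomial (Fin r) A₀) B := (MvPolynomial.aeval g).toRingHom.toAlgebra
  letI modPN : Module (MvPolynomial (Fin r) A₀) N :=
    Module.compHom N (algebraMap (MvPolynomial (Fin r) A₀) B)
  haveI twPBN : IsScalarTower (MvPolynomial (Fin r) A₀) B N :=
    IsScalarTower.of_algebraMap_smul fun _ _ => rfl
  show Module.Flat (MvPolynomial (Fin r) A₀) (LocalizedModule q.primeCompl N)
  set p := q.comap (algebraMap A₀ B) with hp
  let R := Localization.AtPrime p
  let S := Localization.AtPrime q
  let Nq := LocalizedModule q.primeCompl N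
  letI algRS : Algebra R S := (Localization.localRingHom p q (algebraMap A₀ B) rfl).toAlgebra
  haveI : IsLocalHom (algebraMap R S) := Localization.isLocalHom_localRingHom p q _ rfl
  haveI twARS : IsScalarTower A₀ R S := IsScalarTower.of_algebraMap_eq fun a => by
    show algebraMap A₀ S a = Localization.localRingHom p q (algebraMap A₀ B) rfl (algebraMap A₀ R a)
    rw [Localization.localRingHom_to_map, IsScalarTower.algebraMap_apply A₀ B S]
  letI modRN : Module R Nq := Module.compHom Nq (algebraMap R S)
  haveI twRSN : IsScalarTower R S Nq := IsScalarTower.of_algebraMap_smul fun _ _ => rfl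
  haveI twARN : IsScalarTower A₀ R Nq := ⟨fun a r n => by
    show algebraMap R S (a • r) • n = a • (algebraMap R S r • n)
    rw [Algebra.smul_def, map_mul, mul_smul, ← IsScalarTower.algebraMap_apply A₀ R S,
      algebraMap_smul]⟩
  haveI flatRN : Module.Flat R Nq := (Module.flat_iff_of_isLocalization R p.primeCompl Nq).2 hflat
  obtain ⟨S₀, _, a, b, T, hab, ha, hloc⟩ := EssFP.localRingHom (algebraMap A₀ B)
    (RingHom.finitePresentation_algebraMap.2 inferInstance) q
  letI : Algebra R S₀ := a.toAlgebra
  letI : Algebra S₀ S := b.toAlgebra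
  haveI : IsScalarTower R S₀ S := IsScalarTower.of_algebraMap_eq fun r => by
    show Localization.localRingHom p q (algebraMap A₀ B) rfl r = b (a r)
    rw [hab]; rfl
  haveI : Algebra.FinitePresentation R S₀ := ha
  haveI : IsLocalization T S := hloc
  let f : Fin r → S := fun i => algebraMap B S (g i)
  haveI : q.LiesOver p := ⟨rfl⟩
  have hgen : ∀ F : MvPolynomial (Fin r) R, aeval (R := R) f F ∈ maximalIdeal S →
      F ∈ (maximalIdeal R).map (C : R →+* MvPolynomial (Fin r) R) := fun F hF =>
    Groth.Agent.Lib.Helper21.Coprof.mem_map_C_of_algebraicIndependent A₀ B q p R S r g hind F hF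
  have key := flat_mvPolynomial_of_generic_module R S S₀ T Nq r f hgen
  letI algRTS : Algebra (MvPolynomial (Fin r) R) S := (aeval (R := R) f).toRingHom.toAlgebra
  letI modRTN : Module (MvPolynomial (Fin r) R) Nq :=
    Module.compHom Nq (algebraMap (MvPolynomial (Fin r) R) S)
  have key' : Module.Flat (MvPolynomial (Fin r) R) Nq := key
  letI algPRT : Algebra (MvPolynomial (Fin r) A₀) (MvPolynomial (Fin r) R) :=
    MvPolynomial.algebraMvPolynomial
  haveI : IsLocalization (p.primeCompl.map (C (σ := Fin r))) (MvPolynomial (Fin r) R) :=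
    MvPolynomial.isLocalization p.primeCompl R
  haveI : Module.Flat (MvPolynomial (Fin r) A₀) (MvPolynomial (Fin r) R) :=
    IsLocalization.flat _ (p.primeCompl.map (C (σ := Fin r)))
  have hcomp : ∀ P : MvPolynomial (Fin r) A₀,
      aeval (R := R) f (MvPolynomial.map (algebraMap A₀ R) P) = algebraMap B S (aeval g P) := by
    intro P
    induction P using MvPolynomial.induction_on with
    | C a =>
      rw [map_C, aeval_C, aeval_C, ← IsScalarTower.algebraMap_apply,
        ← IsScalarTower.algebraMap_apply]
    | add P Q hP hQ => rw [map_add, map_add, map_add, map_add, hP, hQ]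
    | mul_X P i hP => rw [map_mul, map_mul, map_mul, map_mul, hP, map_X, aeval_X, aeval_X]
  haveI : IsScalarTower (MvPolynomial (Fin r) A₀) (MvPolynomial (Fin r) R) Nq := by
    refine IsScalarTower.of_algebraMap_smul fun P x => ?_
    show aeval (R := R) f (MvPolynomial.map (algebraMap A₀ R) P) • x = P • x
    rw [hcomp, algebraMap_smul]
    exact algebraMap_smul B P x
  exact Module.Flat.trans (MvPolynomial (Fin r) A₀) (MvPolynomial (Fin r) R) Nq

end FlatP

end Groth.Agent.Lib.Helper21.MCop
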