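import Mathlib
import Groth.Prelude.Def_EGA4b
import Groth.Agent.Lib.Helper21.MCopA
import Groth.Agent.Lib.Helper21.MCopB1
import Groth.Agent.Lib.Helper21.MCopB2

set_option autoImplicit false

namespace Groth.Agent.Lib.Helper21.MCop

open IsLocalRing MvPolynomial RingTheory.Sequence TensorProduct
open scoped Pointwise
open Groth.Agent.Lib.Helper21.FlatDesc

universe u

section Basic

variable (A₀ B : Type u) [CommRing A₀] [CommRing B] [Algebra A₀ B] (q : Ideal B) [q.IsPrime]

theorem fibIdeal_le_maximalIdeal :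
    (q.comap (algebraMap A₀ B)).map (algebraMap A₀ (Localization.AtPrime q)) ≤
      maximalIdeal (Localization.AtPrime q) := by
  rw [Ideal.map_le_iff_le_comap]
  intro a ha
  rw [Ideal.mem_comap, IsScalarTower.algebraMap_apply A₀ B (Localization.AtPrime q)]
  exact (IsLocalization.AtPrime.to_map_mem_maximal_iff _ q _).2 ha

instance isLocalRing_fibLocRing : IsLocalRing (EGA4.FibLocRing A₀ B q) := by
  haveI : Nontrivial (EGA4.FibLocRing A₀ B q) := by
    rw [Ideal.Quotient.nontrivial_iff]
    intro h
    have := fibIdeal_le_maximalIdeal A₀ B q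
    rw [h] at this
    exact (maximalIdeal.isMaximal _).ne_top (top_le_iff.1 this)
  exact IsLocalRing.of_surjective' (Ideal.Quotient.mk _) Ideal.Quotient.mk_surjective

end Basic

section ListAux

theorem forall₂_mem_transfer {α β : Type*} {R : α → β → Prop} {l₁ : List α} {l₂ : List β}
    (h : List.Forall₂ R l₁ l₂) {P : α → Prop} {Q : β → Prop} (hP : ∀ a ∈ l₁, P a)
    (hR : ∀ a b, R a b → P a → Q b) : ∀ b ∈ l₂, Q b := by
  induction h with
  | nil => simp
  | @cons a b l₁ l₂ hab _ ih =>
    intro b' hb'
    rcases List.mem_cons.1 hb' with rfl | hb'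
    · exact hR a _ hab (hP a List.mem_cons_self)
    · exact ih (fun a ha => hP a (List.mem_cons_of_mem _ ha)) b' hb'

end ListAux

section Claim

variable (A₀ B : Type u) [CommRing A₀] [CommRing B] [Algebra A₀ B] [Algebra.FiniteType A₀ B]
  (N : Type u) [AddCommGroup N] [Module B N] [Module.Finite B N] (q : Ideal B) [q.IsPrime]

set_option maxHeartbeats 800000 in
/-- a sequence of elements of `q` which is regular on the fibre module and cuts its support
down to dimension at most `k`. -/
theorem exists_fibre_regular_seq (k : ℕ)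
    (hcop : McopLE (Localization.AtPrime q) (EGA4.FibLocMod A₀ B q N) k) :
    ∃ bs : List B, (∀ b ∈ bs, b ∈ q) ∧
      IsWeaklyRegular (EGA4.FibLocMod A₀ B q N) (bs.map (algebraMap B (Localization.AtPrime q))) ∧
      Module.supportDim (Localization.AtPrime q) ((EGA4.FibLocMod A₀ B q N) ⧸
        (Ideal.ofList (bs.map (algebraMap B (Localization.AtPrime q))) •
          (⊤ : Submodule (Localization.AtPrime q) (EGA4.FibLocMod A₀ B q N)))) ≤ k := by
  by_cases hM : Subsingleton (EGA4.FibLocMod A₀ B q N)
  · refine ⟨[], by simp, ?_, ?_⟩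
    · rw [List.map_nil]
      exact IsWeaklyRegular.nil _ _
    · rw [Module.supportDim_eq_bot_of_subsingleton]
      exact bot_le
  rw [not_subsingleton_iff_nontrivial] at hM
  haveI := isNoetherianRing_fibLocRing A₀ B q
  obtain ⟨rs, h1, h2, h3⟩ := exists_regular_seq
    ((q.comap (algebraMap A₀ B)).map (algebraMap A₀ (Localization.AtPrime q)))
    (LocalizedModule q.primeCompl N)
  obtain ⟨bs, hbs⟩ := exists_list_lift_units q.primeCompl (Localization.AtPrime q) rs
  have hmem' : ∀ s ∈ bs.map (algebraMap B (Localization.AtPrime q)),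
      s ∈ maximalIdeal (Localization.AtPrime q) :=
    forall₂_mem_transfer hbs h1 (fun a b ⟨u, hu⟩ ha => by
      rw [hu]; exact Ideal.mul_mem_left _ _ ha)
  have hreg : IsWeaklyRegular (EGA4.FibLocMod A₀ B q N)
      (bs.map (algebraMap B (Localization.AtPrime q))) :=
    (isWeaklyRegular_of_forall₂_unit hbs _).1 h2
  refine ⟨bs, ?_, hreg, ?_⟩
  · intro b hb
    exact (IsLocalization.AtPrime.to_map_mem_maximal_iff _ q b).1
      (hmem' _ (List.mem_map_of_mem hb))
  · have hdrop := supportDim_quot_regular_add_length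
      ((q.comap (algebraMap A₀ B)).map (algebraMap A₀ (Localization.AtPrime q)))
      (LocalizedModule q.primeCompl N) _ hmem' hreg
    have hlen : (bs.map (algebraMap B (Localization.AtPrime q))).length = rs.length :=
      hbs.length_eq.symm
    unfold McopLE at hcop
    rw [← h3, ← hdrop, hlen] at hcop
    generalize Module.supportDim (Localization.AtPrime q) ((EGA4.FibLocMod A₀ B q N) ⧸
        (Ideal.ofList (bs.map (algebraMap B (Localization.AtPrime q))) •
          (⊤ : Submodule (Localization.AtPrime q) (EGA4.FibLocMod A₀ B q N)))) = d at hcop ⊢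
    induction d using WithBot.recBotCoe with
    | bot => exact bot_le
    | coe e =>
      have h' : e + (rs.length : ℕ∞) ≤ (rs.length : ℕ∞) + (k : ℕ∞) := by exact_mod_cast hcop
      have : e ≤ k := by
        rw [add_comm] at h'
        exact (ENat.add_le_add_iff_left (ENat.coe_ne_top _)).1 h'
      exact_mod_cast this

end Claim

section LemmaB

set_option maxHeartbeats 1600000 in
set_option synthInstance.maxHeartbeats 200000 in
theorem lemmaB (A₀ B : Type u) [CommRing A₀] [CommRing B] [Algebra A₀ B]
    [Algebra.FinitePresentation A₀ B]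
    (N : Type u) [AddCommGroup N] [Module B N] [Module A₀ N] [IsScalarTower A₀ B N]
    [Module.FinitePresentation B N] (k : ℕ) (q : PrimeSpectrum B)
    (hflat : Module.Flat A₀ (LocalizedModule q.asIdeal.primeCompl N))
    (hcop : McopLE (Localization.AtPrime q.asIdeal) (EGA4.FibLocMod A₀ B q.asIdeal N) k)
    (hcl : ∀ q' : PrimeSpectrum B, q ≤ q' →
      q'.asIdeal.comap (algebraMap A₀ B) = q.asIdeal.comap (algebraMap A₀ B) → q' = q) :
    ∃ U : Set (PrimeSpectrum B), IsOpen U ∧ q ∈ U ∧ ∀ q' ∈ U,
      Module.Flat A₀ (LocalizedModule q'.asIdeal.primeCompl N) ∧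
      McopLE (Localization.AtPrime q'.asIdeal) (EGA4.FibLocMod A₀ B q'.asIdeal N) k := by
  obtain ⟨bs, hbq, hreg, hdim⟩ := exists_fibre_regular_seq A₀ B N q.asIdeal k hcop
  set r := bs.length with hr
  let g : Fin r → B := bs.get
  have hg : ∀ i, g i ∈ q.asIdeal := fun i => hbq _ (List.get_mem bs i)
  have hofFn : List.ofFn (fun i => algebraMap B (Localization.AtPrime q.asIdeal) (g i)) =
      bs.map (algebraMap B (Localization.AtPrime q.asIdeal)) := by
    conv_rhs => rw [← List.ofFn_get bs, List.map_ofFn]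
    rfl
  letI algPB : Algebra (MvPolynomial (Fin r) A₀) B := (MvPolynomial.aeval g).toRingHom.toAlgebra
  letI modPN : Module (MvPolynomial (Fin r) A₀) N :=
    Module.compHom N (algebraMap (MvPolynomial (Fin r) A₀) B)
  haveI twPBN : IsScalarTower (MvPolynomial (Fin r) A₀) B N :=
    IsScalarTower.of_algebraMap_smul fun _ _ => rfl
  have hflatP : Module.Flat (MvPolynomial (Fin r) A₀) (LocalizedModule q.asIdeal.primeCompl N) :=
    flat_mvPolynomial_loc A₀ B N q.asIdeal hflat r g hg (hofFn ▸ hreg)
  haveI twAPB : IsScalarTower A₀ (MvPolynomial (Fin r) A₀) B :=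
    IsScalarTower.of_algebraMap_eq fun a => by
      show algebraMap A₀ B a = MvPolynomial.aeval g (MvPolynomial.C a)
      rw [MvPolynomial.aeval_C]
  haveI twAPN : IsScalarTower A₀ (MvPolynomial (Fin r) A₀) N := ⟨fun a P n => by
    show (MvPolynomial.aeval g (a • P)) • n = a • ((MvPolynomial.aeval g P) • n)
    rw [map_smul, smul_assoc]⟩
  haveI fpPB : Algebra.FinitePresentation (MvPolynomial (Fin r) A₀) B :=
    Algebra.FinitePresentation.of_restrict_scalars_finitePresentation A₀ _ _
  have hPCM : ∀ (r' : Ideal (MvPolynomial (Fin r) A₀)) [r'.IsPrime],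
      LocCoh.IsCohenMacaulayLocalRing (EGA4.FibLocRing A₀ (MvPolynomial (Fin r) A₀) r') :=
    fun r' _ => isCM_fibLocRing_mvPolynomial A₀ r r'
  have hle : (q.asIdeal.comap (algebraMap A₀ B)).map
        (algebraMap A₀ (Localization.AtPrime q.asIdeal)) ⊔
      Ideal.ofList (bs.map (algebraMap B (Localization.AtPrime q.asIdeal))) ≤
      (q.asIdeal.comap (algebraMap (MvPolynomial (Fin r) A₀) B)).map
        (algebraMap (MvPolynomial (Fin r) A₀) (Localization.AtPrime q.asIdeal)) := by
    refine sup_le ?_ ?_
    · rw [Ideal.map_le_iff_le_comap]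
      intro a ha
      rw [Ideal.mem_comap,
        IsScalarTower.algebraMap_apply A₀ (MvPolynomial (Fin r) A₀) (Localization.AtPrime q.asIdeal)]
      refine Ideal.mem_map_of_mem _ ?_
      rw [Ideal.mem_comap, ← IsScalarTower.algebraMap_apply]
      exact ha
    · rw [← hofFn]
      refine Ideal.span_le.2 ?_
      intro s hs
      obtain ⟨i, rfl⟩ := (List.mem_ofFn' _ _).1 hs
      have : algebraMap B (Localization.AtPrime q.asIdeal) (g i) =
          algebraMap (MvPolynomial (Fin r) A₀) (Localization.AtPrime q.asIdeal)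
            (MvPolynomial.X i) := by
        rw [IsScalarTower.algebraMap_apply (MvPolynomial (Fin r) A₀) B
          (Localization.AtPrime q.asIdeal)]
        congr 1
        exact (MvPolynomial.aeval_X g i).symm
      show algebraMap B (Localization.AtPrime q.asIdeal) (g i) ∈ _
      rw [this]
      refine Ideal.mem_map_of_mem _ ?_
      rw [Ideal.mem_comap]
      show MvPolynomial.aeval g (MvPolynomial.X i) ∈ q.asIdeal
      rw [MvPolynomial.aeval_X]
      exact hg i
  have hdimP : Module.supportDim (Localization.AtPrime q.asIdeal)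
      (EGA4.FibLocMod (MvPolynomial (Fin r) A₀) B q.asIdeal N) ≤ k :=
    (supportDim_quot_le (LocalizedModule q.asIdeal.primeCompl N) _ _ _ hle).trans hdim
  have hclP : ∀ q' : PrimeSpectrum B, q ≤ q' →
      q'.asIdeal.comap (algebraMap (MvPolynomial (Fin r) A₀) B) =
        q.asIdeal.comap (algebraMap (MvPolynomial (Fin r) A₀) B) → q' = q := by
    intro q' hqq' hcomap
    refine hcl q' hqq' ?_
    rw [IsScalarTower.algebraMap_eq A₀ (MvPolynomial (Fin r) A₀) B, ← Ideal.comap_comap,
      ← Ideal.comap_comap, hcomap]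
  obtain ⟨U, hU, hqU, hall⟩ := lemmaA A₀ (MvPolynomial (Fin r) A₀) B N hPCM k q hflatP hdimP hclP
  refine ⟨U, hU, hqU, fun q' hq' => ⟨?_, (hall q' hq').2⟩⟩
  haveI := (hall q' hq').1
  exact Module.Flat.trans A₀ (MvPolynomial (Fin r) A₀) (LocalizedModule q'.asIdeal.primeCompl N)

end LemmaB

end Groth.Agent.Lib.Helper21.MCop
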