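import Mathlib
import Groth.Prelude.Def_EGA4b
import Groth.Agent.Lib.Helper21.MCopB3
import Groth.Agent.Lib.Helper18.Chev.AlgCore

set_option autoImplicit false

namespace Groth.Agent.Lib.Helper21.MCop

open IsLocalRing MvPolynomial RingTheory.Sequence TensorProduct
open scoped Pointwise
open Groth.Agent.Lib.Helper21.FlatDesc

universe u

section Core

set_option maxHeartbeats 1600000 in
set_option synthInstance.maxHeartbeats 200000 in
theorem exists_open_good (A₀ B : Type u) [CommRing A₀] [CommRing B] [Algebra A₀ B]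
    [Algebra.FinitePresentation A₀ B]
    (N : Type u) [AddCommGroup N] [Module B N] [Module A₀ N] [IsScalarTower A₀ B N]
    [Module.FinitePresentation B N] (k : ℕ) (q : PrimeSpectrum B)
    (hflat : Module.Flat A₀ (LocalizedModule q.asIdeal.primeCompl N))
    (hcop : McopLE (Localization.AtPrime q.asIdeal) (EGA4.FibLocMod A₀ B q.asIdeal N) k) :
    ∃ U : Set (PrimeSpectrum B), IsOpen U ∧ q ∈ U ∧ ∀ q' ∈ U,
      Module.Flat A₀ (LocalizedModule q'.asIdeal.primeCompl N) ∧
      McopLE (Localization.AtPrime q'.asIdeal) (EGA4.FibLocMod A₀ B q'.asIdeal N) k := by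
  set p₀ := q.asIdeal.comap (algebraMap A₀ B) with hp₀
  haveI : q.asIdeal.LiesOver p₀ := ⟨rfl⟩
  obtain ⟨e, a, hind, halg⟩ := Groth.Agent.Lib.Helper21.Coprof.exists_vec_transcendenceBasis
    (R := A₀) (A := B) q.asIdeal p₀
  letI algPB : Algebra (MvPolynomial (Fin e) A₀) B := (MvPolynomial.aeval a).toRingHom.toAlgebra
  letI modPN : Module (MvPolynomial (Fin e) A₀) N :=
    Module.compHom N (algebraMap (MvPolynomial (Fin e) A₀) B)
  haveI twPBN : IsScalarTower (MvPolynomial (Fin e) A₀) B N :=
    IsScalarTower.of_algebraMap_smul fun _ _ => rfl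
  have hflat₁ : Module.Flat (MvPolynomial (Fin e) A₀) (LocalizedModule q.asIdeal.primeCompl N) :=
    flat_mvPolynomial_loc_generic A₀ B N q.asIdeal hflat e a hind
  haveI twAPB : IsScalarTower A₀ (MvPolynomial (Fin e) A₀) B :=
    IsScalarTower.of_algebraMap_eq fun x => by
      show algebraMap A₀ B x = MvPolynomial.aeval a (MvPolynomial.C x)
      rw [MvPolynomial.aeval_C]
  haveI twAPN : IsScalarTower A₀ (MvPolynomial (Fin e) A₀) N := ⟨fun x P n => by
    show (MvPolynomial.aeval a (x • P)) • n = x • ((MvPolynomial.aeval a P) • n)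
    rw [map_smul, smul_assoc]⟩
  haveI fpPB : Algebra.FinitePresentation (MvPolynomial (Fin e) A₀) B :=
    Algebra.FinitePresentation.of_restrict_scalars_finitePresentation A₀ _ _
  -- the contraction of `q` to the polynomial ring
  have hp₁ : q.asIdeal.comap (algebraMap (MvPolynomial (Fin e) A₀) B) =
      p₀.map (C : A₀ →+* MvPolynomial (Fin e) A₀) := by
    apply le_antisymm
    · intro F hF
      have hF' : MvPolynomial.aeval a F ∈ q.asIdeal := hF
      have h5 : aeval (fun i => Ideal.Quotient.mk q.asIdeal (a i))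
          (MvPolynomial.map (Ideal.Quotient.mk p₀) F) = 0 := by
        rw [← Groth.Agent.Lib.Helper18.Chev.mk_aeval a q.asIdeal p₀ F]
        exact Ideal.Quotient.eq_zero_iff_mem.mpr hF'
      have h6 : MvPolynomial.map (Ideal.Quotient.mk p₀) F = 0 := by
        have := hind
        rw [algebraicIndependent_iff_injective_aeval] at this
        exact this (by rw [h5, map_zero])
      rw [MvPolynomial.mem_map_C_iff]
      intro m
      have := congrArg (MvPolynomial.coeff m) h6
      rw [MvPolynomial.coeff_map, MvPolynomial.coeff_zero] at this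
      exact Ideal.Quotient.eq_zero_iff_mem.mp this
    · rw [Ideal.map_le_iff_le_comap]
      intro x hx
      show MvPolynomial.aeval a (C x) ∈ q.asIdeal
      rw [MvPolynomial.aeval_C]
      exact hx
  have hideal : (q.asIdeal.comap (algebraMap (MvPolynomial (Fin e) A₀) B)).map
      (algebraMap (MvPolynomial (Fin e) A₀) (Localization.AtPrime q.asIdeal)) =
      p₀.map (algebraMap A₀ (Localization.AtPrime q.asIdeal)) := by
    rw [hp₁, Ideal.map_map]
    congr 1
    ext x
    show algebraMap (MvPolynomial (Fin e) A₀) (Localization.AtPrime q.asIdeal) (C x) = _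
    rw [← MvPolynomial.algebraMap_eq, ← IsScalarTower.algebraMap_apply]
  have hcop₁ : McopLE (Localization.AtPrime q.asIdeal)
      (EGA4.FibLocMod (MvPolynomial (Fin e) A₀) B q.asIdeal N) k :=
    (mcopLE_congr (Submodule.quotEquivOfEq _ _ (by rw [hideal])) k).2 hcop
  have hcl₁ : ∀ q' : PrimeSpectrum B, q ≤ q' →
      q'.asIdeal.comap (algebraMap (MvPolynomial (Fin e) A₀) B) =
        q.asIdeal.comap (algebraMap (MvPolynomial (Fin e) A₀) B) → q' = q := by
    intro q' hqq' hcomap
    apply PrimeSpectrum.ext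
    refine Groth.Agent.Lib.Helper18.Chev.eq_of_le_of_forall_aeval a q.asIdeal p₀ halg q'.asIdeal
      hqq' ?_
    intro g hg
    have : g ∈ q'.asIdeal.comap (algebraMap (MvPolynomial (Fin e) A₀) B) := hg
    rw [hcomap] at this
    exact this
  obtain ⟨U, hU, hqU, hall⟩ := lemmaB (MvPolynomial (Fin e) A₀) B N k q hflat₁ hcop₁ hcl₁
  refine ⟨U, hU, hqU, fun q' hq' => ?_⟩
  haveI := (hall q' hq').1
  haveI : IsNoetherianRing (EGA4.FibLocRing A₀ B q'.asIdeal) :=
    isNoetherianRing_fibLocRing A₀ B q'.asIdeal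
  refine ⟨Module.Flat.trans A₀ (MvPolynomial (Fin e) A₀)
    (LocalizedModule q'.asIdeal.primeCompl N), ?_⟩
  exact (mcop_fib_comp_iff A₀ (MvPolynomial (Fin e) A₀) B N q'.asIdeal
    (isCM_fibLocRing_mvPolynomial A₀ e _) k).2 (hall q' hq').2

/-- **EGA IV 12.1.1 (i), algebraic form**: for a finitely presented algebra `A₀ → B` and a finitely
presented `B`-module `N`, the set of primes `q` of `B` at which `N` is flat over `A₀` and the fibre
module `N_q / p N_q` has codepth at most `k` is open. -/
theorem isOpen_flat_mcop (A₀ B : Type u) [CommRing A₀] [CommRing B] [Algebra A₀ B]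
    [Algebra.FinitePresentation A₀ B]
    (N : Type u) [AddCommGroup N] [Module B N] [Module A₀ N] [IsScalarTower A₀ B N]
    [Module.FinitePresentation B N] (k : ℕ) :
    IsOpen {q : PrimeSpectrum B | Module.Flat A₀ (LocalizedModule q.asIdeal.primeCompl N) ∧
      McopLE (Localization.AtPrime q.asIdeal) (EGA4.FibLocMod A₀ B q.asIdeal N) k} := by
  rw [isOpen_iff_forall_mem_open]
  rintro q ⟨h1, h2⟩
  obtain ⟨U, hU, hqU, hall⟩ := exists_open_good A₀ B N k q h1 h2
  exact ⟨U, fun q' hq' => hall q' hq', hU, hqU⟩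

end Core

end Groth.Agent.Lib.Helper21.MCop
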