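import Mathlib
import Groth.Prelude.Def_EGA4b
import Groth.Agent.Lib.Helper21.MCop1
import Groth.Agent.Lib.Helper21.FibreStalk
import Groth.Agent.Lib.Helper17.ModStalk

set_option autoImplicit false

namespace Groth.Agent.Lib.Helper21.MCop

open AlgebraicGeometry CategoryTheory IsLocalRing TensorProduct

universe u

section TensorQuot

variable (R S : Type u) [CommRing R] [CommRing S] [Algebra R S]
  (M : Type u) [AddCommGroup M] [Module R M]

/-- for a surjective `R → S`, `S ⊗[R] M` is `M / (ker) M`, semilinearly. -/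
theorem exists_quot_tensor_semilinear (hs : Function.Surjective (algebraMap R S)) :
    ∃ e : (M ⧸ (RingHom.ker (algebraMap R S) • (⊤ : Submodule R M))) ≃+ S ⊗[R] M,
      ∀ (a : R) (m : M ⧸ (RingHom.ker (algebraMap R S) • (⊤ : Submodule R M))),
        e (a • m) = algebraMap R S a • e m := by
  let e₁ : (R ⧸ RingHom.ker (algebraMap R S)) ≃ₐ[R] S :=
    Ideal.quotientKerAlgEquivOfSurjective (f := Algebra.ofId R S) hs
  let e₂ : (R ⧸ RingHom.ker (algebraMap R S)) ⊗[R] M ≃ₗ[R]
      M ⧸ (RingHom.ker (algebraMap R S) • (⊤ : Submodule R M)) :=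
    TensorProduct.quotTensorEquivQuotSMul M _
  let e : (M ⧸ (RingHom.ker (algebraMap R S) • (⊤ : Submodule R M))) ≃ₗ[R] S ⊗[R] M :=
    e₂.symm ≪≫ₗ TensorProduct.congr e₁.toLinearEquiv (LinearEquiv.refl R M)
  refine ⟨e.toAddEquiv, fun a m => ?_⟩
  show e (a • m) = algebraMap R S a • e m
  rw [map_smul, algebraMap_smul]

end TensorQuot

section Bridge0

variable {Z X : Scheme.{u}}

/-- the codepth of the stalk of a pullback along a morphism with surjective stalk map. -/
theorem mcopLE_pullback_iff (ι : Z ⟶ X) (F : X.Modules) [F.IsQuasicoherent] (z : Z)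
    (hsurj : Function.Surjective (ι.stalkMap z).hom)
    [Module.Finite (X.presheaf.stalk (ι z)) (F.presheaf.stalk (ι z))] (k : ℕ) :
    McopLE (Z.presheaf.stalk z) (((Scheme.Modules.pullback ι).obj F).presheaf.stalk z) k ↔
      McopLE (X.presheaf.stalk (ι z)) (F.presheaf.stalk (ι z) ⧸
        (RingHom.ker (ι.stalkMap z).hom •
          (⊤ : Submodule (X.presheaf.stalk (ι z)) (F.presheaf.stalk (ι z))))) k := by
  letI := (ι.stalkMap z).hom.toAlgebra
  obtain ⟨e₀⟩ := Groth.Agent.Lib.Helper17.ModStalk.nonempty_linearEquiv_stalk_pullback ι F z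
  obtain ⟨e, he⟩ := exists_quot_tensor_semilinear (X.presheaf.stalk (ι z)) (Z.presheaf.stalk z)
    (F.presheaf.stalk (ι z)) hsurj
  rw [mcopLE_congr e₀ k]
  exact (mcopLE_semilinear (algebraMap (X.presheaf.stalk (ι z)) (Z.presheaf.stalk z)) hsurj e he
    k).symm

end Bridge0

section Bridge

open Groth.Agent.Lib.Helper21.FibreStalk

variable {X Y : Scheme.{u}}

theorem ker_toFibStalk' (f : X ⟶ Y) (x : X) (z : f.fiber (f x)) (hz : f.fiberι (f x) z = x) :
    RingHom.ker (toFibStalk f x z hz).hom = fibIdeal f x := by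
  have hzz : z = zpt f x := (f.fiberι (f x)).isEmbedding.injective (by rw [fiberι_zpt, hz])
  subst hzz
  exact ker_toFibStalk f x

theorem mcopLE_transport (F : X.Modules) {x x' : X} (h : x' = x)
    (K' : Ideal (X.presheaf.stalk x')) (K : Ideal (X.presheaf.stalk x))
    (hK : K = K'.comap (X.presheaf.stalkSpecializes (specializes_of_eq h)).hom) (k : ℕ) :
    McopLE (X.presheaf.stalk x') (F.presheaf.stalk x' ⧸
        (K' • (⊤ : Submodule (X.presheaf.stalk x') (F.presheaf.stalk x')))) k ↔
      McopLE (X.presheaf.stalk x) (F.presheaf.stalk x ⧸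
        (K • (⊤ : Submodule (X.presheaf.stalk x) (F.presheaf.stalk x)))) k := by
  subst h
  have hKK : K = K' := by
    rw [hK, TopCat.Presheaf.stalkSpecializes_refl]
    rfl
  subst hKK
  exact Iff.rfl

/-- **the bridge**: the codepth of the stalk of the restriction of `F` to the fibre through `x`
is the codepth of `F_x / m_y F_x`. -/
theorem mcopLE_fibre_iff (f : X ⟶ Y) (F : X.Modules) [F.IsQuasicoherent]
    [∀ x : X, Module.Finite (X.presheaf.stalk x) (F.presheaf.stalk x)] (x : X) (k : ℕ) :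
    McopLE ((f.fiber (f x)).presheaf.stalk (f.asFiber x))
      (((Scheme.Modules.pullback (f.fiberι (f x))).obj F).presheaf.stalk (f.asFiber x)) k ↔
    McopLE (X.presheaf.stalk x) (F.presheaf.stalk x ⧸
        (fibIdeal f x • (⊤ : Submodule (X.presheaf.stalk x) (F.presheaf.stalk x)))) k := by
  have hz : f.fiberι (f x) (f.asFiber x) = x := f.fiberι_asFiber x
  rw [mcopLE_pullback_iff (f.fiberι (f x)) F (f.asFiber x)
    ((f.fiberι (f x)).stalkMap_surjective (f.asFiber x)) k]
  refine mcopLE_transport F hz _ _ ?_ k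
  rw [← ker_toFibStalk' f x (f.asFiber x) hz]
  unfold toFibStalk
  rw [CommRingCat.hom_comp, RingHom.comap_ker]

end Bridge

end Groth.Agent.Lib.Helper21.MCop
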