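import Mathlib
import Groth.Prelude.Def_EGA4b
import Groth.Agent.Lib.Helper21.MCop1

set_option autoImplicit false

namespace Groth.Agent.Lib.Helper21.MCop

open IsLocalRing TensorProduct

universe u

section AlgDict

variable (A₀ B : Type u) [CommRing A₀] [CommRing B] [Algebra A₀ B] (q : Ideal B) [q.IsPrime]
  (N : Type u) [AddCommGroup N] [Module B N]
  (O : Type u) [CommRing O] [IsLocalRing O] [Algebra B O] [IsLocalization.AtPrime O q]
  (M : Type u) [AddCommGroup M] [Module O M] [Module B M] [IsScalarTower B O M]
  [Module.Finite O M]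

set_option maxHeartbeats 800000 in
theorem mcopLE_fibLocMod_iff (g : N →ₗ[B] M) [IsLocalizedModule q.primeCompl g] (K : Ideal O)
    (hK : K = (q.comap (algebraMap A₀ B)).map ((algebraMap B O).comp (algebraMap A₀ B))) (k : ℕ) :
    McopLE (Localization.AtPrime q) (EGA4.FibLocMod A₀ B q N) k ↔
      McopLE O (M ⧸ (K • (⊤ : Submodule O M))) k := by
  let ρ : Localization.AtPrime q ≃ₐ[B] O := IsLocalization.algEquiv q.primeCompl _ _
  letI algBqO : Algebra (Localization.AtPrime q) O := ρ.toAlgHom.toRingHom.toAlgebra
  haveI tw1 : IsScalarTower B (Localization.AtPrime q) O :=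
    IsScalarTower.of_algebraMap_eq fun b => (ρ.commutes b).symm
  letI modBqM : Module (Localization.AtPrime q) M :=
    Module.compHom M (algebraMap (Localization.AtPrime q) O)
  haveI tw2 : IsScalarTower (Localization.AtPrime q) O M :=
    IsScalarTower.of_algebraMap_smul fun _ _ => rfl
  haveI tw3 : IsScalarTower B (Localization.AtPrime q) M :=
    IsScalarTower.of_algebraMap_smul fun b m => by
      show (algebraMap (Localization.AtPrime q) O (algebraMap B (Localization.AtPrime q) b)) • m = b • m
      rw [← IsScalarTower.algebraMap_apply, algebraMap_smul]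
  let l₀ : LocalizedModule q.primeCompl N ≃ₗ[B] M :=
    IsLocalizedModule.linearEquiv q.primeCompl (LocalizedModule.mkLinearMap q.primeCompl N) g
  let l : LocalizedModule q.primeCompl N ≃ₗ[Localization.AtPrime q] M :=
    LinearEquiv.extendScalarsOfIsLocalization q.primeCompl (Localization.AtPrime q) l₀
  set J : Ideal (Localization.AtPrime q) :=
    (q.comap (algebraMap A₀ B)).map (algebraMap A₀ (Localization.AtPrime q)) with hJ
  have hJK : J.map (algebraMap (Localization.AtPrime q) O) = K := by
    rw [hK, hJ, Ideal.map_map]
    congr 1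
    ext a
    show algebraMap (Localization.AtPrime q) O (algebraMap A₀ (Localization.AtPrime q) a) = _
    rw [IsScalarTower.algebraMap_apply A₀ B (Localization.AtPrime q),
      ← IsScalarTower.algebraMap_apply B (Localization.AtPrime q) O]
    rfl
  let e₁ : (LocalizedModule q.primeCompl N ⧸
      (J • (⊤ : Submodule (Localization.AtPrime q) (LocalizedModule q.primeCompl N))))
      ≃ₗ[Localization.AtPrime q] M ⧸ (J • (⊤ : Submodule (Localization.AtPrime q) M)) :=
    Submodule.Quotient.equiv _ _ l (by
      rw [Submodule.map_smul'', Submodule.map_top, LinearEquiv.range])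
  have h : (J • (⊤ : Submodule (Localization.AtPrime q) M)) =
      (K • (⊤ : Submodule O M)).restrictScalars (Localization.AtPrime q) := by
    rw [← hJK, Ideal.smul_restrictScalars, Submodule.restrictScalars_top]
  let e₂ : (M ⧸ (J • (⊤ : Submodule (Localization.AtPrime q) M)))
      ≃ₗ[Localization.AtPrime q] M ⧸ (K • (⊤ : Submodule O M)) :=
    (Submodule.quotEquivOfEq _ _ h).trans
      (Submodule.Quotient.restrictScalarsEquiv (Localization.AtPrime q) _)
  let e := e₁.trans e₂
  have he : ∀ (c : Localization.AtPrime q) (m : EGA4.FibLocMod A₀ B q N),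
      e.toAddEquiv (c • m) = algebraMap (Localization.AtPrime q) O c • e.toAddEquiv m := by
    intro c m
    show e (c • m) = algebraMap (Localization.AtPrime q) O c • e m
    rw [map_smul, algebraMap_smul]
  exact mcopLE_semilinear (algebraMap (Localization.AtPrime q) O) ρ.surjective e.toAddEquiv he k

end AlgDict

end Groth.Agent.Lib.Helper21.MCop
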