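import Mathlib
import Groth.Prelude.Def_EGA4b
import Groth.Agent.Lib.Helper21.MCopS1
import Groth.Agent.Lib.Helper21.MCopS2
import Groth.Agent.Lib.Helper17.ModStalk
import Groth.Agent.Lib.Helper21.MCopC
import Groth.Agent.Lib.Helper21.FlatDescL

set_option autoImplicit false
set_option backward.isDefEq.respectTransparency.types false

namespace Groth.Agent.Lib.Helper21.MCop

open AlgebraicGeometry CategoryTheory IsLocalRing TensorProduct TopologicalSpace
open Groth.Agent.Lib.Helper21.FibreStalk Groth.Agent.Lib.Helper17.ModStalk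

universe u

section Dict

variable {X S : Scheme.{u}}

set_option maxHeartbeats 800000 in
theorem mcopLE_stalk_iff (f : X ⟶ S) (F : X.Modules) [F.IsQuasicoherent]
    {U : X.Opens} {V : S.Opens} (hU : IsAffineOpen U) (hV : IsAffineOpen V) (hUV : U ≤ f ⁻¹ᵁ V)
    (x : X) (hx : x ∈ U) [Module.Finite (X.presheaf.stalk x) (F.presheaf.stalk x)] (k : ℕ) :
    letI : Algebra Γ(S, V) Γ(X, U) := (f.appLE V U hUV).hom.toAlgebra
    McopLE (X.presheaf.stalk x) (F.presheaf.stalk x ⧸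
        (fibIdeal f x • (⊤ : Submodule (X.presheaf.stalk x) (F.presheaf.stalk x)))) k ↔
      McopLE (Localization.AtPrime (hU.primeIdealOf ⟨x, hx⟩).asIdeal)
        (EGA4.FibLocMod Γ(S, V) Γ(X, U) (hU.primeIdealOf ⟨x, hx⟩).asIdeal Γ(F, U)) k := by
  letI algCB : Algebra Γ(S, V) Γ(X, U) := (f.appLE V U hUV).hom.toAlgebra
  letI := X.presheaf.algebra_section_stalk ⟨x, hx⟩
  haveI := hU.isLocalization_stalk ⟨x, hx⟩
  letI := moduleStalkSections F U x hx
  haveI : IsScalarTower Γ(X, U) (X.presheaf.stalk x) (F.presheaf.stalk x) :=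
    IsScalarTower.of_compHom _ _ _
  haveI := isLocalizedModule_germLinear F hU x hx
  refine (mcopLE_fibLocMod_iff Γ(S, V) Γ(X, U) (hU.primeIdealOf ⟨x, hx⟩).asIdeal Γ(F, U)
    (X.presheaf.stalk x) (F.presheaf.stalk x) (germLinear F U x hx) (fibIdeal f x) ?_ k).symm
  letI := S.presheaf.algebra_section_stalk ⟨f x, hUV hx⟩
  haveI := hV.isLocalization_stalk ⟨f x, hUV hx⟩
  have h1 : (hU.primeIdealOf ⟨x, hx⟩).asIdeal.comap (algebraMap Γ(S, V) Γ(X, U)) =
      (hV.primeIdealOf ⟨f x, hUV hx⟩).asIdeal :=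
    congrArg PrimeSpectrum.asIdeal (IsAffineOpen.comap_primeIdealOf_appLE V hV U hU hUV hx)
  have h2 : maximalIdeal (S.presheaf.stalk (f x)) =
      (hV.primeIdealOf ⟨f x, hUV hx⟩).asIdeal.map
        (algebraMap Γ(S, V) (S.presheaf.stalk (f x))) :=
    (IsLocalization.AtPrime.map_eq_maximalIdeal _ _).symm
  unfold fibIdeal
  rw [h2, Ideal.map_map, h1]
  congr 1
  ext r
  show (f.stalkMap x) (S.presheaf.germ V (f x) (hUV hx) r) =
    X.presheaf.germ U x hx (f.appLE V U hUV r)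
  rw [Scheme.Hom.germ_stalkMap_apply, Scheme.Hom.appLE]
  exact (TopCat.Presheaf.germ_res_apply X.presheaf (homOfLE hUV) x hx _).symm

end Dict

section Final

variable {X S : Scheme.{u}}

open Groth.Agent.Lib.Helper21.FlatDesc

theorem finite_stalk_of_fp (F : X.Modules)
    [SheafOfModules.IsFinitePresentation.{u} (R := X.ringCatSheaf) F] (x : X) :
    Module.Finite (X.presheaf.stalk x) (F.presheaf.stalk x) := by
  haveI : F.IsQuasicoherent :=
    Groth.Agent.Lib.Helper29.FPDict.isQuasicoherent_of_isFinitePresentation F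
  obtain ⟨_, ⟨U, hU : IsAffineOpen U, rfl⟩, hxU, -⟩ :=
    X.isBasis_affineOpens.exists_subset_of_mem_open (Set.mem_univ x) isOpen_univ
  letI := X.presheaf.algebra_section_stalk ⟨x, hxU⟩
  haveI := hU.isLocalization_stalk ⟨x, hxU⟩
  letI := moduleStalkSections F U x hxU
  haveI : IsScalarTower Γ(X, U) (X.presheaf.stalk x) (F.presheaf.stalk x) :=
    IsScalarTower.of_compHom _ _ _
  haveI := isLocalizedModule_germLinear F hU x hxU
  haveI : Module.FinitePresentation Γ(X, U) Γ(F, U) :=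
    Groth.Agent.Lib.Helper29.FPDict.fp_of_isAffineOpen F hU
  exact Module.Finite.of_isLocalizedModule (hU.primeIdealOf ⟨x, hxU⟩).asIdeal.primeCompl
    (germLinear F U x hxU)

set_option maxHeartbeats 800000 in
/-- **EGA IV 12.1.1 (i)**: upper semicontinuity of the codepth of the fibres of a flat finitely
presented module. -/
theorem isOpen_fibre_mcop (f : X ⟶ S) [LocallyOfFinitePresentation f] (F : X.Modules)
    [SheafOfModules.IsFinitePresentation.{u} (R := X.ringCatSheaf) F]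
    (hflat : FlatMod.IsFlatOver f F) (k : ℕ) :
    IsOpen {x : X | McopLE ((f.fiber (f x)).presheaf.stalk (f.asFiber x))
      (((Scheme.Modules.pullback (f.fiberι (f x))).obj F).presheaf.stalk (f.asFiber x)) k} := by
  haveI : F.IsQuasicoherent :=
    Groth.Agent.Lib.Helper29.FPDict.isQuasicoherent_of_isFinitePresentation F
  haveI : ∀ x : X, Module.Finite (X.presheaf.stalk x) (F.presheaf.stalk x) :=
    finite_stalk_of_fp F
  rw [isOpen_iff_forall_mem_open]
  intro x hx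
  obtain ⟨_, ⟨V, hV : IsAffineOpen V, rfl⟩, hfxV, -⟩ :=
    S.isBasis_affineOpens.exists_subset_of_mem_open (Set.mem_univ (f x)) isOpen_univ
  obtain ⟨_, ⟨U, hU : IsAffineOpen U, rfl⟩, hxU, hUV⟩ :=
    X.isBasis_affineOpens.exists_subset_of_mem_open (show x ∈ (f ⁻¹ᵁ V : Set X) from hfxV)
      (f ⁻¹ᵁ V).isOpen
  letI algCB : Algebra Γ(S, V) Γ(X, U) := (f.appLE V U hUV).hom.toAlgebra
  letI mC : Module Γ(S, V) Γ(F, U) := Module.compHom Γ(F, U) (algebraMap Γ(S, V) Γ(X, U))
  haveI : IsScalarTower Γ(S, V) Γ(X, U) Γ(F, U) := IsScalarTower.of_compHom _ _ _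
  haveI : Algebra.FinitePresentation Γ(S, V) Γ(X, U) :=
    (HasRingHomProperty.appLE @LocallyOfFinitePresentation f inferInstance ⟨V, hV⟩ ⟨U, hU⟩ hUV :
      RingHom.FinitePresentation _)
  haveI : Module.FinitePresentation Γ(X, U) Γ(F, U) :=
    Groth.Agent.Lib.Helper29.FPDict.fp_of_isAffineOpen F hU
  have hopen := isOpen_flat_mcop Γ(S, V) Γ(X, U) Γ(F, U) k
  refine ⟨Subtype.val '' ((fun y : U => hU.primeIdealOf y) ⁻¹'
    {q : PrimeSpectrum Γ(X, U) |
      Module.Flat Γ(S, V) (LocalizedModule q.asIdeal.primeCompl Γ(F, U)) ∧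
      McopLE (Localization.AtPrime q.asIdeal)
        (EGA4.FibLocMod Γ(S, V) Γ(X, U) q.asIdeal Γ(F, U)) k}), ?_, ?_, ?_⟩
  · rintro _ ⟨y, hy, rfl⟩
    exact (mcopLE_fibre_iff f F y.1 k).2 ((mcopLE_stalk_iff f F hU hV hUV y.1 y.2 k).2 hy.2)
  · exact U.2.isOpenMap_subtype_val _ (hopen.preimage hU.isoSpec.hom.continuous)
  · exact ⟨⟨x, hxU⟩, ⟨(isFlatOverAt_iff_flat_localized f F hU hV hUV x hxU).1 (hflat x),
      (mcopLE_stalk_iff f F hU hV hUV x hxU k).1 ((mcopLE_fibre_iff f F x k).1 hx)⟩, rfl⟩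

end Final

end Groth.Agent.Lib.Helper21.MCop
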