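import Mathlib
import Groth.Prelude.Def_EGA4b
import Groth.Agent.Lib.Helper21.MCopS3
import Groth.Agent.Lib.Helper21.DepthKit1

set_option autoImplicit false
set_option backward.isDefEq.respectTransparency.types false

namespace Groth.Agent.Lib.Helper21.MCop

open AlgebraicGeometry CategoryTheory IsLocalRing TensorProduct TopologicalSpace

universe u

section CMZero

variable {R : Type u} [CommRing R] [IsLocalRing R] [IsNoetherianRing R]
  {M : Type u} [AddCommGroup M] [Module R M] [Module.Finite R M]

theorem subsingleton_or_cm_iff_mcopLE_zero :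
    (Subsingleton M ∨ LocCoh.IsCohenMacaulayModule R M) ↔ McopLE R M 0 := by
  constructor
  · rintro (h | h)
    · exact mcopLE_of_subsingleton 0
    · unfold McopLE
      rw [h, Nat.cast_zero, add_zero]
  · intro h
    by_cases hM : Subsingleton M
    · exact Or.inl hM
    · right
      rw [not_subsingleton_iff_nontrivial] at hM
      unfold McopLE at h
      rw [Nat.cast_zero, add_zero] at h
      exact le_antisymm h DepthKit.depth_le_supportDim

end CMZero

section CMOpen

variable {X S : Scheme.{u}}

theorem finite_stalk_pullback {Z : Scheme.{u}} (ι : Z ⟶ X) (F : X.Modules) [F.IsQuasicoherent]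
    (z : Z) [Module.Finite (X.presheaf.stalk (ι z)) (F.presheaf.stalk (ι z))] :
    Module.Finite (Z.presheaf.stalk z)
      (((Scheme.Modules.pullback ι).obj F).presheaf.stalk z) := by
  letI := (ι.stalkMap z).hom.toAlgebra
  obtain ⟨e₀⟩ := Groth.Agent.Lib.Helper17.ModStalk.nonempty_linearEquiv_stalk_pullback ι F z
  exact Module.Finite.equiv e₀.symm

/-- **EGA IV 12.1.1 (vi)-type statement**: openness of the locus where the fibre module is zero or
Cohen–Macaulay. -/
theorem isOpen_fibre_cm (f : X ⟶ S) [LocallyOfFinitePresentation f] (F : X.Modules)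
    [SheafOfModules.IsFinitePresentation.{u} (R := X.ringCatSheaf) F]
    (hflat : FlatMod.IsFlatOver f F) :
    IsOpen {x : X |
      Subsingleton (((Scheme.Modules.pullback (f.fiberι (f x))).obj F).presheaf.stalk (f.asFiber x)) ∨
      LocCoh.IsCohenMacaulayModule ((f.fiber (f x)).presheaf.stalk (f.asFiber x))
        (((Scheme.Modules.pullback (f.fiberι (f x))).obj F).presheaf.stalk (f.asFiber x))} := by
  haveI : F.IsQuasicoherent :=
    Groth.Agent.Lib.Helper29.FPDict.isQuasicoherent_of_isFinitePresentation F
  haveI : ∀ x : X, Module.Finite (X.presheaf.stalk x) (F.presheaf.stalk x) :=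
    finite_stalk_of_fp F
  convert isOpen_fibre_mcop f F hflat 0 using 1
  ext x
  haveI : IsLocallyNoetherian (f.fiber (f x)) :=
    LocallyOfFiniteType.isLocallyNoetherian (f.fiberToSpecResidueField (f x))
  haveI : IsNoetherianRing ((f.fiber (f x)).presheaf.stalk (f.asFiber x)) := inferInstance
  haveI := finite_stalk_pullback (f.fiberι (f x)) F (f.asFiber x)
  exact subsingleton_or_cm_iff_mcopLE_zero

end CMOpen

end Groth.Agent.Lib.Helper21.MCop
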