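import Mathlib
import Groth.Prelude.Def_EGA4b
import Groth.Agent.Lib.Helper21.MCopS4

set_option autoImplicit false
set_option backward.isDefEq.respectTransparency.types false

namespace Groth.Agent.Lib.Helper21.MCop

open AlgebraicGeometry CategoryTheory IsLocalRing TensorProduct TopologicalSpace
open Groth.Agent.Lib.Helper21.FibreStalk

universe u

section Proper

variable {X Y : Scheme.{u}}

theorem apply_fiberι (f : X ⟶ Y) (y : Y) (z : f.fiber y) : f (f.fiberι y z) = y := by
  have := Set.mem_range_self (f := f.fiberι y) z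
  rw [f.range_fiberι y] at this
  exact this

theorem ker_stalkMap_fiberι (f : X ⟶ Y) (y : Y) (z : f.fiber y) :
    RingHom.ker ((f.fiberι y).stalkMap z).hom = fibIdeal f (f.fiberι y z) := by
  obtain ⟨x, hx⟩ : ∃ x : X, x = f.fiberι y z := ⟨_, rfl⟩
  have key : ∀ (y' : Y) (_ : f x = y') (z' : f.fiber y') (hz : f.fiberι y' z' = x),
      (RingHom.ker ((f.fiberι y').stalkMap z').hom).comap
        (X.presheaf.stalkSpecializes (specializes_of_eq hz)).hom = fibIdeal f x := by
    intro y' h z' hz
    subst h
    rw [← ker_toFibStalk' f x z' hz]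
    unfold toFibStalk
    rw [CommRingCat.hom_comp, RingHom.comap_ker]
  have h2 := key y (hx ▸ apply_fiberι f y z) z hx.symm
  subst hx
  rw [TopCat.Presheaf.stalkSpecializes_refl] at h2
  exact h2

/-- the codepth condition at a point of a fibre `X_y`, in terms of the local ring of `X`. -/
theorem mcopLE_fiber_point_iff (f : X ⟶ Y) (F : X.Modules) [F.IsQuasicoherent]
    [∀ x : X, Module.Finite (X.presheaf.stalk x) (F.presheaf.stalk x)] (y : Y) (z : f.fiber y)
    (k : ℕ) :
    McopLE ((f.fiber y).presheaf.stalk z)
      (((Scheme.Modules.pullback (f.fiberι y)).obj F).presheaf.stalk z) k ↔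
    McopLE ((f.fiber (f (f.fiberι y z))).presheaf.stalk (f.asFiber (f.fiberι y z)))
      (((Scheme.Modules.pullback (f.fiberι (f (f.fiberι y z)))).obj F).presheaf.stalk
        (f.asFiber (f.fiberι y z))) k := by
  rw [mcopLE_fibre_iff f F (f.fiberι y z) k,
    mcopLE_pullback_iff (f.fiberι y) F z ((f.fiberι y).stalkMap_surjective z) k,
    ker_stalkMap_fiberι]

/-- **EGA IV 12.2.1 (i)-type statement**: for `f` proper, the set of `y` whose fibre module has
codepth `≤ k` everywhere is open. -/
theorem isOpen_fibre_mcop_of_proper (f : X ⟶ Y) [IsProper f] [LocallyOfFinitePresentation f]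
    (F : X.Modules) [SheafOfModules.IsFinitePresentation.{u} (R := X.ringCatSheaf) F]
    (hflat : FlatMod.IsFlatOver f F) (k : ℕ) :
    IsOpen {y : Y | ∀ z : f.fiber y, McopLE ((f.fiber y).presheaf.stalk z)
      (((Scheme.Modules.pullback (f.fiberι y)).obj F).presheaf.stalk z) k} := by
  haveI : F.IsQuasicoherent :=
    Groth.Agent.Lib.Helper29.FPDict.isQuasicoherent_of_isFinitePresentation F
  haveI : ∀ x : X, Module.Finite (X.presheaf.stalk x) (F.presheaf.stalk x) :=
    finite_stalk_of_fp F
  have hEo := isOpen_fibre_mcop f F hflat k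
  have hcl := f.isClosedMap _ hEo.isClosed_compl
  convert hcl.isOpen_compl using 1
  ext y
  simp only [Set.mem_setOf_eq, Set.mem_compl_iff, Set.mem_image, not_exists, not_and]
  constructor
  · intro h x hx hfx
    subst hfx
    exact hx (h (f.asFiber x))
  · intro h z
    rw [mcopLE_fiber_point_iff f F y z k]
    by_contra hn
    exact h (f.fiberι y z) hn (apply_fiberι f y z)

theorem isOpen_fibre_cm_of_proper (f : X ⟶ Y) [IsProper f] [LocallyOfFinitePresentation f]
    (F : X.Modules) [SheafOfModules.IsFinitePresentation.{u} (R := X.ringCatSheaf) F]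
    (hflat : FlatMod.IsFlatOver f F) :
    IsOpen {y : Y | ∀ x : f.fiber y,
      Subsingleton (((Scheme.Modules.pullback (f.fiberι y)).obj F).presheaf.stalk x) ∨
      LocCoh.IsCohenMacaulayModule ((f.fiber y).presheaf.stalk x)
        (((Scheme.Modules.pullback (f.fiberι y)).obj F).presheaf.stalk x)} := by
  haveI : F.IsQuasicoherent :=
    Groth.Agent.Lib.Helper29.FPDict.isQuasicoherent_of_isFinitePresentation F
  haveI : ∀ x : X, Module.Finite (X.presheaf.stalk x) (F.presheaf.stalk x) :=
    finite_stalk_of_fp F
  convert isOpen_fibre_mcop_of_proper f F hflat 0 using 1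
  ext y
  refine forall_congr' fun x => ?_
  haveI : IsLocallyNoetherian (f.fiber y) :=
    LocallyOfFiniteType.isLocallyNoetherian (f.fiberToSpecResidueField y)
  haveI : IsNoetherianRing ((f.fiber y).presheaf.stalk x) := inferInstance
  haveI := finite_stalk_pullback (f.fiberι y) F x
  exact subsingleton_or_cm_iff_mcopLE_zero

end Proper

end Groth.Agent.Lib.Helper21.MCop
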