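import Mathlib
import Groth.Prelude.Def_EGA4b
import Groth.Agent.Lib.Helper21.MCopS5

set_option autoImplicit false
set_option backward.isDefEq.respectTransparency.types false

namespace Groth.Agent.Lib.Helper21.MCop

open AlgebraicGeometry CategoryTheory IsLocalRing TensorProduct TopologicalSpace
open Groth.Agent.Lib.Helper21.FibreStalk Groth.Agent.Lib.Helper17.ModStalk

universe u

section SemiEquiv

/-- a semilinear additive equivalence along a surjective ring homomorphism. -/
def SemiEquiv (R : Type u) [CommRing R] (M : Type u) [AddCommGroup M] [Module R M]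
    (S : Type u) [CommRing S] (Y : Type u) [AddCommGroup Y] [Module S Y] : Prop :=
  ∃ (φ : R →+* S) (e : M ≃+ Y), Function.Surjective φ ∧ ∀ (a : R) (x : M), e (a • x) = φ a • e x

variable {R : Type u} [CommRing R] {M : Type u} [AddCommGroup M] [Module R M]
  {S : Type u} [CommRing S] {Y : Type u} [AddCommGroup Y] [Module S Y]
  {T : Type u} [CommRing T] {Z : Type u} [AddCommGroup Z] [Module T Z]

theorem SemiEquiv.of_linearEquiv {M' : Type u} [AddCommGroup M'] [Module R M'] (e : M ≃ₗ[R] M') :
    SemiEquiv R M R M' :=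
  ⟨RingHom.id R, e.toAddEquiv, Function.surjective_id, fun a x => map_smul e a x⟩

theorem SemiEquiv.trans (h₁ : SemiEquiv R M S Y) (h₂ : SemiEquiv S Y T Z) : SemiEquiv R M T Z := by
  obtain ⟨φ, e, hφ, he⟩ := h₁
  obtain ⟨ψ, e', hψ, he'⟩ := h₂
  refine ⟨ψ.comp φ, e.trans e', hψ.comp hφ, fun a x => ?_⟩
  show e' (e (a • x)) = ψ (φ a) • e' (e x)
  rw [he, he']

theorem SemiEquiv.depth_eq [IsLocalRing R] [IsLocalRing S] (h : SemiEquiv R M S Y) :
    LocCoh.depth R M = LocCoh.depth S Y := by
  obtain ⟨φ, e, hφ, he⟩ := h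
  exact DepthKit.depth_eq_of_semilinear φ hφ e he

theorem SemiEquiv.supportDim_eq [IsLocalRing R] [IsLocalRing S] [Module.Finite S Y]
    (h : SemiEquiv R M S Y) :
    Module.supportDim R M = Module.supportDim S Y := by
  obtain ⟨φ, e, hφ, he⟩ := h
  exact DepthKit.supportDim_eq_of_semilinear φ hφ e he

theorem SemiEquiv.subsingleton_iff (h : SemiEquiv R M S Y) : Subsingleton M ↔ Subsingleton Y := by
  obtain ⟨φ, e, hφ, he⟩ := h
  exact e.toEquiv.subsingleton_congr

end SemiEquiv

section BridgeT

variable {X Y : Scheme.{u}}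

theorem semiEquiv_quot_tensor (R S : Type u) [CommRing R] [CommRing S] [Algebra R S]
    (M : Type u) [AddCommGroup M] [Module R M] (hs : Function.Surjective (algebraMap R S)) :
    SemiEquiv R (M ⧸ (RingHom.ker (algebraMap R S) • (⊤ : Submodule R M))) S (S ⊗[R] M) := by
  obtain ⟨e, he⟩ := exists_quot_tensor_semilinear R S M hs
  exact ⟨algebraMap R S, e, hs, he⟩

theorem semiEquiv_pullback {Z : Scheme.{u}} (ι : Z ⟶ X) (F : X.Modules) [F.IsQuasicoherent] (z : Z)
    (hsurj : Function.Surjective (ι.stalkMap z).hom) :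
    SemiEquiv (X.presheaf.stalk (ι z)) (F.presheaf.stalk (ι z) ⧸
        (RingHom.ker (ι.stalkMap z).hom •
          (⊤ : Submodule (X.presheaf.stalk (ι z)) (F.presheaf.stalk (ι z)))))
      (Z.presheaf.stalk z) (((Scheme.Modules.pullback ι).obj F).presheaf.stalk z) := by
  letI := (ι.stalkMap z).hom.toAlgebra
  obtain ⟨e₀⟩ := Groth.Agent.Lib.Helper17.ModStalk.nonempty_linearEquiv_stalk_pullback ι F z
  exact (semiEquiv_quot_tensor (X.presheaf.stalk (ι z)) (Z.presheaf.stalk z)
    (F.presheaf.stalk (ι z)) hsurj).trans (SemiEquiv.of_linearEquiv e₀.symm)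

theorem semiEquiv_transport (F : X.Modules) {x x' : X} (h : x' = x)
    (K' : Ideal (X.presheaf.stalk x')) (K : Ideal (X.presheaf.stalk x))
    (hK : K = K'.comap (X.presheaf.stalkSpecializes (specializes_of_eq h)).hom) :
    SemiEquiv (X.presheaf.stalk x) (F.presheaf.stalk x ⧸
        (K • (⊤ : Submodule (X.presheaf.stalk x) (F.presheaf.stalk x))))
      (X.presheaf.stalk x') (F.presheaf.stalk x' ⧸
        (K' • (⊤ : Submodule (X.presheaf.stalk x') (F.presheaf.stalk x')))) := by
  subst h
  have hKK : K = K' := by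
    rw [hK, TopCat.Presheaf.stalkSpecializes_refl]
    rfl
  subst hKK
  exact SemiEquiv.of_linearEquiv (LinearEquiv.refl _ _)

/-- the stalk at `x` of the restriction of `F` to the fibre through `x` is `F_x / m_y F_x`. -/
theorem semiEquiv_fibre (f : X ⟶ Y) (F : X.Modules) [F.IsQuasicoherent] (x : X) :
    SemiEquiv (X.presheaf.stalk x) (F.presheaf.stalk x ⧸
        (fibIdeal f x • (⊤ : Submodule (X.presheaf.stalk x) (F.presheaf.stalk x))))
      ((f.fiber (f x)).presheaf.stalk (f.asFiber x))
      (((Scheme.Modules.pullback (f.fiberι (f x))).obj F).presheaf.stalk (f.asFiber x)) := by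
  have hz : f.fiberι (f x) (f.asFiber x) = x := f.fiberι_asFiber x
  refine (semiEquiv_transport F hz _ _ ?_).trans (semiEquiv_pullback (f.fiberι (f x)) F
    (f.asFiber x) ((f.fiberι (f x)).stalkMap_surjective (f.asFiber x)))
  rw [← ker_toFibStalk' f x (f.asFiber x) hz]
  unfold toFibStalk
  rw [CommRingCat.hom_comp, RingHom.comap_ker]

/-- the stalk at a point `z` of a fibre `X_y`. -/
theorem semiEquiv_fiber_point (f : X ⟶ Y) (F : X.Modules) [F.IsQuasicoherent] (y : Y)
    (z : f.fiber y) :
    SemiEquiv (X.presheaf.stalk (f.fiberι y z)) (F.presheaf.stalk (f.fiberι y z) ⧸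
        (fibIdeal f (f.fiberι y z) •
          (⊤ : Submodule (X.presheaf.stalk (f.fiberι y z)) (F.presheaf.stalk (f.fiberι y z)))))
      ((f.fiber y).presheaf.stalk z)
      (((Scheme.Modules.pullback (f.fiberι y)).obj F).presheaf.stalk z) := by
  have := semiEquiv_pullback (f.fiberι y) F z ((f.fiberι y).stalkMap_surjective z)
  rw [ker_stalkMap_fiberι] at this
  exact this

end BridgeT

section AlgDictT

variable (A₀ B : Type u) [CommRing A₀] [CommRing B] [Algebra A₀ B] (q : Ideal B) [q.IsPrime]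
  (N : Type u) [AddCommGroup N] [Module B N]
  (O : Type u) [CommRing O] [IsLocalRing O] [Algebra B O] [IsLocalization.AtPrime O q]
  (M : Type u) [AddCommGroup M] [Module O M] [Module B M] [IsScalarTower B O M]

set_option maxHeartbeats 800000 in
theorem semiEquiv_fibLocMod (g : N →ₗ[B] M) [IsLocalizedModule q.primeCompl g] (K : Ideal O)
    (hK : K = (q.comap (algebraMap A₀ B)).map ((algebraMap B O).comp (algebraMap A₀ B))) :
    SemiEquiv (Localization.AtPrime q) (EGA4.FibLocMod A₀ B q N) O
      (M ⧸ (K • (⊤ : Submodule O M))) := by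
  let ρ : Localization.AtPrime q ≃ₐ[B] O := IsLocalization.algEquiv q.primeCompl _ _
  letI algBqO : Algebra (Localization.AtPrime q) O := ρ.toAlgHom.toRingHom.toAlgebra
  haveI tw1 : IsScalarTower B (Localization.AtPrime q) O :=
    IsScalarTower.of_algebraMap_eq fun b => (ρ.commutes b).symm
  letI modBqM : Module (Localization.AtPrime q) M :=
    Module.compHom M (algebraMap (Localization.AtPrime q) O)
  haveI tw2 : IsScalarTower (Localization.AtPrime q) O M :=
    IsScalarTower.of_algebraMap_smul fun _ _ => rfl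
  haveI tw3 : IsScalarTower B (Localization.AtPrime q) M :=
    IsScalarTower.of_algebraMap_smul fun b m => by
      show (algebraMap (Localization.AtPrime q) O (algebraMap B (Localization.AtPrime q) b)) • m = b • m
      rw [← IsScalarTower.algebraMap_apply, algebraMap_smul]
  let l₀ : LocalizedModule q.primeCompl N ≃ₗ[B] M :=
    IsLocalizedModule.linearEquiv q.primeCompl (LocalizedModule.mkLinearMap q.primeCompl N) g
  let l : LocalizedModule q.primeCompl N ≃ₗ[Localization.AtPrime q] M :=
    LinearEquiv.extendScalarsOfIsLocalization q.primeCompl (Localization.AtPrime q) l₀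
  set J : Ideal (Localization.AtPrime q) :=
    (q.comap (algebraMap A₀ B)).map (algebraMap A₀ (Localization.AtPrime q)) with hJ
  have hJK : J.map (algebraMap (Localization.AtPrime q) O) = K := by
    rw [hK, hJ, Ideal.map_map]
    congr 1
    ext a
    show algebraMap (Localization.AtPrime q) O (algebraMap A₀ (Localization.AtPrime q) a) = _
    rw [IsScalarTower.algebraMap_apply A₀ B (Localization.AtPrime q),
      ← IsScalarTower.algebraMap_apply B (Localization.AtPrime q) O]
    rfl
  let e₁ : (LocalizedModule q.primeCompl N ⧸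
      (J • (⊤ : Submodule (Localization.AtPrime q) (LocalizedModule q.primeCompl N))))
      ≃ₗ[Localization.AtPrime q] M ⧸ (J • (⊤ : Submodule (Localization.AtPrime q) M)) :=
    Submodule.Quotient.equiv _ _ l (by
      rw [Submodule.map_smul'', Submodule.map_top, LinearEquiv.range])
  have h : (J • (⊤ : Submodule (Localization.AtPrime q) M)) =
      (K • (⊤ : Submodule O M)).restrictScalars (Localization.AtPrime q) := by
    rw [← hJK, Ideal.smul_restrictScalars, Submodule.restrictScalars_top]
  let e₂ : (M ⧸ (J • (⊤ : Submodule (Localization.AtPrime q) M)))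
      ≃ₗ[Localization.AtPrime q] M ⧸ (K • (⊤ : Submodule O M)) :=
    (Submodule.quotEquivOfEq _ _ h).trans
      (Submodule.Quotient.restrictScalarsEquiv (Localization.AtPrime q) _)
  let e := e₁.trans e₂
  refine ⟨algebraMap (Localization.AtPrime q) O, e.toAddEquiv, ρ.surjective, fun c m => ?_⟩
  show e (c • m) = algebraMap (Localization.AtPrime q) O c • e m
  rw [map_smul, algebraMap_smul]

end AlgDictT

section DictT

variable {X S : Scheme.{u}}

set_option maxHeartbeats 800000 in
theorem semiEquiv_stalk (f : X ⟶ S) (F : X.Modules) [F.IsQuasicoherent]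
    {U : X.Opens} {V : S.Opens} (hU : IsAffineOpen U) (hV : IsAffineOpen V) (hUV : U ≤ f ⁻¹ᵁ V)
    (x : X) (hx : x ∈ U) :
    letI : Algebra Γ(S, V) Γ(X, U) := (f.appLE V U hUV).hom.toAlgebra
    SemiEquiv (Localization.AtPrime (hU.primeIdealOf ⟨x, hx⟩).asIdeal)
        (EGA4.FibLocMod Γ(S, V) Γ(X, U) (hU.primeIdealOf ⟨x, hx⟩).asIdeal Γ(F, U))
      (X.presheaf.stalk x) (F.presheaf.stalk x ⧸
        (fibIdeal f x • (⊤ : Submodule (X.presheaf.stalk x) (F.presheaf.stalk x)))) := by
  letI algCB : Algebra Γ(S, V) Γ(X, U) := (f.appLE V U hUV).hom.toAlgebra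
  letI := X.presheaf.algebra_section_stalk ⟨x, hx⟩
  haveI := hU.isLocalization_stalk ⟨x, hx⟩
  letI := moduleStalkSections F U x hx
  haveI : IsScalarTower Γ(X, U) (X.presheaf.stalk x) (F.presheaf.stalk x) :=
    IsScalarTower.of_compHom _ _ _
  haveI := isLocalizedModule_germLinear F hU x hx
  refine semiEquiv_fibLocMod Γ(S, V) Γ(X, U) (hU.primeIdealOf ⟨x, hx⟩).asIdeal Γ(F, U)
    (X.presheaf.stalk x) (F.presheaf.stalk x) (germLinear F U x hx) (fibIdeal f x) ?_
  letI := S.presheaf.algebra_section_stalk ⟨f x, hUV hx⟩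
  haveI := hV.isLocalization_stalk ⟨f x, hUV hx⟩
  have h1 : (hU.primeIdealOf ⟨x, hx⟩).asIdeal.comap (algebraMap Γ(S, V) Γ(X, U)) =
      (hV.primeIdealOf ⟨f x, hUV hx⟩).asIdeal :=
    congrArg PrimeSpectrum.asIdeal (IsAffineOpen.comap_primeIdealOf_appLE V hV U hU hUV hx)
  have h2 : maximalIdeal (S.presheaf.stalk (f x)) =
      (hV.primeIdealOf ⟨f x, hUV hx⟩).asIdeal.map
        (algebraMap Γ(S, V) (S.presheaf.stalk (f x))) :=
    (IsLocalization.AtPrime.map_eq_maximalIdeal _ _).symm
  unfold fibIdeal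
  rw [h2, Ideal.map_map, h1]
  congr 1
  ext r
  show (f.stalkMap x) (S.presheaf.germ V (f x) (hUV hx) r) =
    X.presheaf.germ U x hx (f.appLE V U hUV r)
  rw [Scheme.Hom.germ_stalkMap_apply, Scheme.Hom.appLE]
  exact (TopCat.Presheaf.germ_res_apply X.presheaf (homOfLE hUV) x hx _).symm

/-- **chart dictionary**: the stalk at `x` of the restriction of `F` to the fibre through `x` is the
fibre module of the chart. -/
theorem semiEquiv_chart (f : X ⟶ S) (F : X.Modules) [F.IsQuasicoherent]
    {U : X.Opens} {V : S.Opens} (hU : IsAffineOpen U) (hV : IsAffineOpen V) (hUV : U ≤ f ⁻¹ᵁ V)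
    (x : X) (hx : x ∈ U) :
    letI : Algebra Γ(S, V) Γ(X, U) := (f.appLE V U hUV).hom.toAlgebra
    SemiEquiv (Localization.AtPrime (hU.primeIdealOf ⟨x, hx⟩).asIdeal)
        (EGA4.FibLocMod Γ(S, V) Γ(X, U) (hU.primeIdealOf ⟨x, hx⟩).asIdeal Γ(F, U))
      ((f.fiber (f x)).presheaf.stalk (f.asFiber x))
      (((Scheme.Modules.pullback (f.fiberι (f x))).obj F).presheaf.stalk (f.asFiber x)) :=
  (semiEquiv_stalk f F hU hV hUV x hx).trans (semiEquiv_fibre f F x)

end DictT

end Groth.Agent.Lib.Helper21.MCop
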