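import Mathlib
import Groth.Prelude.Def_EGA4b
import Groth.Agent.Lib.Helper21.MCopT
import Groth.Agent.Lib.Helper21.DepthKit13

/-!
# Helper21 — FibDepth1: the fibre module at a generization in the same fibre is a localization
of the fibre module.
-/

set_option autoImplicit false

namespace Groth.Agent.Lib.Helper21.FibDepth

open IsLocalRing Pointwise
open Groth.Agent.Lib.Helper21.MCop Groth.Agent.Lib.Helper21.DepthKit

universe u

section Loc

variable {B : Type u} [CommRing B] (S : Submonoid B) (N : Type u) [AddCommGroup N] [Module B N]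
  (𝔞 : Ideal B)

/-- `(N/𝔞N)_S ≃ N_S/𝔞N_S`. -/
noncomputable def localizedQuotSMulEquiv :
    LocalizedModule S (N ⧸ (𝔞 • ⊤ : Submodule B N)) ≃ₗ[Localization S]
      (LocalizedModule S N ⧸ (𝔞.map (algebraMap B (Localization S)) •
        (⊤ : Submodule (Localization S) (LocalizedModule S N)))) :=
  (localizedQuotientEquiv _ _).symm ≪≫ₗ Submodule.quotEquivOfEq _ _ (by
    rw [Submodule.localized, Submodule.localized'_smul, Ideal.localized'_eq_map,
      Submodule.localized'_top])

end Loc

section Dict

variable (A₀ B : Type u) [CommRing A₀] [CommRing B] [Algebra A₀ B]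
  (N : Type u) [AddCommGroup N] [Module B N]

/-- the fibre module at `z` as a localization of `N/pN` where `p` is any ideal of `A₀` with the
same extension to `B_z` as `z ∩ A₀`. -/
noncomputable def fibLocModEquiv (z : Ideal B) [z.IsPrime] (p : Ideal A₀)
    (hp : p = z.comap (algebraMap A₀ B)) :
    LocalizedModule z.primeCompl (N ⧸ (p.map (algebraMap A₀ B) • ⊤ : Submodule B N))
      ≃ₗ[Localization.AtPrime z] EGA4.FibLocMod A₀ B z N :=
  (localizedQuotSMulEquiv z.primeCompl N (p.map (algebraMap A₀ B))) ≪≫ₗ
    Submodule.quotEquivOfEq _ _ (by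
      rw [Ideal.map_map, ← IsScalarTower.algebraMap_eq, hp])

set_option maxHeartbeats 800000 in
/-- **dictionary**: for a prime `P` of `B_q` whose contraction `z` to `B` lies in the same fibre as
`q`, the localization at `P` of the fibre module at `q` is the fibre module at `z`. -/
theorem semiEquiv_fibLocMod_localization (q : Ideal B) [q.IsPrime]
    (P : Ideal (Localization.AtPrime q)) [P.IsPrime]
    (z : Ideal B) [z.IsPrime] (hz : z = P.comap (algebraMap B (Localization.AtPrime q)))
    (hzq : z.comap (algebraMap A₀ B) = q.comap (algebraMap A₀ B)) :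
    SemiEquiv (Localization.AtPrime z) (EGA4.FibLocMod A₀ B z N)
      (Localization.AtPrime P) (LocalizedModule P.primeCompl (EGA4.FibLocMod A₀ B q N)) := by
  set p : Ideal A₀ := q.comap (algebraMap A₀ B) with hp
  let e_q := fibLocModEquiv A₀ B N q p hp
  let e_z := fibLocModEquiv A₀ B N z p hzq.symm
  let f : (N ⧸ (p.map (algebraMap A₀ B) • ⊤ : Submodule B N)) →ₗ[B] EGA4.FibLocMod A₀ B q N :=
    (e_q.restrictScalars B).toLinearMap ∘ₗ LocalizedModule.mkLinearMap q.primeCompl _
  haveI : IsLocalizedModule q.primeCompl f :=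
    IsLocalizedModule.of_linearEquiv q.primeCompl
      (LocalizedModule.mkLinearMap q.primeCompl _) (e_q.restrictScalars B)
  subst hz
  obtain ⟨e, he⟩ := exists_semilinear_localization_of_isLocalization q.primeCompl f P
  exact (SemiEquiv.of_linearEquiv e_z.symm).trans
    ⟨_, e, surjective_localRingHom_of_isLocalization q.primeCompl P, he⟩

end Dict

end Groth.Agent.Lib.Helper21.FibDepth
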