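import Mathlib
import Groth.Agent.Lib.Helper21.MCop2
import Groth.Agent.Lib.Helper21.MCop3

/-!
# Helper21 — MCopD1: the depth of the closed fibre of a module along a composite
-/

set_option autoImplicit false

namespace Groth.Agent.Lib.Helper21.MCop

open IsLocalRing TensorProduct Module Pointwise
open Groth.Agent.Lib.Helper21 Groth.Agent.Lib.Helper7.FibreCMComp

universe u

section Local

variable (A B C : Type u) [CommRing A] [CommRing B] [CommRing C]
  [IsLocalRing A] [IsLocalRing B] [IsLocalRing C]
  [Algebra A B] [Algebra B C] [Algebra A C] [IsScalarTower A B C]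
  [IsLocalHom (algebraMap A B)] [IsLocalHom (algebraMap B C)]
  (N : Type u) [AddCommGroup N] [Module C N] [Module B N] [IsScalarTower B C N]

attribute [local instance] modBar

set_option maxHeartbeats 1600000 in
set_option synthInstance.maxHeartbeats 200000 in
/-- **depth of the closed fibres of a module along a composite**: for local homomorphisms
`A → B → C`, `N` a finite `C`-module flat over `B`:
`depth (N / m_A N) = depth (B / m_A B) + depth (N / m_B N)`. -/
theorem mq_depth_comp [IsNoetherianRing (C ⧸ IC A B C)] [IsNoetherianRing (B ⧸ IB A B)]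
    [Module.Finite C N] [Module.Flat B N] :
    LocCoh.depth C (N ⧸ (IC A B C • (⊤ : Submodule C N))) =
      LocCoh.depth (B ⧸ IB A B) (B ⧸ IB A B) +
        LocCoh.depth C (N ⧸ (JC B C • (⊤ : Submodule C N))) := by
  haveI := flat_bar_module A B C N
  haveI tw : IsScalarTower C (C ⧸ IC A B C) (N ⧸ (IC A B C • (⊤ : Submodule C N))) :=
    IsScalarTower.of_algebraMap_smul fun _ _ => rfl
  haveI : Module.Finite (C ⧸ IC A B C) (N ⧸ (IC A B C • (⊤ : Submodule C N))) :=
    Module.Finite.of_restrictScalars_finite C _ _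
  have hsurj : Function.Surjective (Ideal.Quotient.mk (IC A B C)) := Ideal.Quotient.mk_surjective
  have h1 := FlatLocal.depth_tensor (R := B ⧸ IB A B) (S := C ⧸ IC A B C)
    (N ⧸ (IC A B C • (⊤ : Submodule C N))) (B ⧸ IB A B)
  have e : (N ⧸ (IC A B C • (⊤ : Submodule C N))) ⊗[B ⧸ IB A B] (B ⧸ IB A B) ≃ₗ[C ⧸ IC A B C]
      (N ⧸ (IC A B C • (⊤ : Submodule C N))) :=
    TensorProduct.AlgebraTensorModule.rid (B ⧸ IB A B) (C ⧸ IC A B C) _
  have h0 : LocCoh.depth (C ⧸ IC A B C)
      ((N ⧸ (IC A B C • (⊤ : Submodule C N))) ⊗[B ⧸ IB A B] (B ⧸ IB A B)) =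
      LocCoh.depth (C ⧸ IC A B C) (N ⧸ (IC A B C • (⊤ : Submodule C N))) :=
    DepthKit.idealDepth_congr _ e
  rw [h0] at h1
  have h2 : LocCoh.depth C (N ⧸ (IC A B C • (⊤ : Submodule C N))) =
      LocCoh.depth (C ⧸ IC A B C) (N ⧸ (IC A B C • (⊤ : Submodule C N))) :=
    DepthKit.depth_eq_of_semilinear (Ideal.Quotient.mk (IC A B C)) hsurj (AddEquiv.refl _)
      (fun c x => (algebraMap_smul (C ⧸ IC A B C) c x).symm)
  obtain ⟨e', he'⟩ := exists_fibre_semilinear A B C N
  have h3 : LocCoh.depth C (N ⧸ (JC B C • (⊤ : Submodule C N))) =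
      LocCoh.depth (C ⧸ IC A B C)
        (FlatLocal.fibre (B ⧸ IB A B) (C ⧸ IC A B C) (N ⧸ (IC A B C • (⊤ : Submodule C N)))) :=
    DepthKit.depth_eq_of_semilinear (Ideal.Quotient.mk (IC A B C)) hsurj e' he'
  rw [h2, h1, h3]

end Local

section Comp

open Groth.Agent.Lib.Helper21.FlatLocal

variable (A₀ P B : Type u) [CommRing A₀] [CommRing P] [CommRing B] [Algebra A₀ P] [Algebra P B]
  [Algebra A₀ B] [IsScalarTower A₀ P B]
  (N : Type u) [AddCommGroup N] [Module B N] [Module P N] [IsScalarTower P B N]
  (q : Ideal B) [q.IsPrime]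

attribute [local instance] Localization.AtPrime.algebraOfLiesOver
attribute [local instance] moduleLoc

theorem depth_self_eq_of_ringEquiv {R R' : Type u} [CommRing R] [CommRing R'] [IsLocalRing R]
    [IsLocalRing R'] (e : R ≃+* R') : LocCoh.depth R R = LocCoh.depth R' R' :=
  DepthKit.depth_eq_of_semilinear e.toRingHom e.surjective e.toAddEquiv (fun a x => map_mul e a x)

set_option maxHeartbeats 1600000 in
set_option synthInstance.maxHeartbeats 200000 in
/-- **depth of the fibre modules along a composite `A₀ → P → B`**. -/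
theorem depth_fib_comp [IsNoetherianRing (EGA4.FibLocRing A₀ B q)]
    [IsNoetherianRing (EGA4.FibLocRing A₀ P (q.under P))]
    [Module.Finite (Localization.AtPrime q) (LocalizedModule q.primeCompl N)]
    [Module.Flat P (LocalizedModule q.primeCompl N)] :
    LocCoh.depth (Localization.AtPrime q) (EGA4.FibLocMod A₀ B q N) =
      LocCoh.depth (EGA4.FibLocRing A₀ P (q.under P)) (EGA4.FibLocRing A₀ P (q.under P)) +
        LocCoh.depth (Localization.AtPrime q) (EGA4.FibLocMod P B q N) := by
  set p' := q.under P with hp'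
  set p₀ := q.under A₀ with hp₀
  haveI h1 : q.LiesOver p' := ⟨rfl⟩
  haveI h2 : q.LiesOver p₀ := ⟨rfl⟩
  haveI h3 : p'.LiesOver p₀ := ⟨by rw [hp₀, hp', Ideal.under_under]⟩
  haveI := isLocalHom_loc p₀ p'
  haveI := isLocalHom_loc p' q
  haveI hfl : Module.Flat (Localization.AtPrime p') (LocalizedModule q.primeCompl N) :=
    (Module.flat_iff_of_isLocalization (Localization.AtPrime p') p'.primeCompl _).2 inferInstance
  have hIC : IC (Localization.AtPrime p₀) (Localization.AtPrime p') (Localization.AtPrime q) =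
      (q.comap (algebraMap A₀ B)).map (algebraMap A₀ (Localization.AtPrime q)) := by
    rw [IC_eq]
    exact map_maximalIdeal_loc p₀ q
  have hJC : JC (Localization.AtPrime p') (Localization.AtPrime q) =
      (q.comap (algebraMap P B)).map (algebraMap P (Localization.AtPrime q)) :=
    map_maximalIdeal_loc p' q
  have hIB : IB (Localization.AtPrime p₀) (Localization.AtPrime p') =
      (p'.comap (algebraMap A₀ P)).map (algebraMap A₀ (Localization.AtPrime p')) := by
    have := map_maximalIdeal_loc p₀ p'
    refine this.trans ?_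
    congr 1
    exact h3.over
  haveI : IsNoetherianRing (Localization.AtPrime q ⧸
      IC (Localization.AtPrime p₀) (Localization.AtPrime p') (Localization.AtPrime q)) :=
    isNoetherianRing_of_ringEquiv _ (Ideal.quotEquivOfEq hIC.symm)
  haveI : IsNoetherianRing (Localization.AtPrime p' ⧸
      IB (Localization.AtPrime p₀) (Localization.AtPrime p')) :=
    isNoetherianRing_of_ringEquiv _ (Ideal.quotEquivOfEq hIB.symm)
  have key := mq_depth_comp (Localization.AtPrime p₀) (Localization.AtPrime p')
    (Localization.AtPrime q) (LocalizedModule q.primeCompl N)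
  have e1 : (LocalizedModule q.primeCompl N ⧸
      (IC (Localization.AtPrime p₀) (Localization.AtPrime p') (Localization.AtPrime q) •
        (⊤ : Submodule (Localization.AtPrime q) (LocalizedModule q.primeCompl N))))
      ≃ₗ[Localization.AtPrime q] EGA4.FibLocMod A₀ B q N :=
    Submodule.quotEquivOfEq _ _ (by rw [hIC])
  have e2 : (LocalizedModule q.primeCompl N ⧸
      (JC (Localization.AtPrime p') (Localization.AtPrime q) •
        (⊤ : Submodule (Localization.AtPrime q) (LocalizedModule q.primeCompl N))))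
      ≃ₗ[Localization.AtPrime q] EGA4.FibLocMod P B q N :=
    Submodule.quotEquivOfEq _ _ (by rw [hJC])
  have d1 := DepthKit.idealDepth_congr (maximalIdeal (Localization.AtPrime q)) e1
  have d2 := DepthKit.idealDepth_congr (maximalIdeal (Localization.AtPrime q)) e2
  have d3 := depth_self_eq_of_ringEquiv (Ideal.quotEquivOfEq hIB)
  unfold LocCoh.depth at key d3 ⊢
  rw [← d1, ← d2, ← d3]
  exact key

end Comp

end Groth.Agent.Lib.Helper21.MCop
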