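import Mathlib
import Groth.Agent.Lib.Helper24.FibreDim.Scheme
import Groth.Agent.Lib.Helper21.MCopChev
import Groth.Agent.Lib.lead.SmoothRelDim

set_option autoImplicit false
set_option backward.isDefEq.respectTransparency.types false

namespace Groth.Agent.Lib.Helper21.MCop

open AlgebraicGeometry CategoryTheory IsLocalRing TopologicalSpace
open Groth.Agent.Lib.Helper24.FibreDim

universe u

section Tr

variable {X Y Z : Scheme.{u}}

theorem tr_congr {f g : X ⟶ Y} [LocallyOfFiniteType f] [LocallyOfFiniteType g] (h : f = g)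
    (x : X) : tr f x = tr g x := by
  subst h
  rfl

theorem tr_comp (g : X ⟶ Y) (f : Y ⟶ Z) [LocallyOfFiniteType g] [LocallyOfFiniteType f] (x : X) :
    tr (g ≫ f) x = tr g x + tr f (g x) := by
  have h1 := tr_spec (g ≫ f) x
  have h2 := tr_spec g x
  have h3 := tr_spec f (g x)
  letI a1 : Algebra (Z.residueField (f (g x))) (Y.residueField (g x)) :=
    (f.residueFieldMap (g x)).hom.toAlgebra
  letI a2 : Algebra (Y.residueField (g x)) (X.residueField x) := (g.residueFieldMap x).hom.toAlgebra
  letI a3 : Algebra (Z.residueField (f (g x))) (X.residueField x) :=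
    ((g ≫ f).residueFieldMap x).hom.toAlgebra
  haveI : IsScalarTower (Z.residueField (f (g x))) (Y.residueField (g x)) (X.residueField x) :=
    IsScalarTower.of_algebraMap_eq (fun r => by
      show ((g ≫ f).residueFieldMap x).hom r =
        (g.residueFieldMap x).hom ((f.residueFieldMap (g x)).hom r)
      rw [Scheme.residueFieldMap_comp]
      rfl)
  have h4 := trdeg_add_eq (R := Z.residueField (f (g x))) (S := Y.residueField (g x))
    (A := X.residueField x)
  rw [h2, h3] at h4
  have h5 : ((tr f (g x) + tr g x : ℕ) : Cardinal.{u}) = (tr (g ≫ f) x : ℕ) := by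
    rw [← h1]
    push_cast
    exact h4
  have h6 : tr f (g x) + tr g x = tr (g ≫ f) x := by exact_mod_cast h5
  omega

theorem tr_of_isOpenImmersion (j : X ⟶ Y) [IsOpenImmersion j] (x : X) : tr j x = 0 := by
  have h1 := tr_spec j x
  letI : Algebra (Y.residueField (j x)) (X.residueField x) := (j.residueFieldMap x).hom.toAlgebra
  have hbij : Function.Bijective (j.residueFieldMap x).hom :=
    (ConcreteCategory.isIso_iff_bijective (j.residueFieldMap x)).1 inferInstance
  haveI : Algebra.IsAlgebraic (Y.residueField (j x)) (X.residueField x) :=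
    ⟨fun y => by
      obtain ⟨r, rfl⟩ := hbij.2 y
      exact isAlgebraic_algebraMap r⟩
  rw [trdeg_eq_zero] at h1
  exact_mod_cast h1.symm

end Tr

section Chart

variable {X S : Scheme.{u}}

theorem tr_chart (f : X ⟶ S) [LocallyOfFiniteType f] {U : X.Opens} {V : S.Opens}
    (hU : IsAffineOpen U) (hV : IsAffineOpen V) (hUV : U ≤ f ⁻¹ᵁ V) (x : X) (hx : x ∈ U) :
    letI : Algebra Γ(S, V) Γ(X, U) := (f.appLE V U hUV).hom.toAlgebra
    haveI : Algebra.FiniteType Γ(S, V) Γ(X, U) := f.finiteType_appLE hV hU hUV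
    tr f x = tr (specMap Γ(S, V) Γ(X, U)) (hU.primeIdealOf ⟨x, hx⟩) := by
  letI : Algebra Γ(S, V) Γ(X, U) := (f.appLE V U hUV).hom.toAlgebra
  haveI : Algebra.FiniteType Γ(S, V) Γ(X, U) := f.finiteType_appLE hV hU hUV
  haveI : IsIso U.toSpecΓ := hU.isoSpec_hom ▸ inferInstance
  haveI : IsIso V.toSpecΓ := hV.isoSpec_hom ▸ inferInstance
  haveI : LocallyOfFiniteType (f.resLE V U hUV) := by
    have h1 : f.resLE V U hUV ≫ V.ι = U.ι ≫ f := Scheme.Hom.resLE_comp_ι f hUV
    have : LocallyOfFiniteType (f.resLE V U hUV ≫ V.ι) := by rw [h1]; infer_instance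
    exact locallyOfFiniteType_of_comp (f.resLE V U hUV) V.ι
  let x' : U := ⟨x, hx⟩
  have e1 : tr f x = tr (f.resLE V U hUV) x' := by
    have a := tr_comp U.ι f x'
    have b := tr_comp (f.resLE V U hUV) V.ι x'
    rw [tr_of_isOpenImmersion U.ι] at a
    rw [tr_of_isOpenImmersion V.ι] at b
    have c := tr_congr (Scheme.Hom.resLE_comp_ι f hUV) x'
    show tr f (U.ι x') = _
    omega
  have e2 : tr (specMap Γ(S, V) Γ(X, U)) (hU.primeIdealOf ⟨x, hx⟩) = tr (f.resLE V U hUV) x' := by
    have a := tr_comp U.toSpecΓ (specMap Γ(S, V) Γ(X, U)) x'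
    have b := tr_comp (f.resLE V U hUV) V.toSpecΓ x'
    rw [tr_of_isOpenImmersion U.toSpecΓ] at a
    rw [tr_of_isOpenImmersion V.toSpecΓ] at b
    have hsq : U.toSpecΓ ≫ specMap Γ(S, V) Γ(X, U) = f.resLE V U hUV ≫ V.toSpecΓ :=
      Scheme.Opens.toSpecΓ_SpecMap_appLE f V U hUV
    have c := tr_congr hsq x'
    show tr (specMap Γ(S, V) Γ(X, U)) (U.toSpecΓ x') = _
    omega
  rw [e1, e2]

end Chart

section F1

open Groth.Agent.Lib.lead

variable (R : Type u) [CommRing R]

/-- in a polynomial ring, the dimension of the fibre local ring plus the residue transcendence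
degree is the number of variables. -/
theorem ringKrullDim_fibLocRing_mvPolynomial_add_tr (n : ℕ)
    (r : PrimeSpectrum (MvPolynomial (Fin n) R)) :
    ringKrullDim (EGA4.FibLocRing R (MvPolynomial (Fin n) R) r.asIdeal) +
      (tr (specMap R (MvPolynomial (Fin n) R)) r : WithBot ℕ∞) = n := by
  have h1 := SmoothRelDim.fibreDimAt_affineSpace R n r
  obtain ⟨e⟩ := nonempty_fiberStalk_specMap_equiv R (MvPolynomial (Fin n) R) r
  rw [← ringKrullDim_eq_of_ringEquiv e, FibreOrder.ringKrullDim_fiber_stalk]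
  rw [fibreDimAt_eq_tr_add_G] at h1
  rw [add_comm]
  exact_mod_cast h1

end F1

end Groth.Agent.Lib.Helper21.MCop
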