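import Mathlib
import Groth.Prelude.Def_EGA4b
import Groth.Agent.Lib.Helper21.MCopD1
import Groth.Agent.Lib.Helper21.MCopTr
import Groth.Agent.Lib.Helper21.MCopB3

set_option autoImplicit false

namespace Groth.Agent.Lib.Helper21.MCop

open AlgebraicGeometry CategoryTheory IsLocalRing
open Groth.Agent.Lib.Helper24.FibreDim

universe u

section Transfer

variable (A₀ P B : Type u) [CommRing A₀] [CommRing P] [CommRing B] [Algebra A₀ P] [Algebra P B]
  [Algebra A₀ B] [IsScalarTower A₀ P B]
  [Algebra.FiniteType A₀ P] [Algebra.FiniteType P B] [Algebra.FiniteType A₀ B]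
  (N : Type u) [AddCommGroup N] [Module B N] [Module P N] [IsScalarTower P B N]

theorem specMap_comp : specMap P B ≫ specMap A₀ P = specMap A₀ B := by
  unfold specMap
  rw [← Spec.map_comp, ← CommRingCat.ofHom_comp, ← IsScalarTower.algebraMap_eq]

theorem tr_specMap_comp (q : PrimeSpectrum B) :
    tr (specMap A₀ B) q = tr (specMap P B) q + tr (specMap A₀ P) ((specMap P B) q) := by
  rw [← tr_comp (specMap P B) (specMap A₀ P) q]
  exact tr_congr (specMap_comp A₀ P B).symm q

set_option maxHeartbeats 800000 in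
/-- **transfer of the rectified depth along `A₀ → P → B`** when the fibre rings of `A₀ → P` are
Cohen–Macaulay of constant fibre dimension `r`. -/
theorem rd_transfer (r : ℕ)
    (hP : ∀ r' : PrimeSpectrum P,
      LocCoh.IsCohenMacaulayLocalRing (EGA4.FibLocRing A₀ P r'.asIdeal) ∧
      ringKrullDim (EGA4.FibLocRing A₀ P r'.asIdeal) + (tr (specMap A₀ P) r' : WithBot ℕ∞) = r)
    (q : PrimeSpectrum B)
    [Module.Finite (Localization.AtPrime q.asIdeal) (LocalizedModule q.asIdeal.primeCompl N)]
    [Module.Flat P (LocalizedModule q.asIdeal.primeCompl N)] :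
    LocCoh.depth (Localization.AtPrime q.asIdeal) (EGA4.FibLocMod A₀ B q.asIdeal N) +
        (tr (specMap A₀ B) q : ℕ∞) =
      (r : ℕ∞) + (LocCoh.depth (Localization.AtPrime q.asIdeal) (EGA4.FibLocMod P B q.asIdeal N) +
        (tr (specMap P B) q : ℕ∞)) := by
  set r' : PrimeSpectrum P := (specMap P B) q with hr'
  have hr'q : r'.asIdeal = q.asIdeal.under P := rfl
  obtain ⟨hCM, hdim⟩ := hP r'
  haveI : IsNoetherianRing (EGA4.FibLocRing A₀ B q.asIdeal) :=
    isNoetherianRing_fibLocRing A₀ B q.asIdeal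
  haveI : IsNoetherianRing (EGA4.FibLocRing A₀ P (q.asIdeal.under P)) :=
    isNoetherianRing_fibLocRing A₀ P (q.asIdeal.under P)
  have h1 := depth_fib_comp A₀ P B N q.asIdeal
  have h2 := tr_specMap_comp A₀ P B q
  have h3 := hCM.supportDim_eq_depth
  rw [Module.supportDim_self_eq_ringKrullDim] at h3
  rw [h3] at hdim
  have hD : LocCoh.depth (EGA4.FibLocRing A₀ P (q.asIdeal.under P))
      (EGA4.FibLocRing A₀ P (q.asIdeal.under P)) +
      (tr (specMap A₀ P) ((specMap P B) q) : ℕ∞) = (r : ℕ∞) := by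
    exact_mod_cast hdim
  rw [h1, h2, ← hD]
  push_cast
  generalize LocCoh.depth (EGA4.FibLocRing A₀ P (q.asIdeal.under P))
    (EGA4.FibLocRing A₀ P (q.asIdeal.under P)) = D
  generalize LocCoh.depth (Localization.AtPrime q.asIdeal) (EGA4.FibLocMod P B q.asIdeal N) = dP
  ring

end Transfer

section Poly

variable (A₀ : Type u) [CommRing A₀]

theorem hP_mvPolynomial (r : ℕ) (r' : PrimeSpectrum (MvPolynomial (Fin r) A₀)) :
    LocCoh.IsCohenMacaulayLocalRing (EGA4.FibLocRing A₀ (MvPolynomial (Fin r) A₀) r'.asIdeal) ∧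
      ringKrullDim (EGA4.FibLocRing A₀ (MvPolynomial (Fin r) A₀) r'.asIdeal) +
        (tr (specMap A₀ (MvPolynomial (Fin r) A₀)) r' : WithBot ℕ∞) = r :=
  ⟨isCM_fibLocRing_mvPolynomial A₀ r r'.asIdeal,
    ringKrullDim_fibLocRing_mvPolynomial_add_tr A₀ r r'⟩

end Poly

section Closed

variable (R S : Type u) [CommRing R] [CommRing S] [Algebra R S] [Algebra.FiniteType R S]

theorem tr_specMap_eq_zero_of_closed (p : PrimeSpectrum S)
    (hcl : ∀ p' : PrimeSpectrum S, p ≤ p' →
      p'.asIdeal.comap (algebraMap R S) = p.asIdeal.comap (algebraMap R S) → p' = p) :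
    tr (specMap R S) p = 0 := by
  apply tr_eq_zero_of_closed
  intro x' h1 h2
  apply hcl x' ((PrimeSpectrum.le_iff_specializes _ _).mpr h2)
  have h3 := congrArg PrimeSpectrum.asIdeal h1
  exact h3

end Closed

section RegDepth

open RingTheory.Sequence

variable (A₀ B : Type u) [CommRing A₀] [CommRing B] [Algebra A₀ B] [Algebra.FiniteType A₀ B]
  (N : Type u) [AddCommGroup N] [Module B N] [Module.Finite B N] (q : Ideal B) [q.IsPrime]

set_option maxHeartbeats 800000 in
/-- a sequence of elements of `q`, regular on the fibre module, of length its depth. -/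
theorem exists_fibre_regular_seq_depth [Nontrivial (EGA4.FibLocMod A₀ B q N)] :
    ∃ bs : List B, (∀ b ∈ bs, b ∈ q) ∧
      IsWeaklyRegular (EGA4.FibLocMod A₀ B q N) (bs.map (algebraMap B (Localization.AtPrime q))) ∧
      (bs.length : ℕ∞) = LocCoh.depth (Localization.AtPrime q) (EGA4.FibLocMod A₀ B q N) := by
  haveI := isNoetherianRing_fibLocRing A₀ B q
  obtain ⟨rs, h1, h2, h3⟩ := exists_regular_seq
    ((q.comap (algebraMap A₀ B)).map (algebraMap A₀ (Localization.AtPrime q)))
    (LocalizedModule q.primeCompl N)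
  obtain ⟨bs, hbs⟩ := exists_list_lift_units q.primeCompl (Localization.AtPrime q) rs
  have hmem' : ∀ s ∈ bs.map (algebraMap B (Localization.AtPrime q)),
      s ∈ maximalIdeal (Localization.AtPrime q) :=
    forall₂_mem_transfer hbs h1 (fun a b ⟨u, hu⟩ ha => by
      rw [hu]; exact Ideal.mul_mem_left _ _ ha)
  have hreg : IsWeaklyRegular (EGA4.FibLocMod A₀ B q N)
      (bs.map (algebraMap B (Localization.AtPrime q))) :=
    (isWeaklyRegular_of_forall₂_unit hbs _).1 h2
  refine ⟨bs, ?_, hreg, ?_⟩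
  · intro b hb
    exact (IsLocalization.AtPrime.to_map_mem_maximal_iff _ q b).1
      (hmem' _ (List.mem_map_of_mem hb))
  · have hlen : (bs.map (algebraMap B (Localization.AtPrime q))).length = rs.length :=
      hbs.length_eq.symm
    rw [List.length_map] at hlen
    rw [hlen, h3]

end RegDepth

end Groth.Agent.Lib.Helper21.MCop
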