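import Mathlib
import Groth.Prelude.Def_EGA4b
import Groth.Agent.Lib.Helper21.MCopR1
import Groth.Agent.Lib.Helper21.MCopC

set_option autoImplicit false

namespace Groth.Agent.Lib.Helper21.MCop

open AlgebraicGeometry CategoryTheory IsLocalRing MvPolynomial RingTheory.Sequence
open Groth.Agent.Lib.Helper24.FibreDim Groth.Agent.Lib.Helper21.FlatDesc

universe u

section Nakayama

variable (A₀ B : Type u) [CommRing A₀] [CommRing B] [Algebra A₀ B]
  (N : Type u) [AddCommGroup N] [Module B N] [Module.Finite B N] (q : Ideal B) [q.IsPrime]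

theorem subsingleton_localized_of_fibLocMod [Subsingleton (EGA4.FibLocMod A₀ B q N)] :
    Subsingleton (LocalizedModule q.primeCompl N) := by
  set J := (q.comap (algebraMap A₀ B)).map (algebraMap A₀ (Localization.AtPrime q)) with hJ
  have h1 : J • (⊤ : Submodule (Localization.AtPrime q) (LocalizedModule q.primeCompl N)) = ⊤ :=
    Submodule.Quotient.subsingleton_iff.1 inferInstance
  have h2 : (⊤ : Submodule (Localization.AtPrime q) (LocalizedModule q.primeCompl N)) = ⊥ :=
    Submodule.eq_bot_of_le_smul_of_le_jacobson_bot J ⊤ Module.Finite.fg_top (by rw [h1])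
      ((fibIdeal_le_maximalIdeal A₀ B q).trans (IsLocalRing.maximalIdeal_le_jacobson _))
  exact (Submodule.subsingleton_iff (Localization.AtPrime q)).1
    (subsingleton_of_bot_eq_top h2.symm)

end Nakayama

section RB

set_option maxHeartbeats 1600000 in
set_option synthInstance.maxHeartbeats 200000 in
theorem rd_lemmaB (A₀ B : Type u) [CommRing A₀] [CommRing B] [Algebra A₀ B]
    [Algebra.FinitePresentation A₀ B]
    (N : Type u) [AddCommGroup N] [Module B N] [Module A₀ N] [IsScalarTower A₀ B N]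
    [Module.FinitePresentation B N] (n : ℕ) (q : PrimeSpectrum B)
    (hflat : Module.Flat A₀ (LocalizedModule q.asIdeal.primeCompl N))
    (hrd : (n : ℕ∞) ≤ LocCoh.depth (Localization.AtPrime q.asIdeal)
      (EGA4.FibLocMod A₀ B q.asIdeal N) + (tr (specMap A₀ B) q : ℕ∞))
    (hcl : ∀ q' : PrimeSpectrum B, q ≤ q' →
      q'.asIdeal.comap (algebraMap A₀ B) = q.asIdeal.comap (algebraMap A₀ B) → q' = q) :
    ∃ U : Set (PrimeSpectrum B), IsOpen U ∧ q ∈ U ∧ ∀ q' ∈ U,
      Module.Flat A₀ (LocalizedModule q'.asIdeal.primeCompl N) ∧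
      (n : ℕ∞) ≤ LocCoh.depth (Localization.AtPrime q'.asIdeal)
        (EGA4.FibLocMod A₀ B q'.asIdeal N) + (tr (specMap A₀ B) q' : ℕ∞) := by
  by_cases hM : Subsingleton (EGA4.FibLocMod A₀ B q.asIdeal N)
  · haveI := hM
    have hNq := subsingleton_localized_of_fibLocMod A₀ B N q.asIdeal
    refine ⟨(Module.support B N)ᶜ, Module.isClosed_support.isOpen_compl, ?_, ?_⟩
    · exact Module.notMem_support_iff.2 hNq
    · intro q' hq'
      haveI : Subsingleton (LocalizedModule q'.asIdeal.primeCompl N) :=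
        Module.notMem_support_iff.1 hq'
      refine ⟨inferInstance, ?_⟩
      rw [DepthKit.depth_of_subsingleton, top_add]
      exact le_top
  rw [not_subsingleton_iff_nontrivial] at hM
  haveI := hM
  obtain ⟨bs, hbq, hreg, hlen⟩ := exists_fibre_regular_seq_depth A₀ B N q.asIdeal
  set r := bs.length with hr
  have hnr : (n : ℕ∞) ≤ (r : ℕ∞) := by
    rw [tr_specMap_eq_zero_of_closed A₀ B q hcl, Nat.cast_zero, add_zero, ← hlen] at hrd
    exact hrd
  let g : Fin r → B := bs.get
  have hg : ∀ i, g i ∈ q.asIdeal := fun i => hbq _ (List.get_mem bs i)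
  have hofFn : List.ofFn (fun i => algebraMap B (Localization.AtPrime q.asIdeal) (g i)) =
      bs.map (algebraMap B (Localization.AtPrime q.asIdeal)) := by
    conv_rhs => rw [← List.ofFn_get bs, List.map_ofFn]
    rfl
  letI algPB : Algebra (MvPolynomial (Fin r) A₀) B := (MvPolynomial.aeval g).toRingHom.toAlgebra
  letI modPN : Module (MvPolynomial (Fin r) A₀) N :=
    Module.compHom N (algebraMap (MvPolynomial (Fin r) A₀) B)
  haveI twPBN : IsScalarTower (MvPolynomial (Fin r) A₀) B N :=
    IsScalarTower.of_algebraMap_smul fun _ _ => rfl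
  have hflatP : Module.Flat (MvPolynomial (Fin r) A₀) (LocalizedModule q.asIdeal.primeCompl N) :=
    flat_mvPolynomial_loc A₀ B N q.asIdeal hflat r g hg (hofFn ▸ hreg)
  haveI twAPB : IsScalarTower A₀ (MvPolynomial (Fin r) A₀) B :=
    IsScalarTower.of_algebraMap_eq fun a => by
      show algebraMap A₀ B a = MvPolynomial.aeval g (MvPolynomial.C a)
      rw [MvPolynomial.aeval_C]
  haveI twAPN : IsScalarTower A₀ (MvPolynomial (Fin r) A₀) N := ⟨fun a P n => by
    show (MvPolynomial.aeval g (a • P)) • n = a • ((MvPolynomial.aeval g P) • n)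
    rw [map_smul, smul_assoc]⟩
  haveI fpPB : Algebra.FinitePresentation (MvPolynomial (Fin r) A₀) B :=
    Algebra.FinitePresentation.of_restrict_scalars_finitePresentation A₀ _ _
  have hU₁ : IsOpen {q' : PrimeSpectrum B |
      Module.Flat (MvPolynomial (Fin r) A₀) (LocalizedModule q'.asIdeal.primeCompl N)} :=
    isOpen_flatLocus_of_finitePresentation (R := MvPolynomial (Fin r) A₀) (S := B) (M := N)
  refine ⟨_, hU₁, hflatP, fun q' hq' => ?_⟩
  haveI : Module.Flat (MvPolynomial (Fin r) A₀) (LocalizedModule q'.asIdeal.primeCompl N) := hq'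
  refine ⟨Module.Flat.trans A₀ (MvPolynomial (Fin r) A₀)
    (LocalizedModule q'.asIdeal.primeCompl N), ?_⟩
  rw [rd_transfer A₀ (MvPolynomial (Fin r) A₀) B N r (hP_mvPolynomial A₀ r) q']
  exact hnr.trans le_self_add

end RB

section RC

set_option maxHeartbeats 1600000 in
set_option synthInstance.maxHeartbeats 200000 in
theorem exists_open_rd (A₀ B : Type u) [CommRing A₀] [CommRing B] [Algebra A₀ B]
    [Algebra.FinitePresentation A₀ B]
    (N : Type u) [AddCommGroup N] [Module B N] [Module A₀ N] [IsScalarTower A₀ B N]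
    [Module.FinitePresentation B N] (n : ℕ) (q : PrimeSpectrum B)
    (hflat : Module.Flat A₀ (LocalizedModule q.asIdeal.primeCompl N))
    (hrd : (n : ℕ∞) ≤ LocCoh.depth (Localization.AtPrime q.asIdeal)
      (EGA4.FibLocMod A₀ B q.asIdeal N) + (tr (specMap A₀ B) q : ℕ∞)) :
    ∃ U : Set (PrimeSpectrum B), IsOpen U ∧ q ∈ U ∧ ∀ q' ∈ U,
      Module.Flat A₀ (LocalizedModule q'.asIdeal.primeCompl N) ∧
      (n : ℕ∞) ≤ LocCoh.depth (Localization.AtPrime q'.asIdeal)
        (EGA4.FibLocMod A₀ B q'.asIdeal N) + (tr (specMap A₀ B) q' : ℕ∞) := by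
  set p₀ := q.asIdeal.comap (algebraMap A₀ B) with hp₀
  haveI : q.asIdeal.LiesOver p₀ := ⟨rfl⟩
  obtain ⟨e, a, hind, halg⟩ := Groth.Agent.Lib.Helper21.Coprof.exists_vec_transcendenceBasis
    (R := A₀) (A := B) q.asIdeal p₀
  letI algPB : Algebra (MvPolynomial (Fin e) A₀) B := (MvPolynomial.aeval a).toRingHom.toAlgebra
  letI modPN : Module (MvPolynomial (Fin e) A₀) N :=
    Module.compHom N (algebraMap (MvPolynomial (Fin e) A₀) B)
  haveI twPBN : IsScalarTower (MvPolynomial (Fin e) A₀) B N :=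
    IsScalarTower.of_algebraMap_smul fun _ _ => rfl
  have hflat₁ : Module.Flat (MvPolynomial (Fin e) A₀) (LocalizedModule q.asIdeal.primeCompl N) :=
    flat_mvPolynomial_loc_generic A₀ B N q.asIdeal hflat e a hind
  haveI twAPB : IsScalarTower A₀ (MvPolynomial (Fin e) A₀) B :=
    IsScalarTower.of_algebraMap_eq fun x => by
      show algebraMap A₀ B x = MvPolynomial.aeval a (MvPolynomial.C x)
      rw [MvPolynomial.aeval_C]
  haveI twAPN : IsScalarTower A₀ (MvPolynomial (Fin e) A₀) N := ⟨fun x P n => by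
    show (MvPolynomial.aeval a (x • P)) • n = x • ((MvPolynomial.aeval a P) • n)
    rw [map_smul, smul_assoc]⟩
  haveI fpPB : Algebra.FinitePresentation (MvPolynomial (Fin e) A₀) B :=
    Algebra.FinitePresentation.of_restrict_scalars_finitePresentation A₀ _ _
  have hp₁ : q.asIdeal.comap (algebraMap (MvPolynomial (Fin e) A₀) B) =
      p₀.map (C : A₀ →+* MvPolynomial (Fin e) A₀) := by
    apply le_antisymm
    · intro F hF
      have hF' : MvPolynomial.aeval a F ∈ q.asIdeal := hF
      have h5 : aeval (fun i => Ideal.Quotient.mk q.asIdeal (a i))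
          (MvPolynomial.map (Ideal.Quotient.mk p₀) F) = 0 := by
        rw [← Groth.Agent.Lib.Helper18.Chev.mk_aeval a q.asIdeal p₀ F]
        exact Ideal.Quotient.eq_zero_iff_mem.mpr hF'
      have h6 : MvPolynomial.map (Ideal.Quotient.mk p₀) F = 0 := by
        have := hind
        rw [algebraicIndependent_iff_injective_aeval] at this
        exact this (by rw [h5, map_zero])
      rw [MvPolynomial.mem_map_C_iff]
      intro m
      have := congrArg (MvPolynomial.coeff m) h6
      rw [MvPolynomial.coeff_map, MvPolynomial.coeff_zero] at this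
      exact Ideal.Quotient.eq_zero_iff_mem.mp this
    · rw [Ideal.map_le_iff_le_comap]
      intro x hx
      show MvPolynomial.aeval a (C x) ∈ q.asIdeal
      rw [MvPolynomial.aeval_C]
      exact hx
  have hideal : (q.asIdeal.comap (algebraMap (MvPolynomial (Fin e) A₀) B)).map
      (algebraMap (MvPolynomial (Fin e) A₀) (Localization.AtPrime q.asIdeal)) =
      p₀.map (algebraMap A₀ (Localization.AtPrime q.asIdeal)) := by
    rw [hp₁, Ideal.map_map]
    congr 1
    ext x
    show algebraMap (MvPolynomial (Fin e) A₀) (Localization.AtPrime q.asIdeal) (C x) = _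
    rw [← MvPolynomial.algebraMap_eq, ← IsScalarTower.algebraMap_apply]
  have hdepth : LocCoh.depth (Localization.AtPrime q.asIdeal)
      (EGA4.FibLocMod (MvPolynomial (Fin e) A₀) B q.asIdeal N) =
      LocCoh.depth (Localization.AtPrime q.asIdeal) (EGA4.FibLocMod A₀ B q.asIdeal N) :=
    DepthKit.idealDepth_congr _ (Submodule.quotEquivOfEq _ _ (by rw [hideal]))
  have hcl₁ : ∀ q' : PrimeSpectrum B, q ≤ q' →
      q'.asIdeal.comap (algebraMap (MvPolynomial (Fin e) A₀) B) =
        q.asIdeal.comap (algebraMap (MvPolynomial (Fin e) A₀) B) → q' = q := by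
    intro q' hqq' hcomap
    apply PrimeSpectrum.ext
    refine Groth.Agent.Lib.Helper18.Chev.eq_of_le_of_forall_aeval a q.asIdeal p₀ halg q'.asIdeal
      hqq' ?_
    intro g hg
    have : g ∈ q'.asIdeal.comap (algebraMap (MvPolynomial (Fin e) A₀) B) := hg
    rw [hcomap] at this
    exact this
  have htr₁ := tr_specMap_eq_zero_of_closed (MvPolynomial (Fin e) A₀) B q hcl₁
  haveI := hflat₁
  have hT := rd_transfer A₀ (MvPolynomial (Fin e) A₀) B N e (hP_mvPolynomial A₀ e) q
  rw [hT, htr₁, Nat.cast_zero, add_zero] at hrd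
  have hrd₁ : ((n - e : ℕ) : ℕ∞) ≤ LocCoh.depth (Localization.AtPrime q.asIdeal)
      (EGA4.FibLocMod (MvPolynomial (Fin e) A₀) B q.asIdeal N) +
      (tr (specMap (MvPolynomial (Fin e) A₀) B) q : ℕ∞) := by
    rw [htr₁, Nat.cast_zero, add_zero, ENat.coe_sub]
    exact tsub_le_iff_left.2 hrd
  obtain ⟨U, hU, hqU, hall⟩ := rd_lemmaB (MvPolynomial (Fin e) A₀) B N (n - e) q hflat₁ hrd₁ hcl₁
  refine ⟨U, hU, hqU, fun q' hq' => ?_⟩
  haveI := (hall q' hq').1
  refine ⟨Module.Flat.trans A₀ (MvPolynomial (Fin e) A₀)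
    (LocalizedModule q'.asIdeal.primeCompl N), ?_⟩
  rw [rd_transfer A₀ (MvPolynomial (Fin e) A₀) B N e (hP_mvPolynomial A₀ e) q']
  have h1 : (n : ℕ∞) ≤ (e : ℕ∞) + ((n - e : ℕ) : ℕ∞) := by
    have : n ≤ e + (n - e) := by omega
    exact_mod_cast this
  exact h1.trans (add_le_add_right (hall q' hq').2 _)

/-- **EGA IV 12.1.1 (v), algebraic form**: lower semicontinuity of the rectified depth of the
fibre modules of a flat finitely presented module. -/
theorem isOpen_flat_rd (A₀ B : Type u) [CommRing A₀] [CommRing B] [Algebra A₀ B]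
    [Algebra.FinitePresentation A₀ B]
    (N : Type u) [AddCommGroup N] [Module B N] [Module A₀ N] [IsScalarTower A₀ B N]
    [Module.FinitePresentation B N] (n : ℕ) :
    IsOpen {q : PrimeSpectrum B | Module.Flat A₀ (LocalizedModule q.asIdeal.primeCompl N) ∧
      (n : ℕ∞) ≤ LocCoh.depth (Localization.AtPrime q.asIdeal)
        (EGA4.FibLocMod A₀ B q.asIdeal N) + (tr (specMap A₀ B) q : ℕ∞)} := by
  rw [isOpen_iff_forall_mem_open]
  rintro q ⟨h1, h2⟩
  obtain ⟨U, hU, hqU, hall⟩ := exists_open_rd A₀ B N n q h1 h2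
  exact ⟨U, fun q' hq' => hall q' hq', hU, hqU⟩

end RC

end Groth.Agent.Lib.Helper21.MCop
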