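import Mathlib
import Groth.Prelude.Def_EGA4b
import Groth.Agent.Lib.Helper21.MCopR2
import Groth.Agent.Lib.Helper21.DepthKit8

/-!
# Helper21 — FibDepth2: regular sequences inside an ideal on a fibre module, lifted to the ring
-/

set_option autoImplicit false

namespace Groth.Agent.Lib.Helper21.FibDepth

open IsLocalRing Pointwise RingTheory.Sequence
open Groth.Agent.Lib.Helper21.MCop

universe u

section Nak

variable {A : Type u} [CommRing A] [IsLocalRing A] [IsNoetherianRing A]
  {M : Type u} [AddCommGroup M] [Module A M] [Module.Finite A M]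

theorem smul_top_ne_top_of_le_maximalIdeal [Nontrivial M] (K : Ideal A)
    (hK : K ≤ maximalIdeal A) : K • (⊤ : Submodule A M) ≠ ⊤ := by
  intro h
  have h1 := DepthKit.maximalIdeal_smul_top_ne_top (A := A) (M := M)
  apply h1
  have h2 : K • (⊤ : Submodule A M) ≤ maximalIdeal A • (⊤ : Submodule A M) :=
    Submodule.smul_mono_left hK
  rw [h] at h2
  exact top_le_iff.1 h2

end Nak

section RegI

variable {S : Type u} [CommRing S] [IsLocalRing S] (J : Ideal S) [IsNoetherianRing (S ⧸ J)]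
  [IsLocalRing (S ⧸ J)]
  (X : Type u) [AddCommGroup X] [Module S X] [Module.Finite S X]

set_option maxHeartbeats 800000 in
theorem exists_regular_seq_in_ideal [Nontrivial (X ⧸ J • (⊤ : Submodule S X))] (K : Ideal S)
    (hK : K ≤ maximalIdeal S) (n : ℕ)
    (H : ∀ (P : Ideal S) [P.IsPrime], J ≤ P → K ≤ P →
      (n : ℕ∞) ≤ LocCoh.depth (Localization.AtPrime P)
        (LocalizedModule P.primeCompl (X ⧸ J • (⊤ : Submodule S X)))) :
    ∃ rs : List S, rs.length = n ∧ (∀ r ∈ rs, r ∈ K) ∧
      IsWeaklyRegular (X ⧸ J • (⊤ : Submodule S X)) rs := by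
  haveI : Module.Finite (S ⧸ J) (X ⧸ J • (⊤ : Submodule S X)) :=
    Module.Finite.of_restrictScalars_finite S _ _
  have hs : Function.Surjective (algebraMap S (S ⧸ J)) := Ideal.Quotient.mk_surjective
  have hK' : K.map (algebraMap S (S ⧸ J)) ≤ maximalIdeal (S ⧸ J) := by
    rw [← DepthKit.map_maximalIdeal_of_surjective hs]
    exact Ideal.map_mono hK
  have hne : K.map (algebraMap S (S ⧸ J)) •
      (⊤ : Submodule (S ⧸ J) (X ⧸ J • (⊤ : Submodule S X))) ≠ ⊤ :=
    smul_top_ne_top_of_le_maximalIdeal _ hK'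
  have hle : (n : ℕ∞) ≤ LocCoh.idealDepth (K.map (algebraMap S (S ⧸ J)))
      (X ⧸ J • (⊤ : Submodule S X)) := by
    rw [DepthKit.idealDepth_eq_iInf_depth_localization]
    refine le_iInf₂ fun P' hP' => ?_
    rw [← DepthKit.depth_localization_of_surjective (N := X ⧸ J • (⊤ : Submodule S X)) hs
      P'.asIdeal]
    refine H _ ?_ ?_
    · intro x hx
      rw [Ideal.mem_comap]
      have : algebraMap S (S ⧸ J) x = 0 := Ideal.Quotient.eq_zero_iff_mem.2 hx
      rw [this]
      exact Ideal.zero_mem _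
    · exact Ideal.map_le_iff_le_comap.1 hP'
  obtain ⟨ss, h1, h2, h3⟩ := (DepthKit.natCast_le_idealDepth_iff _ hne n).1 hle
  obtain ⟨rs, hr1, hr2⟩ := DepthKit.exists_list_lift hs K ss h2
  refine ⟨rs, ?_, hr2, ?_⟩
  · rw [← h1, ← hr1, List.length_map]
  · rw [← isWeaklyRegular_map_algebraMap_iff (S ⧸ J), hr1]
    exact h3

end RegI

section Lift

variable {B : Type u} [CommRing B] (T : Submonoid B) (S : Type u) [CommRing S] [Algebra B S]
  [IsLocalization T S]

include T in
theorem exists_list_lift_units_mem (I : Ideal B) (rs : List S)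
    (hrs : ∀ r ∈ rs, r ∈ I.map (algebraMap B S)) :
    ∃ bs : List B, (∀ b ∈ bs, b ∈ I) ∧
      List.Forall₂ (fun a b => ∃ u : Sˣ, b = (u : S) * a) rs (bs.map (algebraMap B S)) := by
  induction rs with
  | nil => exact ⟨[], by simp, by simp⟩
  | cons r rs ih =>
    obtain ⟨bs, hbs1, hbs2⟩ := ih (fun r' hr' => hrs r' (List.mem_cons_of_mem _ hr'))
    obtain ⟨⟨⟨b, hb⟩, t⟩, hbt⟩ :=
      (IsLocalization.mem_map_algebraMap_iff T S).1 (hrs r List.mem_cons_self)
    refine ⟨b :: bs, ?_, ?_⟩
    · intro b' hb'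
      rcases List.mem_cons.1 hb' with rfl | hb'
      · exact hb
      · exact hbs1 b' hb'
    · rw [List.map_cons]
      refine List.Forall₂.cons ⟨(IsLocalization.map_units S t).unit, ?_⟩ hbs2
      rw [IsUnit.unit_spec, mul_comm]
      exact hbt.symm

end Lift

end Groth.Agent.Lib.Helper21.FibDepth
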