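import Mathlib
import Groth.Prelude.Def_EGA4b
import Groth.Agent.Lib.Helper21.FibDepth1
import Groth.Agent.Lib.Helper21.FibDepth2

/-!
# Helper21 — FibDepth3: spreading out a lower bound for the fibre depth along a closed subset
(ring-level core of EGA IV 12.3.x / S2872)
-/

set_option autoImplicit false

namespace Groth.Agent.Lib.Helper21.FibDepth

open AlgebraicGeometry CategoryTheory IsLocalRing MvPolynomial RingTheory.Sequence
open Groth.Agent.Lib.Helper24.FibreDim Groth.Agent.Lib.Helper21.FlatDesc
open Groth.Agent.Lib.Helper21.MCop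

universe u

section ClosedPoly

variable (A₀ : Type u) [CommRing A₀] (n : ℕ)

theorem sub_C_constantCoeff_mem (r' : Ideal (MvPolynomial (Fin n) A₀))
    (hX : ∀ i, (MvPolynomial.X i : MvPolynomial (Fin n) A₀) ∈ r') (F : MvPolynomial (Fin n) A₀) :
    F - C (constantCoeff F) ∈ r' := by
  have h : (Ideal.Quotient.mk r') = (Ideal.Quotient.mk r').comp
      ((C : A₀ →+* MvPolynomial (Fin n) A₀).comp constantCoeff) := by
    apply MvPolynomial.ringHom_ext
    · intro a
      simp
    · intro i
      simp only [RingHom.comp_apply, constantCoeff_X, map_zero]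
      exact Ideal.Quotient.eq_zero_iff_mem.2 (hX i)
  have h2 := congrArg (fun φ => φ F) h
  simp only [RingHom.comp_apply] at h2
  rw [← Ideal.Quotient.eq_zero_iff_mem, map_sub, sub_eq_zero]
  exact h2

theorem closed_of_X_mem (r' : PrimeSpectrum (MvPolynomial (Fin n) A₀))
    (hX : ∀ i, (MvPolynomial.X i : MvPolynomial (Fin n) A₀) ∈ r'.asIdeal) :
    ∀ r'' : PrimeSpectrum (MvPolynomial (Fin n) A₀), r' ≤ r'' →
      r''.asIdeal.comap (algebraMap A₀ (MvPolynomial (Fin n) A₀)) =
        r'.asIdeal.comap (algebraMap A₀ (MvPolynomial (Fin n) A₀)) → r'' = r' := by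
  intro r'' hle hcomap
  apply le_antisymm _ hle
  intro F hF
  have h1 : F - C (constantCoeff F) ∈ r'.asIdeal := sub_C_constantCoeff_mem A₀ n _ hX F
  have h2 : C (constantCoeff F) ∈ r''.asIdeal := by
    have := r''.asIdeal.sub_mem hF (hle h1)
    rwa [sub_sub_cancel] at this
  have h3 : constantCoeff F ∈ r''.asIdeal.comap (algebraMap A₀ (MvPolynomial (Fin n) A₀)) := h2
  rw [hcomap] at h3
  have h4 : C (constantCoeff F) ∈ r'.asIdeal := h3
  have := r'.asIdeal.add_mem h1 h4
  rwa [sub_add_cancel] at this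

end ClosedPoly

section KeyStep

set_option maxHeartbeats 800000 in
theorem le_depth_of_flat_mvPolynomial (A₀ B : Type u) [CommRing A₀] [CommRing B] [Algebra A₀ B]
    [Algebra.FiniteType A₀ B] (n : ℕ)
    [Algebra (MvPolynomial (Fin n) A₀) B] [IsScalarTower A₀ (MvPolynomial (Fin n) A₀) B]
    [Algebra.FiniteType (MvPolynomial (Fin n) A₀) B]
    (N : Type u) [AddCommGroup N] [Module B N] [Module (MvPolynomial (Fin n) A₀) N]
    [IsScalarTower (MvPolynomial (Fin n) A₀) B N]
    (q : PrimeSpectrum B)
    [Module.Finite (Localization.AtPrime q.asIdeal) (LocalizedModule q.asIdeal.primeCompl N)]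
    [Module.Flat (MvPolynomial (Fin n) A₀) (LocalizedModule q.asIdeal.primeCompl N)]
    (hX : ∀ i, algebraMap (MvPolynomial (Fin n) A₀) B (MvPolynomial.X i) ∈ q.asIdeal) :
    (n : ℕ∞) ≤ LocCoh.depth (Localization.AtPrime q.asIdeal)
      (EGA4.FibLocMod A₀ B q.asIdeal N) := by
  have h1 := rd_transfer A₀ (MvPolynomial (Fin n) A₀) B N n (hP_mvPolynomial A₀ n) q
  have h2 := tr_specMap_comp A₀ (MvPolynomial (Fin n) A₀) B q
  have h3 : tr (specMap A₀ (MvPolynomial (Fin n) A₀)) ((specMap (MvPolynomial (Fin n) A₀) B) q) = 0 := by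
    apply tr_specMap_eq_zero_of_closed
    apply closed_of_X_mem
    intro i
    exact hX i
  rw [h3, add_zero] at h2
  rw [h2, ← add_assoc] at h1
  have h4 := (ENat.add_left_injective_of_ne_top (ENat.coe_ne_top _)) h1
  rw [h4]
  exact le_self_add

end KeyStep

section Core

set_option maxHeartbeats 1600000 in
set_option synthInstance.maxHeartbeats 200000 in
/-- **spreading out the fibre depth along a closed subset** (ring-level form of EGA IV 12.3.x). -/
theorem exists_open_depth_along (A₀ B : Type u) [CommRing A₀] [CommRing B] [Algebra A₀ B]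
    [Algebra.FinitePresentation A₀ B]
    (N : Type u) [AddCommGroup N] [Module B N] [Module A₀ N] [IsScalarTower A₀ B N]
    [Module.FinitePresentation B N] (I : Ideal B) (n : ℕ) (q : PrimeSpectrum B)
    (hflat : Module.Flat A₀ (LocalizedModule q.asIdeal.primeCompl N))
    (H : ∀ z : PrimeSpectrum B, I ≤ z.asIdeal → z ≤ q →
      z.asIdeal.comap (algebraMap A₀ B) = q.asIdeal.comap (algebraMap A₀ B) →
      (n : ℕ∞) ≤ LocCoh.depth (Localization.AtPrime z.asIdeal)
        (EGA4.FibLocMod A₀ B z.asIdeal N)) :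
    ∃ U : Set (PrimeSpectrum B), IsOpen U ∧ q ∈ U ∧ ∀ q' ∈ U, I ≤ q'.asIdeal →
      (n : ℕ∞) ≤ LocCoh.depth (Localization.AtPrime q'.asIdeal)
        (EGA4.FibLocMod A₀ B q'.asIdeal N) := by
  by_cases hIq : I ≤ q.asIdeal
  swap
  · refine ⟨(PrimeSpectrum.zeroLocus (I : Set B))ᶜ,
      (PrimeSpectrum.isClosed_zeroLocus _).isOpen_compl, ?_, ?_⟩
    · intro h
      exact hIq ((PrimeSpectrum.mem_zeroLocus _ _).1 h)
    · intro q' hq' hIq'
      exact absurd ((PrimeSpectrum.mem_zeroLocus _ _).2 hIq') hq'
  by_cases hM : Subsingleton (EGA4.FibLocMod A₀ B q.asIdeal N)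
  · haveI := hM
    have hNq := subsingleton_localized_of_fibLocMod A₀ B N q.asIdeal
    refine ⟨(Module.support B N)ᶜ, Module.isClosed_support.isOpen_compl, ?_, ?_⟩
    · exact Module.notMem_support_iff.2 hNq
    · intro q' hq' _
      haveI : Subsingleton (LocalizedModule q'.asIdeal.primeCompl N) :=
        Module.notMem_support_iff.1 hq'
      rw [DepthKit.depth_of_subsingleton]
      exact le_top
  rw [not_subsingleton_iff_nontrivial] at hM
  haveI := hM
  haveI := isNoetherianRing_fibLocRing A₀ B q.asIdeal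
  -- a regular sequence in `I B_q` on the fibre module
  have hcm : (maximalIdeal (Localization.AtPrime q.asIdeal)).comap
      (algebraMap B (Localization.AtPrime q.asIdeal)) = q.asIdeal :=
    IsLocalization.AtPrime.under_maximalIdeal (Localization.AtPrime q.asIdeal) q.asIdeal
  have hK : I.map (algebraMap B (Localization.AtPrime q.asIdeal)) ≤
      maximalIdeal (Localization.AtPrime q.asIdeal) := by
    rw [Ideal.map_le_iff_le_comap, hcm]
    exact hIq
  obtain ⟨rs, hlen, hmem, hreg⟩ := exists_regular_seq_in_ideal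
    ((q.asIdeal.comap (algebraMap A₀ B)).map (algebraMap A₀ (Localization.AtPrime q.asIdeal)))
    (LocalizedModule q.asIdeal.primeCompl N)
    (I.map (algebraMap B (Localization.AtPrime q.asIdeal))) hK n (by
      intro P hP hJP hKP
      have hPq : P.comap (algebraMap B (Localization.AtPrime q.asIdeal)) ≤ q.asIdeal :=
        le_of_le_of_eq (Ideal.comap_mono (IsLocalRing.le_maximalIdeal hP.ne_top)) hcm
      have hzq : (P.comap (algebraMap B (Localization.AtPrime q.asIdeal))).comap
          (algebraMap A₀ B) = q.asIdeal.comap (algebraMap A₀ B) := by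
        apply le_antisymm (Ideal.comap_mono hPq)
        intro a ha
        rw [Ideal.mem_comap, Ideal.mem_comap, ← IsScalarTower.algebraMap_apply]
        exact hJP (Ideal.mem_map_of_mem _ ha)
      rw [← (semiEquiv_fibLocMod_localization A₀ B N q.asIdeal P
        (P.comap (algebraMap B (Localization.AtPrime q.asIdeal))) rfl hzq).depth_eq]
      exact H ⟨P.comap (algebraMap B (Localization.AtPrime q.asIdeal)), inferInstance⟩
        (Ideal.map_le_iff_le_comap.1 hKP) hPq hzq)
  obtain ⟨bs, hbsI, hbs⟩ := exists_list_lift_units_mem q.asIdeal.primeCompl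
    (Localization.AtPrime q.asIdeal) I rs hmem
  have hreg' : IsWeaklyRegular (EGA4.FibLocMod A₀ B q.asIdeal N)
      (bs.map (algebraMap B (Localization.AtPrime q.asIdeal))) :=
    (isWeaklyRegular_of_forall₂_unit hbs _).1 hreg
  set r := bs.length with hr
  have hrn : r = n := by
    have := hbs.length_eq
    rw [List.length_map] at this
    rw [hr, ← this, hlen]
  let g : Fin r → B := bs.get
  have hgI : ∀ i, g i ∈ I := fun i => hbsI _ (List.get_mem bs i)
  have hg : ∀ i, g i ∈ q.asIdeal := fun i => hIq (hgI i)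
  have hofFn : List.ofFn (fun i => algebraMap B (Localization.AtPrime q.asIdeal) (g i)) =
      bs.map (algebraMap B (Localization.AtPrime q.asIdeal)) := by
    conv_rhs => rw [← List.ofFn_get bs, List.map_ofFn]
    rfl
  letI algPB : Algebra (MvPolynomial (Fin r) A₀) B := (MvPolynomial.aeval g).toRingHom.toAlgebra
  letI modPN : Module (MvPolynomial (Fin r) A₀) N :=
    Module.compHom N (algebraMap (MvPolynomial (Fin r) A₀) B)
  haveI twPBN : IsScalarTower (MvPolynomial (Fin r) A₀) B N :=
    IsScalarTower.of_algebraMap_smul fun _ _ => rfl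
  have hflatP : Module.Flat (MvPolynomial (Fin r) A₀) (LocalizedModule q.asIdeal.primeCompl N) :=
    flat_mvPolynomial_loc A₀ B N q.asIdeal hflat r g hg (hofFn ▸ hreg')
  haveI twAPB : IsScalarTower A₀ (MvPolynomial (Fin r) A₀) B :=
    IsScalarTower.of_algebraMap_eq fun a => by
      show algebraMap A₀ B a = MvPolynomial.aeval g (MvPolynomial.C a)
      rw [MvPolynomial.aeval_C]
  haveI fpPB : Algebra.FinitePresentation (MvPolynomial (Fin r) A₀) B :=
    Algebra.FinitePresentation.of_restrict_scalars_finitePresentation A₀ _ _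
  have hU₁ : IsOpen {q' : PrimeSpectrum B |
      Module.Flat (MvPolynomial (Fin r) A₀) (LocalizedModule q'.asIdeal.primeCompl N)} :=
    isOpen_flatLocus_of_finitePresentation (R := MvPolynomial (Fin r) A₀) (S := B) (M := N)
  refine ⟨_, hU₁, hflatP, fun q' hq' hIq' => ?_⟩
  haveI : Module.Flat (MvPolynomial (Fin r) A₀) (LocalizedModule q'.asIdeal.primeCompl N) := hq'
  rw [← hrn]
  refine le_depth_of_flat_mvPolynomial A₀ B r N q' ?_
  intro i
  show MvPolynomial.aeval g (MvPolynomial.X i) ∈ q'.asIdeal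
  rw [MvPolynomial.aeval_X]
  exact hIq' (hgI i)

end Core

end Groth.Agent.Lib.Helper21.FibDepth
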