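import Mathlib
import Groth.Prelude.Def_EGA4b
import Groth.Agent.Lib.Helper21.MCopR2
import Groth.Agent.Lib.Helper21.MCopT
import Groth.Agent.Lib.Helper24.FibreDim.Equidim

set_option autoImplicit false
set_option backward.isDefEq.respectTransparency.types false

namespace Groth.Agent.Lib.Helper21.MCop

open AlgebraicGeometry CategoryTheory IsLocalRing TensorProduct TopologicalSpace
open Groth.Agent.Lib.Helper21.FibreStalk Groth.Agent.Lib.Helper17.ModStalk
open Groth.Agent.Lib.Helper24.FibreDim Groth.Agent.Lib.Helper21.FlatDesc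

universe u

section FinalRd

variable {X S : Scheme.{u}}

set_option maxHeartbeats 800000 in
/-- **EGA IV 12.1.1 (v)**: lower semicontinuity of the rectified depth of the fibres of a flat
finitely presented module. -/
theorem isOpen_fibre_rd (f : X ⟶ S) [LocallyOfFinitePresentation f] (F : X.Modules)
    [SheafOfModules.IsFinitePresentation.{u} (R := X.ringCatSheaf) F]
    (hflat : FlatMod.IsFlatOver f F) (n : ℕ) :
    IsOpen {x : X | (n : ℕ∞) ≤ LocCoh.depth ((f.fiber (f x)).presheaf.stalk (f.asFiber x))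
      (((Scheme.Modules.pullback (f.fiberι (f x))).obj F).presheaf.stalk (f.asFiber x)) +
        (tr f x : ℕ∞)} := by
  haveI : F.IsQuasicoherent :=
    Groth.Agent.Lib.Helper29.FPDict.isQuasicoherent_of_isFinitePresentation F
  rw [isOpen_iff_forall_mem_open]
  intro x hx
  obtain ⟨_, ⟨V, hV : IsAffineOpen V, rfl⟩, hfxV, -⟩ :=
    S.isBasis_affineOpens.exists_subset_of_mem_open (Set.mem_univ (f x)) isOpen_univ
  obtain ⟨_, ⟨U, hU : IsAffineOpen U, rfl⟩, hxU, hUV⟩ :=
    X.isBasis_affineOpens.exists_subset_of_mem_open (show x ∈ (f ⁻¹ᵁ V : Set X) from hfxV)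
      (f ⁻¹ᵁ V).isOpen
  letI algCB : Algebra Γ(S, V) Γ(X, U) := (f.appLE V U hUV).hom.toAlgebra
  letI mC : Module Γ(S, V) Γ(F, U) := Module.compHom Γ(F, U) (algebraMap Γ(S, V) Γ(X, U))
  haveI : IsScalarTower Γ(S, V) Γ(X, U) Γ(F, U) := IsScalarTower.of_compHom _ _ _
  haveI : Algebra.FinitePresentation Γ(S, V) Γ(X, U) :=
    (HasRingHomProperty.appLE @LocallyOfFinitePresentation f inferInstance ⟨V, hV⟩ ⟨U, hU⟩ hUV :
      RingHom.FinitePresentation _)
  haveI : Module.FinitePresentation Γ(X, U) Γ(F, U) :=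
    Groth.Agent.Lib.Helper29.FPDict.fp_of_isAffineOpen F hU
  have hopen := isOpen_flat_rd Γ(S, V) Γ(X, U) Γ(F, U) n
  have key : ∀ (y : X) (hy : y ∈ U),
      LocCoh.depth ((f.fiber (f y)).presheaf.stalk (f.asFiber y))
        (((Scheme.Modules.pullback (f.fiberι (f y))).obj F).presheaf.stalk (f.asFiber y)) +
          (tr f y : ℕ∞) =
      LocCoh.depth (Localization.AtPrime (hU.primeIdealOf ⟨y, hy⟩).asIdeal)
        (EGA4.FibLocMod Γ(S, V) Γ(X, U) (hU.primeIdealOf ⟨y, hy⟩).asIdeal Γ(F, U)) +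
          (tr (specMap Γ(S, V) Γ(X, U)) (hU.primeIdealOf ⟨y, hy⟩) : ℕ∞) := by
    intro y hy
    rw [(semiEquiv_chart f F hU hV hUV y hy).depth_eq, tr_chart f hU hV hUV y hy]
  refine ⟨Subtype.val '' ((fun y : U => hU.primeIdealOf y) ⁻¹'
    {q : PrimeSpectrum Γ(X, U) |
      Module.Flat Γ(S, V) (LocalizedModule q.asIdeal.primeCompl Γ(F, U)) ∧
      (n : ℕ∞) ≤ LocCoh.depth (Localization.AtPrime q.asIdeal)
        (EGA4.FibLocMod Γ(S, V) Γ(X, U) q.asIdeal Γ(F, U)) +
          (tr (specMap Γ(S, V) Γ(X, U)) q : ℕ∞)}), ?_, ?_, ?_⟩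
  · rintro _ ⟨y, hy, rfl⟩
    show (n : ℕ∞) ≤ _
    rw [key y.1 y.2]
    exact hy.2
  · exact U.2.isOpenMap_subtype_val _ (hopen.preimage hU.isoSpec.hom.continuous)
  · refine ⟨⟨x, hxU⟩, ⟨(isFlatOverAt_iff_flat_localized f F hU hV hUV x hxU).1 (hflat x), ?_⟩, rfl⟩
    have := key x hxU
    rw [← this]
    exact hx

/-- the statement with the dimension of the closure of the point in its fibre. -/
theorem isOpen_fibre_rd' (f : X ⟶ S) [LocallyOfFinitePresentation f] (F : X.Modules)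
    [SheafOfModules.IsFinitePresentation.{u} (R := X.ringCatSheaf) F]
    (hflat : FlatMod.IsFlatOver f F) (n : ℕ) :
    IsOpen {x : X | (n : WithBot ℕ∞) ≤
      ((LocCoh.depth ((f.fiber (f x)).presheaf.stalk (f.asFiber x))
        (((Scheme.Modules.pullback (f.fiberι (f x))).obj F).presheaf.stalk (f.asFiber x)) : ℕ∞) :
          WithBot ℕ∞) +
        topologicalKrullDim ↥(closure ({f.asFiber x} : Set ↥(f.fiber (f x))))} := by
  convert isOpen_fibre_rd f F hflat n using 1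
  ext x
  rw [Set.mem_setOf_eq, Set.mem_setOf_eq, dim_closure_asFiber f x]
  have h1 : ((tr f x : ℕ) : WithBot ℕ∞) = (((tr f x : ℕ) : ℕ∞) : WithBot ℕ∞) := rfl
  have h2 : (n : WithBot ℕ∞) = ((n : ℕ∞) : WithBot ℕ∞) := rfl
  rw [h1, h2, ← WithBot.coe_add, WithBot.coe_le_coe]

end FinalRd

end Groth.Agent.Lib.Helper21.MCop
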