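import Mathlib
import Groth.Prelude.Def_EGA4b
import Groth.Prelude.Def_CInt
import Groth.Agent.Lib.Helper21.FibDepth3
import Groth.Agent.Lib.Helper21.MCopR3

/-!
# Helper21 — FibDepth4: the fibre depth along a closed subset spreads out (scheme form, S2872)
-/

set_option autoImplicit false
set_option backward.isDefEq.respectTransparency.types false

namespace Groth.Agent.Lib.Helper21.FibDepth

open AlgebraicGeometry CategoryTheory IsLocalRing TensorProduct TopologicalSpace Topology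
open Groth.Agent.Lib.Helper21.FibreStalk Groth.Agent.Lib.Helper17.ModStalk
open Groth.Agent.Lib.Helper24.FibreDim Groth.Agent.Lib.Helper21.FlatDesc
open Groth.Agent.Lib.Helper21.MCop

universe u

section Chart

variable {X : Scheme.{u}} {U : X.Opens} (hU : IsAffineOpen U)

theorem primeIdealOf_fromSpec (z : PrimeSpectrum Γ(X, U)) (hz : hU.fromSpec z ∈ U) :
    hU.primeIdealOf ⟨hU.fromSpec z, hz⟩ = z := by
  apply hU.fromSpec.isOpenEmbedding.injective
  exact hU.fromSpec_primeIdealOf ⟨hU.fromSpec z, hz⟩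

theorem fromSpec_mem (z : PrimeSpectrum Γ(X, U)) : hU.fromSpec z ∈ U := by
  have : hU.fromSpec z ∈ Set.range hU.fromSpec := ⟨z, rfl⟩
  rw [hU.range_fromSpec] at this
  exact this

theorem exists_primeIdealOf_eq (z : PrimeSpectrum Γ(X, U)) :
    ∃ (x : X) (hx : x ∈ U), hU.primeIdealOf ⟨x, hx⟩ = z :=
  ⟨hU.fromSpec z, fromSpec_mem hU z, primeIdealOf_fromSpec hU z _⟩

theorem primeIdealOf_le_iff {x y : X} (hx : x ∈ U) (hy : y ∈ U) :
    hU.primeIdealOf ⟨x, hx⟩ ≤ hU.primeIdealOf ⟨y, hy⟩ ↔ x ⤳ y := by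
  have hj : IsInducing hU.fromSpec := hU.fromSpec.isOpenEmbedding.isInducing
  rw [PrimeSpectrum.le_iff_specializes]
  have h := hj.specializes_iff (x := hU.primeIdealOf ⟨x, hx⟩) (y := hU.primeIdealOf ⟨y, hy⟩)
  rw [hU.fromSpec_primeIdealOf ⟨x, hx⟩, hU.fromSpec_primeIdealOf ⟨y, hy⟩] at h
  exact h.symm

/-- a closed subset of `X` is cut out in an affine chart by an ideal. -/
theorem exists_ideal_of_isClosed (Y : Set X) (hY : IsClosed Y) :
    ∃ I : Ideal Γ(X, U), ∀ (x : X) (hx : x ∈ U),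
      I ≤ (hU.primeIdealOf ⟨x, hx⟩).asIdeal ↔ x ∈ Y := by
  set T : Set (PrimeSpectrum Γ(X, U)) := hU.fromSpec ⁻¹' Y with hT
  have hTc : IsClosed T := hY.preimage hU.fromSpec.continuous
  refine ⟨PrimeSpectrum.vanishingIdeal T, fun x hx => ?_⟩
  have h1 : (PrimeSpectrum.vanishingIdeal T ≤ (hU.primeIdealOf ⟨x, hx⟩).asIdeal) ↔
      hU.primeIdealOf ⟨x, hx⟩ ∈ PrimeSpectrum.zeroLocus (PrimeSpectrum.vanishingIdeal T : Set _) :=
    (PrimeSpectrum.mem_zeroLocus _ _).symm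
  rw [h1, PrimeSpectrum.zeroLocus_vanishingIdeal_eq_closure, hTc.closure_eq, hT, Set.mem_preimage,
    hU.fromSpec_primeIdealOf ⟨x, hx⟩]

end Chart

section Main

variable {X S : Scheme.{u}}

set_option maxHeartbeats 1600000 in
/-- **EGA IV 12.3.x (S2872)**: the set of points of a closed subset `Y` at which the depth of the
fibre module along `Y` is at least `n` is open in `Y`. -/
theorem isOpen_fiberDepthAlong (f : X ⟶ S) [LocallyOfFinitePresentation f] (Y : Set X)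
    (hY : IsClosed Y) (F : X.Modules)
    [SheafOfModules.IsFinitePresentation.{u} (R := X.ringCatSheaf) F]
    (hflat : FlatMod.IsFlatOver f F) (n : ℕ) :
    IsOpen {y : X | y ∈ Y → (n : ℕ∞) ≤ CInt.fiberDepthAlong f F Y y} := by
  haveI : F.IsQuasicoherent :=
    Groth.Agent.Lib.Helper29.FPDict.isQuasicoherent_of_isFinitePresentation F
  rw [isOpen_iff_forall_mem_open]
  intro y hy
  by_cases hyY : y ∈ Y
  swap
  · exact ⟨Yᶜ, fun y' hy' h => absurd h hy', hY.isOpen_compl, hyY⟩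
  have hgood := hy hyY
  obtain ⟨_, ⟨V, hV : IsAffineOpen V, rfl⟩, hfyV, -⟩ :=
    S.isBasis_affineOpens.exists_subset_of_mem_open (Set.mem_univ (f y)) isOpen_univ
  obtain ⟨_, ⟨U, hU : IsAffineOpen U, rfl⟩, hyU, hUV⟩ :=
    X.isBasis_affineOpens.exists_subset_of_mem_open (show y ∈ (f ⁻¹ᵁ V : Set X) from hfyV)
      (f ⁻¹ᵁ V).isOpen
  letI algCB : Algebra Γ(S, V) Γ(X, U) := (f.appLE V U hUV).hom.toAlgebra
  letI mC : Module Γ(S, V) Γ(F, U) := Module.compHom Γ(F, U) (algebraMap Γ(S, V) Γ(X, U))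
  haveI : IsScalarTower Γ(S, V) Γ(X, U) Γ(F, U) := IsScalarTower.of_compHom _ _ _
  haveI : Algebra.FinitePresentation Γ(S, V) Γ(X, U) :=
    (HasRingHomProperty.appLE @LocallyOfFinitePresentation f inferInstance ⟨V, hV⟩ ⟨U, hU⟩ hUV :
      RingHom.FinitePresentation _)
  haveI : Module.FinitePresentation Γ(X, U) Γ(F, U) :=
    Groth.Agent.Lib.Helper29.FPDict.fp_of_isAffineOpen F hU
  obtain ⟨I, hI⟩ := exists_ideal_of_isClosed hU Y hY
  have key : ∀ (z : X) (hz : z ∈ U), CInt.fiberDepth f F z =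
      LocCoh.depth (Localization.AtPrime (hU.primeIdealOf ⟨z, hz⟩).asIdeal)
        (EGA4.FibLocMod Γ(S, V) Γ(X, U) (hU.primeIdealOf ⟨z, hz⟩).asIdeal Γ(F, U)) := by
    intro z hz
    exact ((semiEquiv_chart f F hU hV hUV z hz).depth_eq).symm
  have hcomap : ∀ (z : X) (hz : z ∈ U),
      (hU.primeIdealOf ⟨z, hz⟩).asIdeal.comap (algebraMap Γ(S, V) Γ(X, U)) =
        (hV.primeIdealOf ⟨f z, hUV hz⟩).asIdeal := fun z hz =>
    congrArg PrimeSpectrum.asIdeal (IsAffineOpen.comap_primeIdealOf_appLE V hV U hU hUV hz)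
  obtain ⟨U', hU'o, hqU', hall⟩ := exists_open_depth_along Γ(S, V) Γ(X, U) Γ(F, U) I n
    (hU.primeIdealOf ⟨y, hyU⟩)
    ((isFlatOverAt_iff_flat_localized f F hU hV hUV y hyU).1 (hflat y)) (by
      intro z hIz hzq hzc
      obtain ⟨z', hz'U, rfl⟩ := exists_primeIdealOf_eq hU z
      rw [← key z' hz'U]
      have hz'Y : z' ∈ Y := (hI z' hz'U).1 hIz
      have hz'y : z' ⤳ y := (primeIdealOf_le_iff hU hz'U hyU).1 hzq
      have hfz' : f z' = f y := by
        rw [hcomap z' hz'U, hcomap y hyU] at hzc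
        have h1 : hV.primeIdealOf ⟨f z', hUV hz'U⟩ = hV.primeIdealOf ⟨f y, hUV hyU⟩ :=
          PrimeSpectrum.ext hzc
        have h2 := congrArg hV.fromSpec h1
        rw [hV.fromSpec_primeIdealOf, hV.fromSpec_primeIdealOf] at h2
        exact h2
      refine hgood.trans ?_
      exact iInf_le (fun z : {z : X // z ∈ Y ∧ z ⤳ y ∧ f z = f y} => CInt.fiberDepth f F z.1)
        ⟨z', hz'Y, hz'y, hfz'⟩)
  refine ⟨Subtype.val '' ((fun y : U => hU.primeIdealOf y) ⁻¹' U'), ?_, ?_, ?_⟩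
  · rintro _ ⟨y', hy', rfl⟩ hy'Y
    refine le_iInf ?_
    rintro ⟨z, hzY, hzy', hfz⟩
    have hWo : IsOpen (Subtype.val '' ((fun y : U => hU.primeIdealOf y) ⁻¹' U')) :=
      U.2.isOpenMap_subtype_val _ (hU'o.preimage hU.isoSpec.hom.continuous)
    obtain ⟨u, hu, huz⟩ := hzy'.mem_open hWo ⟨y', hy', rfl⟩
    have hzU : z ∈ U := huz ▸ u.2
    have hu' : hU.primeIdealOf ⟨z, hzU⟩ ∈ U' := by
      have : u = ⟨z, hzU⟩ := Subtype.ext huz
      rw [← this]
      exact hu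
    show (n : ℕ∞) ≤ CInt.fiberDepth f F z
    rw [key z hzU]
    exact hall _ hu' ((hI z hzU).2 hzY)
  · exact U.2.isOpenMap_subtype_val _ (hU'o.preimage hU.isoSpec.hom.continuous)
  · exact ⟨⟨y, hyU⟩, hqU', rfl⟩

end Main

end Groth.Agent.Lib.Helper21.FibDepth
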