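import Mathlib
import Groth.Prelude.Def_EGA4b
import Groth.Agent.Lib.Helper21.MCopR3

set_option autoImplicit false
set_option backward.isDefEq.respectTransparency.types false

namespace Groth.Agent.Lib.Helper21.MCop

open AlgebraicGeometry CategoryTheory IsLocalRing TensorProduct TopologicalSpace
open Groth.Agent.Lib.Helper21.FibreStalk Groth.Agent.Lib.Helper17.ModStalk
open Groth.Agent.Lib.Helper24.FibreDim Groth.Agent.Lib.Helper21.FlatDesc

universe u

section ProperRd

variable {X Y : Scheme.{u}}

theorem dim_closure_fiber_point (f : X ⟶ Y) [LocallyOfFiniteType f] (y : Y) (z : f.fiber y) :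
    topologicalKrullDim ↥(closure ({z} : Set ↥(f.fiber y))) =
      ((tr f (f.fiberι y z) : ℕ) : WithBot ℕ∞) := by
  obtain ⟨x, hx⟩ : ∃ x : X, x = f.fiberι y z := ⟨_, rfl⟩
  have key : ∀ (y' : Y) (_ : f x = y') (z' : f.fiber y') (_ : f.fiberι y' z' = x),
      topologicalKrullDim ↥(closure ({z'} : Set ↥(f.fiber y'))) = ((tr f x : ℕ) : WithBot ℕ∞) := by
    intro y' h z' hz
    subst h
    have hzz : z' = f.asFiber x :=
      (f.fiberι (f x)).isEmbedding.injective (by rw [hz, Scheme.Hom.fiberι_asFiber])
    subst hzz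
    exact dim_closure_asFiber f x
  rw [← hx]
  exact key y (hx ▸ apply_fiberι f y z) z hx.symm

theorem depth_fiber_point (f : X ⟶ Y) (F : X.Modules) [F.IsQuasicoherent] (y : Y) (z : f.fiber y) :
    LocCoh.depth ((f.fiber y).presheaf.stalk z)
      (((Scheme.Modules.pullback (f.fiberι y)).obj F).presheaf.stalk z) =
    LocCoh.depth ((f.fiber (f (f.fiberι y z))).presheaf.stalk (f.asFiber (f.fiberι y z)))
      (((Scheme.Modules.pullback (f.fiberι (f (f.fiberι y z)))).obj F).presheaf.stalk
        (f.asFiber (f.fiberι y z))) := by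
  rw [← (semiEquiv_fiber_point f F y z).depth_eq, ← (semiEquiv_fibre f F (f.fiberι y z)).depth_eq]

/-- **EGA IV 12.2.1-type statement**: for `f` proper, lower semicontinuity on the base of the
rectified depth of the fibre modules. -/
theorem isOpen_fibre_rd_of_proper (f : X ⟶ Y) [IsProper f] [LocallyOfFinitePresentation f]
    (F : X.Modules) [SheafOfModules.IsFinitePresentation.{u} (R := X.ringCatSheaf) F]
    (hflat : FlatMod.IsFlatOver f F) (n : ℕ) :
    IsOpen {y : Y | ∀ x : ↥(f.fiber y), (n : WithBot ℕ∞) ≤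
      ((LocCoh.depth ((f.fiber y).presheaf.stalk x)
        (((Scheme.Modules.pullback (f.fiberι y)).obj F).presheaf.stalk x) : ℕ∞) : WithBot ℕ∞) +
        topologicalKrullDim ↥(closure ({x} : Set ↥(f.fiber y)))} := by
  haveI : F.IsQuasicoherent :=
    Groth.Agent.Lib.Helper29.FPDict.isQuasicoherent_of_isFinitePresentation F
  have hEo := isOpen_fibre_rd' f F hflat n
  have hcl := f.isClosedMap _ hEo.isClosed_compl
  convert hcl.isOpen_compl using 1
  ext y
  simp only [Set.mem_setOf_eq, Set.mem_compl_iff, Set.mem_image, not_exists, not_and]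
  constructor
  · intro h x hx hfx
    subst hfx
    exact hx (h (f.asFiber x))
  · intro h z
    rw [depth_fiber_point f F y z, dim_closure_fiber_point f y z,
      ← dim_closure_asFiber f (f.fiberι y z)]
    by_contra hn
    exact h (f.fiberι y z) hn (apply_fiberι f y z)

end ProperRd

end Groth.Agent.Lib.Helper21.MCop
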