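import Mathlib
import Groth.Agent.S0604
import Groth.Agent.S10834
import Groth.Agent.Lib.helper11.GlDimRegular
import Groth.Agent.Lib.Helper21.DepthKit3
import Groth.Agent.Lib.Helper21.DepthKit12

/-!
# Helper21 — RectDepth1: Auslander–Buchsbaum on a regular ring, transported along a surjection
-/

set_option autoImplicit false
universe u

namespace Groth.Agent.Lib.Helper21.RectDepth

open CategoryTheory Groth.Agent.Lib.Helper21

/-- Auslander–Buchsbaum over a regular local ring, in natural numbers. -/
theorem exists_nat_ab (R : Type u) [CommRing R] [IsRegularLocalRing R] (N : Type u)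
    [AddCommGroup N] [Module R N] [Module.Finite R N] [Nontrivial N] :
    ∃ e dm d : ℕ, projectiveDimension (ModuleCat.of R N) = e ∧ LocCoh.depth R N = dm ∧
      ringKrullDim R = d ∧ d = e + dm := by
  obtain ⟨d, hd⟩ := DepthKit.exists_nat_supportDim (A := R) (M := R)
  have hd' : ringKrullDim R = d := by
    rw [← Module.supportDim_self_eq_ringKrullDim, hd]
  have hpd := Groth.Agent.Lib.helper11.GlDimRegular.hasProjectiveDimensionLT_of_isRegularLocalRing
    d hd' (ModuleCat.of R N)
  have hpd_lt : projectiveDimension (ModuleCat.of R N) < ((d + 1 : ℕ) : WithBot ℕ∞) :=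
    projectiveDimension_lt_iff.2 hpd
  have hne : projectiveDimension (ModuleCat.of R N) ≠ ⊥ := by
    rw [Ne, projectiveDimension_eq_bot_iff, ModuleCat.isZero_iff_subsingleton]
    exact not_subsingleton _
  obtain ⟨e, he⟩ : ∃ e : ℕ, projectiveDimension (ModuleCat.of R N) = e := by
    obtain ⟨a, ha⟩ := WithBot.ne_bot_iff_exists.1 hne
    have hat : a ≠ ⊤ := by
      rintro rfl
      rw [← ha] at hpd_lt
      exact absurd hpd_lt (by simp)
    obtain ⟨n, rfl⟩ := ENat.ne_top_iff_exists.1 hat
    exact ⟨n, ha.symm⟩
  have hAB := Groth.Agent.S0604.result R N e he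
  have hCM : Module.supportDim R R = ((LocCoh.depth R R : ℕ∞) : WithBot ℕ∞) :=
    Groth.Agent.S10834.isCM_of_isRegularLocalRing _
  obtain ⟨dm, hdm⟩ := DepthKit.exists_nat_depth (A := R) (M := N)
  rw [hd, hAB, hdm] at hCM
  have hnat : d = e + dm := by exact_mod_cast hCM
  exact ⟨e, dm, d, he, hdm, hd', hnat⟩

section Surj

variable {P B : Type u} [CommRing P] [CommRing B] [Algebra P B] [IsRegularRing P]
variable (M : Type u) [AddCommGroup M] [Module P M] [Module B M] [IsScalarTower P B M]
  [Module.Finite B M]

/-- quotient by a prime and by its contraction along a surjection -/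
theorem ringKrullDim_quotient_comap (hs : Function.Surjective (algebraMap P B)) (q : Ideal B) :
    ringKrullDim (P ⧸ q.comap (algebraMap P B)) = ringKrullDim (B ⧸ q) := by
  have hbij : Function.Bijective (Ideal.quotientMap q (algebraMap P B) le_rfl) :=
    ⟨Ideal.quotientMap_injective, Ideal.quotientMap_surjective hs⟩
  exact ringKrullDim_eq_of_ringEquiv (RingEquiv.ofBijective _ hbij)

include B in
theorem finite_of_surjective (hs : Function.Surjective (algebraMap P B)) : Module.Finite P M := by
  haveI : Module.Finite P B := Module.Finite.of_surjective (Algebra.linearMap P B) hs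
  exact Module.Finite.trans B M

end Surj

theorem nat_of_ne_bot_of_add_eq {a b : WithBot ℕ∞} {D : ℕ} (ha : a ≠ ⊥) (hb : b ≠ ⊥)
    (h : a + b = (D : WithBot ℕ∞)) : ∃ x y : ℕ, a = x ∧ b = y ∧ x + y = D := by
  obtain ⟨a', rfl⟩ := WithBot.ne_bot_iff_exists.1 ha
  obtain ⟨b', rfl⟩ := WithBot.ne_bot_iff_exists.1 hb
  have h' : a' + b' = (D : ℕ∞) := by
    have : ((a' + b' : ℕ∞) : WithBot ℕ∞) = ((D : ℕ∞) : WithBot ℕ∞) := by
      rw [WithBot.coe_add]; exact h
    exact WithBot.coe_injective this
  have ha' : a' ≠ ⊤ := by
    rintro rfl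
    rw [top_add] at h'
    exact absurd h' (by simp)
  have hb' : b' ≠ ⊤ := by
    rintro rfl
    rw [add_top] at h'
    exact absurd h' (by simp)
  obtain ⟨x, rfl⟩ := ENat.ne_top_iff_exists.1 ha'
  obtain ⟨y, rfl⟩ := ENat.ne_top_iff_exists.1 hb'
  refine ⟨x, y, rfl, rfl, ?_⟩
  exact_mod_cast h'

theorem ringKrullDim_ne_bot (R : Type*) [CommRing R] [Nontrivial R] : ringKrullDim R ≠ ⊥ := by
  intro h
  have := ringKrullDim_nonneg_of_nontrivial (R := R)
  rw [h] at this
  exact absurd this (by simp)

section Surj2

variable {P B : Type u} [CommRing P] [CommRing B] [Algebra P B] [IsRegularRing P]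
variable (M : Type u) [AddCommGroup M] [Module P M] [Module B M] [IsScalarTower P B M]
  [Module.Finite B M]

/-- **Ring-level key**: over a quotient `B` of a regular ring `P`, the rectified depth inequality at a
prime `q` of `B` is a bound on the projective dimension over the local ring of `P`. -/
theorem key_ring (hs : Function.Surjective (algebraMap P B)) (q : Ideal B) [q.IsPrime]
    (n D : ℕ)
    (hD : ringKrullDim (P ⧸ q.comap (algebraMap P B)) +
      ringKrullDim (Localization.AtPrime (q.comap (algebraMap P B))) = (D : WithBot ℕ∞)) :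
    ((n : WithBot ℕ∞) ≤ ((LocCoh.depth (Localization.AtPrime q)
        (LocalizedModule q.primeCompl M) : ℕ∞) : WithBot ℕ∞) + ringKrullDim (B ⧸ q)) ↔
    projectiveDimension (ModuleCat.of (Localization.AtPrime (q.comap (algebraMap P B)))
      (LocalizedModule (q.comap (algebraMap P B)).primeCompl M)) + (n : WithBot ℕ∞) ≤
        (D : WithBot ℕ∞) := by
  haveI : Module.Finite P M := finite_of_surjective (B := B) M hs
  rw [← DepthKit.depth_localization_of_surjective (N := M) hs q, ← ringKrullDim_quotient_comap hs q]
  set Q := q.comap (algebraMap P B) with hQ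
  obtain ⟨c, d, hc, hd, hcd⟩ := nat_of_ne_bot_of_add_eq (ringKrullDim_ne_bot _)
    (ringKrullDim_ne_bot _) hD
  rw [hc]
  by_cases hsub : Subsingleton (LocalizedModule Q.primeCompl M)
  · have h1 : LocCoh.depth (Localization.AtPrime Q) (LocalizedModule Q.primeCompl M) = ⊤ :=
      DepthKit.depth_of_subsingleton
    have h2 : projectiveDimension (ModuleCat.of (Localization.AtPrime Q)
        (LocalizedModule Q.primeCompl M)) = ⊥ := by
      rw [projectiveDimension_eq_bot_iff, ModuleCat.isZero_iff_subsingleton]
      exact hsub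
    rw [h1, h2]
    constructor
    · intro _
      simp
    · intro _
      have : ((⊤ : ℕ∞) : WithBot ℕ∞) + (c : WithBot ℕ∞) = ((⊤ : ℕ∞) : WithBot ℕ∞) := by
        rw [show ((c : WithBot ℕ∞)) = (((c : ℕ∞)) : WithBot ℕ∞) from rfl, ← WithBot.coe_add,
          top_add]
      rw [this]
      exact le_top
  · haveI : Nontrivial (LocalizedModule Q.primeCompl M) := not_subsingleton_iff_nontrivial.1 hsub
    obtain ⟨e, dm, d', he, hdm, hd', hnat⟩ := exists_nat_ab (Localization.AtPrime Q)
      (LocalizedModule Q.primeCompl M)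
    have hdd : d = d' := by
      rw [hd] at hd'
      exact_mod_cast hd'
    rw [he, hdm]
    constructor
    · intro h
      have h' : n ≤ dm + c := by exact_mod_cast h
      have : e + n ≤ D := by omega
      exact_mod_cast this
    · intro h
      have h' : e + n ≤ D := by exact_mod_cast h
      have : n ≤ dm + c := by omega
      exact_mod_cast this

end Surj2

end Groth.Agent.Lib.Helper21.RectDepth
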