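import Mathlib
import Groth.Agent.Lib.Helper24.JacDim.LocalDimY

/-!
# Helper21 — RectDepth2: dimensions of closures and generizations in a prime spectrum; local constancy
of `dim R/p + dim R_p` at points with integral local ring, in the presence of a dimension function
-/

set_option autoImplicit false
universe u

namespace Groth.Agent.Lib.Helper21.RectDepth

open Topology Groth.Agent.Lib.Helper24.JacDim AlgebraicGeometry

theorem dim_eq_of_isEmbedding_range {A X : Type*} [TopologicalSpace A] [TopologicalSpace X]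
    (f : A → X) (hf : IsEmbedding f) (T : Set X) (hr : Set.range f = T) :
    topologicalKrullDim A = topologicalKrullDim ↥T := by
  let e : A ≃ₜ T := hf.toHomeomorph.trans (Homeomorph.setCongr hr)
  exact IsHomeomorph.topologicalKrullDim_eq e e.isHomeomorph

/-- the closure of a point of a prime spectrum has the dimension of the quotient ring -/
theorem dim_closure_primeSpectrum (R : Type u) [CommRing R] (p : PrimeSpectrum R) :
    topologicalKrullDim ↥(closure ({p} : Set (PrimeSpectrum R))) = ringKrullDim (R ⧸ p.asIdeal) := by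
  rw [← PrimeSpectrum.topologicalKrullDim_eq_ringKrullDim]
  symm
  apply dim_eq_of_isEmbedding_range (PrimeSpectrum.comap (Ideal.Quotient.mk p.asIdeal))
    (PrimeSpectrum.isClosedEmbedding_comap_of_surjective _ _ Ideal.Quotient.mk_surjective).isEmbedding
  rw [_root_.range_comap_of_surjective _ _ Ideal.Quotient.mk_surjective, Ideal.mk_ker,
    PrimeSpectrum.closure_singleton]

/-- the generizations of a point of a prime spectrum have the dimension of the local ring -/
theorem dim_generizations_primeSpectrum (R : Type u) [CommRing R] (p : PrimeSpectrum R) :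
    topologicalKrullDim ↥{t : PrimeSpectrum R | t ⤳ p} =
      ringKrullDim (Localization.AtPrime p.asIdeal) := by
  rw [← PrimeSpectrum.topologicalKrullDim_eq_ringKrullDim]
  symm
  apply dim_eq_of_isEmbedding_range
    (PrimeSpectrum.comap (algebraMap R (Localization.AtPrime p.asIdeal)))
    (PrimeSpectrum.localization_comap_isEmbedding _ p.asIdeal.primeCompl)
  rw [PrimeSpectrum.localization_comap_range _ p.asIdeal.primeCompl]
  ext t
  simp only [Set.mem_setOf_eq]
  rw [← PrimeSpectrum.le_iff_specializes]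
  constructor
  · intro h a ha
    by_contra hap
    exact Set.disjoint_left.1 h hap ha
  · intro h
    rw [Set.disjoint_left]
    intro a hap ha
    exact hap (h ha)

/-- With a dimension function (vanishing at closed points) on `Spec P`, the sum
`dim P/Q + dim P_Q` is locally constant at points with integral local ring. -/
theorem exists_open_dim_const (P : Type u) [CommRing P] [IsNoetherianRing P]
    (δ : Spec (CommRingCat.of P) → ℤ) (hD : DimData (Spec (CommRingCat.of P)) δ)
    (Q : PrimeSpectrum P) [IsDomain (Localization.AtPrime Q.asIdeal)] :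
    ∃ W : Set (PrimeSpectrum P), IsOpen W ∧ Q ∈ W ∧ ∃ D : ℕ, ∀ Q' ∈ W,
      ringKrullDim (P ⧸ Q'.asIdeal) + ringKrullDim (Localization.AtPrime Q'.asIdeal) =
        (D : WithBot ℕ∞) := by
  set K : Ideal P := RingHom.ker (algebraMap P (Localization.AtPrime Q.asIdeal)) with hK
  haveI hKp : K.IsPrime := RingHom.ker_isPrime _
  -- `K` is contained in every prime contained in `Q`
  have hKle : ∀ p : Ideal P, p.IsPrime → p ≤ Q.asIdeal → K ≤ p := by
    intro p hp hpQ a ha
    rw [hK, RingHom.mem_ker, IsLocalization.map_eq_zero_iff Q.asIdeal.primeCompl] at ha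
    obtain ⟨s, hs⟩ := ha
    have h0 : (s : P) * a ∈ p := by rw [hs]; exact p.zero_mem
    rcases hp.mem_or_mem h0 with h1 | h1
    · exact absurd (hpQ h1) s.2
    · exact h1
  have hKQ : K ≤ Q.asIdeal := hKle Q.asIdeal Q.isPrime le_rfl
  have hKmin : K ∈ minimalPrimes P := by
    refine ⟨⟨hKp, bot_le⟩, ?_⟩
    intro p hp hpK
    exact hKle p hp.1 (hpK.trans hKQ)
  let Kp : PrimeSpectrum P := ⟨K, hKp⟩
  set W : Set (PrimeSpectrum P) :=
    (⋃ p ∈ (minimalPrimes P \ {K}), PrimeSpectrum.zeroLocus (p : Set P))ᶜ with hW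
  have hfin : (minimalPrimes P \ {K}).Finite := (minimalPrimes.finite_of_isNoetherianRing P).diff
  have hWopen : IsOpen W := by
    rw [hW, isOpen_compl_iff]
    exact hfin.isClosed_biUnion (fun p _ => PrimeSpectrum.isClosed_zeroLocus _)
  -- minimal primes inside a point of `W` are `K`
  have hWmin : ∀ Q' ∈ W, ∀ p ∈ minimalPrimes P, p ≤ Q'.asIdeal → p = K := by
    intro Q' hQ' p hp hpQ'
    by_contra hne
    apply hQ'
    simp only [Set.mem_iUnion]
    exact ⟨p, ⟨hp, hne⟩, fun a ha => hpQ' ha⟩
  have hQW : Q ∈ W := by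
    intro hmem
    simp only [Set.mem_iUnion] at hmem
    obtain ⟨p, ⟨hp, hne⟩, hQp⟩ := hmem
    have hpQ : p ≤ Q.asIdeal := fun a ha => hQp ha
    have h1 : K ≤ p := hKle p hp.1.1 hpQ
    have h2 : p ≤ K := hp.2 ⟨hKp, bot_le⟩ h1
    exact hne (le_antisymm h2 h1)
  refine ⟨W, hWopen, hQW, (δ Kp).toNat, ?_⟩
  intro Q' hQ'
  -- every generization of `Q'` contains `K`
  have hgen : ∀ ζ : PrimeSpectrum P, ζ ⤳ Q' → Kp ⤳ ζ := by
    intro ζ hζ
    rw [← PrimeSpectrum.le_iff_specializes] at hζ ⊢
    obtain ⟨p, hp, hpζ⟩ := Ideal.exists_minimalPrimes_le (I := ⊥) (J := ζ.asIdeal) bot_le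
    have : p = K := hWmin Q' hQ' p hp (hpζ.trans hζ)
    rw [this] at hpζ
    exact hpζ
  have hNN : NN δ Set.univ (Q' : Spec (CommRingCat.of P)) = ((δ Kp).toNat : WithBot ℕ∞) := by
    apply le_antisymm
    · apply iSup_le
      rintro ⟨ζ, -, hζ⟩
      have h1 : δ ζ ≤ δ Kp := hD.mono (hgen ζ hζ)
      have h2 : (δ ζ).toNat ≤ (δ Kp).toNat := Int.toNat_le_toNat h1
      exact_mod_cast h2
    · exact le_NN (X := Spec (CommRingCat.of P)) (δ := δ) Set.univ Q' Kp trivial
        (hgen Q' specializes_rfl)
  have h1 := dim_closure_add_dim_gen_eq_NN hD Set.univ isClosed_univ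
    (Q' : Spec (CommRingCat.of P)) trivial
  rw [hNN] at h1
  have hset : {t : Spec (CommRingCat.of P) | t ∈ Set.univ ∧ t ⤳ Q'} =
      {t : PrimeSpectrum P | t ⤳ Q'} := by
    ext t; exact ⟨fun h => h.2, fun h => ⟨trivial, h⟩⟩
  rw [hset] at h1
  rw [← dim_closure_primeSpectrum, ← dim_generizations_primeSpectrum]
  exact h1

/-- On a scheme with a dimension function vanishing at closed points, the dimension of the closure of a
point is read off in any affine chart. -/
theorem dim_closure_eq_quotient {X : Scheme.{u}} {δ : X → ℤ} (hD : DimData X δ) {U : X.Opens}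
    (hU : IsAffineOpen U) (y : X) (hy : y ∈ U) :
    topologicalKrullDim ↥(closure ({y} : Set X)) =
      ringKrullDim (Γ(X, U) ⧸ (hU.primeIdealOf ⟨y, hy⟩).asIdeal) := by
  rw [dim_closure_eq hD y, ← dim_closure_primeSpectrum]
  set q : PrimeSpectrum Γ(X, U) := hU.primeIdealOf ⟨y, hy⟩ with hq
  let j : PrimeSpectrum Γ(X, U) → X := fun a => hU.fromSpec a
  have hjq : j q = y := hU.fromSpec_primeIdealOf ⟨y, hy⟩
  have hj : IsInducing j := hU.fromSpec.isOpenEmbedding.isInducing
  have hrange : Set.range j = U := hU.range_fromSpec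
  apply le_antisymm
  · obtain ⟨c, hc, hc0, hmem⟩ := exists_chain_to_closed hD U U.isOpen y hy
    have hlift : ∀ i, ∃ a : PrimeSpectrum Γ(X, U), j a = c i := fun i => by
      have : c i ∈ Set.range j := by rw [hrange]; exact (hmem i).2
      exact this
    choose a ha using hlift
    have hacl : ∀ i, a i ∈ closure ({q} : Set (PrimeSpectrum Γ(X, U))) := fun i => by
      rw [← specializes_iff_mem_closure, ← hj.specializes_iff, ha, hjq]; exact (hmem i).1
    refine le_dim_of_chain_inducing
      (fun z : closure ({q} : Set (PrimeSpectrum Γ(X, U))) => j z.1)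
      (hj.comp IsInducing.subtypeVal) (fun i => ⟨a i, hacl i⟩) ?_
    have : (fun i => j (a i)) = c := funext ha
    show SChain _ (fun i => j (a i))
    rw [this]
    exact hc
  · haveI : QuasiSober ↥(closure ({q} : Set (PrimeSpectrum Γ(X, U)))) :=
      isClosed_closure.isClosedEmbedding_subtypeVal.quasiSober
    refine dim_le_of_chains_mem _ _ ?_
    intro m c hc hmem
    have hc' : SChain m (fun i => j (c i)) := fun i =>
      ⟨hj.specializes_iff.2 (hc i).1, fun h => (hc i).2 (hj.specializes_iff.1 h)⟩
    have h0 : y ⤳ j (c 0) := by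
      rw [← hjq, hj.specializes_iff, specializes_iff_mem_closure]; exact hmem 0
    exact_mod_cast chain_le_toNat hD hc' y h0

end Groth.Agent.Lib.Helper21.RectDepth
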