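import Mathlib
import Groth.Agent.Lib.helper11.PDQuotient

set_option autoImplicit false
universe u
open CategoryTheory

namespace Groth.Agent.Lib.Helper21.PDTransport

variable {R S : Type u} [CommRing R] [CommRing S]

/-- projective dimension along a ring isomorphism (one direction). -/
theorem hasPDLT_of_ringEquiv (e : R ≃+* S) [IsNoetherianRing S] (E : Type u) [AddCommGroup E]
    [Module R E] [Module S E] (hc : ∀ (r : R) (x : E), r • x = e r • x) [Module.Finite S E]
    (n : ℕ) (h : HasProjectiveDimensionLT (ModuleCat.of S E) n) :
    HasProjectiveDimensionLT (ModuleCat.of R E) n := by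
  cases n with
  | zero =>
    rw [hasProjectiveDimensionLT_zero_iff_isZero, ModuleCat.isZero_iff_subsingleton] at h ⊢
    exact h
  | succ s =>
    letI : Algebra R S := (e : R →+* S).toAlgebra
    haveI : IsScalarTower R S E := ⟨fun r s x => by
      show (e r * s) • x = r • (s • x)
      rw [mul_smul, hc]⟩
    let e' : R ≃ₗ[R] S :=
      { e.toAddEquiv with
        map_smul' := fun r x => by
          show e (r * x) = e r * e x
          exact map_mul e r x }
    haveI : Module.Projective R S := Module.Projective.of_equiv e'
    have hc0 : HasProjectiveDimensionLT (ModuleCat.of R S) (0 + 1) := by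
      rw [zero_add, ← projective_iff_hasProjectiveDimensionLT_one, ← IsProjective.iff_projective]
      infer_instance
    have := Groth.Agent.Lib.helper11.PDQuotient.hasProjectiveDimensionLT_restrictScalars 0 hc0 s E h
    simpa using this

theorem projectiveDimension_eq_of_forall {C D : Type*} [Category C] [Abelian C] [Category D]
    [Abelian D] {X : C} {Y : D}
    (h : ∀ n : ℕ, HasProjectiveDimensionLT X n ↔ HasProjectiveDimensionLT Y n) :
    projectiveDimension X = projectiveDimension Y := by
  simp only [projectiveDimension]
  congr! 5
  exact h _

/-- projective dimension is invariant under a ring isomorphism. -/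
theorem projectiveDimension_eq_of_ringEquiv (e : R ≃+* S) [IsNoetherianRing R] [IsNoetherianRing S]
    (E : Type u) [AddCommGroup E]
    [Module R E] [Module S E] (hc : ∀ (r : R) (x : E), r • x = e r • x) [Module.Finite S E] :
    projectiveDimension (ModuleCat.of R E) = projectiveDimension (ModuleCat.of S E) := by
  haveI : Module.Finite R E := by
    obtain ⟨s, hs⟩ := (Module.Finite.fg_top : (⊤ : Submodule S E).FG)
    refine ⟨⟨s, ?_⟩⟩
    have key : ∀ x ∈ Submodule.span S (s : Set E), x ∈ Submodule.span R (s : Set E) := by
      intro x hx
      induction hx using Submodule.span_induction with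
      | mem y hy => exact Submodule.subset_span hy
      | zero => exact Submodule.zero_mem _
      | add y z _ _ hy hz => exact Submodule.add_mem _ hy hz
      | smul a y _ hy =>
        have : a • y = e.symm a • y := by rw [hc, RingEquiv.apply_symm_apply]
        rw [this]
        exact Submodule.smul_mem _ _ hy
    rw [eq_top_iff]
    intro x _
    exact key x (by rw [hs]; trivial)
  refine projectiveDimension_eq_of_forall fun n => ⟨fun h => ?_, fun h => ?_⟩
  · exact hasPDLT_of_ringEquiv e.symm E (fun s x => by rw [hc, RingEquiv.apply_symm_apply]) n h
  · exact hasPDLT_of_ringEquiv e E hc n h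

end Groth.Agent.Lib.Helper21.PDTransport
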