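import Mathlib
import Groth.Agent.Lib.Helper21.PDTransport
import Groth.Agent.Lib.Helper7.StalkLoc

set_option autoImplicit false
universe u

namespace Groth.Agent.Lib.Helper21.PDStalk

open CategoryTheory AlgebraicGeometry Opposite TopologicalSpace
open Groth.Agent.Lib.Helper28.QCohLoc Groth.Agent.Lib.Helper29.QCohStalk
open Groth.Agent.Lib.Helper7.StalkLoc

variable {X : Scheme.{u}} (F : X.Modules) {U : X.Opens} (hU : IsAffineOpen U)
  (hloc : IsLocOn F U) (x : X) (hx : x ∈ U)

include hloc in
/-- **Projective dimension dictionary** for stalks of quasi-coherent modules. -/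
theorem pd_stalk_eq [IsLocallyNoetherian X] [Module.Finite Γ(X, U) Γ(F, U)] :
    projectiveDimension (ModuleCat.of (X.presheaf.stalk x) (F.presheaf.stalk x)) =
      projectiveDimension (ModuleCat.of (Localization.AtPrime (hU.primeIdealOf ⟨x, hx⟩).asIdeal)
        (LocalizedModule (hU.primeIdealOf ⟨x, hx⟩).asIdeal.primeCompl Γ(F, U))) ∧
    (Subsingleton (F.presheaf.stalk x) ↔
      Subsingleton (LocalizedModule (hU.primeIdealOf ⟨x, hx⟩).asIdeal.primeCompl Γ(F, U))) := by
  haveI : IsNoetherianRing Γ(X, U) := IsLocallyNoetherian.component_noetherian ⟨U, hU⟩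
  set p := (hU.primeIdealOf ⟨x, hx⟩).asIdeal with hp
  letI algA : Algebra Γ(X, U) (X.presheaf.stalk x) := X.presheaf.algebra_section_stalk ⟨x, hx⟩
  haveI hlocR : IsLocalization.AtPrime (X.presheaf.stalk x) p := hU.isLocalization_stalk ⟨x, hx⟩
  let e : Localization.AtPrime p ≃ₐ[Γ(X, U)] X.presheaf.stalk x :=
    IsLocalization.algEquiv p.primeCompl _ _
  letI algAp : Algebra (Localization.AtPrime p) (X.presheaf.stalk x) :=
    e.toRingEquiv.toRingHom.toAlgebra
  haveI st1 : IsScalarTower Γ(X, U) (Localization.AtPrime p) (X.presheaf.stalk x) :=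
    IsScalarTower.of_algebraMap_eq (fun a => (e.commutes a).symm)
  letI modA : Module Γ(X, U) (F.presheaf.stalk x) := stalkModule F x hx
  letI modAp : Module (Localization.AtPrime p) (F.presheaf.stalk x) :=
    Module.compHom (F.presheaf.stalk x) (algebraMap (Localization.AtPrime p) (X.presheaf.stalk x))
  haveI st2 : IsScalarTower (Localization.AtPrime p) (X.presheaf.stalk x) (F.presheaf.stalk x) :=
    ⟨fun a b m => by
      show (algebraMap _ (X.presheaf.stalk x) a * b) • m = algebraMap _ (X.presheaf.stalk x) a • (b • m)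
      rw [mul_smul]⟩
  haveI st3 : IsScalarTower Γ(X, U) (Localization.AtPrime p) (F.presheaf.stalk x) :=
    ⟨fun a b m => by
      show algebraMap _ (X.presheaf.stalk x) (a • b) • m =
        (X.presheaf.germ U x hx).hom a • (algebraMap _ (X.presheaf.stalk x) b • m)
      rw [Algebra.smul_def, map_mul, mul_smul, ← IsScalarTower.algebraMap_apply]
      rfl⟩
  haveI hL := isLocalizedModule_gmLin F hU hloc x hx
  let ε₀ : LocalizedModule p.primeCompl Γ(F, U) ≃ₗ[Γ(X, U)] F.presheaf.stalk x :=
    IsLocalizedModule.iso p.primeCompl (gmLin F x hx)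
  let ε : LocalizedModule p.primeCompl Γ(F, U) ≃ₗ[Localization.AtPrime p] F.presheaf.stalk x :=
    LinearEquiv.extendScalarsOfIsLocalization p.primeCompl (Localization.AtPrime p) ε₀
  haveI : Module.Finite (Localization.AtPrime p) (F.presheaf.stalk x) := Module.Finite.equiv ε
  haveI : IsNoetherianRing (X.presheaf.stalk x) := inferInstance
  haveI : Module.Finite (X.presheaf.stalk x) (F.presheaf.stalk x) := by
    obtain ⟨s, hs⟩ := (Module.Finite.fg_top :
      (⊤ : Submodule (Localization.AtPrime p) (F.presheaf.stalk x)).FG)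
    refine ⟨⟨s, ?_⟩⟩
    have key : ∀ y ∈ Submodule.span (Localization.AtPrime p) (s : Set (F.presheaf.stalk x)),
        y ∈ Submodule.span (X.presheaf.stalk x) (s : Set (F.presheaf.stalk x)) := by
      intro y hy
      induction hy using Submodule.span_induction with
      | mem y hy => exact Submodule.subset_span hy
      | zero => exact Submodule.zero_mem _
      | add y z _ _ hy hz => exact Submodule.add_mem _ hy hz
      | smul a y _ hy => exact Submodule.smul_mem _ (algebraMap _ (X.presheaf.stalk x) a) hy
    rw [eq_top_iff]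
    intro y _
    exact key y (by rw [hs]; trivial)
  refine ⟨?_, ?_⟩
  · rw [projectiveDimension_eq_of_iso ε.toModuleIso]
    exact (PDTransport.projectiveDimension_eq_of_ringEquiv e.toRingEquiv (F.presheaf.stalk x)
      (fun r y => rfl)).symm
  · exact ⟨fun h => ε.toEquiv.subsingleton, fun h => ε.symm.toEquiv.subsingleton⟩

end Groth.Agent.Lib.Helper21.PDStalk
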