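import Mathlib
import Groth.Agent.Lib.Helper21.RectDepth1
import Groth.Agent.Lib.Helper21.RectDepth2
import Groth.Agent.Lib.Helper24.JacDim.Main4889
import Groth.Agent.Lib.Helper5.LCIReg
import Groth.Agent.Lib.Helper5.RegCompletion
import Groth.Agent.Lib.Helper12.CMCatC
import Groth.Agent.Lib.Helper21.CMKit
import Groth.Agent.S2677
import Groth.Agent.S4907
import Groth.Agent.Lib.Helper7.StalkLoc
import Groth.Agent.Lib.helper19.RegularLocal

/-!
# Helper21 — RectDepth3: lower semicontinuity of the rectified depth over a regular Jacobson base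
-/

set_option autoImplicit false
universe u

namespace Groth.Agent.Lib.Helper21.RectDepth

open CategoryTheory AlgebraicGeometry Topology Groth.Agent.Lib.Helper24.JacDim
open Groth.Agent.Lib.Helper24.FibreDim
open Groth.Agent.Lib.Helper28.QCohLoc

section Ring

variable {P B : Type u} [CommRing P] [CommRing B] [Algebra P B] [IsRegularRing P]
variable (M : Type u) [AddCommGroup M] [Module P M] [Module B M] [IsScalarTower P B M]
  [Module.Finite B M]

theorem key_ring' (hs : Function.Surjective (algebraMap P B)) (q : PrimeSpectrum B)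
    (n D : ℕ)
    (hD : ringKrullDim (P ⧸ (PrimeSpectrum.comap (algebraMap P B) q).asIdeal) +
      ringKrullDim (Localization.AtPrime (PrimeSpectrum.comap (algebraMap P B) q).asIdeal) =
        (D : WithBot ℕ∞)) :
    ((n : WithBot ℕ∞) ≤ ((LocCoh.depth (Localization.AtPrime q.asIdeal)
        (LocalizedModule q.asIdeal.primeCompl M) : ℕ∞) : WithBot ℕ∞) +
          ringKrullDim (B ⧸ q.asIdeal)) ↔
    projectiveDimension (ModuleCat.of
      (Localization.AtPrime (PrimeSpectrum.comap (algebraMap P B) q).asIdeal)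
      (LocalizedModule (PrimeSpectrum.comap (algebraMap P B) q).asIdeal.primeCompl M)) +
        (n : WithBot ℕ∞) ≤ (D : WithBot ℕ∞) := by
  have h := key_ring M hs q.asIdeal n D
  exact h hD

theorem isOpen_rect_ring (hs : Function.Surjective (algebraMap P B))
    (W : Set (PrimeSpectrum P)) (hW : IsOpen W) (D : ℕ)
    (hD : ∀ Q' ∈ W, ringKrullDim (P ⧸ Q'.asIdeal) +
      ringKrullDim (Localization.AtPrime Q'.asIdeal) = (D : WithBot ℕ∞)) (n : ℕ) :
    IsOpen {q : PrimeSpectrum B | PrimeSpectrum.comap (algebraMap P B) q ∈ W ∧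
      (n : WithBot ℕ∞) ≤ ((LocCoh.depth (Localization.AtPrime q.asIdeal)
        (LocalizedModule q.asIdeal.primeCompl M) : ℕ∞) : WithBot ℕ∞) +
          ringKrullDim (B ⧸ q.asIdeal)} := by
  haveI : Module.Finite P M := finite_of_surjective (B := B) M hs
  set S : Set (PrimeSpectrum P) := {p | projectiveDimension
    (ModuleCat.of (Localization.AtPrime p.asIdeal) (LocalizedModule p.asIdeal.primeCompl M)) +
      (n : WithBot ℕ∞) ≤ (D : WithBot ℕ∞)} with hS
  have hSopen : IsOpen S := by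
    by_cases hn : n ≤ D
    · obtain ⟨m, rfl⟩ : ∃ m, D = m + n := ⟨D - n, by omega⟩
      have h1 := Groth.Agent.S2677.result P M m
      have h2 : S = {p : PrimeSpectrum P | projectiveDimension
          (ModuleCat.of (Localization.AtPrime p.asIdeal)
            (LocalizedModule p.asIdeal.primeCompl M)) ≤ m} := by
        ext p
        exact Groth.Agent.S4907.add_nat_le_iff _ n m
      rw [h2]
      exact h1
    · have h2 : S = (Module.support P M)ᶜ := by
        ext p
        rw [Set.mem_compl_iff, Module.notMem_support_iff, hS, Set.mem_setOf_eq,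
          Groth.Agent.S4907.add_nat_le_iff' _ n D (by omega), projectiveDimension_eq_bot_iff,
          ModuleCat.isZero_iff_subsingleton]
      rw [h2, Module.support_eq_zeroLocus]
      exact (PrimeSpectrum.isClosed_zeroLocus _).isOpen_compl
  have hpre : {q : PrimeSpectrum B | PrimeSpectrum.comap (algebraMap P B) q ∈ W ∧
      (n : WithBot ℕ∞) ≤ ((LocCoh.depth (Localization.AtPrime q.asIdeal)
        (LocalizedModule q.asIdeal.primeCompl M) : ℕ∞) : WithBot ℕ∞) +
          ringKrullDim (B ⧸ q.asIdeal)} =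
      PrimeSpectrum.comap (algebraMap P B) ⁻¹' (W ∩ S) := by
    ext q
    show (_ ∧ _) ↔ (PrimeSpectrum.comap (algebraMap P B) q ∈ W ∧
      PrimeSpectrum.comap (algebraMap P B) q ∈ S)
    rw [hS, Set.mem_setOf_eq]
    exact and_congr_right (fun h1 => key_ring' M hs q n D (hD _ h1))
  rw [hpre]
  exact (hW.inter hSopen).preimage (PrimeSpectrum.continuous_comap (algebraMap P B))

end Ring

section Scheme

theorem uc_stalk_of_regular {S : Scheme.{u}}
    (hreg : ∀ s : S, IsRegularLocalRing ↑(S.presheaf.stalk s)) (s : S) :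
    CAlg.IsUniversallyCatenary (S.presheaf.stalk s) := by
  haveI := hreg s
  haveI := Groth.Agent.Lib.Helper5.RegCompletion.isRegularRing_of_isRegularLocalRing
    (S.presheaf.stalk s)
  exact Groth.Agent.Lib.Helper12.CMCat.isUniversallyCatenary_of_isCMRing _
    (Groth.Agent.Lib.Helper21.CMKit.isCM_of_isRegularRing _)

/-- the local statement on a chart presented as a quotient of a regular finite type algebra -/
theorem exists_open_of_chart {X S : Scheme.{u}} [IsLocallyNoetherian S] [JacobsonSpace S]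
    (h2 : ∀ s : S, CAlg.IsUniversallyCatenary (S.presheaf.stalk s))
    (h3 : ∀ S' ∈ irreducibleComponents (S : Type u), ∀ s ∈ S', IsClosed ({s} : Set S) →
      topologicalKrullDim (↥S' : Type u) = topologicalKrullDim ↥{t : S | t ∈ S' ∧ t ⤳ s})
    [IsLocallyNoetherian X] {δ : X → ℤ} (hDX : DimData X δ)
    (F : X.Modules) (hF : Coh.IsCoh F) (n : ℕ)
    {V : S.Opens} (hV : IsAffineOpen V) {U : X.Opens} (hU : IsAffineOpen U)
    (P : Type u) [CommRing P] [IsRegularRing P] [Algebra Γ(S, V) P] [Algebra.FiniteType Γ(S, V) P]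
    (φ : P →+* Γ(X, U)) (hφ : Function.Surjective φ) (x : X) (hxU : x ∈ U)
    (hx : (n : WithBot ℕ∞) ≤
      ((LocCoh.depth ↑(X.presheaf.stalk x) ↑(F.presheaf.stalk x) : ℕ∞) : WithBot ℕ∞) +
        topologicalKrullDim ↥(closure ({x} : Set X))) :
    ∃ T : Set X, T ⊆ {x : X | (n : WithBot ℕ∞) ≤
      ((LocCoh.depth ↑(X.presheaf.stalk x) ↑(F.presheaf.stalk x) : ℕ∞) : WithBot ℕ∞) +
        topologicalKrullDim ↥(closure ({x} : Set X))} ∧ IsOpen T ∧ x ∈ T := by
  haveI : F.IsQuasicoherent := hF.1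
  haveI : SheafOfModules.IsFiniteType.{u} (R := X.ringCatSheaf) F := hF.2
  have hloc := isLocOn_of_isQuasicoherent F hU
  haveI : Module.Finite Γ(X, U) Γ(F, U) :=
    Groth.Agent.Lib.Helper28.FinType.finite_of_isAffineOpen F hU
  letI algPB : Algebra P Γ(X, U) := φ.toAlgebra
  have hs : Function.Surjective (algebraMap P Γ(X, U)) := hφ
  letI modP : Module P Γ(F, U) := Module.compHom Γ(F, U) φ
  haveI : IsScalarTower P Γ(X, U) Γ(F, U) := ⟨fun a b m => by
    show (φ a * b) • m = φ a • (b • m)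
    rw [mul_smul]⟩
  -- the ambient regular scheme
  let h : Spec (CommRingCat.of P) ⟶ S :=
    Spec.map (CommRingCat.ofHom (algebraMap Γ(S, V) P)) ≫ hV.fromSpec
  haveI : LocallyOfFiniteType (Spec.map (CommRingCat.ofHom (algebraMap Γ(S, V) P))) := by
    rw [HasRingHomProperty.Spec_iff (P := @LocallyOfFiniteType)]
    exact RingHom.finiteType_algebraMap.2 inferInstance
  haveI : LocallyOfFiniteType h := inferInstance
  obtain ⟨-, hDZ⟩ := dimData_over h2 h3 h
  set q0 : PrimeSpectrum Γ(X, U) := hU.primeIdealOf ⟨x, hxU⟩ with hq0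
  set Q0 : PrimeSpectrum P := PrimeSpectrum.comap (algebraMap P Γ(X, U)) q0 with hQ0
  haveI : IsDomain (Localization.AtPrime Q0.asIdeal) :=
    Groth.Agent.Lib.helper19.isDomain_of_isRegularLocalRing _
  obtain ⟨W, hWo, hQ0W, D, hD⟩ := exists_open_dim_const P _ hDZ Q0
  have hT := isOpen_rect_ring Γ(F, U) hs W hWo D hD n
  set T : Set (PrimeSpectrum Γ(X, U)) :=
    {q | PrimeSpectrum.comap (algebraMap P Γ(X, U)) q ∈ W ∧
      (n : WithBot ℕ∞) ≤ ((LocCoh.depth (Localization.AtPrime q.asIdeal)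
        (LocalizedModule q.asIdeal.primeCompl Γ(F, U)) : ℕ∞) : WithBot ℕ∞) +
          ringKrullDim (Γ(X, U) ⧸ q.asIdeal)} with hTdef
  have hdict : ∀ (y : X) (hy : y ∈ U),
      ((n : WithBot ℕ∞) ≤
        ((LocCoh.depth ↑(X.presheaf.stalk y) ↑(F.presheaf.stalk y) : ℕ∞) : WithBot ℕ∞) +
          topologicalKrullDim ↥(closure ({y} : Set X))) ↔
      (n : WithBot ℕ∞) ≤ ((LocCoh.depth (Localization.AtPrime (hU.primeIdealOf ⟨y, hy⟩).asIdeal)
        (LocalizedModule (hU.primeIdealOf ⟨y, hy⟩).asIdeal.primeCompl Γ(F, U)) : ℕ∞) : WithBot ℕ∞) +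
          ringKrullDim (Γ(X, U) ⧸ (hU.primeIdealOf ⟨y, hy⟩).asIdeal) := by
    intro y hy
    rw [Groth.Agent.Lib.Helper7.StalkLoc.depth_stalk_eq F hU hloc y hy,
      dim_closure_eq_quotient hDX hU y hy]
  refine ⟨hU.fromSpec '' T, ?_, hU.fromSpec.isOpenEmbedding.isOpenMap _ hT, ?_⟩
  · rintro _ ⟨p, hp, rfl⟩
    have hyU : hU.fromSpec p ∈ U := by
      have : hU.fromSpec p ∈ Set.range hU.fromSpec := ⟨p, rfl⟩
      rw [hU.range_fromSpec] at this
      exact this
    rw [Set.mem_setOf_eq, hdict _ hyU]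
    have hpp : hU.primeIdealOf ⟨hU.fromSpec p, hyU⟩ = p :=
      hU.fromSpec.isOpenEmbedding.injective (hU.fromSpec_primeIdealOf ⟨hU.fromSpec p, hyU⟩)
    rw [hpp]
    exact hp.2
  · exact ⟨q0, ⟨hQ0W, (hdict x hxU).1 hx⟩, hU.fromSpec_primeIdealOf ⟨x, hxU⟩⟩

/-- **Lower semicontinuity of the rectified depth** over a regular Jacobson base with equidimensional
components. -/
theorem isOpen_rect {X S : Scheme.{u}} [IsLocallyNoetherian S] [JacobsonSpace S]
    (hreg : ∀ s : S, IsRegularLocalRing ↑(S.presheaf.stalk s))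
    (h3 : ∀ S' ∈ irreducibleComponents (S : Type u), ∀ s ∈ S', IsClosed ({s} : Set S) →
      topologicalKrullDim (↥S' : Type u) = topologicalKrullDim ↥{t : S | t ∈ S' ∧ t ⤳ s})
    (g : X ⟶ S) [LocallyOfFiniteType g] (F : X.Modules) (hF : Coh.IsCoh F) (n : ℕ) :
    IsOpen {x : X | (n : WithBot ℕ∞) ≤
      ((LocCoh.depth ↑(X.presheaf.stalk x) ↑(F.presheaf.stalk x) : ℕ∞) : WithBot ℕ∞) +
        topologicalKrullDim ↥(closure ({x} : Set X))} := by
  have h2 := uc_stalk_of_regular hreg
  obtain ⟨hN, hDX⟩ := dimData_over h2 h3 g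
  haveI := hN
  rw [isOpen_iff_forall_mem_open]
  intro x hxW
  obtain ⟨V, hV, U, hU, e, hxU⟩ := exists_chart g x
  letI algAB : Algebra Γ(S, V) Γ(X, U) := (g.appLE V U e).hom.toAlgebra
  haveI hft : Algebra.FiniteType Γ(S, V) Γ(X, U) := g.finiteType_appLE hV hU e
  obtain ⟨m, φ, hφ⟩ := Algebra.FiniteType.iff_quotient_mvPolynomial''.mp hft
  haveI : IsRegularRing Γ(S, V) := Groth.Agent.Lib.Helper5.LCIReg.isRegularRing_of_stalks hreg hV
  exact exists_open_of_chart h2 h3 hDX F hF n hV hU (MvPolynomial (Fin m) Γ(S, V))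
    φ.toRingHom hφ x hxU hxW

end Scheme

end Groth.Agent.Lib.Helper21.RectDepth
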