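import Mathlib
import Groth.Prelude.Def_EGA4b
import Groth.Agent.Lib.Helper24.JacDim.Main4889
import Groth.Agent.Lib.Helper21.RectDepth3
import Groth.Agent.Lib.Helper18.FibreTd
import Groth.Agent.Lib.Helper21.MCopR4

/-!
# Helper21 — FibDepth5: the residue transcendence degree is a dimension function on the fibres of a
finite type algebra: `dim (B_z / z'' B_z) + tr z = tr z''` for primes `z'' ≤ z` in the same fibre.
-/

set_option autoImplicit false

namespace Groth.Agent.Lib.Helper21.FibDepth

open AlgebraicGeometry CategoryTheory TopologicalSpace Topology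
open Groth.Agent.Lib.Helper24.JacDim Groth.Agent.Lib.Helper21.RectDepth
open Groth.Agent.Lib.Helper24.FibreDim Groth.Agent.Lib.Helper21.MCop

universe u

section Field

variable {X Y : Scheme.{u}}

theorem isRegularLocalRing_stalk_spec_field (K : Type u) [Field K] (s : Spec (CommRingCat.of K)) :
    IsRegularLocalRing ((Spec (CommRingCat.of K)).presheaf.stalk s) := by
  let e := (Spec.stalkIso (CommRingCat.of K) s).commRingCatIsoToRingEquiv
  have hu : ∀ x ∈ s.asIdeal.primeCompl, IsUnit x := fun x hx => by
    apply IsUnit.mk0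
    rintro rfl
    exact hx (Ideal.zero_mem _)
  let e2 : K ≃ₐ[K] Localization.AtPrime s.asIdeal := IsLocalization.atUnits K _ hu
  exact IsRegularLocalRing.of_ringEquiv (e2.toRingEquiv.trans e.symm)

/-- the fibres of a morphism locally of finite type carry a dimension function. -/
theorem exists_dimData_fiber (f : X ⟶ Y) [LocallyOfFiniteType f] (y : Y) :
    IsLocallyNoetherian (f.fiber y) ∧ ∃ δ : f.fiber y → ℤ, DimData (f.fiber y) δ := by
  have h2 := uc_stalk_of_regular (S := Spec (Y.residueField y))
    (fun s => isRegularLocalRing_stalk_spec_field (Y.residueField y) s)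
  have h3 : ∀ S' ∈ irreducibleComponents (Spec (Y.residueField y) : Type u), ∀ s ∈ S',
      IsClosed ({s} : Set (Spec (Y.residueField y))) →
      topologicalKrullDim (↥S' : Type u) =
        topologicalKrullDim ↥{t : Spec (Y.residueField y) | t ∈ S' ∧ t ⤳ s} := by
    intro S' _ s hs _
    have : {t : Spec (Y.residueField y) | t ∈ S' ∧ t ⤳ s} = S' := by
      ext t
      simp only [Set.mem_setOf_eq, and_iff_left_iff_imp]
      intro _
      rw [Subsingleton.elim t s]
    rw [this]
  obtain ⟨hN, hD⟩ := dimData_over h2 h3 (f.fiberToSpecResidueField y)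
  exact ⟨hN, _, hD⟩

end Field

section Pair

theorem dim_closure_add_dim_between {Z : Scheme.{u}} {δ : Z → ℤ} (hD : DimData Z δ) (w'' w : Z)
    (h : w'' ⤳ w) :
    topologicalKrullDim ↥(closure ({w} : Set Z)) +
        topologicalKrullDim ↥{t : Z | t ∈ closure ({w''} : Set Z) ∧ t ⤳ w} =
      topologicalKrullDim ↥(closure ({w''} : Set Z)) := by
  rw [dim_closure_add_dim_gen_eq_NN hD (closure ({w''} : Set Z)) isClosed_closure w
    (specializes_iff_mem_closure.1 h), dim_closure_eq hD w'']
  apply le_antisymm
  · refine iSup_le ?_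
    rintro ⟨ζ, hζ1, hζ2⟩
    have h1 : δ ζ ≤ δ w'' := hD.mono (specializes_iff_mem_closure.2 hζ1)
    have h2 : (δ ζ).toNat ≤ (δ w'').toNat := Int.toNat_le_toNat h1
    exact_mod_cast h2
  · exact le_NN _ w w'' (subset_closure rfl) h

end Pair

section Icc

variable (B : Type u) [CommRing B]

/-- the set of primes between `z''` and `z` has the dimension of `B_z / z'' B_z`. -/
theorem dim_Icc_primeSpectrum (z'' z : PrimeSpectrum B) :
    topologicalKrullDim ↥{z' : PrimeSpectrum B | z'' ≤ z' ∧ z' ≤ z} =
      ringKrullDim (Localization.AtPrime z.asIdeal ⧸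
        z''.asIdeal.map (algebraMap B (Localization.AtPrime z.asIdeal))) := by
  rw [← PrimeSpectrum.topologicalKrullDim_eq_ringKrullDim]
  symm
  set J := z''.asIdeal.map (algebraMap B (Localization.AtPrime z.asIdeal)) with hJ
  have h1 : IsEmbedding (PrimeSpectrum.comap (Ideal.Quotient.mk J)) :=
    (PrimeSpectrum.isClosedEmbedding_comap_of_surjective _ _
      Ideal.Quotient.mk_surjective).isEmbedding
  have h2 : IsEmbedding (PrimeSpectrum.comap (algebraMap B (Localization.AtPrime z.asIdeal))) :=
    PrimeSpectrum.localization_comap_isEmbedding _ z.asIdeal.primeCompl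
  apply dim_eq_of_isEmbedding_range _ (h2.comp h1)
  rw [Set.range_comp, _root_.range_comap_of_surjective _ _ Ideal.Quotient.mk_surjective,
    Ideal.mk_ker]
  ext z'
  simp only [Set.mem_image, PrimeSpectrum.mem_zeroLocus, SetLike.coe_subset_coe, Set.mem_setOf_eq]
  constructor
  · rintro ⟨P, hP, rfl⟩
    constructor
    · show z''.asIdeal ≤ P.asIdeal.comap _
      rw [← Ideal.map_le_iff_le_comap]
      exact hP
    · show P.asIdeal.comap _ ≤ z.asIdeal
      have hcm : (IsLocalRing.maximalIdeal (Localization.AtPrime z.asIdeal)).comap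
          (algebraMap B (Localization.AtPrime z.asIdeal)) = z.asIdeal :=
        IsLocalization.AtPrime.under_maximalIdeal (Localization.AtPrime z.asIdeal) z.asIdeal
      exact le_of_le_of_eq (Ideal.comap_mono (IsLocalRing.le_maximalIdeal P.2.ne_top)) hcm
  · rintro ⟨h1', h2'⟩
    have hdisj : Disjoint (z.asIdeal.primeCompl : Set B) (z'.asIdeal : Set B) :=
      Set.disjoint_left.2 fun x hx hxz => hx (h2' hxz)
    refine ⟨⟨z'.asIdeal.map (algebraMap B (Localization.AtPrime z.asIdeal)),
      IsLocalization.isPrime_of_isPrime_disjoint z.asIdeal.primeCompl _ _ z'.2 hdisj⟩, ?_, ?_⟩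
    · exact Ideal.map_mono h1'
    · apply PrimeSpectrum.ext
      exact IsLocalization.comap_map_of_isPrime_disjoint z.asIdeal.primeCompl _ z'.2 hdisj

theorem dim_between_primeSpectrum (z'' z : PrimeSpectrum B) :
    topologicalKrullDim ↥{z' : PrimeSpectrum B | z'' ⤳ z' ∧ z' ⤳ z} =
      ringKrullDim (Localization.AtPrime z.asIdeal ⧸
        z''.asIdeal.map (algebraMap B (Localization.AtPrime z.asIdeal))) := by
  rw [← dim_Icc_primeSpectrum]
  have hset : {z' : PrimeSpectrum B | z'' ⤳ z' ∧ z' ⤳ z} =
      {z' : PrimeSpectrum B | z'' ≤ z' ∧ z' ≤ z} := by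
    ext z'
    simp only [Set.mem_setOf_eq]
    rw [PrimeSpectrum.le_iff_specializes, PrimeSpectrum.le_iff_specializes]
  rw [hset]

end Icc

section Between

variable {X Y : Scheme.{u}}

/-- the generizations of `w` inside the closure of `w''` in a fibre, seen in the ambient scheme. -/
theorem dim_between_fiber (f : X ⟶ Y) (y : Y) (w'' w : f.fiber y) :
    topologicalKrullDim ↥{t : f.fiber y | t ∈ closure ({w''} : Set (f.fiber y)) ∧ t ⤳ w} =
      topologicalKrullDim ↥{x : X | f.fiberι y w'' ⤳ x ∧ x ⤳ f.fiberι y w} := by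
  have hι : IsEmbedding (f.fiberι y) := (f.fiberι y).isEmbedding
  apply dim_eq_of_isEmbedding_range
    (fun t : ↥{t : f.fiber y | t ∈ closure ({w''} : Set (f.fiber y)) ∧ t ⤳ w} => f.fiberι y t.1)
    (hι.comp IsEmbedding.subtypeVal)
  ext x
  simp only [Set.mem_range, Subtype.exists, Set.mem_setOf_eq]
  constructor
  · rintro ⟨t, ⟨ht1, ht2⟩, rfl⟩
    exact ⟨(specializes_iff_mem_closure.2 ht1).map (f.fiberι y).continuous,
      ht2.map (f.fiberι y).continuous⟩
  · rintro ⟨h1, h2⟩
    have hfx : f x = y := by
      have e1 : f (f.fiberι y w'') = y := apply_fiberι f y w''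
      have e2 : f (f.fiberι y w) = y := apply_fiberι f y w
      have s1 : y ⤳ f x := e1 ▸ h1.map f.continuous
      have s2 : f x ⤳ y := e2 ▸ h2.map f.continuous
      exact (s2.antisymm s1).eq
    obtain ⟨t, rfl⟩ := exists_fibre_point f x y hfx
    refine ⟨t, ⟨?_, ?_⟩, rfl⟩
    · rw [← specializes_iff_mem_closure, ← hι.isInducing.specializes_iff]
      exact h1
    · rw [← hι.isInducing.specializes_iff]
      exact h2

end Between

section Main

variable (A₀ B : Type u) [CommRing A₀] [CommRing B] [Algebra A₀ B] [Algebra.FiniteType A₀ B]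

set_option maxHeartbeats 800000 in
/-- **the residue transcendence degree is a dimension function on the fibres**: for primes
`z'' ≤ z` of `B` over the same prime of `A₀`, `dim (B_z / z'' B_z) + tr z = tr z''`. -/
theorem dim_quot_add_tr (z'' z : PrimeSpectrum B) (hle : z'' ≤ z)
    (hc : z''.asIdeal.comap (algebraMap A₀ B) = z.asIdeal.comap (algebraMap A₀ B)) :
    ringKrullDim (Localization.AtPrime z.asIdeal ⧸
        z''.asIdeal.map (algebraMap B (Localization.AtPrime z.asIdeal))) +
      ((tr (specMap A₀ B) z : ℕ) : WithBot ℕ∞) = ((tr (specMap A₀ B) z'' : ℕ) : WithBot ℕ∞) := by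
  set f := specMap A₀ B with hf
  have hfz : f z'' = f z := PrimeSpectrum.ext hc
  obtain ⟨w'', hw''⟩ := exists_fibre_point f z'' (f z) hfz
  set w := f.asFiber z with hw
  have hwz : f.fiberι (f z) w = z := f.fiberι_asFiber z
  obtain ⟨hN, δ, hD⟩ := exists_dimData_fiber f (f z)
  have hsp : w'' ⤳ w := by
    rw [← (f.fiberι (f z)).isEmbedding.isInducing.specializes_iff, hw'', hwz]
    exact (PrimeSpectrum.le_iff_specializes z'' z).1 hle
  have key := dim_closure_add_dim_between hD w'' w hsp
  rw [dim_closure_fiber_point f (f z) w, dim_closure_fiber_point f (f z) w'', hw'', hwz,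
    dim_between_fiber f (f z) w'' w, hw'', hwz] at key
  rw [add_comm, ← dim_between_primeSpectrum]
  exact key

end Main

end Groth.Agent.Lib.Helper21.FibDepth
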