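import Mathlib
import Groth.Prelude.Def_EGA4b
import Groth.Agent.Lib.Helper21.MCopR2
import Groth.Agent.Lib.Helper21.MCopDim
import Groth.Agent.Lib.Helper21.MCopChev

/-!
# Helper21 — FibDepth6: the dimension of the support of the fibre modules (plus residue
transcendence degree): monotonicity under specialization in a fibre and upper semicontinuity.
-/

set_option autoImplicit false

namespace Groth.Agent.Lib.Helper21.FibDepth

open AlgebraicGeometry CategoryTheory IsLocalRing
open Groth.Agent.Lib.Helper24.FibreDim Groth.Agent.Lib.Helper21.MCop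
open Groth.Agent.Lib.Helper21.FibreStalk Groth.Agent.Lib.lead

universe u

section Rings

variable (R S : Type u) [CommRing R] [CommRing S] [Algebra R S] [Algebra.FiniteType R S]

theorem ringKrullDim_fibLocRing_eq_G (p : PrimeSpectrum S) :
    ringKrullDim (EGA4.FibLocRing R S p.asIdeal) =
      ((FibreOrder.G (specMap R S) p : ℕ∞) : WithBot ℕ∞) := by
  obtain ⟨e⟩ := nonempty_fiberStalk_specMap_equiv R S p
  rw [← ringKrullDim_eq_of_ringEquiv e, FibreOrder.ringKrullDim_fiber_stalk]

/-- the local dimension of the fibre is `tr + dim` of the fibre local ring. -/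
theorem fibDim_eq (p : PrimeSpectrum S) :
    fibDim R S p = ((tr (specMap R S) p : ℕ) : WithBot ℕ∞) +
      ringKrullDim (EGA4.FibLocRing R S p.asIdeal) := by
  rw [ringKrullDim_fibLocRing_eq_G]
  unfold fibDim
  rw [fibreDimAt_eq_tr_add_G]
  rfl

/-- monotonicity under specialization inside a fibre. -/
theorem tr_add_dim_mono (z x : PrimeSpectrum S) (hzx : z ≤ x)
    (hc : z.asIdeal.comap (algebraMap R S) = x.asIdeal.comap (algebraMap R S)) :
    ((tr (specMap R S) z : ℕ) : WithBot ℕ∞) + ringKrullDim (EGA4.FibLocRing R S z.asIdeal) ≤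
      ((tr (specMap R S) x : ℕ) : WithBot ℕ∞) + ringKrullDim (EGA4.FibLocRing R S x.asIdeal) := by
  rw [ringKrullDim_fibLocRing_eq_G, ringKrullDim_fibLocRing_eq_G]
  have h := tr_add_G_le (specMap R S) (z := z) (x := x)
    ((PrimeSpectrum.le_iff_specializes z x).1 hzx) (PrimeSpectrum.ext hc)
  exact_mod_cast h

end Rings

section Quot

variable (A₀ B : Type u) [CommRing A₀] [CommRing B] [Algebra A₀ B] [Algebra.FiniteType A₀ B]

theorem tr_quotient (I : Ideal B) (z : PrimeSpectrum (B ⧸ I)) :
    tr (specMap A₀ (B ⧸ I)) z =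
      tr (specMap A₀ B) (PrimeSpectrum.comap (Ideal.Quotient.mk I) z) := by
  have h1 := tr_specMap_comp A₀ B (B ⧸ I) z
  have h2 : tr (specMap B (B ⧸ I)) z = 0 := by
    apply tr_specMap_eq_zero_of_closed
    intro z' _ hc
    apply PrimeSpectrum.ext
    exact Ideal.comap_injective_of_surjective _ Ideal.Quotient.mk_surjective hc
  rw [h2, zero_add] at h1
  exact h1

end Quot

section Mod

variable (A₀ B : Type u) [CommRing A₀] [CommRing B] [Algebra A₀ B] [Algebra.FiniteType A₀ B]
  (N : Type u) [AddCommGroup N] [Module B N] [Module.Finite B N]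

/-- `dim Supp (N_q/pN_q) + trdeg κ(q)/κ(p)`: the dimension at `q` of the support of the fibre. -/
noncomputable def fibSuppDim (q : PrimeSpectrum B) : WithBot ℕ∞ :=
  Module.supportDim (Localization.AtPrime q.asIdeal) (EGA4.FibLocMod A₀ B q.asIdeal N) +
    ((tr (specMap A₀ B) q : ℕ) : WithBot ℕ∞)

theorem fibDim_annihilator (z : PrimeSpectrum (B ⧸ Module.annihilator B N)) :
    fibDim A₀ (B ⧸ Module.annihilator B N) z =
      fibSuppDim A₀ B N (PrimeSpectrum.comap (Ideal.Quotient.mk (Module.annihilator B N)) z) := by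
  rw [fibDim_eq, ringKrullDim_fibLocRing_annihilator, tr_quotient, add_comm]
  rfl

theorem exists_of_mem_support (q : PrimeSpectrum B) (hq : q ∈ Module.support B N) :
    ∃ z : PrimeSpectrum (B ⧸ Module.annihilator B N),
      PrimeSpectrum.comap (Ideal.Quotient.mk (Module.annihilator B N)) z = q := by
  have : q ∈ Set.range (PrimeSpectrum.comap (Ideal.Quotient.mk (Module.annihilator B N))) := by
    rw [_root_.range_comap_of_surjective _ _ Ideal.Quotient.mk_surjective, Ideal.mk_ker,
      ← Module.support_eq_zeroLocus]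
    exact hq
  exact this

theorem fibSuppDim_mono (z q : PrimeSpectrum B) (hzq : z ≤ q)
    (hc : z.asIdeal.comap (algebraMap A₀ B) = q.asIdeal.comap (algebraMap A₀ B))
    (hz : z ∈ Module.support B N) :
    fibSuppDim A₀ B N z ≤ fibSuppDim A₀ B N q := by
  have hq : q ∈ Module.support B N := by
    rw [Module.mem_support_iff_of_finite] at hz ⊢
    exact hz.trans hzq
  obtain ⟨z', rfl⟩ := exists_of_mem_support B N z hz
  obtain ⟨q', rfl⟩ := exists_of_mem_support B N q hq
  rw [← fibDim_annihilator, ← fibDim_annihilator, fibDim_eq, fibDim_eq]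
  apply tr_add_dim_mono
  · intro x hx
    obtain ⟨b, rfl⟩ := Ideal.Quotient.mk_surjective x
    exact hzq hx
  · have h1 : ∀ w : PrimeSpectrum (B ⧸ Module.annihilator B N),
        w.asIdeal.comap (algebraMap A₀ (B ⧸ Module.annihilator B N)) =
        (PrimeSpectrum.comap (Ideal.Quotient.mk (Module.annihilator B N)) w).asIdeal.comap
          (algebraMap A₀ B) := by
      intro w
      show _ = (w.asIdeal.comap (Ideal.Quotient.mk _)).comap (algebraMap A₀ B)
      rw [Ideal.comap_comap]
      rfl
    rw [h1, h1]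
    exact hc

/-- **Chevalley**: upper semicontinuity of the dimension of the support of the fibres. -/
theorem isOpen_fibSuppDim_le (D : ℕ) :
    IsOpen {q : PrimeSpectrum B | q ∈ Module.support B N → fibSuppDim A₀ B N q ≤ D} := by
  set I := Module.annihilator B N with hI
  let π : PrimeSpectrum (B ⧸ I) → PrimeSpectrum B := PrimeSpectrum.comap (Ideal.Quotient.mk I)
  have hπ : Topology.IsClosedEmbedding π :=
    PrimeSpectrum.isClosedEmbedding_comap_of_surjective _ _ Ideal.Quotient.mk_surjective
  have hV : IsOpen {z : PrimeSpectrum (B ⧸ I) | fibDim A₀ (B ⧸ I) z ≤ D} :=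
    isOpen_fibDim_le A₀ (B ⧸ I) D
  have hcl := hπ.isClosedMap _ hV.isClosed_compl
  convert hcl.isOpen_compl using 1
  ext q
  simp only [Set.mem_setOf_eq, Set.mem_compl_iff, Set.mem_image, not_exists, not_and, not_not]
  constructor
  · intro h z hz hzq
    subst hzq
    apply hz
    rw [fibDim_annihilator]
    apply h
    rw [Module.support_eq_zeroLocus, ← Ideal.mk_ker (I := Module.annihilator B N),
      ← _root_.range_comap_of_surjective _ _ Ideal.Quotient.mk_surjective]
    exact ⟨z, rfl⟩
  · intro h hq
    obtain ⟨z, rfl⟩ := exists_of_mem_support B N q hq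
    rw [← fibDim_annihilator]
    by_contra hn
    exact h z hn rfl

end Mod

end Groth.Agent.Lib.Helper21.FibDepth
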