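import Mathlib
import Groth.Prelude.Def_EGA4b
import Groth.Agent.Lib.Helper21.FibDepth1
import Groth.Agent.Lib.Helper21.FibDepth5
import Groth.Agent.Lib.Helper21.FibDepth6
import Groth.Agent.Lib.Helper21.RectDepth1
import Groth.Agent.Lib.Helper21.DepthKit3

/-!
# Helper21 — FibDepth7: equidimensionality together with `(S_k)` of a fibre module in terms of the
rectified depths at the generizations in the fibre (EGA IV 12.1.1 (vii), pointwise form).
-/

set_option autoImplicit false

namespace Groth.Agent.Lib.Helper21.FibDepth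

open AlgebraicGeometry CategoryTheory IsLocalRing Pointwise
open Groth.Agent.Lib.Helper24.FibreDim Groth.Agent.Lib.Helper21.MCop
open Groth.Agent.Lib.Helper21.RectDepth

universe u

section General

variable {R : Type u} [CommRing R]

/-- at a minimal prime of the support the localisation has dimension zero. -/
theorem supportDim_localizedModule_of_mem_minimalPrimes' (M : Type u) [AddCommGroup M]
    [Module R M] [Module.Finite R M] (p : Ideal R) [hp : p.IsPrime]
    (hmin : p ∈ (Module.annihilator R M).minimalPrimes) :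
    Module.supportDim (Localization.AtPrime p) (LocalizedModule p.primeCompl M) = 0 := by
  have hsupp : (⟨p, hp⟩ : PrimeSpectrum R) ∈ Module.support R M :=
    Module.mem_support_iff_of_finite.2 hmin.1.2
  haveI : Nontrivial (LocalizedModule p.primeCompl M) := Module.mem_support_iff.1 hsupp
  have hcm : (maximalIdeal (Localization.AtPrime p)).comap
      (algebraMap R (Localization.AtPrime p)) = p :=
    IsLocalization.AtPrime.under_maximalIdeal (Localization.AtPrime p) p
  have hsub : ∀ Q ∈ Module.support (Localization.AtPrime p) (LocalizedModule p.primeCompl M),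
      Q = IsLocalRing.closedPoint (Localization.AtPrime p) := by
    intro Q hQ
    have hann := Module.annihilator_le_of_mem_support hQ
    have hle : Module.annihilator R M ≤ Q.asIdeal.comap (algebraMap R (Localization.AtPrime p)) := by
      intro a ha
      rw [Ideal.mem_comap]
      apply hann
      rw [Module.mem_annihilator]
      intro x
      induction x using LocalizedModule.induction_on with
      | h m s =>
        rw [algebraMap_smul, LocalizedModule.smul'_mk, Module.mem_annihilator.1 ha m,
          LocalizedModule.zero_mk]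
    have hQle : Q.asIdeal ≤ maximalIdeal (Localization.AtPrime p) :=
      IsLocalRing.le_maximalIdeal Q.isPrime.ne_top
    have hcle : Q.asIdeal.comap (algebraMap R (Localization.AtPrime p)) ≤ p :=
      le_of_le_of_eq (Ideal.comap_mono hQle) hcm
    have hpc : p ≤ Q.asIdeal.comap (algebraMap R (Localization.AtPrime p)) :=
      hmin.2 ⟨Ideal.comap_isPrime _ _, hle⟩ hcle
    apply PrimeSpectrum.ext
    refine le_antisymm hQle ?_
    intro x hx
    obtain ⟨a, s, rfl⟩ := IsLocalization.exists_mk'_eq p.primeCompl x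
    have ha : a ∈ p := by
      have hx' : IsLocalization.mk' (Localization.AtPrime p) a s ∈
          maximalIdeal (Localization.AtPrime p) := hx
      rwa [IsLocalization.AtPrime.mk'_mem_maximal_iff (Localization.AtPrime p) p] at hx'
    have : algebraMap R (Localization.AtPrime p) a ∈ Q.asIdeal := hpc ha
    rw [IsLocalization.mk'_eq_mul_mk'_one]
    exact Ideal.mul_mem_right _ _ this
  haveI : Nonempty (Module.support (Localization.AtPrime p) (LocalizedModule p.primeCompl M)) :=
    (Module.nonempty_support_of_nontrivial).to_subtype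
  haveI : Subsingleton
      (Module.support (Localization.AtPrime p) (LocalizedModule p.primeCompl M)) :=
    ⟨fun a b => Subtype.ext ((hsub a.1 a.2).trans (hsub b.1 b.2).symm)⟩
  exact Order.krullDim_eq_zero

end General

section Quot

variable {S : Type u} [CommRing S] [IsLocalRing S] (J : Ideal S) [IsNoetherianRing (S ⧸ J)]
  [IsLocalRing (S ⧸ J)]
  (X : Type u) [AddCommGroup X] [Module S X] [Module.Finite S X]

theorem exists_nat_supportDim_depth [Nontrivial (X ⧸ J • (⊤ : Submodule S X))] :
    ∃ n d : ℕ, Module.supportDim S (X ⧸ J • (⊤ : Submodule S X)) = (n : WithBot ℕ∞) ∧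
      LocCoh.depth S (X ⧸ J • (⊤ : Submodule S X)) = (d : ℕ∞) ∧ d ≤ n := by
  haveI : Module.Finite (S ⧸ J) (X ⧸ J • (⊤ : Submodule S X)) :=
    Module.Finite.of_restrictScalars_finite S _ _
  have hs : Function.Surjective (algebraMap S (S ⧸ J)) := Ideal.Quotient.mk_surjective
  obtain ⟨n, hn⟩ := DepthKit.exists_nat_supportDim (A := S ⧸ J)
    (M := X ⧸ J • (⊤ : Submodule S X))
  obtain ⟨d, hd⟩ := DepthKit.exists_nat_depth (A := S ⧸ J) (M := X ⧸ J • (⊤ : Submodule S X))
  have hle := DepthKit.depth_le_supportDim (A := S ⧸ J) (M := X ⧸ J • (⊤ : Submodule S X))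
  rw [hn, hd] at hle
  refine ⟨n, d, ?_, ?_, by exact_mod_cast hle⟩
  · rw [DepthKit.supportDim_eq_of_surjective _ hs, hn]
  · rw [DepthKit.depth_eq_of_surjective _ hs, hd]

end Quot

section Primes

variable (A₀ B : Type u) [CommRing A₀] [CommRing B] [Algebra A₀ B]
  (N : Type u) [AddCommGroup N] [Module B N] (q : Ideal B) [q.IsPrime]

theorem comap_le_of_prime (P : Ideal (Localization.AtPrime q)) [P.IsPrime] :
    P.comap (algebraMap B (Localization.AtPrime q)) ≤ q := by
  have hcm : (maximalIdeal (Localization.AtPrime q)).comap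
      (algebraMap B (Localization.AtPrime q)) = q :=
    IsLocalization.AtPrime.under_maximalIdeal (Localization.AtPrime q) q
  exact le_of_le_of_eq (Ideal.comap_mono (IsLocalRing.le_maximalIdeal (Ideal.IsPrime.ne_top ‹_›))) hcm

theorem comap_comap_eq (P : Ideal (Localization.AtPrime q)) [P.IsPrime]
    (hJP : (q.comap (algebraMap A₀ B)).map (algebraMap A₀ (Localization.AtPrime q)) ≤ P) :
    (P.comap (algebraMap B (Localization.AtPrime q))).comap (algebraMap A₀ B) =
      q.comap (algebraMap A₀ B) := by
  apply le_antisymm (Ideal.comap_mono (comap_le_of_prime B q P))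
  intro a ha
  rw [Ideal.mem_comap, Ideal.mem_comap, ← IsScalarTower.algebraMap_apply]
  exact hJP (Ideal.mem_map_of_mem _ ha)

theorem fibIdeal_le_annihilator :
    (q.comap (algebraMap A₀ B)).map (algebraMap A₀ (Localization.AtPrime q)) ≤
      Module.annihilator (Localization.AtPrime q) (EGA4.FibLocMod A₀ B q N) := by
  intro a ha
  rw [Module.mem_annihilator]
  intro x
  obtain ⟨y, rfl⟩ := Submodule.Quotient.mk_surjective _ x
  rw [← Submodule.Quotient.mk_smul, Submodule.Quotient.mk_eq_zero]
  exact Submodule.smul_mem_smul ha Submodule.mem_top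

theorem map_annihilator_le_annihilator :
    (Module.annihilator B N).map (algebraMap B (Localization.AtPrime q)) ≤
      Module.annihilator (Localization.AtPrime q) (EGA4.FibLocMod A₀ B q N) := by
  rw [Ideal.map_le_iff_le_comap]
  intro b hb
  rw [Ideal.mem_comap, Module.mem_annihilator]
  intro x
  obtain ⟨y, rfl⟩ := Submodule.Quotient.mk_surjective _ x
  rw [← Submodule.Quotient.mk_smul]
  induction y using LocalizedModule.induction_on with
  | h n s =>
    rw [algebraMap_smul, LocalizedModule.smul'_mk, Module.mem_annihilator.1 hb n,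
      LocalizedModule.zero_mk, Submodule.Quotient.mk_zero]

theorem mem_support_of_nontrivial_fibLocMod [Nontrivial (EGA4.FibLocMod A₀ B q N)] :
    (⟨q, inferInstance⟩ : PrimeSpectrum B) ∈ Module.support B N := by
  rw [Module.mem_support_iff]
  by_contra hn
  rw [not_nontrivial_iff_subsingleton] at hn
  haveI := hn
  exact not_subsingleton (EGA4.FibLocMod A₀ B q N) inferInstance

end Primes

section Arith

theorem arith_of_add_eq (x : WithBot ℕ∞) (a b : ℕ)
    (h1 : x + (a : WithBot ℕ∞) = (b : WithBot ℕ∞)) : ∃ n : ℕ, x = (n : WithBot ℕ∞) ∧ n + a = b := by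
  have hx : x ≠ ⊥ := by
    rintro rfl
    rw [WithBot.bot_add] at h1
    exact WithBot.bot_ne_natCast _ h1
  obtain ⟨n, m, hn, hm, hnm⟩ := nat_of_ne_bot_of_add_eq hx (by simp) h1
  have : m = a := by exact_mod_cast hm.symm
  exact ⟨n, hn, by omega⟩

end Arith

section Main

variable (A₀ B : Type u) [CommRing A₀] [CommRing B] [Algebra A₀ B] [Algebra.FiniteType A₀ B]
  (N : Type u) [AddCommGroup N] [Module B N] [Module.Finite B N]

set_option maxHeartbeats 1600000 in
set_option synthInstance.maxHeartbeats 200000 in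
/-- the forward direction: equidimensional and `(S_k)` gives the bound at every generization in the
fibre. -/
theorem bound_of_equidim_sk (k : ℕ) (q : PrimeSpectrum B) (D : ℕ)
    (hD : fibSuppDim A₀ B N q = (D : WithBot ℕ∞))
    (hE : EGA4.IsEquidimModule (Localization.AtPrime q.asIdeal) (EGA4.FibLocMod A₀ B q.asIdeal N))
    (hS : LocCoh.HasSk k (Localization.AtPrime q.asIdeal) (EGA4.FibLocMod A₀ B q.asIdeal N))
    (z : PrimeSpectrum B) (hzq : z ≤ q)
    (hzc : z.asIdeal.comap (algebraMap A₀ B) = q.asIdeal.comap (algebraMap A₀ B))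
    (hMz : Nontrivial (EGA4.FibLocMod A₀ B z.asIdeal N)) :
    (D : ℕ∞) ≤ LocCoh.depth (Localization.AtPrime z.asIdeal) (EGA4.FibLocMod A₀ B z.asIdeal N) +
        (tr (specMap A₀ B) z : ℕ∞) ∨
      (k : ℕ∞) ≤ LocCoh.depth (Localization.AtPrime z.asIdeal)
        (EGA4.FibLocMod A₀ B z.asIdeal N) := by
  haveI := isNoetherianRing_fibLocRing A₀ B z.asIdeal
  have hdisj : Disjoint (q.asIdeal.primeCompl : Set B) (z.asIdeal : Set B) :=
    Set.disjoint_left.2 fun x hx hxz => hx (hzq hxz)
  set P : Ideal (Localization.AtPrime q.asIdeal) :=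
    z.asIdeal.map (algebraMap B (Localization.AtPrime q.asIdeal)) with hP
  haveI hPp : P.IsPrime :=
    IsLocalization.isPrime_of_isPrime_disjoint q.asIdeal.primeCompl _ _ z.2 hdisj
  have hPz : P.comap (algebraMap B (Localization.AtPrime q.asIdeal)) = z.asIdeal :=
    IsLocalization.comap_map_of_isPrime_disjoint q.asIdeal.primeCompl _ z.2 hdisj
  have SE := semiEquiv_fibLocMod_localization A₀ B N q.asIdeal P z.asIdeal hPz.symm hzc
  have h1 := hS P
  rw [← SE.depth_eq, ← SE.supportDim_eq] at h1
  obtain ⟨sz, dz, hsz, hdz, hle⟩ := exists_nat_supportDim_depth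
    ((z.asIdeal.comap (algebraMap A₀ B)).map (algebraMap A₀ (Localization.AtPrime z.asIdeal)))
    (LocalizedModule z.asIdeal.primeCompl N)
  rw [hsz, hdz] at h1
  rw [hdz]
  -- the claim `D ≤ sz + tr z`
  have hPsupp : (⟨P, hPp⟩ : PrimeSpectrum (Localization.AtPrime q.asIdeal)) ∈
      Module.support (Localization.AtPrime q.asIdeal) (EGA4.FibLocMod A₀ B q.asIdeal N) := by
    rw [Module.mem_support_iff]
    by_contra hn
    rw [not_nontrivial_iff_subsingleton] at hn
    exact not_subsingleton _ (SE.subsingleton_iff.2 hn)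
  have hAnnP := Module.annihilator_le_of_mem_support hPsupp
  obtain ⟨P'', hP''min, hP''P⟩ := Ideal.exists_minimalPrimes_le hAnnP
  haveI hP''p : P''.IsPrime := hP''min.1.1
  have hJP'' : (q.asIdeal.comap (algebraMap A₀ B)).map
      (algebraMap A₀ (Localization.AtPrime q.asIdeal)) ≤ P'' :=
    (fibIdeal_le_annihilator A₀ B N q.asIdeal).trans hP''min.1.2
  set z'' : PrimeSpectrum B :=
    ⟨P''.comap (algebraMap B (Localization.AtPrime q.asIdeal)), inferInstance⟩ with hz''
  have hz''q : z'' ≤ q := comap_le_of_prime B q.asIdeal P''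
  have hz''z : z'' ≤ z := by
    show z''.asIdeal ≤ z.asIdeal
    exact le_of_le_of_eq (Ideal.comap_mono hP''P) hPz
  have hz''c : z''.asIdeal.comap (algebraMap A₀ B) = q.asIdeal.comap (algebraMap A₀ B) :=
    comap_comap_eq A₀ B q.asIdeal P'' hJP''
  have hmapP'' : z''.asIdeal.map (algebraMap B (Localization.AtPrime q.asIdeal)) = P'' :=
    IsLocalization.map_comap q.asIdeal.primeCompl _ P''
  have e0 := hE P'' hP''min
  have e1 := dim_quot_add_tr A₀ B z'' q hz''q hz''c
  rw [hmapP'', e0] at e1
  have htD : tr (specMap A₀ B) z'' = D := by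
    unfold fibSuppDim at hD
    rw [hD] at e1
    exact_mod_cast e1.symm
  have e2 := dim_quot_add_tr A₀ B z'' z hz''z (hz''c.trans hzc.symm)
  have hAnnN : Module.annihilator B N ≤ z''.asIdeal := by
    intro b hb
    show algebraMap B (Localization.AtPrime q.asIdeal) b ∈ P''
    exact hP''min.1.2 (map_annihilator_le_annihilator A₀ B N q.asIdeal (Ideal.mem_map_of_mem _ hb))
  have e3 : ringKrullDim (Localization.AtPrime z.asIdeal ⧸
      z''.asIdeal.map (algebraMap B (Localization.AtPrime z.asIdeal))) ≤ (sz : WithBot ℕ∞) := by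
    rw [← hsz, supportDim_fibLocMod]
    have hle' : (Module.annihilator B N).map (algebraMap B (Localization.AtPrime z.asIdeal)) ⊔
        (z.asIdeal.comap (algebraMap A₀ B)).map (algebraMap A₀ (Localization.AtPrime z.asIdeal)) ≤
        z''.asIdeal.map (algebraMap B (Localization.AtPrime z.asIdeal)) := by
      refine sup_le (Ideal.map_mono hAnnN) ?_
      rw [IsScalarTower.algebraMap_eq A₀ B (Localization.AtPrime z.asIdeal), ← Ideal.map_map]
      refine Ideal.map_mono ?_
      rw [← (hz''c.trans hzc.symm)]
      exact Ideal.map_comap_le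
    exact ringKrullDim_le_of_surjective (Ideal.Quotient.factor hle')
      (Ideal.Quotient.factor_surjective hle')
  rw [htD] at e2
  obtain ⟨x, hx, hxe⟩ := arith_of_add_eq _ _ _ e2
  rw [hx] at e3
  have hx' : x ≤ sz := by exact_mod_cast e3
  have hclaim : D ≤ sz + tr (specMap A₀ B) z := by omega
  by_cases hks : k ≤ sz
  · right
    have : ((k : ℕ∞) : WithBot ℕ∞) ≤ ((dz : ℕ∞) : WithBot ℕ∞) := by
      refine le_trans (le_min le_rfl ?_) h1
      exact_mod_cast hks
    exact_mod_cast this
  · left
    have : ((sz : ℕ∞) : WithBot ℕ∞) ≤ ((dz : ℕ∞) : WithBot ℕ∞) := by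
      refine le_trans (le_min ?_ le_rfl) h1
      have : sz ≤ k := by omega
      exact_mod_cast this
    have hsd : sz ≤ dz := by exact_mod_cast this
    have : D ≤ dz + tr (specMap A₀ B) z := by omega
    exact_mod_cast this

set_option maxHeartbeats 1600000 in
set_option synthInstance.maxHeartbeats 200000 in
/-- the converse direction. -/
theorem equidim_sk_of_bound (k : ℕ) (hk : 1 ≤ k) (q : PrimeSpectrum B) (D : ℕ)
    (hD : fibSuppDim A₀ B N q = (D : WithBot ℕ∞))
    (H : ∀ z : PrimeSpectrum B, z ≤ q →
      z.asIdeal.comap (algebraMap A₀ B) = q.asIdeal.comap (algebraMap A₀ B) →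
      Nontrivial (EGA4.FibLocMod A₀ B z.asIdeal N) →
      ((D : ℕ∞) ≤ LocCoh.depth (Localization.AtPrime z.asIdeal) (EGA4.FibLocMod A₀ B z.asIdeal N) +
          (tr (specMap A₀ B) z : ℕ∞) ∨
        (k : ℕ∞) ≤ LocCoh.depth (Localization.AtPrime z.asIdeal)
          (EGA4.FibLocMod A₀ B z.asIdeal N))) :
    EGA4.IsEquidimModule (Localization.AtPrime q.asIdeal) (EGA4.FibLocMod A₀ B q.asIdeal N) ∧
      LocCoh.HasSk k (Localization.AtPrime q.asIdeal) (EGA4.FibLocMod A₀ B q.asIdeal N) := by
  have hD' := hD
  unfold fibSuppDim at hD'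
  obtain ⟨nq, hnq, hnqe⟩ := arith_of_add_eq _ _ _ hD'
  constructor
  · intro P'' hP''min
    haveI hP''p : P''.IsPrime := hP''min.1.1
    have hJP'' : (q.asIdeal.comap (algebraMap A₀ B)).map
        (algebraMap A₀ (Localization.AtPrime q.asIdeal)) ≤ P'' :=
      (fibIdeal_le_annihilator A₀ B N q.asIdeal).trans hP''min.1.2
    set z'' : PrimeSpectrum B :=
      ⟨P''.comap (algebraMap B (Localization.AtPrime q.asIdeal)), inferInstance⟩ with hz''
    haveI := isNoetherianRing_fibLocRing A₀ B z''.asIdeal
    have hz''q : z'' ≤ q := comap_le_of_prime B q.asIdeal P''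
    have hz''c : z''.asIdeal.comap (algebraMap A₀ B) = q.asIdeal.comap (algebraMap A₀ B) :=
      comap_comap_eq A₀ B q.asIdeal P'' hJP''
    have hmapP'' : z''.asIdeal.map (algebraMap B (Localization.AtPrime q.asIdeal)) = P'' :=
      IsLocalization.map_comap q.asIdeal.primeCompl _ P''
    have hsupp'' : (⟨P'', hP''p⟩ : PrimeSpectrum (Localization.AtPrime q.asIdeal)) ∈
        Module.support (Localization.AtPrime q.asIdeal) (EGA4.FibLocMod A₀ B q.asIdeal N) :=
      Module.mem_support_iff_of_finite.2 hP''min.1.2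
    have SE := semiEquiv_fibLocMod_localization A₀ B N q.asIdeal P'' z''.asIdeal rfl hz''c
    haveI hMz'' : Nontrivial (EGA4.FibLocMod A₀ B z''.asIdeal N) := by
      by_contra hn
      rw [not_nontrivial_iff_subsingleton] at hn
      haveI := (Module.mem_support_iff.1 hsupp'')
      exact not_subsingleton _ (SE.subsingleton_iff.1 hn)
    have hs0 := supportDim_localizedModule_of_mem_minimalPrimes'
      (EGA4.FibLocMod A₀ B q.asIdeal N) P'' hP''min
    rw [← SE.supportDim_eq] at hs0
    obtain ⟨sz, dz, hsz, hdz, hle⟩ := exists_nat_supportDim_depth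
      ((z''.asIdeal.comap (algebraMap A₀ B)).map
        (algebraMap A₀ (Localization.AtPrime z''.asIdeal)))
      (LocalizedModule z''.asIdeal.primeCompl N)
    rw [hsz] at hs0
    have hsz0 : sz = 0 := by exact_mod_cast hs0
    have hdz0 : dz = 0 := by omega
    have hDt : D ≤ tr (specMap A₀ B) z'' := by
      rcases H z'' hz''q hz''c hMz'' with h | h
      · rw [hdz, hdz0] at h
        have : (D : ℕ∞) ≤ ((0 + tr (specMap A₀ B) z'' : ℕ) : ℕ∞) := by exact_mod_cast h
        have := ENat.coe_le_coe.1 this
        omega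
      · rw [hdz, hdz0] at h
        have : k ≤ 0 := by exact_mod_cast h
        omega
    have e1 := dim_quot_add_tr A₀ B z'' q hz''q hz''c
    rw [hmapP''] at e1
    obtain ⟨x, hx, hxe⟩ := arith_of_add_eq _ _ _ e1
    have hup : ringKrullDim (Localization.AtPrime q.asIdeal ⧸ P'') ≤
        Module.supportDim (Localization.AtPrime q.asIdeal) (EGA4.FibLocMod A₀ B q.asIdeal N) := by
      rw [Module.supportDim_eq_ringKrullDim_quotient_annihilator]
      exact ringKrullDim_le_of_surjective (Ideal.Quotient.factor hP''min.1.2)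
        (Ideal.Quotient.factor_surjective hP''min.1.2)
    rw [hx, hnq] at hup
    have hup' : x ≤ nq := by exact_mod_cast hup
    rw [hx, hnq]
    have : x = nq := by omega
    rw [this]
  · intro P hPp
    by_cases hsub : Subsingleton (LocalizedModule P.primeCompl (EGA4.FibLocMod A₀ B q.asIdeal N))
    · rw [Module.supportDim_eq_bot_of_subsingleton]
      exact le_trans (min_le_right _ _) bot_le
    rw [not_subsingleton_iff_nontrivial] at hsub
    have hPsupp : (⟨P, hPp⟩ : PrimeSpectrum (Localization.AtPrime q.asIdeal)) ∈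
        Module.support (Localization.AtPrime q.asIdeal) (EGA4.FibLocMod A₀ B q.asIdeal N) :=
      Module.mem_support_iff.2 hsub
    have hAnnP := Module.annihilator_le_of_mem_support hPsupp
    have hJP : (q.asIdeal.comap (algebraMap A₀ B)).map
        (algebraMap A₀ (Localization.AtPrime q.asIdeal)) ≤ P :=
      (fibIdeal_le_annihilator A₀ B N q.asIdeal).trans hAnnP
    set z : PrimeSpectrum B :=
      ⟨P.comap (algebraMap B (Localization.AtPrime q.asIdeal)), inferInstance⟩ with hz
    haveI := isNoetherianRing_fibLocRing A₀ B z.asIdeal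
    have hzq : z ≤ q := comap_le_of_prime B q.asIdeal P
    have hzc : z.asIdeal.comap (algebraMap A₀ B) = q.asIdeal.comap (algebraMap A₀ B) :=
      comap_comap_eq A₀ B q.asIdeal P hJP
    have SE := semiEquiv_fibLocMod_localization A₀ B N q.asIdeal P z.asIdeal rfl hzc
    haveI hMz : Nontrivial (EGA4.FibLocMod A₀ B z.asIdeal N) := by
      by_contra hn
      rw [not_nontrivial_iff_subsingleton] at hn
      exact not_subsingleton _ (SE.subsingleton_iff.1 hn)
    rw [← SE.depth_eq, ← SE.supportDim_eq]
    obtain ⟨sz, dz, hsz, hdz, hle⟩ := exists_nat_supportDim_depth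
      ((z.asIdeal.comap (algebraMap A₀ B)).map (algebraMap A₀ (Localization.AtPrime z.asIdeal)))
      (LocalizedModule z.asIdeal.primeCompl N)
    rw [hsz, hdz]
    have hzsupp : z ∈ Module.support B N := mem_support_of_nontrivial_fibLocMod A₀ B N z.asIdeal
    have mono := fibSuppDim_mono A₀ B N z q hzq hzc hzsupp
    rw [hD] at mono
    unfold fibSuppDim at mono
    rw [hsz] at mono
    have mono' : sz + tr (specMap A₀ B) z ≤ D := by exact_mod_cast mono
    rcases H z hzq hzc hMz with h | h
    · rw [hdz] at h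
      have h' : (D : ℕ∞) ≤ ((dz + tr (specMap A₀ B) z : ℕ) : ℕ∞) := by exact_mod_cast h
      have h'' := ENat.coe_le_coe.1 h'
      have hsd : sz ≤ dz := by omega
      exact le_trans (min_le_right _ _) (by exact_mod_cast hsd)
    · rw [hdz] at h
      have h' : k ≤ dz := by exact_mod_cast h
      exact le_trans (min_le_left _ _) (by exact_mod_cast h')

end Main

end Groth.Agent.Lib.Helper21.FibDepth
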