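import Mathlib
import Groth.Prelude.Def_EGA4b
import Groth.Agent.Lib.Helper21.FibDepth3
import Groth.Agent.Lib.Helper21.FibDepth7

/-!
# Helper21 — FibDepth8: openness of the locus where the fibre module is equidimensional and `(S_k)`
(ring-level form of EGA IV 12.1.1 (vii))
-/

set_option autoImplicit false

namespace Groth.Agent.Lib.Helper21.FibDepth

open AlgebraicGeometry CategoryTheory IsLocalRing Pointwise
open Groth.Agent.Lib.Helper24.FibreDim Groth.Agent.Lib.Helper21.MCop

universe u

section Triv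

theorem equidim_sk_of_subsingleton (R : Type u) [CommRing R] (M : Type u) [AddCommGroup M]
    [Module R M] [Subsingleton M] (k : ℕ) :
    EGA4.IsEquidimModule R M ∧ LocCoh.HasSk k R M := by
  constructor
  · intro p hp
    have h1 : Module.annihilator R M = ⊤ := Module.annihilator_eq_top_iff.2 inferInstance
    rw [h1, Ideal.minimalPrimes_top] at hp
    exact absurd hp (Set.notMem_empty _)
  · intro p hp
    haveI : Subsingleton (LocalizedModule p.primeCompl M) := inferInstance
    rw [Module.supportDim_eq_bot_of_subsingleton]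
    exact le_trans (min_le_right _ _) bot_le

theorem vanishingIdeal_le_iff {B : Type u} [CommRing B] (T : Set (PrimeSpectrum B))
    (hT : IsClosed T) (z : PrimeSpectrum B) :
    PrimeSpectrum.vanishingIdeal T ≤ z.asIdeal ↔ z ∈ T := by
  have h1 : (PrimeSpectrum.vanishingIdeal T ≤ z.asIdeal) ↔
      z ∈ PrimeSpectrum.zeroLocus (PrimeSpectrum.vanishingIdeal T : Set _) :=
    (PrimeSpectrum.mem_zeroLocus _ _).symm
  rw [h1, PrimeSpectrum.zeroLocus_vanishingIdeal_eq_closure, hT.closure_eq]

end Triv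

section Main

set_option maxHeartbeats 1600000 in
set_option synthInstance.maxHeartbeats 200000 in
/-- **EGA IV 12.1.1 (vii), algebraic form** (`k ≥ 1`). -/
theorem isOpen_equidim_sk (A₀ B : Type u) [CommRing A₀] [CommRing B] [Algebra A₀ B]
    [Algebra.FinitePresentation A₀ B]
    (N : Type u) [AddCommGroup N] [Module B N] [Module A₀ N] [IsScalarTower A₀ B N]
    [Module.FinitePresentation B N]
    (hfl : ∀ z : PrimeSpectrum B, Module.Flat A₀ (LocalizedModule z.asIdeal.primeCompl N))
    (k : ℕ) (hk : 1 ≤ k) :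
    IsOpen {q : PrimeSpectrum B |
      EGA4.IsEquidimModule (Localization.AtPrime q.asIdeal) (EGA4.FibLocMod A₀ B q.asIdeal N) ∧
      LocCoh.HasSk k (Localization.AtPrime q.asIdeal) (EGA4.FibLocMod A₀ B q.asIdeal N)} := by
  rw [isOpen_iff_forall_mem_open]
  rintro q ⟨hE, hS⟩
  by_cases hM : Subsingleton (EGA4.FibLocMod A₀ B q.asIdeal N)
  · haveI := hM
    have hNq := subsingleton_localized_of_fibLocMod A₀ B N q.asIdeal
    refine ⟨(Module.support B N)ᶜ, ?_, Module.isClosed_support.isOpen_compl,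
      Module.notMem_support_iff.2 hNq⟩
    intro q' hq'
    haveI : Subsingleton (LocalizedModule q'.asIdeal.primeCompl N) :=
      Module.notMem_support_iff.1 hq'
    exact equidim_sk_of_subsingleton _ _ k
  rw [not_subsingleton_iff_nontrivial] at hM
  haveI := hM
  haveI := isNoetherianRing_fibLocRing A₀ B q.asIdeal
  obtain ⟨nq, dq, hnq, -, -⟩ := exists_nat_supportDim_depth
    ((q.asIdeal.comap (algebraMap A₀ B)).map (algebraMap A₀ (Localization.AtPrime q.asIdeal)))
    (LocalizedModule q.asIdeal.primeCompl N)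
  set D : ℕ := nq + tr (specMap A₀ B) q with hDdef
  have hD : fibSuppDim A₀ B N q = (D : WithBot ℕ∞) := by
    unfold fibSuppDim
    rw [hnq, hDdef]
    push_cast
    rfl
  have bound := bound_of_equidim_sk A₀ B N k q D hD hE hS
  have hRD : IsOpen {z : PrimeSpectrum B |
      Module.Flat A₀ (LocalizedModule z.asIdeal.primeCompl N) ∧
      (D : ℕ∞) ≤ LocCoh.depth (Localization.AtPrime z.asIdeal)
        (EGA4.FibLocMod A₀ B z.asIdeal N) + (tr (specMap A₀ B) z : ℕ∞)} :=
    isOpen_flat_rd A₀ B N D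
  set RD := {z : PrimeSpectrum B |
      Module.Flat A₀ (LocalizedModule z.asIdeal.primeCompl N) ∧
      (D : ℕ∞) ≤ LocCoh.depth (Localization.AtPrime z.asIdeal)
        (EGA4.FibLocMod A₀ B z.asIdeal N) + (tr (specMap A₀ B) z : ℕ∞)} with hRDdef
  set I := PrimeSpectrum.vanishingIdeal RDᶜ with hI
  have hIz : ∀ z : PrimeSpectrum B, I ≤ z.asIdeal ↔ z ∉ RD := fun z =>
    vanishingIdeal_le_iff RDᶜ hRD.isClosed_compl z
  obtain ⟨U₂, hU₂, hqU₂, hall⟩ := exists_open_depth_along A₀ B N I k q (hfl q) (by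
    intro z hIz' hzq hzc
    by_cases hMz : Subsingleton (EGA4.FibLocMod A₀ B z.asIdeal N)
    · haveI := hMz
      rw [DepthKit.depth_of_subsingleton]
      exact le_top
    rw [not_subsingleton_iff_nontrivial] at hMz
    rcases bound z hzq hzc hMz with h | h
    · exact absurd ⟨hfl z, h⟩ ((hIz z).1 hIz')
    · exact h)
  have hU₁ := isOpen_fibSuppDim_le A₀ B N D
  refine ⟨{q' : PrimeSpectrum B | q' ∈ Module.support B N → fibSuppDim A₀ B N q' ≤ D} ∩ U₂,
    ?_, hU₁.inter hU₂, ⟨fun _ => hD.le, hqU₂⟩⟩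
  rintro q' ⟨hq'1, hq'2⟩
  by_cases hM' : Subsingleton (EGA4.FibLocMod A₀ B q'.asIdeal N)
  · haveI := hM'
    exact equidim_sk_of_subsingleton _ _ k
  rw [not_subsingleton_iff_nontrivial] at hM'
  haveI := hM'
  haveI := isNoetherianRing_fibLocRing A₀ B q'.asIdeal
  have hq'supp : q' ∈ Module.support B N := mem_support_of_nontrivial_fibLocMod A₀ B N q'.asIdeal
  obtain ⟨nq', dq', hnq', -, -⟩ := exists_nat_supportDim_depth
    ((q'.asIdeal.comap (algebraMap A₀ B)).map (algebraMap A₀ (Localization.AtPrime q'.asIdeal)))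
    (LocalizedModule q'.asIdeal.primeCompl N)
  set D' : ℕ := nq' + tr (specMap A₀ B) q' with hD'def
  have hD' : fibSuppDim A₀ B N q' = (D' : WithBot ℕ∞) := by
    unfold fibSuppDim
    rw [hnq', hD'def]
    push_cast
    rfl
  have hD'D : D' ≤ D := by
    have := hq'1 hq'supp
    rw [hD'] at this
    exact_mod_cast this
  refine equidim_sk_of_bound A₀ B N k hk q' D' hD' ?_
  intro z hzq' hzc hMz
  have hzU₂ : z ∈ U₂ := ((PrimeSpectrum.le_iff_specializes z q').1 hzq').mem_open hU₂ hq'2
  by_cases hzRD : z ∈ RD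
  · left
    refine le_trans ?_ hzRD.2
    exact_mod_cast hD'D
  · right
    exact hall z hzU₂ ((hIz z).2 hzRD)

end Main

end Groth.Agent.Lib.Helper21.FibDepth
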