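import Mathlib
import Groth.Prelude.Def_EGA4b
import Groth.Agent.Lib.Helper21.MCopT
import Groth.Agent.Lib.Helper21.SkOpen1
import Groth.Agent.Lib.Helper21.RectDepth1

/-!
# Helper21 — FibDepth9: `(S_k)` and equidimensionality of modules are invariant under semilinear
equivalences along surjective ring homomorphisms.
-/

set_option autoImplicit false

namespace Groth.Agent.Lib.Helper21.FibDepth

open IsLocalRing Pointwise
open Groth.Agent.Lib.Helper21.MCop Groth.Agent.Lib.Helper21.DepthKit
open Groth.Agent.Lib.Helper21.RectDepth

universe u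

section Surj

variable {R S : Type u} [CommRing R] [CommRing S] [Algebra R S]

theorem ringKrullDim_quotient_comap' (hs : Function.Surjective (algebraMap R S)) (q : Ideal S) :
    ringKrullDim (R ⧸ q.comap (algebraMap R S)) = ringKrullDim (S ⧸ q) := by
  have hbij : Function.Bijective (Ideal.quotientMap q (algebraMap R S) le_rfl) :=
    ⟨Ideal.quotientMap_injective, Ideal.quotientMap_surjective hs⟩
  exact ringKrullDim_eq_of_ringEquiv (RingEquiv.ofBijective _ hbij)

variable {Y : Type u} [AddCommGroup Y] [Module R Y] [Module S Y] [IsScalarTower R S Y]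

theorem depth_loc_of_comap (hs : Function.Surjective (algebraMap R S)) (P : Ideal R) [P.IsPrime]
    (P' : Ideal S) [P'.IsPrime] (h : P = P'.comap (algebraMap R S)) :
    LocCoh.depth (Localization.AtPrime P) (LocalizedModule P.primeCompl Y) =
      LocCoh.depth (Localization.AtPrime P') (LocalizedModule P'.primeCompl Y) := by
  subst h
  exact depth_localization_of_surjective hs P'

theorem supportDim_loc_of_comap [Module.Finite S Y] (hs : Function.Surjective (algebraMap R S))
    (P : Ideal R) [P.IsPrime] (P' : Ideal S) [P'.IsPrime] (h : P = P'.comap (algebraMap R S)) :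
    Module.supportDim (Localization.AtPrime P) (LocalizedModule P.primeCompl Y) =
      Module.supportDim (Localization.AtPrime P') (LocalizedModule P'.primeCompl Y) := by
  subst h
  exact supportDim_localization_of_surjective hs P'

theorem hasSk_iff_of_surjective [Module.Finite S Y] (hs : Function.Surjective (algebraMap R S))
    (k : ℕ) : LocCoh.HasSk k R Y ↔ LocCoh.HasSk k S Y := by
  constructor
  · intro h P' hP'
    rw [← depth_localization_of_surjective hs P', ← supportDim_localization_of_surjective hs P']
    exact h (P'.comap (algebraMap R S))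
  · intro h P hP
    by_cases hker : RingHom.ker (algebraMap R S) ≤ P
    · haveI : (P.map (algebraMap R S)).IsPrime := Ideal.map_isPrime_of_surjective hs hker
      have hc : P = (P.map (algebraMap R S)).comap (algebraMap R S) := by
        rw [Ideal.comap_map_of_surjective' _ hs, sup_eq_left.2 hker]
      rw [depth_loc_of_comap hs P _ hc, supportDim_loc_of_comap hs P _ hc]
      exact h _
    · obtain ⟨a, hak, haP⟩ := Set.not_subset.1 hker
      haveI : Subsingleton (LocalizedModule P.primeCompl Y) := by
        rw [LocalizedModule.subsingleton_iff]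
        intro y
        refine ⟨a, haP, ?_⟩
        rw [← algebraMap_smul S a y, (RingHom.mem_ker).1 hak, zero_smul]
      rw [Module.supportDim_eq_bot_of_subsingleton]
      exact le_trans (min_le_right _ _) bot_le

theorem isEquidimModule_iff_of_surjective [Module.Finite S Y]
    (hs : Function.Surjective (algebraMap R S)) :
    EGA4.IsEquidimModule R Y ↔ EGA4.IsEquidimModule S Y := by
  unfold EGA4.IsEquidimModule
  rw [annihilator_eq_comap (R := R) (S := S) (X := Y),
    Ideal.comap_minimalPrimes_eq_of_surjective hs, supportDim_eq_of_surjective Y hs]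
  constructor
  · intro h P' hP'
    rw [← h _ ⟨P', hP', rfl⟩]
    exact (ringKrullDim_quotient_comap' hs P').symm
  · rintro h _ ⟨P', hP', rfl⟩
    rw [ringKrullDim_quotient_comap' hs P']
    exact h P' hP'

end Surj

section Semi

variable {R : Type u} [CommRing R] {M : Type u} [AddCommGroup M] [Module R M]
  {S : Type u} [CommRing S] {Y : Type u} [AddCommGroup Y] [Module S Y]

theorem SemiEquiv.hasSk_iff [Module.Finite S Y] (h : SemiEquiv R M S Y) (k : ℕ) :
    LocCoh.HasSk k R M ↔ LocCoh.HasSk k S Y := by
  obtain ⟨φ, e, hφ, he⟩ := h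
  letI := φ.toAlgebra
  letI : Module R Y := Module.compHom Y φ
  haveI : IsScalarTower R S Y := IsScalarTower.of_algebraMap_smul fun _ _ => rfl
  let e' : M ≃ₗ[R] Y := { e with map_smul' := he }
  rw [Groth.Agent.Lib.Helper21.SkOpen.hasSk_congr e' k]
  exact hasSk_iff_of_surjective hφ k

theorem SemiEquiv.isEquidimModule_iff [Module.Finite S Y] (h : SemiEquiv R M S Y) :
    EGA4.IsEquidimModule R M ↔ EGA4.IsEquidimModule S Y := by
  obtain ⟨φ, e, hφ, he⟩ := h
  letI := φ.toAlgebra
  letI : Module R Y := Module.compHom Y φ
  haveI : IsScalarTower R S Y := IsScalarTower.of_algebraMap_smul fun _ _ => rfl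
  let e' : M ≃ₗ[R] Y := { e with map_smul' := he }
  have h1 : EGA4.IsEquidimModule R M ↔ EGA4.IsEquidimModule R Y := by
    unfold EGA4.IsEquidimModule
    rw [e'.annihilator_eq, Module.supportDim_eq_of_equiv e']
  rw [h1]
  exact isEquidimModule_iff_of_surjective hφ

end Semi

end Groth.Agent.Lib.Helper21.FibDepth
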