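import Mathlib
import Groth.Prelude.Def_EGA4b
import Groth.Agent.Lib.Helper21.FibDepth8
import Groth.Agent.Lib.Helper21.FibDepth9
import Groth.Agent.Lib.Helper21.FibDepth4
import Groth.Agent.Lib.Helper21.MCopS4
import Groth.Agent.Lib.Helper21.MCopR3

/-!
# Helper21 — FibDepth10: EGA IV 12.1.1 (vii) (`k ≥ 1`): the locus where the fibre module is
equidimensional and `(S_k)` is open; proper variant on the base.
-/

set_option autoImplicit false
set_option backward.isDefEq.respectTransparency.types false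

namespace Groth.Agent.Lib.Helper21.FibDepth

open AlgebraicGeometry CategoryTheory IsLocalRing TensorProduct TopologicalSpace Topology
open Groth.Agent.Lib.Helper21.FibreStalk Groth.Agent.Lib.Helper17.ModStalk
open Groth.Agent.Lib.Helper24.FibreDim Groth.Agent.Lib.Helper21.FlatDesc
open Groth.Agent.Lib.Helper21.MCop

universe u

section Main

variable {X S : Scheme.{u}}

set_option maxHeartbeats 1600000 in
/-- **EGA IV 12.1.1 (vii)** for `k ≥ 1`. -/
theorem isOpen_fibre_equidim_sk (f : X ⟶ S) [LocallyOfFinitePresentation f] (F : X.Modules)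
    [SheafOfModules.IsFinitePresentation.{u} (R := X.ringCatSheaf) F]
    (hflat : FlatMod.IsFlatOver f F) (k : ℕ) (hk : 1 ≤ k) :
    IsOpen {x : X |
      EGA4.IsEquidimModule ((f.fiber (f x)).presheaf.stalk (f.asFiber x))
        (((Scheme.Modules.pullback (f.fiberι (f x))).obj F).presheaf.stalk (f.asFiber x)) ∧
      LocCoh.HasSk k ((f.fiber (f x)).presheaf.stalk (f.asFiber x))
        (((Scheme.Modules.pullback (f.fiberι (f x))).obj F).presheaf.stalk (f.asFiber x))} := by
  haveI : F.IsQuasicoherent :=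
    Groth.Agent.Lib.Helper29.FPDict.isQuasicoherent_of_isFinitePresentation F
  haveI : ∀ x : X, Module.Finite (X.presheaf.stalk x) (F.presheaf.stalk x) :=
    finite_stalk_of_fp F
  rw [isOpen_iff_forall_mem_open]
  intro x hx
  obtain ⟨_, ⟨V, hV : IsAffineOpen V, rfl⟩, hfxV, -⟩ :=
    S.isBasis_affineOpens.exists_subset_of_mem_open (Set.mem_univ (f x)) isOpen_univ
  obtain ⟨_, ⟨U, hU : IsAffineOpen U, rfl⟩, hxU, hUV⟩ :=
    X.isBasis_affineOpens.exists_subset_of_mem_open (show x ∈ (f ⁻¹ᵁ V : Set X) from hfxV)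
      (f ⁻¹ᵁ V).isOpen
  letI algCB : Algebra Γ(S, V) Γ(X, U) := (f.appLE V U hUV).hom.toAlgebra
  letI mC : Module Γ(S, V) Γ(F, U) := Module.compHom Γ(F, U) (algebraMap Γ(S, V) Γ(X, U))
  haveI : IsScalarTower Γ(S, V) Γ(X, U) Γ(F, U) := IsScalarTower.of_compHom _ _ _
  haveI : Algebra.FinitePresentation Γ(S, V) Γ(X, U) :=
    (HasRingHomProperty.appLE @LocallyOfFinitePresentation f inferInstance ⟨V, hV⟩ ⟨U, hU⟩ hUV :
      RingHom.FinitePresentation _)
  haveI : Module.FinitePresentation Γ(X, U) Γ(F, U) :=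
    Groth.Agent.Lib.Helper29.FPDict.fp_of_isAffineOpen F hU
  have hfl : ∀ z : PrimeSpectrum Γ(X, U),
      Module.Flat Γ(S, V) (LocalizedModule z.asIdeal.primeCompl Γ(F, U)) := by
    intro z
    obtain ⟨z', hz'U, rfl⟩ := exists_primeIdealOf_eq hU z
    exact (isFlatOverAt_iff_flat_localized f F hU hV hUV z' hz'U).1 (hflat z')
  have hopen := isOpen_equidim_sk Γ(S, V) Γ(X, U) Γ(F, U) hfl k hk
  have key : ∀ (y : X) (hy : y ∈ U),
      (EGA4.IsEquidimModule ((f.fiber (f y)).presheaf.stalk (f.asFiber y))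
        (((Scheme.Modules.pullback (f.fiberι (f y))).obj F).presheaf.stalk (f.asFiber y)) ∧
      LocCoh.HasSk k ((f.fiber (f y)).presheaf.stalk (f.asFiber y))
        (((Scheme.Modules.pullback (f.fiberι (f y))).obj F).presheaf.stalk (f.asFiber y))) ↔
      (EGA4.IsEquidimModule (Localization.AtPrime (hU.primeIdealOf ⟨y, hy⟩).asIdeal)
        (EGA4.FibLocMod Γ(S, V) Γ(X, U) (hU.primeIdealOf ⟨y, hy⟩).asIdeal Γ(F, U)) ∧
      LocCoh.HasSk k (Localization.AtPrime (hU.primeIdealOf ⟨y, hy⟩).asIdeal)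
        (EGA4.FibLocMod Γ(S, V) Γ(X, U) (hU.primeIdealOf ⟨y, hy⟩).asIdeal Γ(F, U))) := by
    intro y hy
    haveI := finite_stalk_pullback (f.fiberι (f y)) F (f.asFiber y)
    have SE := semiEquiv_chart f F hU hV hUV y hy
    rw [SemiEquiv.isEquidimModule_iff SE, SemiEquiv.hasSk_iff SE k]
  refine ⟨Subtype.val '' ((fun y : U => hU.primeIdealOf y) ⁻¹'
    {q : PrimeSpectrum Γ(X, U) |
      EGA4.IsEquidimModule (Localization.AtPrime q.asIdeal)
        (EGA4.FibLocMod Γ(S, V) Γ(X, U) q.asIdeal Γ(F, U)) ∧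
      LocCoh.HasSk k (Localization.AtPrime q.asIdeal)
        (EGA4.FibLocMod Γ(S, V) Γ(X, U) q.asIdeal Γ(F, U))}), ?_, ?_, ?_⟩
  · rintro _ ⟨y, hy, rfl⟩
    exact (key y.1 y.2).2 hy
  · exact U.2.isOpenMap_subtype_val _ (hopen.preimage hU.isoSpec.hom.continuous)
  · exact ⟨⟨x, hxU⟩, (key x hxU).1 hx, rfl⟩

end Main

section Proper

variable {X Y : Scheme.{u}}

theorem equidim_sk_fiber_point_iff (f : X ⟶ Y) (F : X.Modules) [F.IsQuasicoherent]
    [∀ x : X, Module.Finite (X.presheaf.stalk x) (F.presheaf.stalk x)] (k : ℕ) (y : Y)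
    (z : f.fiber y) :
    (EGA4.IsEquidimModule ((f.fiber y).presheaf.stalk z)
        (((Scheme.Modules.pullback (f.fiberι y)).obj F).presheaf.stalk z) ∧
      LocCoh.HasSk k ((f.fiber y).presheaf.stalk z)
        (((Scheme.Modules.pullback (f.fiberι y)).obj F).presheaf.stalk z)) ↔
    (EGA4.IsEquidimModule
        ((f.fiber (f (f.fiberι y z))).presheaf.stalk (f.asFiber (f.fiberι y z)))
        (((Scheme.Modules.pullback (f.fiberι (f (f.fiberι y z)))).obj F).presheaf.stalk
          (f.asFiber (f.fiberι y z))) ∧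
      LocCoh.HasSk k ((f.fiber (f (f.fiberι y z))).presheaf.stalk (f.asFiber (f.fiberι y z)))
        (((Scheme.Modules.pullback (f.fiberι (f (f.fiberι y z)))).obj F).presheaf.stalk
          (f.asFiber (f.fiberι y z)))) := by
  haveI := finite_stalk_pullback (f.fiberι y) F z
  haveI := finite_stalk_pullback (f.fiberι (f (f.fiberι y z))) F (f.asFiber (f.fiberι y z))
  have SE1 := semiEquiv_fiber_point f F y z
  have SE2 := semiEquiv_fibre f F (f.fiberι y z)
  rw [← SemiEquiv.isEquidimModule_iff SE1, ← SemiEquiv.hasSk_iff SE1 k,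
    ← SemiEquiv.isEquidimModule_iff SE2, ← SemiEquiv.hasSk_iff SE2 k]

/-- **EGA IV 12.2.1 (vii)-type statement** for `k ≥ 1`: for `f` proper, the set of points of the base
over which the fibre module is everywhere equidimensional and `(S_k)` is open. -/
theorem isOpen_fibre_equidim_sk_of_proper (f : X ⟶ Y) [IsProper f]
    [LocallyOfFinitePresentation f] (F : X.Modules)
    [SheafOfModules.IsFinitePresentation.{u} (R := X.ringCatSheaf) F]
    (hflat : FlatMod.IsFlatOver f F) (k : ℕ) (hk : 1 ≤ k) :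
    IsOpen {y : Y | ∀ x : ↥(f.fiber y),
      EGA4.IsEquidimModule ((f.fiber y).presheaf.stalk x)
        (((Scheme.Modules.pullback (f.fiberι y)).obj F).presheaf.stalk x) ∧
      LocCoh.HasSk k ((f.fiber y).presheaf.stalk x)
        (((Scheme.Modules.pullback (f.fiberι y)).obj F).presheaf.stalk x)} := by
  haveI : F.IsQuasicoherent :=
    Groth.Agent.Lib.Helper29.FPDict.isQuasicoherent_of_isFinitePresentation F
  haveI : ∀ x : X, Module.Finite (X.presheaf.stalk x) (F.presheaf.stalk x) :=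
    finite_stalk_of_fp F
  have hEo := isOpen_fibre_equidim_sk f F hflat k hk
  have hcl := f.isClosedMap _ hEo.isClosed_compl
  convert hcl.isOpen_compl using 1
  ext y
  constructor
  · intro h hy
    obtain ⟨x, hx, hfx⟩ := hy
    subst hfx
    exact hx (h (f.asFiber x))
  · intro h z
    rw [equidim_sk_fiber_point_iff f F k y z]
    by_contra hn
    exact h ⟨f.fiberι y z, hn, apply_fiberι f y z⟩

end Proper

end Groth.Agent.Lib.Helper21.FibDepth
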