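import Mathlib
import Groth.Prelude.Def_EGA4b
import Groth.Agent.Lib.Helper21.MCopR2
import Groth.Agent.Lib.Helper23.Fitting5

/-!
# Helper21 — FlatOpen1: the image of the support of a finitely presented module, flat over the
base, under a finitely presented ring map is open (EGA IV 2.4.6 for modules).
-/

set_option autoImplicit false

namespace Groth.Agent.Lib.Helper21.FlatOpen

open TensorProduct IsLocalRing
open Groth.Agent.Lib.Helper21.MCop

universe u

section Reg

variable {A M : Type*} [CommRing A] [AddCommGroup M] [Module A M]

/-- on a flat module, an element outside a prime `P` is regular modulo `P`. -/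
theorem mem_smul_top_of_smul_mem [Module.Flat A M] (P : Ideal A) [P.IsPrime] (a : A) (ha : a ∉ P)
    (m : M) (h : a • m ∈ P • (⊤ : Submodule A M)) : m ∈ P • (⊤ : Submodule A M) := by
  let μ : (A ⧸ P) →ₗ[A] (A ⧸ P) := LinearMap.lsmul A (A ⧸ P) a
  have hμ : Function.Injective μ := by
    intro x y hxy
    have h1 : Ideal.Quotient.mk P a * x = Ideal.Quotient.mk P a * y := by
      have : a • x = a • y := hxy
      rwa [Algebra.smul_def, Algebra.smul_def] at this
    have h2 : Ideal.Quotient.mk P a ≠ 0 := by
      rwa [Ne, Ideal.Quotient.eq_zero_iff_mem]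
    exact mul_left_cancel₀ h2 h1
  have h1 := Module.Flat.rTensor_preserves_injective_linearMap (M := M) μ hμ
  let e := TensorProduct.quotTensorEquivQuotSMul M P
  have h2 : μ.rTensor M ((1 : A ⧸ P) ⊗ₜ m) = 0 := by
    apply e.injective
    rw [LinearMap.rTensor_tmul, map_zero]
    show e ((a • (1 : A ⧸ P)) ⊗ₜ m) = 0
    rw [TensorProduct.smul_tmul, quotTensorEquivQuotSMul_mk_one_tmul]
    exact (Submodule.Quotient.mk_eq_zero _).2 h
  have h3 : (1 : A ⧸ P) ⊗ₜ[A] m = 0 := h1 (by rw [h2, map_zero])
  have h4 : e ((1 : A ⧸ P) ⊗ₜ m) = 0 := by rw [h3, map_zero]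
  rw [quotTensorEquivQuotSMul_mk_one_tmul] at h4
  exact (Submodule.Quotient.mk_eq_zero _).1 h4

end Reg

section Gen

variable (A B : Type u) [CommRing A] [CommRing B] [Algebra A B]
  (N : Type u) [AddCommGroup N] [Module B N] [Module A N] [IsScalarTower A B N] [Module.Finite B N]

set_option maxHeartbeats 800000 in
/-- **going down for the support of a flat module**. -/
theorem exists_le_mem_support_of_flat (q : PrimeSpectrum B) (hq : q ∈ Module.support B N)
    (hfl : Module.Flat A (LocalizedModule q.asIdeal.primeCompl N))
    (p' : PrimeSpectrum A) (hp' : p' ≤ PrimeSpectrum.comap (algebraMap A B) q) :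
    ∃ q' : PrimeSpectrum B, q' ≤ q ∧ q' ∈ Module.support B N ∧
      PrimeSpectrum.comap (algebraMap A B) q' = p' := by
  classical
  haveI hnt : Nontrivial (LocalizedModule q.asIdeal.primeCompl N) := (Module.mem_support_iff).1 hq
  set J : Ideal B := Module.annihilator B N ⊔ p'.asIdeal.map (algebraMap A B) with hJ
  set S : Submonoid B :=
    Algebra.algebraMapSubmonoid B p'.asIdeal.primeCompl ⊔ q.asIdeal.primeCompl with hS
  have hdisj : Disjoint (J : Set B) S := by
    rw [Set.disjoint_left]
    intro x hxJ hxS
    obtain ⟨s, hs, t, ht, rfl⟩ := Submonoid.mem_sup.1 hxS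
    obtain ⟨a, ha, rfl⟩ := hs
    obtain ⟨c, hc, d, hd, hcd⟩ := Submodule.mem_sup.1 hxJ
    have hd' : ∀ m : LocalizedModule q.asIdeal.primeCompl N,
        d • m ∈ p'.asIdeal • (⊤ : Submodule A (LocalizedModule q.asIdeal.primeCompl N)) := by
      intro m
      revert m
      refine Submodule.span_induction (p := fun d _ => ∀ m : LocalizedModule q.asIdeal.primeCompl N,
        d • m ∈ p'.asIdeal • (⊤ : Submodule A (LocalizedModule q.asIdeal.primeCompl N)))
        ?_ ?_ ?_ ?_ hd
      · rintro _ ⟨a', ha', rfl⟩ m
        rw [algebraMap_smul]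
        exact Submodule.smul_mem_smul ha' Submodule.mem_top
      · intro m
        rw [zero_smul]
        exact Submodule.zero_mem _
      · intro x y _ _ hx hy m
        rw [add_smul]
        exact Submodule.add_mem _ (hx m) (hy m)
      · intro b x _ hx m
        rw [smul_eq_mul, mul_comm, mul_smul]
        exact hx _
    have hc' : ∀ m : LocalizedModule q.asIdeal.primeCompl N, c • m = 0 := by
      intro m
      induction m using LocalizedModule.induction_on with
      | h n s =>
        rw [LocalizedModule.smul'_mk, Module.mem_annihilator.1 hc n, LocalizedModule.zero_mk]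
    have htsurj : ∀ m' : LocalizedModule q.asIdeal.primeCompl N,
        ∃ m : LocalizedModule q.asIdeal.primeCompl N, t • m = m' := by
      intro m'
      have hu := IsLocalizedModule.map_units
        (LocalizedModule.mkLinearMap q.asIdeal.primeCompl N) ⟨t, ht⟩
      obtain ⟨m, hm⟩ := ((Module.End.isUnit_iff _).1 hu).surjective m'
      exact ⟨m, hm⟩
    have hall : ∀ m' : LocalizedModule q.asIdeal.primeCompl N,
        m' ∈ p'.asIdeal • (⊤ : Submodule A (LocalizedModule q.asIdeal.primeCompl N)) := by
      intro m'
      obtain ⟨m, rfl⟩ := htsurj m'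
      apply mem_smul_top_of_smul_mem p'.asIdeal a ha
      have : a • t • m = (algebraMap A B a * t) • m := by
        rw [mul_smul, algebraMap_smul]
      rw [this, ← hcd, add_smul, hc' m, zero_add]
      exact hd' m
    haveI : Subsingleton (EGA4.FibLocMod A B q.asIdeal N) := by
      apply Submodule.Quotient.subsingleton_iff.2
      rw [eq_top_iff]
      intro m _
      have hm := hall m
      refine Submodule.smul_induction_on hm ?_ ?_
      · intro a' ha' m₁ _
        have h1 : algebraMap A (Localization.AtPrime q.asIdeal) a' ∈
            (q.asIdeal.comap (algebraMap A B)).map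
              (algebraMap A (Localization.AtPrime q.asIdeal)) :=
          Ideal.mem_map_of_mem _ (hp' ha')
        have h2 : a' • m₁ = algebraMap A (Localization.AtPrime q.asIdeal) a' • m₁ := by
          rw [algebraMap_smul]
        rw [h2]
        exact Submodule.smul_mem_smul h1 Submodule.mem_top
      · intro x y hx hy
        exact Submodule.add_mem _ hx hy
    have hss := subsingleton_localized_of_fibLocMod A B N q.asIdeal
    exact not_subsingleton _ hss
  obtain ⟨P, hP, hJP, hPS⟩ := Ideal.exists_le_prime_disjoint J S hdisj
  rw [Set.disjoint_left] at hPS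
  refine ⟨⟨P, hP⟩, ?_, ?_, ?_⟩
  · intro b hb
    by_contra hbq
    exact hPS hb (Submonoid.mem_sup_right (show b ∈ q.asIdeal.primeCompl from hbq))
  · rw [Module.mem_support_iff_of_finite]
    exact le_sup_left.trans hJP
  · apply PrimeSpectrum.ext
    apply le_antisymm
    · intro a ha
      by_contra hap
      exact hPS (show algebraMap A B a ∈ P from ha)
        (Submonoid.mem_sup_left ⟨a, hap, rfl⟩)
    · intro a ha
      exact hJP (Submodule.mem_sup_right (Ideal.mem_map_of_mem _ ha))

end Gen

section Img

variable (A B : Type u) [CommRing A] [CommRing B] [Algebra A B] [Algebra.FinitePresentation A B]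
  (N : Type u) [AddCommGroup N] [Module B N] [Module A N] [IsScalarTower A B N]
  [Module.FinitePresentation B N]

theorem isConstructible_support : Topology.IsConstructible (Module.support B N) := by
  have hfg := Helper23.Fit.ideal_fg_of_finitePresentation (R := B) (M := N) 0
  have hz := Helper23.Fit.zeroLocus_ideal_zero (R := B) (M := N)
  have h1 := (PrimeSpectrum.isCompact_isOpen_iff_ideal (s := (Module.support B N)ᶜ)).mpr
    ⟨Fitt.ideal B N 0, hfg, by rw [hz]⟩
  exact (h1.1.isConstructible h1.2).of_compl

/-- **EGA IV 2.4.6 for modules**: the image of the support of a finitely presented module, flat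
over the base, is open. -/
theorem isOpen_image_support
    (hfl : ∀ q : PrimeSpectrum B, Module.Flat A (LocalizedModule q.asIdeal.primeCompl N)) :
    IsOpen (PrimeSpectrum.comap (algebraMap A B) '' Module.support B N) := by
  apply PrimeSpectrum.isOpen_of_stableUnderGeneralization_of_isConstructible
  · rintro p p' hpp' ⟨q, hq, rfl⟩
    obtain ⟨q', -, hq', hc⟩ := exists_le_mem_support_of_flat A B N q hq (hfl q) p'
      ((PrimeSpectrum.le_iff_specializes _ _).2 hpp')
    exact ⟨q', hq', hc⟩
  · exact PrimeSpectrum.isConstructible_comap_image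
      (RingHom.finitePresentation_algebraMap.mpr inferInstance) (isConstructible_support B N)

end Img

end Groth.Agent.Lib.Helper21.FlatOpen
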