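import Mathlib
import Groth.Prelude.Def_EGA4b
import Groth.Agent.Lib.Helper21.FlatOpen1
import Groth.Agent.Lib.Helper21.FibDepth10

/-!
# Helper21 — FlatOpen2: for a morphism locally of finite presentation and a finitely presented
module `F` flat over the base, the restriction of `f` to the support of `F` is open.
-/

set_option autoImplicit false
set_option backward.isDefEq.respectTransparency.types false

namespace Groth.Agent.Lib.Helper21.FlatOpen

open AlgebraicGeometry CategoryTheory IsLocalRing TensorProduct TopologicalSpace Topology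
open Groth.Agent.Lib.Helper21.FibreStalk Groth.Agent.Lib.Helper17.ModStalk
open Groth.Agent.Lib.Helper24.FibreDim Groth.Agent.Lib.Helper21.FlatDesc
open Groth.Agent.Lib.Helper21.MCop Groth.Agent.Lib.Helper21.FibDepth

universe u

section Chart

variable {X : Scheme.{u}}

theorem nontrivial_stalk_iff_mem_support (F : X.Modules) [F.IsQuasicoherent] {U : X.Opens}
    (hU : IsAffineOpen U) (x : X) (hx : x ∈ U) :
    Nontrivial (F.presheaf.stalk x) ↔
      hU.primeIdealOf ⟨x, hx⟩ ∈ Module.support Γ(X, U) Γ(F, U) := by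
  letI := moduleStalkSections F U x hx
  haveI := isLocalizedModule_germLinear F hU x hx
  let e := IsLocalizedModule.iso (hU.primeIdealOf ⟨x, hx⟩).asIdeal.primeCompl (germLinear F U x hx)
  rw [Module.mem_support_iff]
  exact ⟨fun h => e.symm.injective.nontrivial, fun h => e.injective.nontrivial⟩

end Chart

section Main

variable {X Y : Scheme.{u}}

set_option maxHeartbeats 1600000 in
/-- **EGA IV 2.4.6 for modules**: `f` restricted to the support of a flat finitely presented module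
is an open map. -/
theorem isOpen_image_inter_support (f : X ⟶ Y) [LocallyOfFinitePresentation f] (F : X.Modules)
    [SheafOfModules.IsFinitePresentation.{u} (R := X.ringCatSheaf) F]
    (hflat : FlatMod.IsFlatOver f F) (U₀ : Set X) (hU₀ : IsOpen U₀) :
    IsOpen (f '' (U₀ ∩ {x : X | Nontrivial (F.presheaf.stalk x)})) := by
  haveI : F.IsQuasicoherent :=
    Groth.Agent.Lib.Helper29.FPDict.isQuasicoherent_of_isFinitePresentation F
  rw [isOpen_iff_forall_mem_open]
  rintro _ ⟨x, ⟨hxU₀, hxF⟩, rfl⟩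
  obtain ⟨_, ⟨V, hV : IsAffineOpen V, rfl⟩, hfxV, -⟩ :=
    Y.isBasis_affineOpens.exists_subset_of_mem_open (Set.mem_univ (f x)) isOpen_univ
  obtain ⟨_, ⟨U, hU : IsAffineOpen U, rfl⟩, hxU, hUsub⟩ :=
    X.isBasis_affineOpens.exists_subset_of_mem_open
      (show x ∈ (f ⁻¹ᵁ V : Set X) ∩ U₀ from ⟨hfxV, hxU₀⟩) ((f ⁻¹ᵁ V).isOpen.inter hU₀)
  have hUV : U ≤ f ⁻¹ᵁ V := fun z hz => (hUsub hz).1
  have hUU₀ : (U : Set X) ⊆ U₀ := fun z hz => (hUsub hz).2
  letI algCB : Algebra Γ(Y, V) Γ(X, U) := (f.appLE V U hUV).hom.toAlgebra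
  letI mC : Module Γ(Y, V) Γ(F, U) := Module.compHom Γ(F, U) (algebraMap Γ(Y, V) Γ(X, U))
  haveI : IsScalarTower Γ(Y, V) Γ(X, U) Γ(F, U) := IsScalarTower.of_compHom _ _ _
  haveI : Algebra.FinitePresentation Γ(Y, V) Γ(X, U) :=
    (HasRingHomProperty.appLE @LocallyOfFinitePresentation f inferInstance ⟨V, hV⟩ ⟨U, hU⟩ hUV :
      RingHom.FinitePresentation _)
  haveI : Module.FinitePresentation Γ(X, U) Γ(F, U) :=
    Groth.Agent.Lib.Helper29.FPDict.fp_of_isAffineOpen F hU
  have hfl : ∀ z : PrimeSpectrum Γ(X, U),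
      Module.Flat Γ(Y, V) (LocalizedModule z.asIdeal.primeCompl Γ(F, U)) := by
    intro z
    obtain ⟨z', hz'U, rfl⟩ := exists_primeIdealOf_eq hU z
    exact (isFlatOverAt_iff_flat_localized f F hU hV hUV z' hz'U).1 (hflat z')
  have hopen := isOpen_image_support Γ(Y, V) Γ(X, U) Γ(F, U) hfl
  have hcomap : ∀ (z : X) (hz : z ∈ U),
      PrimeSpectrum.comap (algebraMap Γ(Y, V) Γ(X, U)) (hU.primeIdealOf ⟨z, hz⟩) =
        hV.primeIdealOf ⟨f z, hUV hz⟩ := fun z hz =>
    IsAffineOpen.comap_primeIdealOf_appLE V hV U hU hUV hz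
  refine ⟨Subtype.val '' ((fun y : V => hV.primeIdealOf y) ⁻¹'
    (PrimeSpectrum.comap (algebraMap Γ(Y, V) Γ(X, U)) '' Module.support Γ(X, U) Γ(F, U))),
    ?_, ?_, ?_⟩
  · rintro _ ⟨y, ⟨q, hq, hqy⟩, rfl⟩
    obtain ⟨z, hzU, rfl⟩ := exists_primeIdealOf_eq hU q
    rw [hcomap z hzU] at hqy
    have h2 := congrArg hV.fromSpec hqy
    rw [hV.fromSpec_primeIdealOf, hV.fromSpec_primeIdealOf] at h2
    refine ⟨z, ⟨hUU₀ hzU, (nontrivial_stalk_iff_mem_support F hU z hzU).2 hq⟩, h2⟩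
  · exact V.2.isOpenMap_subtype_val _ (hopen.preimage hV.isoSpec.hom.continuous)
  · refine ⟨⟨f x, hfxV⟩, ⟨hU.primeIdealOf ⟨x, hxU⟩,
      (nontrivial_stalk_iff_mem_support F hU x hxU).1 hxF, hcomap x hxU⟩, rfl⟩

end Main

end Groth.Agent.Lib.Helper21.FlatOpen
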