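import Mathlib
import Groth.Prelude.Def_EGA4b
import Groth.Agent.Lib.Helper21.FlatOpen2

/-!
# Helper21 — CompDim1: irreducible components of the support of the restriction of a module to a
fibre: generic points, dimensions, and the dictionary with the support of the module.
-/

set_option autoImplicit false
set_option backward.isDefEq.respectTransparency.types false

namespace Groth.Agent.Lib.Helper21.CompDim

open AlgebraicGeometry CategoryTheory IsLocalRing TensorProduct TopologicalSpace Topology
open Groth.Agent.Lib.Helper21.FibreStalk Groth.Agent.Lib.Helper17.ModStalk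
open Groth.Agent.Lib.Helper24.FibreDim Groth.Agent.Lib.Helper21.FlatDesc
open Groth.Agent.Lib.Helper21.MCop Groth.Agent.Lib.Helper21.FibDepth
open Groth.Agent.Lib.Helper21.RectDepth

universe u

section Top

variable {T : Type*} [TopologicalSpace T] [QuasiSober T] [T0Space T]

/-- an irreducible component of a closed subspace has a generic point, which has no proper
generization in the subspace. -/
theorem exists_generic_of_mem_irreducibleComponents (S : Set T) (hS : IsClosed S) (Z : Set ↥S)
    (hZ : Z ∈ irreducibleComponents ↥S) :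
    ∃ ξ : T, ξ ∈ S ∧ Subtype.val '' Z = closure {ξ} ∧ ∀ z ∈ S, z ⤳ ξ → z = ξ := by
  have hemb : IsClosedEmbedding (Subtype.val : ↥S → T) := hS.isClosedEmbedding_subtypeVal
  haveI : QuasiSober ↥S := hemb.quasiSober
  have hZirr : IsIrreducible Z := hZ.1
  have hZcl : IsClosed Z := isClosed_of_mem_irreducibleComponents Z hZ
  obtain ⟨ξ', hξ'⟩ := QuasiSober.sober hZirr hZcl
  refine ⟨ξ'.1, ξ'.2, ?_, ?_⟩
  · rw [← hξ'.def, ← hemb.closure_image_eq, Set.image_singleton]
  · intro z hz hzξ
    have h1 : (⟨z, hz⟩ : ↥S) ⤳ ξ' := hemb.isInducing.specializes_iff.1 hzξ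
    have h2 : IsIrreducible (closure ({⟨z, hz⟩} : Set ↥S)) := isIrreducible_singleton.closure
    have h3 : Z ≤ closure ({⟨z, hz⟩} : Set ↥S) := by
      rw [← hξ'.def]
      exact specializes_iff_closure_subset.1 h1
    have h4 : closure ({⟨z, hz⟩} : Set ↥S) ≤ Z := hZ.le_of_ge h2 h3
    have h5 : ξ' ⤳ (⟨z, hz⟩ : ↥S) := by
      rw [specializes_iff_mem_closure, hξ'.def]
      exact h4 (subset_closure rfl)
    exact congrArg Subtype.val (h1.antisymm h5).eq

theorem exists_mem_irreducibleComponents (S : Set T) (z : T) (hz : z ∈ S) :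
    ∃ Z ∈ irreducibleComponents ↥S, (⟨z, hz⟩ : ↥S) ∈ Z :=
  ⟨irreducibleComponent ⟨z, hz⟩, irreducibleComponent_mem_irreducibleComponents _,
    mem_irreducibleComponent⟩

theorem dim_eq_of_image_eq (S : Set T) (Z : Set ↥S) (W : Set T) (h : Subtype.val '' Z = W) :
    topologicalKrullDim ↥Z = topologicalKrullDim ↥W := by
  apply dim_eq_of_isEmbedding_range (fun z : ↥Z => (z.1.1 : T))
    (IsEmbedding.subtypeVal.comp IsEmbedding.subtypeVal)
  rw [← h]
  ext t
  constructor
  · rintro ⟨⟨⟨a, ha⟩, hZa⟩, rfl⟩
    exact ⟨⟨a, ha⟩, hZa, rfl⟩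
  · rintro ⟨⟨a, ha⟩, hZa, rfl⟩
    exact ⟨⟨⟨a, ha⟩, hZa⟩, rfl⟩

end Top

section Fib

variable {X Y : Scheme.{u}}

/-- the support of the restriction to a fibre is the trace of the support. -/
theorem nontrivial_stalk_pullback_fiber_iff (f : X ⟶ Y) (F : X.Modules) [F.IsQuasicoherent]
    [∀ x : X, Module.Finite (X.presheaf.stalk x) (F.presheaf.stalk x)] (y : Y) (z : f.fiber y) :
    Nontrivial (((Scheme.Modules.pullback (f.fiberι y)).obj F).presheaf.stalk z) ↔
      Nontrivial (F.presheaf.stalk (f.fiberι y z)) := by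
  have SE := semiEquiv_fiber_point f F y z
  rw [← not_subsingleton_iff_nontrivial, ← not_subsingleton_iff_nontrivial,
    ← SE.subsingleton_iff, not_iff_not]
  constructor
  · intro h
    by_contra hn
    rw [not_subsingleton_iff_nontrivial] at hn
    haveI := hn
    have h1 := DepthKit.maximalIdeal_smul_top_ne_top (A := X.presheaf.stalk (f.fiberι y z))
      (M := F.presheaf.stalk (f.fiberι y z))
    apply h1
    have h2 : fibIdeal f (f.fiberι y z) • (⊤ : Submodule (X.presheaf.stalk (f.fiberι y z))
        (F.presheaf.stalk (f.fiberι y z))) ≤ maximalIdeal (X.presheaf.stalk (f.fiberι y z)) •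
          (⊤ : Submodule (X.presheaf.stalk (f.fiberι y z)) (F.presheaf.stalk (f.fiberι y z))) :=
      Submodule.smul_mono_left (fibIdeal_le_maximalIdeal f (f.fiberι y z))
    rw [Submodule.Quotient.subsingleton_iff.1 h] at h2
    exact top_le_iff.1 h2
  · intro h
    haveI := h
    infer_instance

end Fib

section Ring

variable (A₀ B : Type u) [CommRing A₀] [CommRing B] [Algebra A₀ B] [Algebra.FiniteType A₀ B]
  (N : Type u) [AddCommGroup N] [Module B N] [Module.Finite B N]

theorem nontrivial_fibLocMod_of_mem_support (q : PrimeSpectrum B)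
    (hq : q ∈ Module.support B N) : Nontrivial (EGA4.FibLocMod A₀ B q.asIdeal N) := by
  by_contra hn
  rw [not_nontrivial_iff_subsingleton] at hn
  haveI := hn
  have h1 := subsingleton_localized_of_fibLocMod A₀ B N q.asIdeal
  haveI := Module.mem_support_iff.1 hq
  exact not_subsingleton _ h1

set_option maxHeartbeats 800000 in
/-- at a point of the support with no proper generization in the support of its fibre, the fibre
module has support of dimension zero. -/
theorem supportDim_fibLocMod_eq_zero (q : PrimeSpectrum B) (hq : q ∈ Module.support B N)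
    (hmax : ∀ q₂ : PrimeSpectrum B, q₂ ≤ q →
      q₂.asIdeal.comap (algebraMap A₀ B) = q.asIdeal.comap (algebraMap A₀ B) →
      q₂ ∈ Module.support B N → q₂ = q) :
    Module.supportDim (Localization.AtPrime q.asIdeal) (EGA4.FibLocMod A₀ B q.asIdeal N) = 0 := by
  haveI := nontrivial_fibLocMod_of_mem_support A₀ B N q hq
  have hsub : ∀ P ∈ Module.support (Localization.AtPrime q.asIdeal)
      (EGA4.FibLocMod A₀ B q.asIdeal N), P = IsLocalRing.closedPoint _ := by
    intro P hP
    have hAnnP := Module.annihilator_le_of_mem_support hP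
    have hJP : (q.asIdeal.comap (algebraMap A₀ B)).map
        (algebraMap A₀ (Localization.AtPrime q.asIdeal)) ≤ P.asIdeal :=
      (fibIdeal_le_annihilator A₀ B N q.asIdeal).trans hAnnP
    set q₂ : PrimeSpectrum B :=
      ⟨P.asIdeal.comap (algebraMap B (Localization.AtPrime q.asIdeal)), inferInstance⟩ with hq₂
    have h1 : q₂ ≤ q := comap_le_of_prime B q.asIdeal P.asIdeal
    have h2 : q₂.asIdeal.comap (algebraMap A₀ B) = q.asIdeal.comap (algebraMap A₀ B) :=
      comap_comap_eq A₀ B q.asIdeal P.asIdeal hJP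
    have h3 : q₂ ∈ Module.support B N := by
      rw [Module.mem_support_iff_of_finite]
      intro b hb
      exact hAnnP (map_annihilator_le_annihilator A₀ B N q.asIdeal (Ideal.mem_map_of_mem _ hb))
    have h4 := hmax q₂ h1 h2 h3
    apply PrimeSpectrum.ext
    have h5 : P.asIdeal = q₂.asIdeal.map (algebraMap B (Localization.AtPrime q.asIdeal)) :=
      (IsLocalization.map_comap q.asIdeal.primeCompl _ P.asIdeal).symm
    rw [h5, h4]
    exact Localization.AtPrime.map_eq_maximalIdeal
  haveI : Nonempty (Module.support (Localization.AtPrime q.asIdeal)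
      (EGA4.FibLocMod A₀ B q.asIdeal N)) :=
    (Module.nonempty_support_of_nontrivial).to_subtype
  haveI : Subsingleton (Module.support (Localization.AtPrime q.asIdeal)
      (EGA4.FibLocMod A₀ B q.asIdeal N)) :=
    ⟨fun a b => Subtype.ext ((hsub a.1 a.2).trans (hsub b.1 b.2).symm)⟩
  exact Order.krullDim_eq_zero

set_option maxHeartbeats 800000 in
set_option synthInstance.maxHeartbeats 200000 in
/-- at such a point, membership in the two open loci pins down the residue transcendence
degree. -/
theorem tr_eq_iff (n : ℕ) (q : PrimeSpectrum B) (hq : q ∈ Module.support B N)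
    (hmax : ∀ q₂ : PrimeSpectrum B, q₂ ≤ q →
      q₂.asIdeal.comap (algebraMap A₀ B) = q.asIdeal.comap (algebraMap A₀ B) →
      q₂ ∈ Module.support B N → q₂ = q) :
    ((n : ℕ∞) ≤ LocCoh.depth (Localization.AtPrime q.asIdeal)
        (EGA4.FibLocMod A₀ B q.asIdeal N) + (tr (specMap A₀ B) q : ℕ∞) ∧
      fibSuppDim A₀ B N q ≤ (n : WithBot ℕ∞)) ↔ tr (specMap A₀ B) q = n := by
  haveI := nontrivial_fibLocMod_of_mem_support A₀ B N q hq
  haveI := isNoetherianRing_fibLocRing A₀ B q.asIdeal
  have h0 := supportDim_fibLocMod_eq_zero A₀ B N q hq hmax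
  obtain ⟨s, d, hs, hd, hle⟩ := exists_nat_supportDim_depth
    ((q.asIdeal.comap (algebraMap A₀ B)).map (algebraMap A₀ (Localization.AtPrime q.asIdeal)))
    (LocalizedModule q.asIdeal.primeCompl N)
  have hs0 : s = 0 := by
    rw [h0] at hs
    exact_mod_cast hs.symm
  have hd0 : d = 0 := by omega
  unfold fibSuppDim
  rw [hd, h0, hd0, Nat.cast_zero, zero_add, zero_add]
  constructor
  · rintro ⟨h1, h2⟩
    have h1' : n ≤ tr (specMap A₀ B) q := by exact_mod_cast h1
    have h2' : tr (specMap A₀ B) q ≤ n := by exact_mod_cast h2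
    omega
  · intro h
    rw [h]
    exact ⟨le_refl _, le_refl _⟩

end Ring

end Groth.Agent.Lib.Helper21.CompDim
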