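import Mathlib
import Groth.Prelude.Def_EGA4b
import Groth.Agent.Lib.Helper21.CompDim1
import Groth.Agent.Lib.Helper24.FibreDim.Main4943

/-!
# Helper21 — AssDim1: ring-level openness of the loci defined by the dimensions of the associated
points of the fibre modules (EGA IV 12.1.1 (iii), (iv)), for a flat finitely presented module.
-/

set_option autoImplicit false

namespace Groth.Agent.Lib.Helper21.AssDim

open AlgebraicGeometry CategoryTheory IsLocalRing
open Groth.Agent.Lib.Helper24.FibreDim Groth.Agent.Lib.Helper21.MCop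
open Groth.Agent.Lib.Helper21.FibreStalk Groth.Agent.Lib.lead
open Groth.Agent.Lib.Helper21.FibDepth Groth.Agent.Lib.Helper21.CompDim

universe u

section Sweep

variable (A₀ B : Type u) [CommRing A₀] [CommRing B] [Algebra A₀ B] [Algebra.FiniteType A₀ B]

theorem isClosed_setOf_le_fibDim (m : ℕ) :
    IsClosed {w : PrimeSpectrum B | (m : WithBot ℕ∞) ≤ fibDim A₀ B w} := by
  rw [← isOpen_compl_iff]
  have h : {w : PrimeSpectrum B | (m : WithBot ℕ∞) ≤ fibDim A₀ B w}ᶜ =
      ⋃ j ∈ Finset.range m, {w : PrimeSpectrum B | fibDim A₀ B w ≤ (j : ℕ)} := by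
    ext w
    simp only [Set.mem_compl_iff, Set.mem_setOf_eq, Set.mem_iUnion, Finset.mem_range, exists_prop]
    obtain ⟨z, -, -, -, hz⟩ := exists_max_tr (specMap A₀ B) w
    have hz' : fibDim A₀ B w = ((tr (specMap A₀ B) z : ℕ) : WithBot ℕ∞) := hz.symm
    rw [hz']
    constructor
    · intro h
      refine ⟨tr (specMap A₀ B) z, ?_, le_refl _⟩
      by_contra hn
      apply h
      exact_mod_cast not_lt.1 hn
    · rintro ⟨j, hj, hle⟩ h
      have h1 : tr (specMap A₀ B) z ≤ j := by exact_mod_cast hle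
      have h2 : m ≤ tr (specMap A₀ B) z := by exact_mod_cast h
      omega
  rw [h]
  exact isOpen_biUnion fun j _ => isOpen_fibDim_le A₀ B j

set_option maxHeartbeats 800000 in
/-- **the top-dimensional components of the fibres of a closed subset** sweep out a closed set. -/
theorem isClosed_spec_of_tr_eq (C : Set (PrimeSpectrum B)) (hC : IsClosed C) (m : ℕ)
    (hm : ∀ q ∈ C, tr (specMap A₀ B) q ≤ m) :
    IsClosed {q : PrimeSpectrum B | ∃ z ∈ C, z ≤ q ∧
      z.asIdeal.comap (algebraMap A₀ B) = q.asIdeal.comap (algebraMap A₀ B) ∧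
      tr (specMap A₀ B) z = m} := by
  set I := PrimeSpectrum.vanishingIdeal C with hI
  let π : PrimeSpectrum (B ⧸ I) → PrimeSpectrum B := PrimeSpectrum.comap (Ideal.Quotient.mk I)
  have hπ : Topology.IsClosedEmbedding π :=
    PrimeSpectrum.isClosedEmbedding_comap_of_surjective _ _ Ideal.Quotient.mk_surjective
  have hrange : Set.range π = C := by
    rw [_root_.range_comap_of_surjective _ _ Ideal.Quotient.mk_surjective, Ideal.mk_ker, hI,
      PrimeSpectrum.zeroLocus_vanishingIdeal_eq_closure, hC.closure_eq]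
  have hcomap : ∀ w : PrimeSpectrum (B ⧸ I),
      w.asIdeal.comap (algebraMap A₀ (B ⧸ I)) = (π w).asIdeal.comap (algebraMap A₀ B) := by
    intro w
    show _ = (w.asIdeal.comap (Ideal.Quotient.mk _)).comap (algebraMap A₀ B)
    rw [Ideal.comap_comap]
    rfl
  have hle : ∀ w' w : PrimeSpectrum (B ⧸ I), π w' ≤ π w → w' ≤ w := by
    intro w' w h x hx
    obtain ⟨b, rfl⟩ := Ideal.Quotient.mk_surjective x
    exact h hx
  have hcl := hπ.isClosedMap _ (isClosed_setOf_le_fibDim A₀ (B ⧸ I) m)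
  convert hcl using 1
  ext q
  simp only [Set.mem_setOf_eq, Set.mem_image]
  constructor
  · rintro ⟨z, hzC, hzq, hc, htr⟩
    have hqC : q ∈ C := ((PrimeSpectrum.le_iff_specializes z q).1 hzq).mem_closed hC hzC
    obtain ⟨w, rfl⟩ : q ∈ Set.range π := hrange ▸ hqC
    obtain ⟨w', rfl⟩ : z ∈ Set.range π := hrange ▸ hzC
    refine ⟨w, ?_, rfl⟩
    have h1 : w' ≤ w := hle w' w hzq
    have h2 : (specMap A₀ (B ⧸ I)) w' = (specMap A₀ (B ⧸ I)) w := by
      apply PrimeSpectrum.ext
      show w'.asIdeal.comap (algebraMap A₀ (B ⧸ I)) = w.asIdeal.comap (algebraMap A₀ (B ⧸ I))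
      rw [hcomap, hcomap]
      exact hc
    have h3 := tr_le_fibreDimAt (specMap A₀ (B ⧸ I)) ((PrimeSpectrum.le_iff_specializes w' w).1 h1) h2
    rw [tr_quotient A₀ B I w', htr] at h3
    exact h3
  · rintro ⟨w, hw, rfl⟩
    obtain ⟨z', hz'g, hz'w, -, hz'tr⟩ := exists_max_tr (specMap A₀ (B ⧸ I)) w
    have hzC : π z' ∈ C := hrange ▸ Set.mem_range_self z'
    have h1 : tr (specMap A₀ B) (π z') ≤ m := hm _ hzC
    have h2 : tr (specMap A₀ (B ⧸ I)) z' = tr (specMap A₀ B) (π z') := tr_quotient A₀ B I z'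
    have h3 : (m : WithBot ℕ∞) ≤ ((tr (specMap A₀ (B ⧸ I)) z' : ℕ) : WithBot ℕ∞) := by
      rw [hz'tr]
      exact hw
    have h4 : m ≤ tr (specMap A₀ (B ⧸ I)) z' := by exact_mod_cast h3
    refine ⟨π z', hzC, ?_, ?_, by omega⟩
    · have hz'le : (show PrimeSpectrum (B ⧸ I) from z').asIdeal ≤ w.asIdeal :=
        (PrimeSpectrum.le_iff_specializes (show PrimeSpectrum (B ⧸ I) from z') w).2 hz'w
      exact Ideal.comap_mono hz'le
    · rw [← hcomap, ← hcomap]
      exact congrArg PrimeSpectrum.asIdeal hz'g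

end Sweep

section Mod

variable (A₀ B : Type u) [CommRing A₀] [CommRing B] [Algebra A₀ B]
  [Algebra.FinitePresentation A₀ B]
  (N : Type u) [AddCommGroup N] [Module B N] [Module A₀ N] [IsScalarTower A₀ B N]
  [Module.FinitePresentation B N]

theorem mem_support_of_depth_eq_zero (z : PrimeSpectrum B)
    (hd : LocCoh.depth (Localization.AtPrime z.asIdeal) (EGA4.FibLocMod A₀ B z.asIdeal N) = 0) :
    z ∈ Module.support B N := by
  haveI : Nontrivial (EGA4.FibLocMod A₀ B z.asIdeal N) := by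
    by_contra hn
    rw [not_nontrivial_iff_subsingleton] at hn
    haveI := hn
    rw [DepthKit.depth_of_subsingleton] at hd
    exact ENat.top_ne_zero hd
  exact mem_support_of_nontrivial_fibLocMod A₀ B N z.asIdeal

set_option maxHeartbeats 800000 in
/-- the fibrewise specializations of the associated points of the fibre modules with residue
transcendence degree `m` lying in a closed set `T` form a closed set. -/
theorem isClosed_spec_ass
    (hfl : ∀ q : PrimeSpectrum B, Module.Flat A₀ (LocalizedModule q.asIdeal.primeCompl N))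
    (m : ℕ) (T : Set (PrimeSpectrum B)) (hT : IsClosed T) :
    IsClosed {q : PrimeSpectrum B | ∃ z ∈ T, z ≤ q ∧
      z.asIdeal.comap (algebraMap A₀ B) = q.asIdeal.comap (algebraMap A₀ B) ∧
      LocCoh.depth (Localization.AtPrime z.asIdeal) (EGA4.FibLocMod A₀ B z.asIdeal N) = 0 ∧
      tr (specMap A₀ B) z = m} := by
  set C : Set (PrimeSpectrum B) := (T ∩ Module.support B N) ∩
    {q : PrimeSpectrum B | Module.Flat A₀ (LocalizedModule q.asIdeal.primeCompl N) ∧
      ((m + 1 : ℕ) : ℕ∞) ≤ LocCoh.depth (Localization.AtPrime q.asIdeal)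
        (EGA4.FibLocMod A₀ B q.asIdeal N) + (tr (specMap A₀ B) q : ℕ∞)}ᶜ with hCdef
  have hCcl : IsClosed C :=
    (hT.inter Module.isClosed_support).inter (isOpen_flat_rd A₀ B N (m + 1)).isClosed_compl
  have hCm : ∀ q ∈ C, tr (specMap A₀ B) q ≤ m := by
    rintro q ⟨-, hq3⟩
    by_contra hn
    apply hq3
    refine ⟨hfl q, ?_⟩
    have h1 : ((m + 1 : ℕ) : ℕ∞) ≤ (tr (specMap A₀ B) q : ℕ∞) := by
      exact_mod_cast not_le.1 hn
    exact h1.trans le_add_self
  have hcl := isClosed_spec_of_tr_eq A₀ B C hCcl m hCm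
  convert hcl using 1
  ext q
  simp only [Set.mem_setOf_eq]
  constructor
  · rintro ⟨z, hzT, hzq, hc, hd, htr⟩
    refine ⟨z, ⟨⟨hzT, mem_support_of_depth_eq_zero A₀ B N z hd⟩, ?_⟩, hzq, hc, htr⟩
    rintro ⟨-, h⟩
    rw [hd, htr, zero_add] at h
    have : m + 1 ≤ m := by exact_mod_cast h
    omega
  · rintro ⟨z, ⟨⟨hzT, -⟩, hnot⟩, hzq, hc, htr⟩
    refine ⟨z, hzT, hzq, hc, ?_, htr⟩
    by_contra hne
    apply hnot
    refine ⟨hfl z, ?_⟩
    rw [htr]
    have h1 : (1 : ℕ∞) ≤ LocCoh.depth (Localization.AtPrime z.asIdeal)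
        (EGA4.FibLocMod A₀ B z.asIdeal N) := Order.one_le_iff_pos.2 (pos_iff_ne_zero.2 hne)
    calc ((m + 1 : ℕ) : ℕ∞) = 1 + (m : ℕ∞) := by push_cast; rw [add_comm]
      _ ≤ _ := by gcongr

end Mod

section Aux

variable (A₀ B : Type u) [CommRing A₀] [CommRing B] [Algebra A₀ B] [Algebra.FiniteType A₀ B]
  (N : Type u) [AddCommGroup N] [Module B N] [Module.Finite B N]

set_option maxHeartbeats 800000 in
set_option synthInstance.maxHeartbeats 200000 in
theorem exists_nat_fibSuppDim (q : PrimeSpectrum B) (hq : q ∈ Module.support B N) :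
    ∃ s d : ℕ, Module.supportDim (Localization.AtPrime q.asIdeal)
        (EGA4.FibLocMod A₀ B q.asIdeal N) = (s : WithBot ℕ∞) ∧
      LocCoh.depth (Localization.AtPrime q.asIdeal) (EGA4.FibLocMod A₀ B q.asIdeal N) = (d : ℕ∞) ∧
      d ≤ s ∧
      fibSuppDim A₀ B N q = ((s + tr (specMap A₀ B) q : ℕ) : WithBot ℕ∞) := by
  haveI := nontrivial_fibLocMod_of_mem_support A₀ B N q hq
  haveI := isNoetherianRing_fibLocRing A₀ B q.asIdeal
  obtain ⟨s, d, hs, hd, hle⟩ := exists_nat_supportDim_depth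
    ((q.asIdeal.comap (algebraMap A₀ B)).map (algebraMap A₀ (Localization.AtPrime q.asIdeal)))
    (LocalizedModule q.asIdeal.primeCompl N)
  refine ⟨s, d, hs, hd, hle, ?_⟩
  unfold fibSuppDim
  rw [hs]
  push_cast
  rfl

/-- every point of the support has a generization in its fibre which is an associated point of the
fibre module. -/
theorem exists_ass_le (z₁ : PrimeSpectrum B) (hz₁ : z₁ ∈ Module.support B N) :
    ∃ z' : PrimeSpectrum B, z' ≤ z₁ ∧
      z'.asIdeal.comap (algebraMap A₀ B) = z₁.asIdeal.comap (algebraMap A₀ B) ∧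
      LocCoh.depth (Localization.AtPrime z'.asIdeal) (EGA4.FibLocMod A₀ B z'.asIdeal N) = 0 := by
  set J : Ideal B := Module.annihilator B N ⊔
    (z₁.asIdeal.comap (algebraMap A₀ B)).map (algebraMap A₀ B) with hJ
  have hJz₁ : J ≤ z₁.asIdeal :=
    sup_le ((Module.mem_support_iff_of_finite).1 hz₁) Ideal.map_comap_le
  obtain ⟨p, hp, hpz₁⟩ := Ideal.exists_minimalPrimes_le hJz₁
  haveI hpp : p.IsPrime := hp.1.1
  have hc : p.comap (algebraMap A₀ B) = z₁.asIdeal.comap (algebraMap A₀ B) := by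
    apply le_antisymm (Ideal.comap_mono hpz₁)
    rw [← Ideal.map_le_iff_le_comap]
    exact le_sup_right.trans hp.1.2
  have hsupp : (⟨p, hpp⟩ : PrimeSpectrum B) ∈ Module.support B N := by
    rw [Module.mem_support_iff_of_finite]
    exact le_sup_left.trans hp.1.2
  have hmin : ∀ q₂ : PrimeSpectrum B, q₂ ≤ (⟨p, hpp⟩ : PrimeSpectrum B) →
      q₂.asIdeal.comap (algebraMap A₀ B) =
        (⟨p, hpp⟩ : PrimeSpectrum B).asIdeal.comap (algebraMap A₀ B) →
      q₂ ∈ Module.support B N → q₂ = ⟨p, hpp⟩ := by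
    intro q₂ hle hc₂ hs₂
    apply PrimeSpectrum.ext
    have h1 : q₂.asIdeal ≤ p := hle
    have h3 : J ≤ q₂.asIdeal := by
      refine sup_le ((Module.mem_support_iff_of_finite).1 hs₂) ?_
      rw [Ideal.map_le_iff_le_comap, ← hc]
      exact le_of_eq hc₂.symm
    have h2 : p ≤ q₂.asIdeal := hp.2 ⟨q₂.2, h3⟩ h1
    exact le_antisymm h1 h2
  refine ⟨⟨p, hpp⟩, hpz₁, hc, ?_⟩
  have h0 := supportDim_fibLocMod_eq_zero A₀ B N ⟨p, hpp⟩ hsupp hmin
  obtain ⟨s, d, hs, hd, hle, -⟩ := exists_nat_fibSuppDim A₀ B N ⟨p, hpp⟩ hsupp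
  rw [h0] at hs
  have hs0 : s = 0 := by exact_mod_cast hs.symm
  rw [hd]
  have : d = 0 := by omega
  rw [this]
  rfl

set_option maxHeartbeats 800000 in
/-- the residue transcendence degree strictly drops under proper specialization in a fibre. -/
theorem tr_succ_le_of_lt (z' z : PrimeSpectrum B) (hle : z' ≤ z) (hne : z' ≠ z)
    (hc : z'.asIdeal.comap (algebraMap A₀ B) = z.asIdeal.comap (algebraMap A₀ B)) :
    tr (specMap A₀ B) z + 1 ≤ tr (specMap A₀ B) z' := by
  have h1 := dim_quot_add_tr A₀ B z' z hle hc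
  have hdisj : Disjoint (z.asIdeal.primeCompl : Set B) (z'.asIdeal : Set B) :=
    Set.disjoint_left.2 fun x hx hxz => hx (hle hxz)
  set P : Ideal (Localization.AtPrime z.asIdeal) :=
    z'.asIdeal.map (algebraMap B (Localization.AtPrime z.asIdeal)) with hP
  haveI hPp : P.IsPrime :=
    IsLocalization.isPrime_of_isPrime_disjoint z.asIdeal.primeCompl _ _ z'.2 hdisj
  have hPz : P.comap (algebraMap B (Localization.AtPrime z.asIdeal)) = z'.asIdeal :=
    IsLocalization.comap_map_of_isPrime_disjoint z.asIdeal.primeCompl _ z'.2 hdisj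
  have hPle : P ≤ maximalIdeal (Localization.AtPrime z.asIdeal) :=
    IsLocalRing.le_maximalIdeal hPp.ne_top
  have hPne : P ≠ maximalIdeal (Localization.AtPrime z.asIdeal) := by
    intro h
    apply hne
    apply PrimeSpectrum.ext
    rw [← hPz, h]
    exact IsLocalization.AtPrime.under_maximalIdeal (Localization.AtPrime z.asIdeal) z.asIdeal
  have h2 : (1 : WithBot ℕ∞) ≤ ringKrullDim (Localization.AtPrime z.asIdeal ⧸ P) := by
    rw [ringKrullDim_quotient, Order.one_le_krullDim_iff]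
    refine ⟨⟨⟨P, hPp⟩, ?_⟩, ⟨IsLocalRing.closedPoint _, ?_⟩, ?_⟩
    · exact (PrimeSpectrum.mem_zeroLocus _ _).2 (le_refl P)
    · exact (PrimeSpectrum.mem_zeroLocus _ _).2 hPle
    · show (⟨P, hPp⟩ : PrimeSpectrum (Localization.AtPrime z.asIdeal)) < IsLocalRing.closedPoint _
      exact lt_of_le_of_ne hPle (fun h => hPne (congrArg PrimeSpectrum.asIdeal h))
  obtain ⟨n, hn, hnm⟩ := arith_of_add_eq _ _ _ h1
  rw [hn] at h2
  have : 1 ≤ n := by exact_mod_cast h2
  omega

theorem tr_le_fibSuppDim (z : PrimeSpectrum B) (hz : z ∈ Module.support B N) :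
    ((tr (specMap A₀ B) z : ℕ) : WithBot ℕ∞) ≤ fibSuppDim A₀ B N z := by
  obtain ⟨s, d, -, -, -, h⟩ := exists_nat_fibSuppDim A₀ B N z hz
  rw [h]
  exact_mod_cast Nat.le_add_left _ _

set_option maxHeartbeats 800000 in
/-- an associated point of a fibre module is embedded iff the support has positive dimension
there. -/
theorem embedded_iff (z : PrimeSpectrum B) (hz : z ∈ Module.support B N) :
    (∃ z' : PrimeSpectrum B, z' ≤ z ∧
      z'.asIdeal.comap (algebraMap A₀ B) = z.asIdeal.comap (algebraMap A₀ B) ∧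
      LocCoh.depth (Localization.AtPrime z'.asIdeal) (EGA4.FibLocMod A₀ B z'.asIdeal N) = 0 ∧
      z' ≠ z) ↔
    ¬ fibSuppDim A₀ B N z ≤ ((tr (specMap A₀ B) z : ℕ) : WithBot ℕ∞) := by
  constructor
  · rintro ⟨z', hle, hc, hd, hne⟩ hcon
    have hz' : z' ∈ Module.support B N := by
      haveI : Nontrivial (EGA4.FibLocMod A₀ B z'.asIdeal N) := by
        by_contra hn
        rw [not_nontrivial_iff_subsingleton] at hn
        haveI := hn
        rw [DepthKit.depth_of_subsingleton] at hd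
        exact ENat.top_ne_zero hd
      exact mem_support_of_nontrivial_fibLocMod A₀ B N z'.asIdeal
    have h1 := tr_succ_le_of_lt A₀ B z' z hle hne hc
    have h2 := tr_le_fibSuppDim A₀ B N z' hz'
    have h3 := fibSuppDim_mono A₀ B N z' z hle hc hz'
    have h4 := (h2.trans h3).trans hcon
    have : tr (specMap A₀ B) z' ≤ tr (specMap A₀ B) z := by exact_mod_cast h4
    omega
  · intro hcon
    have hex : ∃ z₁ : PrimeSpectrum B, z₁ ≤ z ∧
        z₁.asIdeal.comap (algebraMap A₀ B) = z.asIdeal.comap (algebraMap A₀ B) ∧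
        z₁ ∈ Module.support B N ∧ z₁ ≠ z := by
      by_contra hno
      push Not at hno
      have h0 := supportDim_fibLocMod_eq_zero A₀ B N z hz
        (fun q₂ h1 h2 h3 => hno q₂ h1 h2 h3)
      apply hcon
      unfold fibSuppDim
      rw [h0, zero_add]
    obtain ⟨z₁, hz₁le, hz₁c, hz₁s, hz₁ne⟩ := hex
    obtain ⟨z', hz'le, hz'c, hz'd⟩ := exists_ass_le A₀ B N z₁ hz₁s
    refine ⟨z', hz'le.trans hz₁le, hz'c.trans hz₁c, hz'd, ?_⟩
    rintro rfl
    exact hz₁ne (le_antisymm hz₁le hz'le)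

end Aux

section Open

variable (A₀ B : Type u) [CommRing A₀] [CommRing B] [Algebra A₀ B]
  [Algebra.FinitePresentation A₀ B]
  (N : Type u) [AddCommGroup N] [Module B N] [Module A₀ N] [IsScalarTower A₀ B N]
  [Module.FinitePresentation B N]

set_option maxHeartbeats 800000 in
/-- local finiteness: only finitely many residue transcendence degrees occur near a point. -/
theorem isOpen_of_isClosed_bad (bad : PrimeSpectrum B → Prop)
    (hcl : ∀ m : ℕ, IsClosed {q : PrimeSpectrum B | ∃ z : PrimeSpectrum B, z ≤ q ∧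
      z.asIdeal.comap (algebraMap A₀ B) = q.asIdeal.comap (algebraMap A₀ B) ∧
      LocCoh.depth (Localization.AtPrime z.asIdeal) (EGA4.FibLocMod A₀ B z.asIdeal N) = 0 ∧
      tr (specMap A₀ B) z = m ∧ bad z}) :
    IsOpen {q : PrimeSpectrum B | ∀ z : PrimeSpectrum B, z ≤ q →
      z.asIdeal.comap (algebraMap A₀ B) = q.asIdeal.comap (algebraMap A₀ B) →
      LocCoh.depth (Localization.AtPrime z.asIdeal) (EGA4.FibLocMod A₀ B z.asIdeal N) = 0 →
      ¬ bad z} := by
  rw [isOpen_iff_forall_mem_open]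
  intro q hq
  by_cases hqs : q ∈ Module.support B N
  · obtain ⟨s, d, -, -, -, hD⟩ := exists_nat_fibSuppDim A₀ B N q hqs
    set D := s + tr (specMap A₀ B) q with hDdef
    refine ⟨{q' : PrimeSpectrum B | q' ∈ Module.support B N →
        fibSuppDim A₀ B N q' ≤ (D : ℕ)} ∩
      ⋂ m ∈ Finset.range (D + 1), {q : PrimeSpectrum B | ∃ z : PrimeSpectrum B, z ≤ q ∧
        z.asIdeal.comap (algebraMap A₀ B) = q.asIdeal.comap (algebraMap A₀ B) ∧
        LocCoh.depth (Localization.AtPrime z.asIdeal) (EGA4.FibLocMod A₀ B z.asIdeal N) = 0 ∧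
        tr (specMap A₀ B) z = m ∧ bad z}ᶜ, ?_, ?_, ?_⟩
    · rintro q' ⟨hq'D, hq'E⟩ z hle hc hd hbad
      have hzs : z ∈ Module.support B N := mem_support_of_depth_eq_zero A₀ B N z hd
      have hq's : q' ∈ Module.support B N := by
        rw [Module.mem_support_iff_of_finite] at hzs ⊢
        exact hzs.trans hle
      have h1 := tr_le_fibSuppDim A₀ B N z hzs
      have h2 := fibSuppDim_mono A₀ B N z q' hle hc hzs
      have h3 := (h1.trans h2).trans (hq'D hq's)
      have h4 : tr (specMap A₀ B) z ≤ D := by exact_mod_cast h3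
      have h5 := Set.mem_iInter₂.1 hq'E (tr (specMap A₀ B) z) (Finset.mem_range.2 (by omega))
      exact h5 ⟨z, hle, hc, hd, rfl, hbad⟩
    · exact (isOpen_fibSuppDim_le A₀ B N D).inter
        (isOpen_biInter_finset fun m _ => (hcl m).isOpen_compl)
    · refine ⟨fun _ => le_of_eq hD, ?_⟩
      rw [Set.mem_iInter₂]
      rintro m - ⟨z, hle, hc, hd, -, hbad⟩
      exact hq z hle hc hd hbad
  · refine ⟨(Module.support B N)ᶜ, ?_, Module.isClosed_support.isOpen_compl, hqs⟩
    intro q' hq' z hle _ hd _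
    apply hq'
    have hzs : z ∈ Module.support B N := mem_support_of_depth_eq_zero A₀ B N z hd
    rw [Module.mem_support_iff_of_finite] at hzs ⊢
    exact hzs.trans hle

/-- **EGA IV 12.1.1 (iv)**, ring level. -/
theorem isOpen_assDims_mem
    (hfl : ∀ q : PrimeSpectrum B, Module.Flat A₀ (LocalizedModule q.asIdeal.primeCompl N))
    (Φ : Set ℕ) :
    IsOpen {q : PrimeSpectrum B | ∀ z : PrimeSpectrum B, z ≤ q →
      z.asIdeal.comap (algebraMap A₀ B) = q.asIdeal.comap (algebraMap A₀ B) →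
      LocCoh.depth (Localization.AtPrime z.asIdeal) (EGA4.FibLocMod A₀ B z.asIdeal N) = 0 →
      tr (specMap A₀ B) z ∈ Φ} := by
  have h := isOpen_of_isClosed_bad A₀ B N (fun z => tr (specMap A₀ B) z ∉ Φ) (by
    intro m
    by_cases hm : m ∈ Φ
    · convert isClosed_empty using 1
      ext q
      simp only [Set.mem_setOf_eq, Set.mem_empty_iff_false, iff_false, not_exists, not_and]
      intro z _ _ _ htr hbad
      exact hbad (htr ▸ hm)
    · have := isClosed_spec_ass A₀ B N hfl m Set.univ isClosed_univ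
      convert this using 1
      ext q
      simp only [Set.mem_setOf_eq, Set.mem_univ, true_and]
      constructor
      · rintro ⟨z, hle, hc, hd, htr, -⟩
        exact ⟨z, hle, hc, hd, htr⟩
      · rintro ⟨z, hle, hc, hd, htr⟩
        exact ⟨z, hle, hc, hd, htr, htr ▸ hm⟩)
  convert h using 1
  ext q
  simp only [Set.mem_setOf_eq, not_not]

set_option maxHeartbeats 800000 in
/-- **EGA IV 12.1.1 (iii)**, ring level. -/
theorem isOpen_noEmbedded
    (hfl : ∀ q : PrimeSpectrum B, Module.Flat A₀ (LocalizedModule q.asIdeal.primeCompl N)) :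
    IsOpen {q : PrimeSpectrum B | ∀ z : PrimeSpectrum B, z ≤ q →
      z.asIdeal.comap (algebraMap A₀ B) = q.asIdeal.comap (algebraMap A₀ B) →
      LocCoh.depth (Localization.AtPrime z.asIdeal) (EGA4.FibLocMod A₀ B z.asIdeal N) = 0 →
      ∀ z' : PrimeSpectrum B, z' ≤ z →
        z'.asIdeal.comap (algebraMap A₀ B) = z.asIdeal.comap (algebraMap A₀ B) →
        LocCoh.depth (Localization.AtPrime z'.asIdeal) (EGA4.FibLocMod A₀ B z'.asIdeal N) = 0 →
        z' = z} := by
  have h := isOpen_of_isClosed_bad A₀ B N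
    (fun z => ¬ fibSuppDim A₀ B N z ≤ ((tr (specMap A₀ B) z : ℕ) : WithBot ℕ∞)) (by
    intro m
    have hT : IsClosed {z : PrimeSpectrum B | z ∈ Module.support B N →
        fibSuppDim A₀ B N z ≤ (m : ℕ)}ᶜ := (isOpen_fibSuppDim_le A₀ B N m).isClosed_compl
    have := isClosed_spec_ass A₀ B N hfl m _ hT
    convert this using 1
    ext q
    simp only [Set.mem_setOf_eq, Set.mem_compl_iff]
    constructor
    · rintro ⟨z, hle, hc, hd, htr, hbad⟩
      refine ⟨z, ?_, hle, hc, hd, htr⟩
      intro hcon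
      apply hbad
      rw [htr]
      exact hcon (mem_support_of_depth_eq_zero A₀ B N z hd)
    · rintro ⟨z, hzT, hle, hc, hd, htr⟩
      refine ⟨z, hle, hc, hd, htr, ?_⟩
      intro hcon
      apply hzT
      intro _
      rw [← htr]
      exact hcon)
  convert h using 1
  ext q
  simp only [Set.mem_setOf_eq]
  constructor
  · intro hq z hle hc hd hbad
    have hzs := mem_support_of_depth_eq_zero A₀ B N z hd
    obtain ⟨z', hz'le, hz'c, hz'd, hz'ne⟩ := (embedded_iff A₀ B N z hzs).2 hbad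
    exact hz'ne (hq z hle hc hd z' hz'le hz'c hz'd)
  · intro hq z hle hc hd z' hz'le hz'c hz'd
    by_contra hne
    have hzs := mem_support_of_depth_eq_zero A₀ B N z hd
    exact hq z hle hc hd ((embedded_iff A₀ B N z hzs).1 ⟨z', hz'le, hz'c, hz'd, hne⟩)

end Open

end Groth.Agent.Lib.Helper21.AssDim
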