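import Mathlib
import Groth.Prelude.Def_EGA4b
import Groth.Agent.Lib.Helper21.CompDim1
import Groth.Agent.S0020

/-!
# Helper21 — CompDim2: EGA IV 12.2.1-type statement: the set of points of the base over which the
support of the fibre module has an irreducible component of dimension `n` is open (flat case).
-/

set_option autoImplicit false
set_option backward.isDefEq.respectTransparency.types false

namespace Groth.Agent.Lib.Helper21.CompDim

open AlgebraicGeometry CategoryTheory IsLocalRing TensorProduct TopologicalSpace Topology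
open Groth.Agent.Lib.Helper21.FibreStalk Groth.Agent.Lib.Helper17.ModStalk
open Groth.Agent.Lib.Helper24.FibreDim Groth.Agent.Lib.Helper21.FlatDesc
open Groth.Agent.Lib.Helper21.MCop Groth.Agent.Lib.Helper21.FibDepth
open Groth.Agent.Lib.Helper21.RectDepth Groth.Agent.Lib.Helper21.FlatOpen

universe u

variable {X Y : Scheme.{u}}

/-- the support of the restriction of `F` to the fibre over `y`. -/
abbrev fibSupp (f : X ⟶ Y) (F : X.Modules) (y : Y) : Set ↥(f.fiber y) :=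
  {z : ↥(f.fiber y) | Nontrivial (((Scheme.Modules.pullback (f.fiberι y)).obj F).presheaf.stalk z)}

section Chart

set_option maxHeartbeats 800000 in
theorem chart_max (f : X ⟶ Y) (F : X.Modules) [F.IsQuasicoherent]
    [∀ x : X, Module.Finite (X.presheaf.stalk x) (F.presheaf.stalk x)]
    {U : X.Opens} {V : Y.Opens} (hU : IsAffineOpen U) (hV : IsAffineOpen V) (hUV : U ≤ f ⁻¹ᵁ V)
    (y : Y) (ξ : f.fiber y) (hξU : f.fiberι y ξ ∈ U) (hξ : ξ ∈ fibSupp f F y)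
    (hmax : ∀ z ∈ fibSupp f F y, z ⤳ ξ → z = ξ) :
    letI : Algebra Γ(Y, V) Γ(X, U) := (f.appLE V U hUV).hom.toAlgebra
    hU.primeIdealOf ⟨f.fiberι y ξ, hξU⟩ ∈ Module.support Γ(X, U) Γ(F, U) ∧
    ∀ q₂ : PrimeSpectrum Γ(X, U), q₂ ≤ hU.primeIdealOf ⟨f.fiberι y ξ, hξU⟩ →
      q₂.asIdeal.comap (algebraMap Γ(Y, V) Γ(X, U)) =
        (hU.primeIdealOf ⟨f.fiberι y ξ, hξU⟩).asIdeal.comap (algebraMap Γ(Y, V) Γ(X, U)) →
      q₂ ∈ Module.support Γ(X, U) Γ(F, U) → q₂ = hU.primeIdealOf ⟨f.fiberι y ξ, hξU⟩ := by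
  letI : Algebra Γ(Y, V) Γ(X, U) := (f.appLE V U hUV).hom.toAlgebra
  have hcomap : ∀ (z : X) (hz : z ∈ U),
      (hU.primeIdealOf ⟨z, hz⟩).asIdeal.comap (algebraMap Γ(Y, V) Γ(X, U)) =
        (hV.primeIdealOf ⟨f z, hUV hz⟩).asIdeal := fun z hz =>
    congrArg PrimeSpectrum.asIdeal (IsAffineOpen.comap_primeIdealOf_appLE V hV U hU hUV hz)
  refine ⟨(nontrivial_stalk_iff_mem_support F hU _ hξU).1
    ((nontrivial_stalk_pullback_fiber_iff f F y ξ).1 hξ), ?_⟩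
  intro q₂ hle hc hsupp
  obtain ⟨x₂, hx₂U, rfl⟩ := exists_primeIdealOf_eq hU q₂
  have hsp : x₂ ⤳ f.fiberι y ξ := (primeIdealOf_le_iff hU hx₂U hξU).1 hle
  have hfx₂ : f x₂ = y := by
    rw [hcomap x₂ hx₂U, hcomap _ hξU] at hc
    have h1 : hV.primeIdealOf ⟨f x₂, hUV hx₂U⟩ = hV.primeIdealOf ⟨f (f.fiberι y ξ), hUV hξU⟩ :=
      PrimeSpectrum.ext hc
    have h2 := congrArg hV.fromSpec h1
    rw [hV.fromSpec_primeIdealOf, hV.fromSpec_primeIdealOf] at h2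
    exact h2.trans (apply_fiberι f y ξ)
  obtain ⟨z₂, hz₂⟩ := exists_fibre_point f x₂ y hfx₂
  subst hz₂
  have hz₂S : z₂ ∈ fibSupp f F y :=
    (nontrivial_stalk_pullback_fiber_iff f F y z₂).2
      ((nontrivial_stalk_iff_mem_support F hU _ hx₂U).2 hsupp)
  have hz₂ξ : z₂ ⤳ ξ := (f.fiberι y).isEmbedding.isInducing.specializes_iff.1 hsp
  have := hmax z₂ hz₂S hz₂ξ
  subst this
  rfl

end Chart

section Main

set_option maxHeartbeats 3200000 in
/-- the set of points of the base over which the support of the fibre module has an irreducible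
component of dimension `n` is open. -/
theorem isOpen_exists_component_dim (f : X ⟶ Y) [LocallyOfFinitePresentation f] (F : X.Modules)
    [SheafOfModules.IsFinitePresentation.{u} (R := X.ringCatSheaf) F]
    (hflat : FlatMod.IsFlatOver f F) (n : ℕ) :
    IsOpen {y : Y | ∃ Z ∈ irreducibleComponents ↥(fibSupp f F y),
      topologicalKrullDim ↥Z = (n : WithBot ℕ∞)} := by
  haveI : F.IsQuasicoherent :=
    Groth.Agent.Lib.Helper29.FPDict.isQuasicoherent_of_isFinitePresentation F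
  haveI : ∀ x : X, Module.Finite (X.presheaf.stalk x) (F.presheaf.stalk x) :=
    finite_stalk_of_fp F
  have hclosedF : IsClosed {x : X | Nontrivial (F.presheaf.stalk x)} := by
    have h1 := Groth.Agent.S0020.result X F inferInstance
    have h2 : CohB1.support F = {x : X | Nontrivial (F.presheaf.stalk x)} := by
      ext x
      exact not_subsingleton_iff_nontrivial
    rwa [h2] at h1
  have hclosed : ∀ y : Y, IsClosed (fibSupp f F y) := by
    intro y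
    have : fibSupp f F y = (f.fiberι y) ⁻¹' {x : X | Nontrivial (F.presheaf.stalk x)} := by
      ext z
      exact nontrivial_stalk_pullback_fiber_iff f F y z
    rw [this]
    exact hclosedF.preimage (f.fiberι y).continuous
  have hgen : ∀ (y : Y) (Z : Set ↥(fibSupp f F y)) (_ : Z ∈ irreducibleComponents ↥(fibSupp f F y)),
      ∃ ξ : f.fiber y, ξ ∈ fibSupp f F y ∧ (∀ z ∈ fibSupp f F y, z ⤳ ξ → z = ξ) ∧
        topologicalKrullDim ↥Z = ((tr f (f.fiberι y ξ) : ℕ) : WithBot ℕ∞) ∧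
        ∀ z ∈ Z, ξ ⤳ z.1 := by
    intro y Z hZ
    obtain ⟨ξ, hξS, himg, hmax⟩ :=
      exists_generic_of_mem_irreducibleComponents _ (hclosed y) Z hZ
    refine ⟨ξ, hξS, hmax, ?_, ?_⟩
    · rw [dim_eq_of_image_eq _ Z _ himg, dim_closure_fiber_point]
    · intro z hz
      rw [specializes_iff_mem_closure, ← himg]
      exact ⟨z, hz, rfl⟩
  rw [isOpen_iff_forall_mem_open]
  rintro y ⟨Z, hZ, hdim⟩
  obtain ⟨ξ, hξS, hmax, hdimξ, -⟩ := hgen y Z hZ
  have hfx : f (f.fiberι y ξ) = y := apply_fiberι f y ξ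
  obtain ⟨_, ⟨V, hV : IsAffineOpen V, rfl⟩, hfxV, -⟩ :=
    Y.isBasis_affineOpens.exists_subset_of_mem_open (Set.mem_univ (f (f.fiberι y ξ))) isOpen_univ
  obtain ⟨_, ⟨U, hU : IsAffineOpen U, rfl⟩, hxU, hUV⟩ :=
    X.isBasis_affineOpens.exists_subset_of_mem_open
      (show f.fiberι y ξ ∈ (f ⁻¹ᵁ V : Set X) from hfxV) (f ⁻¹ᵁ V).isOpen
  letI algCB : Algebra Γ(Y, V) Γ(X, U) := (f.appLE V U hUV).hom.toAlgebra
  letI mC : Module Γ(Y, V) Γ(F, U) := Module.compHom Γ(F, U) (algebraMap Γ(Y, V) Γ(X, U))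
  haveI : IsScalarTower Γ(Y, V) Γ(X, U) Γ(F, U) := IsScalarTower.of_compHom _ _ _
  haveI : Algebra.FinitePresentation Γ(Y, V) Γ(X, U) :=
    (HasRingHomProperty.appLE @LocallyOfFinitePresentation f inferInstance ⟨V, hV⟩ ⟨U, hU⟩ hUV :
      RingHom.FinitePresentation _)
  haveI : Module.FinitePresentation Γ(X, U) Γ(F, U) :=
    Groth.Agent.Lib.Helper29.FPDict.fp_of_isAffineOpen F hU
  have hfl : ∀ z : PrimeSpectrum Γ(X, U),
      Module.Flat Γ(Y, V) (LocalizedModule z.asIdeal.primeCompl Γ(F, U)) := by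
    intro z
    obtain ⟨z', hz'U, rfl⟩ := exists_primeIdealOf_eq hU z
    exact (isFlatOverAt_iff_flat_localized f F hU hV hUV z' hz'U).1 (hflat z')
  have hopen1 := isOpen_flat_rd Γ(Y, V) Γ(X, U) Γ(F, U) n
  have hopen2 := isOpen_fibSuppDim_le Γ(Y, V) Γ(X, U) Γ(F, U) n
  set Ur : Set (PrimeSpectrum Γ(X, U)) :=
    {q : PrimeSpectrum Γ(X, U) |
        Module.Flat Γ(Y, V) (LocalizedModule q.asIdeal.primeCompl Γ(F, U)) ∧
        (n : ℕ∞) ≤ LocCoh.depth (Localization.AtPrime q.asIdeal)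
          (EGA4.FibLocMod Γ(Y, V) Γ(X, U) q.asIdeal Γ(F, U)) +
            (tr (specMap Γ(Y, V) Γ(X, U)) q : ℕ∞)} ∩
      {q : PrimeSpectrum Γ(X, U) | q ∈ Module.support Γ(X, U) Γ(F, U) →
        fibSuppDim Γ(Y, V) Γ(X, U) Γ(F, U) q ≤ n} with hUr
  have hUro : IsOpen Ur := hopen1.inter hopen2
  set U₀ : Set X := Subtype.val '' ((fun y : U => hU.primeIdealOf y) ⁻¹' Ur) with hU₀
  have hU₀o : IsOpen U₀ :=
    U.2.isOpenMap_subtype_val _ (hUro.preimage hU.isoSpec.hom.continuous)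
  have hU₀U : U₀ ⊆ U := by
    rintro _ ⟨x', -, rfl⟩
    exact x'.2
  have hmemU₀ : ∀ (x' : X) (hx' : x' ∈ U), x' ∈ U₀ ↔ hU.primeIdealOf ⟨x', hx'⟩ ∈ Ur := by
    intro x' hx'
    constructor
    · rintro ⟨x'', hx'', hxx⟩
      have : x'' = ⟨x', hx'⟩ := Subtype.ext hxx
      subst this
      exact hx''
    · intro h
      exact ⟨⟨x', hx'⟩, h, rfl⟩
  have hkey : ∀ (y' : Y) (ξ' : f.fiber y') (hξ'U : f.fiberι y' ξ' ∈ U), ξ' ∈ fibSupp f F y' →
      (∀ z ∈ fibSupp f F y', z ⤳ ξ' → z = ξ') →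
      (f.fiberι y' ξ' ∈ U₀ ↔ tr f (f.fiberι y' ξ') = n) := by
    intro y' ξ' hξ'U hξ'S hmax'
    obtain ⟨hq, hqmax⟩ := chart_max f F hU hV hUV y' ξ' hξ'U hξ'S hmax'
    rw [hmemU₀ _ hξ'U, tr_chart f hU hV hUV _ hξ'U,
      ← tr_eq_iff Γ(Y, V) Γ(X, U) Γ(F, U) n _ hq hqmax]
    constructor
    · rintro ⟨⟨_, h1⟩, h2⟩
      exact ⟨h1, h2 hq⟩
    · rintro ⟨h1, h2⟩
      exact ⟨⟨hfl _, h1⟩, fun _ => h2⟩
  refine ⟨f '' (U₀ ∩ {x : X | Nontrivial (F.presheaf.stalk x)}), ?_,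
    isOpen_image_inter_support f F hflat U₀ hU₀o, ?_⟩
  · rintro _ ⟨x', ⟨hx'U₀, hx'F⟩, rfl⟩
    obtain ⟨z', hz'⟩ := exists_fibre_point f x' (f x') rfl
    have hz'S : z' ∈ fibSupp f F (f x') :=
      (nontrivial_stalk_pullback_fiber_iff f F _ z').2 (hz'.symm ▸ hx'F)
    obtain ⟨Z', hZ', hz'Z'⟩ := exists_mem_irreducibleComponents (fibSupp f F (f x')) z' hz'S
    obtain ⟨ξ', hξ'S, hmax', hdimξ', hspec⟩ := hgen (f x') Z' hZ'
    have h1 : ξ' ⤳ z' := hspec ⟨z', hz'S⟩ hz'Z'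
    have h2 : f.fiberι (f x') ξ' ⤳ x' := by
      have h2' := h1.map (f.fiberι (f x')).continuous
      rwa [hz'] at h2'
    have h3 : f.fiberι (f x') ξ' ∈ U₀ := h2.mem_open hU₀o hx'U₀
    refine ⟨Z', hZ', ?_⟩
    rw [hdimξ', (hkey (f x') ξ' (hU₀U h3) hξ'S hmax').1 h3]
  · refine ⟨f.fiberι y ξ, ⟨(hkey y ξ hxU hξS hmax).2 ?_,
      (nontrivial_stalk_pullback_fiber_iff f F y ξ).1 hξS⟩, hfx⟩
    rw [hdimξ] at hdim
    exact_mod_cast hdim

end Main

end Groth.Agent.Lib.Helper21.CompDim
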