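import Mathlib
import Groth.Prelude.Def_EGA4b
import Groth.Agent.Lib.Helper21.AssDim1
import Groth.Agent.Lib.Helper21.CompDim2

/-!
# Helper21 — AssDim2: scheme-level openness of the loci defined by the dimensions of the associated
points of the fibre modules and by the absence of embedded associated points through a point.
-/

set_option autoImplicit false
set_option backward.isDefEq.respectTransparency.types false

namespace Groth.Agent.Lib.Helper21.AssDim

open AlgebraicGeometry CategoryTheory IsLocalRing TensorProduct TopologicalSpace Topology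
open Groth.Agent.Lib.Helper21.FibreStalk Groth.Agent.Lib.Helper17.ModStalk
open Groth.Agent.Lib.Helper24.FibreDim Groth.Agent.Lib.Helper21.FlatDesc
open Groth.Agent.Lib.Helper21.MCop Groth.Agent.Lib.Helper21.FibDepth
open Groth.Agent.Lib.Helper21.RectDepth Groth.Agent.Lib.Helper21.FlatOpen
open Groth.Agent.Lib.Helper21.CompDim

universe u

variable {X Y : Scheme.{u}}

/-- `x` is an associated point of the restriction of `F` to the fibre of `f` through `x`, expressed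
on `X`: the module `F_x / 𝔪_{f x} F_x` has depth zero. -/
def AssX (f : X ⟶ Y) (F : X.Modules) (x : X) : Prop :=
  LocCoh.depth (X.presheaf.stalk x) (F.presheaf.stalk x ⧸
    (fibIdeal f x • (⊤ : Submodule (X.presheaf.stalk x) (F.presheaf.stalk x)))) = 0

section Chart

theorem assX_chart (f : X ⟶ Y) (F : X.Modules) [F.IsQuasicoherent]
    {U : X.Opens} {V : Y.Opens} (hU : IsAffineOpen U) (hV : IsAffineOpen V) (hUV : U ≤ f ⁻¹ᵁ V)
    (x : X) (hx : x ∈ U) :
    letI : Algebra Γ(Y, V) Γ(X, U) := (f.appLE V U hUV).hom.toAlgebra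
    AssX f F x ↔ LocCoh.depth (Localization.AtPrime (hU.primeIdealOf ⟨x, hx⟩).asIdeal)
      (EGA4.FibLocMod Γ(Y, V) Γ(X, U) (hU.primeIdealOf ⟨x, hx⟩).asIdeal Γ(F, U)) = 0 := by
  letI : Algebra Γ(Y, V) Γ(X, U) := (f.appLE V U hUV).hom.toAlgebra
  unfold AssX
  rw [← (semiEquiv_stalk f F hU hV hUV x hx).depth_eq]

set_option maxHeartbeats 800000 in
/-- generizations of a point in its fibre, in a chart. -/
theorem gen_chart (f : X ⟶ Y) {U : X.Opens} {V : Y.Opens} (hU : IsAffineOpen U)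
    (hV : IsAffineOpen V) (hUV : U ≤ f ⁻¹ᵁ V) (y : X) (hy : y ∈ U) (P : X → Prop)
    (Q : PrimeSpectrum Γ(X, U) → Prop)
    (hPQ : ∀ (x' : X) (hx' : x' ∈ U), P x' ↔ Q (hU.primeIdealOf ⟨x', hx'⟩)) :
    letI : Algebra Γ(Y, V) Γ(X, U) := (f.appLE V U hUV).hom.toAlgebra
    (∀ x' : X, x' ⤳ y → f x' = f y → P x') ↔
      (∀ z : PrimeSpectrum Γ(X, U), z ≤ hU.primeIdealOf ⟨y, hy⟩ →
        z.asIdeal.comap (algebraMap Γ(Y, V) Γ(X, U)) =
          (hU.primeIdealOf ⟨y, hy⟩).asIdeal.comap (algebraMap Γ(Y, V) Γ(X, U)) → Q z) := by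
  letI : Algebra Γ(Y, V) Γ(X, U) := (f.appLE V U hUV).hom.toAlgebra
  have hcomap : ∀ (z : X) (hz : z ∈ U),
      (hU.primeIdealOf ⟨z, hz⟩).asIdeal.comap (algebraMap Γ(Y, V) Γ(X, U)) =
        (hV.primeIdealOf ⟨f z, hUV hz⟩).asIdeal := fun z hz =>
    congrArg PrimeSpectrum.asIdeal (IsAffineOpen.comap_primeIdealOf_appLE V hV U hU hUV hz)
  constructor
  · intro h z hle hc
    obtain ⟨x', hx'U, rfl⟩ := exists_primeIdealOf_eq hU z
    apply (hPQ x' hx'U).1
    apply h x' ((primeIdealOf_le_iff hU hx'U hy).1 hle)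
    rw [hcomap x' hx'U, hcomap y hy] at hc
    have h1 : hV.primeIdealOf ⟨f x', hUV hx'U⟩ = hV.primeIdealOf ⟨f y, hUV hy⟩ :=
      PrimeSpectrum.ext hc
    have h2 := congrArg hV.fromSpec h1
    rw [hV.fromSpec_primeIdealOf, hV.fromSpec_primeIdealOf] at h2
    exact h2
  · intro h x' hsp hf
    have hx'U : x' ∈ U := hsp.mem_open U.2 hy
    apply (hPQ x' hx'U).2
    apply h _ ((primeIdealOf_le_iff hU hx'U hy).2 hsp)
    rw [hcomap x' hx'U, hcomap y hy]
    exact congrArg (fun t => (hV.primeIdealOf t).asIdeal) (Subtype.ext hf)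

end Chart

section Main

set_option maxHeartbeats 1600000 in
/-- **EGA IV 12.1.1 (iv)**. -/
theorem isOpen_assX_dims (f : X ⟶ Y) [LocallyOfFinitePresentation f] (F : X.Modules)
    [SheafOfModules.IsFinitePresentation.{u} (R := X.ringCatSheaf) F]
    (hflat : FlatMod.IsFlatOver f F) (Φ : Set ℕ) :
    IsOpen {x : X | ∀ x' : X, x' ⤳ x → f x' = f x → AssX f F x' → tr f x' ∈ Φ} := by
  haveI : F.IsQuasicoherent :=
    Groth.Agent.Lib.Helper29.FPDict.isQuasicoherent_of_isFinitePresentation F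
  rw [isOpen_iff_forall_mem_open]
  intro x hx
  obtain ⟨_, ⟨V, hV : IsAffineOpen V, rfl⟩, hfxV, -⟩ :=
    Y.isBasis_affineOpens.exists_subset_of_mem_open (Set.mem_univ (f x)) isOpen_univ
  obtain ⟨_, ⟨U, hU : IsAffineOpen U, rfl⟩, hxU, hUV⟩ :=
    X.isBasis_affineOpens.exists_subset_of_mem_open (show x ∈ (f ⁻¹ᵁ V : Set X) from hfxV)
      (f ⁻¹ᵁ V).isOpen
  letI algCB : Algebra Γ(Y, V) Γ(X, U) := (f.appLE V U hUV).hom.toAlgebra
  letI mC : Module Γ(Y, V) Γ(F, U) := Module.compHom Γ(F, U) (algebraMap Γ(Y, V) Γ(X, U))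
  haveI : IsScalarTower Γ(Y, V) Γ(X, U) Γ(F, U) := IsScalarTower.of_compHom _ _ _
  haveI : Algebra.FinitePresentation Γ(Y, V) Γ(X, U) :=
    (HasRingHomProperty.appLE @LocallyOfFinitePresentation f inferInstance ⟨V, hV⟩ ⟨U, hU⟩ hUV :
      RingHom.FinitePresentation _)
  haveI : Module.FinitePresentation Γ(X, U) Γ(F, U) :=
    Groth.Agent.Lib.Helper29.FPDict.fp_of_isAffineOpen F hU
  have hfl : ∀ z : PrimeSpectrum Γ(X, U),
      Module.Flat Γ(Y, V) (LocalizedModule z.asIdeal.primeCompl Γ(F, U)) := by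
    intro z
    obtain ⟨z', hz'U, rfl⟩ := exists_primeIdealOf_eq hU z
    exact (isFlatOverAt_iff_flat_localized f F hU hV hUV z' hz'U).1 (hflat z')
  have hopen := isOpen_assDims_mem Γ(Y, V) Γ(X, U) Γ(F, U) hfl Φ
  have key : ∀ (y : X) (hy : y ∈ U),
      (∀ x' : X, x' ⤳ y → f x' = f y → AssX f F x' → tr f x' ∈ Φ) ↔
      hU.primeIdealOf ⟨y, hy⟩ ∈ {q : PrimeSpectrum Γ(X, U) | ∀ z : PrimeSpectrum Γ(X, U), z ≤ q →
        z.asIdeal.comap (algebraMap Γ(Y, V) Γ(X, U)) =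
          q.asIdeal.comap (algebraMap Γ(Y, V) Γ(X, U)) →
        LocCoh.depth (Localization.AtPrime z.asIdeal)
          (EGA4.FibLocMod Γ(Y, V) Γ(X, U) z.asIdeal Γ(F, U)) = 0 →
        tr (specMap Γ(Y, V) Γ(X, U)) z ∈ Φ} := by
    intro y hy
    refine gen_chart f hU hV hUV y hy (fun x' => AssX f F x' → tr f x' ∈ Φ) _ ?_
    intro x' hx'
    rw [assX_chart f F hU hV hUV x' hx', tr_chart f hU hV hUV x' hx']
  refine ⟨Subtype.val '' ((fun y : U => hU.primeIdealOf y) ⁻¹'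
    {q : PrimeSpectrum Γ(X, U) | ∀ z : PrimeSpectrum Γ(X, U), z ≤ q →
        z.asIdeal.comap (algebraMap Γ(Y, V) Γ(X, U)) =
          q.asIdeal.comap (algebraMap Γ(Y, V) Γ(X, U)) →
        LocCoh.depth (Localization.AtPrime z.asIdeal)
          (EGA4.FibLocMod Γ(Y, V) Γ(X, U) z.asIdeal Γ(F, U)) = 0 →
        tr (specMap Γ(Y, V) Γ(X, U)) z ∈ Φ}), ?_, ?_, ?_⟩
  · rintro _ ⟨y, hy, rfl⟩
    exact (key y.1 y.2).2 hy
  · exact U.2.isOpenMap_subtype_val _ (hopen.preimage hU.isoSpec.hom.continuous)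
  · exact ⟨⟨x, hxU⟩, (key x hxU).1 hx, rfl⟩

set_option maxHeartbeats 1600000 in
/-- **EGA IV 12.1.1 (iii)**. -/
theorem isOpen_assX_noEmbedded (f : X ⟶ Y) [LocallyOfFinitePresentation f] (F : X.Modules)
    [SheafOfModules.IsFinitePresentation.{u} (R := X.ringCatSheaf) F]
    (hflat : FlatMod.IsFlatOver f F) :
    IsOpen {x : X | ∀ x' : X, x' ⤳ x → f x' = f x → AssX f F x' →
      ∀ x'' : X, x'' ⤳ x' → f x'' = f x' → AssX f F x'' → x'' = x'} := by
  haveI : F.IsQuasicoherent :=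
    Groth.Agent.Lib.Helper29.FPDict.isQuasicoherent_of_isFinitePresentation F
  rw [isOpen_iff_forall_mem_open]
  intro x hx
  obtain ⟨_, ⟨V, hV : IsAffineOpen V, rfl⟩, hfxV, -⟩ :=
    Y.isBasis_affineOpens.exists_subset_of_mem_open (Set.mem_univ (f x)) isOpen_univ
  obtain ⟨_, ⟨U, hU : IsAffineOpen U, rfl⟩, hxU, hUV⟩ :=
    X.isBasis_affineOpens.exists_subset_of_mem_open (show x ∈ (f ⁻¹ᵁ V : Set X) from hfxV)
      (f ⁻¹ᵁ V).isOpen
  letI algCB : Algebra Γ(Y, V) Γ(X, U) := (f.appLE V U hUV).hom.toAlgebra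
  letI mC : Module Γ(Y, V) Γ(F, U) := Module.compHom Γ(F, U) (algebraMap Γ(Y, V) Γ(X, U))
  haveI : IsScalarTower Γ(Y, V) Γ(X, U) Γ(F, U) := IsScalarTower.of_compHom _ _ _
  haveI : Algebra.FinitePresentation Γ(Y, V) Γ(X, U) :=
    (HasRingHomProperty.appLE @LocallyOfFinitePresentation f inferInstance ⟨V, hV⟩ ⟨U, hU⟩ hUV :
      RingHom.FinitePresentation _)
  haveI : Module.FinitePresentation Γ(X, U) Γ(F, U) :=
    Groth.Agent.Lib.Helper29.FPDict.fp_of_isAffineOpen F hU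
  have hfl : ∀ z : PrimeSpectrum Γ(X, U),
      Module.Flat Γ(Y, V) (LocalizedModule z.asIdeal.primeCompl Γ(F, U)) := by
    intro z
    obtain ⟨z', hz'U, rfl⟩ := exists_primeIdealOf_eq hU z
    exact (isFlatOverAt_iff_flat_localized f F hU hV hUV z' hz'U).1 (hflat z')
  have hopen := isOpen_noEmbedded Γ(Y, V) Γ(X, U) Γ(F, U) hfl
  have key : ∀ (y : X) (hy : y ∈ U),
      (∀ x' : X, x' ⤳ y → f x' = f y → AssX f F x' →
        ∀ x'' : X, x'' ⤳ x' → f x'' = f x' → AssX f F x'' → x'' = x') ↔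
      hU.primeIdealOf ⟨y, hy⟩ ∈ {q : PrimeSpectrum Γ(X, U) | ∀ z : PrimeSpectrum Γ(X, U), z ≤ q →
        z.asIdeal.comap (algebraMap Γ(Y, V) Γ(X, U)) =
          q.asIdeal.comap (algebraMap Γ(Y, V) Γ(X, U)) →
        LocCoh.depth (Localization.AtPrime z.asIdeal)
          (EGA4.FibLocMod Γ(Y, V) Γ(X, U) z.asIdeal Γ(F, U)) = 0 →
        ∀ z' : PrimeSpectrum Γ(X, U), z' ≤ z →
          z'.asIdeal.comap (algebraMap Γ(Y, V) Γ(X, U)) =
            z.asIdeal.comap (algebraMap Γ(Y, V) Γ(X, U)) →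
          LocCoh.depth (Localization.AtPrime z'.asIdeal)
            (EGA4.FibLocMod Γ(Y, V) Γ(X, U) z'.asIdeal Γ(F, U)) = 0 →
          z' = z} := by
    intro y hy
    refine gen_chart f hU hV hUV y hy (fun x' => AssX f F x' →
        ∀ x'' : X, x'' ⤳ x' → f x'' = f x' → AssX f F x'' → x'' = x') _ ?_
    intro x' hx'
    rw [assX_chart f F hU hV hUV x' hx']
    refine imp_congr_right fun _ => ?_
    refine gen_chart f hU hV hUV x' hx' (fun x'' => AssX f F x'' → x'' = x') _ ?_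
    intro x'' hx''
    rw [assX_chart f F hU hV hUV x'' hx'']
    refine imp_congr_right fun _ => ?_
    constructor
    · rintro rfl
      rfl
    · intro h
      have h2 := congrArg hU.fromSpec h
      rw [hU.fromSpec_primeIdealOf, hU.fromSpec_primeIdealOf] at h2
      exact h2
  refine ⟨Subtype.val '' ((fun y : U => hU.primeIdealOf y) ⁻¹'
    {q : PrimeSpectrum Γ(X, U) | ∀ z : PrimeSpectrum Γ(X, U), z ≤ q →
        z.asIdeal.comap (algebraMap Γ(Y, V) Γ(X, U)) =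
          q.asIdeal.comap (algebraMap Γ(Y, V) Γ(X, U)) →
        LocCoh.depth (Localization.AtPrime z.asIdeal)
          (EGA4.FibLocMod Γ(Y, V) Γ(X, U) z.asIdeal Γ(F, U)) = 0 →
        ∀ z' : PrimeSpectrum Γ(X, U), z' ≤ z →
          z'.asIdeal.comap (algebraMap Γ(Y, V) Γ(X, U)) =
            z.asIdeal.comap (algebraMap Γ(Y, V) Γ(X, U)) →
          LocCoh.depth (Localization.AtPrime z'.asIdeal)
            (EGA4.FibLocMod Γ(Y, V) Γ(X, U) z'.asIdeal Γ(F, U)) = 0 →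
          z' = z}), ?_, ?_, ?_⟩
  · rintro _ ⟨y, hy, rfl⟩
    exact (key y.1 y.2).2 hy
  · exact U.2.isOpenMap_subtype_val _ (hopen.preimage hU.isoSpec.hom.continuous)
  · exact ⟨⟨x, hxU⟩, (key x hxU).1 hx, rfl⟩

end Main

end Groth.Agent.Lib.Helper21.AssDim
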