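import Mathlib
import Groth.Prelude.Def_EGA4b
import Groth.Prelude.Def_FDesc
import Groth.Agent.Lib.Helper21.AssDim2
import Groth.Agent.S5752
import Groth.Agent.S0020

/-!
# Helper21 — AssDim3: dictionary between associated points of the fibre modules and the predicate
`AssX`; EGA IV 12.1.1 (iii), (iv) and 12.2.1-type consequences for proper morphisms.
-/

set_option autoImplicit false
set_option backward.isDefEq.respectTransparency.types false

namespace Groth.Agent.Lib.Helper21.AssDim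

open AlgebraicGeometry CategoryTheory IsLocalRing TensorProduct TopologicalSpace Topology
open Groth.Agent.Lib.Helper21.FibreStalk Groth.Agent.Lib.Helper17.ModStalk
open Groth.Agent.Lib.Helper24.FibreDim Groth.Agent.Lib.Helper21.FlatDesc
open Groth.Agent.Lib.Helper21.MCop Groth.Agent.Lib.Helper21.FibDepth
open Groth.Agent.Lib.Helper21.RectDepth Groth.Agent.Lib.Helper21.FlatOpen
open Groth.Agent.Lib.Helper21.CompDim

universe u

variable {X Y : Scheme.{u}}

section Dict

theorem mem_ass_fiber_iff (f : X ⟶ Y) [LocallyOfFiniteType f] (F : X.Modules) [F.IsQuasicoherent]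
    [∀ x : X, Module.Finite (X.presheaf.stalk x) (F.presheaf.stalk x)] (y : Y) (z : f.fiber y) :
    z ∈ AssSch.Ass ((Scheme.Modules.pullback (f.fiberι y)).obj F) ↔ AssX f F (f.fiberι y z) := by
  haveI : IsLocallyNoetherian (f.fiber y) := (exists_dimData_fiber f y).1
  haveI := finite_stalk_pullback (f.fiberι y) F z
  have SE := semiEquiv_fiber_point f F y z
  unfold AssX
  rw [SE.depth_eq, Groth.Agent.S5752.result]
  rfl

theorem specializes_fiber_iff (f : X ⟶ Y) (y : Y) (z z' : f.fiber y) :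
    z ∈ closure ({z'} : Set ↥(f.fiber y)) ↔ f.fiberι y z' ⤳ f.fiberι y z := by
  rw [← specializes_iff_mem_closure, (f.fiberι y).isEmbedding.isInducing.specializes_iff]

/-- the set of S4982 in terms of `AssX`. -/
theorem assDims_through_iff (f : X ⟶ Y) [LocallyOfFiniteType f] (F : X.Modules)
    [F.IsQuasicoherent] [∀ x : X, Module.Finite (X.presheaf.stalk x) (F.presheaf.stalk x)]
    (Φ : Finset ℕ) (x : X) :
    (∀ z ∈ AssSch.Ass ((Scheme.Modules.pullback (f.fiberι (f x))).obj F),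
        f.asFiber x ∈ closure {z} →
        ∃ n ∈ Φ, topologicalKrullDim ↥(closure ({z} : Set ↥(f.fiber (f x)))) = (n : WithBot ℕ∞)) ↔
      (∀ x' : X, x' ⤳ x → f x' = f x → AssX f F x' → tr f x' ∈ (Φ : Set ℕ)) := by
  constructor
  · intro h x' hsp hf hA
    obtain ⟨z, hz⟩ := exists_fibre_point f x' (f x) hf
    have hzA : z ∈ AssSch.Ass ((Scheme.Modules.pullback (f.fiberι (f x))).obj F) :=
      (mem_ass_fiber_iff f F (f x) z).2 (hz.symm ▸ hA)
    have hcl : f.asFiber x ∈ closure ({z} : Set ↥(f.fiber (f x))) := by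
      rw [specializes_fiber_iff, hz, f.fiberι_asFiber]
      exact hsp
    obtain ⟨n, hn, hdim⟩ := h z hzA hcl
    rw [dim_closure_fiber_point f (f x) z, hz] at hdim
    have : tr f x' = n := by exact_mod_cast hdim
    rw [this]
    exact hn
  · intro h z hzA hcl
    rw [specializes_fiber_iff, f.fiberι_asFiber] at hcl
    have h1 := h (f.fiberι (f x) z) hcl (apply_fiberι f (f x) z)
      ((mem_ass_fiber_iff f F (f x) z).1 hzA)
    exact ⟨tr f (f.fiberι (f x) z), h1, dim_closure_fiber_point f (f x) z⟩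

/-- the set of S4983 in terms of `AssX`. -/
theorem noEmbedded_through_iff (f : X ⟶ Y) [LocallyOfFiniteType f] (F : X.Modules)
    [F.IsQuasicoherent] [∀ x : X, Module.Finite (X.presheaf.stalk x) (F.presheaf.stalk x)]
    (x : X) :
    (∀ z ∈ AssSch.Ass ((Scheme.Modules.pullback (f.fiberι (f x))).obj F),
        f.asFiber x ∈ closure {z} →
        ∀ z' ∈ AssSch.Ass ((Scheme.Modules.pullback (f.fiberι (f x))).obj F),
          z ∈ closure {z'} → z' = z) ↔
      (∀ x' : X, x' ⤳ x → f x' = f x → AssX f F x' →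
        ∀ x'' : X, x'' ⤳ x' → f x'' = f x' → AssX f F x'' → x'' = x') := by
  constructor
  · intro h x' hsp hf hA x'' hsp' hf' hA'
    obtain ⟨z, hz⟩ := exists_fibre_point f x' (f x) hf
    obtain ⟨z', hz'⟩ := exists_fibre_point f x'' (f x) (hf'.trans hf)
    have hzA : z ∈ AssSch.Ass ((Scheme.Modules.pullback (f.fiberι (f x))).obj F) :=
      (mem_ass_fiber_iff f F (f x) z).2 (hz.symm ▸ hA)
    have hz'A : z' ∈ AssSch.Ass ((Scheme.Modules.pullback (f.fiberι (f x))).obj F) :=
      (mem_ass_fiber_iff f F (f x) z').2 (hz'.symm ▸ hA')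
    have hcl : f.asFiber x ∈ closure ({z} : Set ↥(f.fiber (f x))) := by
      rw [specializes_fiber_iff, hz, f.fiberι_asFiber]
      exact hsp
    have hcl' : z ∈ closure ({z'} : Set ↥(f.fiber (f x))) := by
      rw [specializes_fiber_iff, hz, hz']
      exact hsp'
    have := h z hzA hcl z' hz'A hcl'
    rw [← hz, ← hz', this]
  · intro h z hzA hcl z' hz'A hcl'
    rw [specializes_fiber_iff, f.fiberι_asFiber] at hcl
    rw [specializes_fiber_iff] at hcl'
    have h1 := h (f.fiberι (f x) z) hcl (apply_fiberι f (f x) z)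
      ((mem_ass_fiber_iff f F (f x) z).1 hzA) (f.fiberι (f x) z') hcl'
      ((apply_fiberι f (f x) z').trans (apply_fiberι f (f x) z).symm)
      ((mem_ass_fiber_iff f F (f x) z').1 hz'A)
    exact (f.fiberι (f x)).isEmbedding.injective h1

/-- the condition of S4964 in terms of `AssX`. -/
theorem assDims_fiber_iff (f : X ⟶ Y) [LocallyOfFiniteType f] (F : X.Modules)
    [F.IsQuasicoherent] [∀ x : X, Module.Finite (X.presheaf.stalk x) (F.presheaf.stalk x)]
    (Φ : Finset ℕ) (y : Y) :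
    (∀ z ∈ AssSch.Ass ((Scheme.Modules.pullback (f.fiberι y)).obj F), ∃ n ∈ Φ,
        topologicalKrullDim ↥(closure ({z} : Set ↥(f.fiber y))) = (n : WithBot ℕ∞)) ↔
      (∀ x' : X, f x' = y → AssX f F x' → tr f x' ∈ (Φ : Set ℕ)) := by
  constructor
  · intro h x' hf hA
    obtain ⟨z, hz⟩ := exists_fibre_point f x' y hf
    have hzA : z ∈ AssSch.Ass ((Scheme.Modules.pullback (f.fiberι y)).obj F) :=
      (mem_ass_fiber_iff f F y z).2 (hz.symm ▸ hA)
    obtain ⟨n, hn, hdim⟩ := h z hzA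
    rw [dim_closure_fiber_point f y z, hz] at hdim
    have : tr f x' = n := by exact_mod_cast hdim
    rw [this]
    exact hn
  · intro h z hzA
    have h1 := h (f.fiberι y z) (apply_fiberι f y z) ((mem_ass_fiber_iff f F y z).1 hzA)
    exact ⟨tr f (f.fiberι y z), h1, dim_closure_fiber_point f y z⟩

/-- `NoEmbedded` for the fibre module in terms of `AssX`. -/
theorem noEmbedded_fiber_iff (f : X ⟶ Y) [LocallyOfFiniteType f] (F : X.Modules)
    [F.IsQuasicoherent] [∀ x : X, Module.Finite (X.presheaf.stalk x) (F.presheaf.stalk x)]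
    (y : Y) :
    AssSch.NoEmbedded ((Scheme.Modules.pullback (f.fiberι y)).obj F) ↔
      (∀ x' : X, f x' = y → AssX f F x' →
        ∀ x'' : X, x'' ⤳ x' → f x'' = y → AssX f F x'' → x'' = x') := by
  constructor
  · intro h x' hf hA x'' hsp hf' hA'
    obtain ⟨z, hz⟩ := exists_fibre_point f x' y hf
    obtain ⟨z', hz'⟩ := exists_fibre_point f x'' y hf'
    have hzA : z ∈ AssSch.Ass ((Scheme.Modules.pullback (f.fiberι y)).obj F) :=
      (mem_ass_fiber_iff f F y z).2 (hz.symm ▸ hA)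
    have hz'A : z' ∈ AssSch.Ass ((Scheme.Modules.pullback (f.fiberι y)).obj F) :=
      (mem_ass_fiber_iff f F y z').2 (hz'.symm ▸ hA')
    have hsp' : z' ⤳ z := by
      rw [← (f.fiberι y).isEmbedding.isInducing.specializes_iff, hz, hz']
      exact hsp
    have := h z hzA z' hz'A hsp'
    rw [← hz, ← hz', this]
  · intro h z hzA z' hz'A hsp
    have h1 := h (f.fiberι y z) (apply_fiberι f y z) ((mem_ass_fiber_iff f F y z).1 hzA)
      (f.fiberι y z') (hsp.map (f.fiberι y).continuous) (apply_fiberι f y z')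
      ((mem_ass_fiber_iff f F y z').1 hz'A)
    exact ((f.fiberι y).isEmbedding.injective h1).symm

end Dict

section Comp

theorem isClosed_fibSupp (f : X ⟶ Y) (F : X.Modules)
    [SheafOfModules.IsFinitePresentation.{u} (R := X.ringCatSheaf) F] (y : Y) :
    IsClosed (fibSupp f F y) := by
  haveI : F.IsQuasicoherent :=
    Groth.Agent.Lib.Helper29.FPDict.isQuasicoherent_of_isFinitePresentation F
  haveI : ∀ x : X, Module.Finite (X.presheaf.stalk x) (F.presheaf.stalk x) :=
    finite_stalk_of_fp F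
  have hclosedF : IsClosed {x : X | Nontrivial (F.presheaf.stalk x)} := by
    have h1 := Groth.Agent.S0020.result X F inferInstance
    have h2 : CohB1.support F = {x : X | Nontrivial (F.presheaf.stalk x)} := by
      ext x
      exact not_subsingleton_iff_nontrivial
    rwa [h2] at h1
  have : fibSupp f F y = (f.fiberι y) ⁻¹' {x : X | Nontrivial (F.presheaf.stalk x)} := by
    ext z
    exact nontrivial_stalk_pullback_fiber_iff f F y z
  rw [this]
  exact hclosedF.preimage (f.fiberι y).continuous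

theorem exists_generic_fiber (f : X ⟶ Y) [LocallyOfFiniteType f] (F : X.Modules)
    [SheafOfModules.IsFinitePresentation.{u} (R := X.ringCatSheaf) F] (y : Y)
    (Z : Set ↥(fibSupp f F y)) (hZ : Z ∈ irreducibleComponents ↥(fibSupp f F y)) :
    ∃ ξ : f.fiber y, ξ ∈ fibSupp f F y ∧ (∀ z ∈ fibSupp f F y, z ⤳ ξ → z = ξ) ∧
      topologicalKrullDim ↥Z = ((tr f (f.fiberι y ξ) : ℕ) : WithBot ℕ∞) ∧
      ∀ z ∈ Z, ξ ⤳ z.1 := by
  obtain ⟨ξ, hξS, himg, hmax⟩ :=
    exists_generic_of_mem_irreducibleComponents _ (isClosed_fibSupp f F y) Z hZ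
  refine ⟨ξ, hξS, hmax, ?_, ?_⟩
  · rw [dim_eq_of_image_eq _ Z _ himg, dim_closure_fiber_point]
  · intro z hz
    rw [specializes_iff_mem_closure, ← himg]
    exact ⟨z, hz, rfl⟩

set_option maxHeartbeats 1600000 in
set_option synthInstance.maxHeartbeats 200000 in
/-- a maximal point of the support of a fibre module is an associated point. -/
theorem assX_of_max (f : X ⟶ Y) [LocallyOfFiniteType f] (F : X.Modules)
    [SheafOfModules.IsFinitePresentation.{u} (R := X.ringCatSheaf) F] (y : Y) (ξ : f.fiber y)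
    (hξ : ξ ∈ fibSupp f F y) (hmax : ∀ z ∈ fibSupp f F y, z ⤳ ξ → z = ξ) :
    AssX f F (f.fiberι y ξ) := by
  haveI : F.IsQuasicoherent :=
    Groth.Agent.Lib.Helper29.FPDict.isQuasicoherent_of_isFinitePresentation F
  haveI : ∀ x : X, Module.Finite (X.presheaf.stalk x) (F.presheaf.stalk x) :=
    finite_stalk_of_fp F
  obtain ⟨_, ⟨V, hV : IsAffineOpen V, rfl⟩, hfxV, -⟩ :=
    Y.isBasis_affineOpens.exists_subset_of_mem_open (Set.mem_univ (f (f.fiberι y ξ))) isOpen_univ
  obtain ⟨_, ⟨U, hU : IsAffineOpen U, rfl⟩, hxU, hUV⟩ :=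
    X.isBasis_affineOpens.exists_subset_of_mem_open
      (show f.fiberι y ξ ∈ (f ⁻¹ᵁ V : Set X) from hfxV) (f ⁻¹ᵁ V).isOpen
  letI algCB : Algebra Γ(Y, V) Γ(X, U) := (f.appLE V U hUV).hom.toAlgebra
  haveI : Algebra.FiniteType Γ(Y, V) Γ(X, U) := f.finiteType_appLE hV hU hUV
  haveI : Module.FinitePresentation Γ(X, U) Γ(F, U) :=
    Groth.Agent.Lib.Helper29.FPDict.fp_of_isAffineOpen F hU
  obtain ⟨hq, hqmax⟩ := chart_max f F hU hV hUV y ξ hxU hξ hmax
  have h0 := supportDim_fibLocMod_eq_zero Γ(Y, V) Γ(X, U) Γ(F, U) _ hq hqmax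
  obtain ⟨s, d, hs, hd, hle, -⟩ := exists_nat_fibSuppDim Γ(Y, V) Γ(X, U) Γ(F, U) _ hq
  rw [h0] at hs
  have hs0 : s = 0 := by exact_mod_cast hs.symm
  have hd0 : d = 0 := by omega
  rw [assX_chart f F hU hV hUV _ hxU, hd, hd0]
  rfl

end Comp

section Main

/-- **EGA IV 12.1.1 (iv)** (S4982). -/
theorem isOpen_assDims_through (f : X ⟶ Y) [LocallyOfFinitePresentation f] (F : X.Modules)
    [SheafOfModules.IsFinitePresentation.{u} (R := X.ringCatSheaf) F]
    (hflat : FlatMod.IsFlatOver f F) (Φ : Finset ℕ) :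
    IsOpen {x : X | ∀ z ∈ AssSch.Ass ((Scheme.Modules.pullback (f.fiberι (f x))).obj F),
      f.asFiber x ∈ closure {z} →
      ∃ n ∈ Φ, topologicalKrullDim ↥(closure ({z} : Set ↥(f.fiber (f x)))) =
        (n : WithBot ℕ∞)} := by
  haveI : F.IsQuasicoherent :=
    Groth.Agent.Lib.Helper29.FPDict.isQuasicoherent_of_isFinitePresentation F
  haveI : ∀ x : X, Module.Finite (X.presheaf.stalk x) (F.presheaf.stalk x) :=
    finite_stalk_of_fp F
  have h := isOpen_assX_dims f F hflat (Φ : Set ℕ)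
  convert h using 1
  ext x
  exact assDims_through_iff f F Φ x

/-- **EGA IV 12.1.1 (iii)** (S4983). -/
theorem isOpen_noEmbedded_through (f : X ⟶ Y) [LocallyOfFinitePresentation f] (F : X.Modules)
    [SheafOfModules.IsFinitePresentation.{u} (R := X.ringCatSheaf) F]
    (hflat : FlatMod.IsFlatOver f F) :
    IsOpen {x : X | ∀ z ∈ AssSch.Ass ((Scheme.Modules.pullback (f.fiberι (f x))).obj F),
      f.asFiber x ∈ closure {z} →
      ∀ z' ∈ AssSch.Ass ((Scheme.Modules.pullback (f.fiberι (f x))).obj F),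
        z ∈ closure {z'} → z' = z} := by
  haveI : F.IsQuasicoherent :=
    Groth.Agent.Lib.Helper29.FPDict.isQuasicoherent_of_isFinitePresentation F
  haveI : ∀ x : X, Module.Finite (X.presheaf.stalk x) (F.presheaf.stalk x) :=
    finite_stalk_of_fp F
  have h := isOpen_assX_noEmbedded f F hflat
  convert h using 1
  ext x
  exact noEmbedded_through_iff f F x

/-- **EGA IV 12.2.1-type statement** (S4964). -/
theorem isOpen_assDims_fiber (f : X ⟶ Y) [IsProper f] [LocallyOfFinitePresentation f]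
    (F : X.Modules) [SheafOfModules.IsFinitePresentation.{u} (R := X.ringCatSheaf) F]
    (hflat : FlatMod.IsFlatOver f F) (Φ : Finset ℕ) :
    IsOpen {y : Y | ∀ z ∈ AssSch.Ass ((Scheme.Modules.pullback (f.fiberι y)).obj F), ∃ n ∈ Φ,
      topologicalKrullDim ↥(closure ({z} : Set ↥(f.fiber y))) = (n : WithBot ℕ∞)} := by
  haveI : F.IsQuasicoherent :=
    Groth.Agent.Lib.Helper29.FPDict.isQuasicoherent_of_isFinitePresentation F
  haveI : ∀ x : X, Module.Finite (X.presheaf.stalk x) (F.presheaf.stalk x) :=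
    finite_stalk_of_fp F
  have hEo := isOpen_assX_dims f F hflat (Φ : Set ℕ)
  have hcl := f.isClosedMap _ hEo.isClosed_compl
  convert hcl.isOpen_compl using 1
  ext y
  rw [Set.mem_setOf_eq, assDims_fiber_iff]
  constructor
  · rintro h ⟨x, hx, rfl⟩
    exact hx (fun x' _ hf hA => h x' hf hA)
  · intro h x' hf hA
    by_contra hn
    apply h
    refine ⟨x', ?_, hf⟩
    intro hx'
    exact hn (hx' x' specializes_rfl rfl hA)

theorem isOpen_noEmbedded_fiber (f : X ⟶ Y) [IsProper f] [LocallyOfFinitePresentation f]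
    (F : X.Modules) [SheafOfModules.IsFinitePresentation.{u} (R := X.ringCatSheaf) F]
    (hflat : FlatMod.IsFlatOver f F) :
    IsOpen {y : Y | AssSch.NoEmbedded ((Scheme.Modules.pullback (f.fiberι y)).obj F)} := by
  haveI : F.IsQuasicoherent :=
    Groth.Agent.Lib.Helper29.FPDict.isQuasicoherent_of_isFinitePresentation F
  haveI : ∀ x : X, Module.Finite (X.presheaf.stalk x) (F.presheaf.stalk x) :=
    finite_stalk_of_fp F
  have hEo := isOpen_assX_noEmbedded f F hflat
  have hcl := f.isClosedMap _ hEo.isClosed_compl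
  convert hcl.isOpen_compl using 1
  ext y
  rw [Set.mem_setOf_eq, noEmbedded_fiber_iff]
  constructor
  · rintro h ⟨x, hx, rfl⟩
    exact hx (fun x' _ hf hA x'' hsp' hf' hA' => h x' hf hA x'' hsp' (hf'.trans hf) hA')
  · intro h x' hf hA x'' hsp hf' hA'
    by_contra hn
    apply h
    refine ⟨x', ?_, hf⟩
    intro hx'
    exact hn (hx' x' specializes_rfl rfl hA x'' hsp (hf'.trans hf.symm) hA')

set_option maxHeartbeats 1600000 in
/-- **EGA IV 12.2.1-type statement** (S4966). -/
theorem isOpen_noEmbedded_componentDims_eq (f : X ⟶ Y) [IsProper f]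
    [LocallyOfFinitePresentation f]
    (F : X.Modules) [SheafOfModules.IsFinitePresentation.{u} (R := X.ringCatSheaf) F]
    (hflat : FlatMod.IsFlatOver f F) (Φ : Finset ℕ) :
    IsOpen {y : Y | AssSch.NoEmbedded ((Scheme.Modules.pullback (f.fiberι y)).obj F) ∧
      (fun Z : Set ↥(fibSupp f F y) => topologicalKrullDim ↥Z) ''
        irreducibleComponents ↥(fibSupp f F y) =
        (fun n : ℕ => (n : WithBot ℕ∞)) '' (Φ : Set ℕ)} := by
  haveI : F.IsQuasicoherent :=
    Groth.Agent.Lib.Helper29.FPDict.isQuasicoherent_of_isFinitePresentation F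
  haveI : ∀ x : X, Module.Finite (X.presheaf.stalk x) (F.presheaf.stalk x) :=
    finite_stalk_of_fp F
  have h1 := isOpen_noEmbedded_fiber f F hflat
  have h2 := isOpen_assDims_fiber f F hflat Φ
  have h3 : IsOpen {y : Y | ∀ n ∈ Φ, ∃ Z ∈ irreducibleComponents ↥(fibSupp f F y),
      topologicalKrullDim ↥Z = (n : WithBot ℕ∞)} := by
    have h31 : ∀ n ∈ Φ, IsOpen {y : Y | ∃ Z ∈ irreducibleComponents ↥(fibSupp f F y),
        topologicalKrullDim ↥Z = (n : WithBot ℕ∞)} := fun n _ =>
      isOpen_exists_component_dim f F hflat n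
    have h32 := isOpen_biInter_finset h31
    convert h32 using 1
    ext y
    simp only [Set.mem_setOf_eq, Set.mem_iInter]
  have hgenA : ∀ (y : Y) (Z : Set ↥(fibSupp f F y)),
      Z ∈ irreducibleComponents ↥(fibSupp f F y) →
      ∃ ξ : f.fiber y, ξ ∈ AssSch.Ass ((Scheme.Modules.pullback (f.fiberι y)).obj F) ∧
        topologicalKrullDim ↥Z = topologicalKrullDim ↥(closure ({ξ} : Set ↥(f.fiber y))) ∧
        ∀ z ∈ Z, ξ ⤳ z.1 := by
    intro y Z hZ
    obtain ⟨ξ, hξS, hmax, hdim, hspec⟩ := exists_generic_fiber f F y Z hZ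
    refine ⟨ξ, (mem_ass_fiber_iff f F y ξ).2 (assX_of_max f F y ξ hξS hmax), ?_, hspec⟩
    rw [hdim, dim_closure_fiber_point]
  convert (h1.inter h2).inter h3 using 1
  ext y
  simp only [Set.mem_setOf_eq, Set.mem_inter_iff]
  constructor
  · rintro ⟨hNE, himg⟩
    refine ⟨⟨hNE, ?_⟩, ?_⟩
    · intro z hzA
      have hzS : z ∈ fibSupp f F y := by
        show Nontrivial _
        by_contra hn
        rw [not_nontrivial_iff_subsingleton] at hn
        haveI := hn
        exact not_isAssociatedPrime_of_subsingleton hzA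
      obtain ⟨Z, hZ, hzZ⟩ := exists_mem_irreducibleComponents (fibSupp f F y) z hzS
      obtain ⟨ξ, hξA, hdim, hspec⟩ := hgenA y Z hZ
      have hξz : ξ ⤳ z := hspec ⟨z, hzS⟩ hzZ
      have hzξ : z = ξ := hNE z hzA ξ hξA hξz
      subst hzξ
      have hmem : topologicalKrullDim ↥Z ∈
          (fun Z : Set ↥(fibSupp f F y) => topologicalKrullDim ↥Z) ''
            irreducibleComponents ↥(fibSupp f F y) := ⟨Z, hZ, rfl⟩
      rw [himg] at hmem
      obtain ⟨n, hn, hnZ⟩ := hmem
      exact ⟨n, Finset.mem_coe.1 hn, by rw [← hdim]; exact hnZ.symm⟩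
    · intro n hn
      have hmem : (n : WithBot ℕ∞) ∈ (fun n : ℕ => (n : WithBot ℕ∞)) '' (Φ : Set ℕ) :=
        ⟨n, Finset.mem_coe.2 hn, rfl⟩
      rw [← himg] at hmem
      obtain ⟨Z, hZ, hZn⟩ := hmem
      exact ⟨Z, hZ, hZn⟩
  · rintro ⟨⟨hNE, h64⟩, h65⟩
    refine ⟨hNE, ?_⟩
    apply Set.Subset.antisymm
    · rintro _ ⟨Z, hZ, rfl⟩
      obtain ⟨ξ, hξA, hdim, -⟩ := hgenA y Z hZ
      obtain ⟨n, hn, hdimξ⟩ := h64 ξ hξA
      refine ⟨n, Finset.mem_coe.2 hn, ?_⟩
      show (n : WithBot ℕ∞) = topologicalKrullDim ↥Z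
      rw [hdim, hdimξ]
    · rintro _ ⟨n, hn, rfl⟩
      obtain ⟨Z, hZ, hZn⟩ := h65 n (Finset.mem_coe.1 hn)
      exact ⟨Z, hZ, hZn⟩

end Main

end Groth.Agent.Lib.Helper21.AssDim
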