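import Groth.Agent.Lib.Helper17.Serre2
import Groth.Agent.Lib.Helper17.CohKer
import Groth.Agent.Lib.Helper28.ModIsoCover
import Groth.Agent.Lib.Helper29.QCohStalk2
import Mathlib

/-!
# A monomorphism `P ⟶ G` from a cyclic quasi-coherent module on an affine scheme

On an affine scheme `Y`, let `P`, `G` be quasi-coherent, `p` a global section generating `Γ(P, ⊤)` and `g` a global
section of `G` with the same annihilator as `p`.  Then there is a monomorphism `P ⟶ G` (sending `p` to `g`).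
-/

set_option backward.isDefEq.respectTransparency.types false
set_option linter.style.haveILetI false
set_option autoImplicit false
universe u
open CategoryTheory CategoryTheory.Limits AlgebraicGeometry Opposite TopologicalSpace

namespace Groth.Agent.Lib.Helper21.AssMono

open Groth.Agent.Lib.Helper28.QCohLoc Groth.Agent.Lib.Helper17.Serre

variable {X : Scheme.{u}}

/-- a morphism out of a module localizing on the affine open `U` which vanishes on the sections over `U` vanishes on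
the sections over all smaller opens -/
theorem app_eq_zero_of_le {G₁ G₂ : X.Modules} (κ : G₁ ⟶ G₂) {U : X.Opens} (hU : IsAffineOpen U)
    (h₁ : IsLocOn G₁ U) (h0 : ∀ k : Γ(G₁, U), κ.app U k = 0) {W : X.Opens} (hW : W ≤ U) (y : Γ(G₁, W)) :
    κ.app W y = 0 := by
  have hpt : ∀ q : W, ∃ (V : X.Opens) (hV : V ≤ W), q.1 ∈ V ∧ res G₂ hV (κ.app W y) = res G₂ hV 0 := by
    intro q
    obtain ⟨r, hr, hqr⟩ := hU.exists_basicOpen_le (V := W) ⟨q.1, q.2⟩ (hW q.2)
    obtain ⟨k, m, hkm⟩ := h₁.surj r (res G₁ hr y)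
    refine ⟨X.basicOpen r, hr, hqr, ?_⟩
    have h1 : ((resO (X.basicOpen_le r) r) ^ k • res G₂ hr (κ.app W y) : Γ(G₂, X.basicOpen r)) = 0 := by
      rw [← app_res, ← Scheme.Modules.Hom.app_smul, hkm, app_res, h0, res_zero]
    rw [res_zero]
    exact ((isUnit_ur r).pow k).smul_eq_zero.1 h1
  choose V hV hqV hres using hpt
  refine eq_of_locally_eq G₂ V W hV ?_ _ _ hres
  intro q hq
  exact Opens.mem_iSup.mpr ⟨⟨q, hq⟩, hqV ⟨q, hq⟩⟩

theorem hom_eq_zero_of_app_top [IsAffine X] {G₁ G₂ : X.Modules} [G₁.IsQuasicoherent] (κ : G₁ ⟶ G₂)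
    (h0 : ∀ k : Γ(G₁, ⊤), κ.app ⊤ k = 0) : κ = 0 := by
  apply Scheme.Modules.hom_ext
  intro W
  ext y
  exact app_eq_zero_of_le κ (isAffineOpen_top X) (isLocOn_of_isQuasicoherent G₁ (isAffineOpen_top X)) h0 le_top y

/-- **Lemma C.** -/
theorem exists_mono_of_sections [IsAffine X] (P G : X.Modules) [P.IsQuasicoherent] [G.IsQuasicoherent]
    (p : Γ(P, ⊤)) (g : Γ(G, ⊤))
    (hsurj : ∀ q : Γ(P, ⊤), ∃ a : Γ(X, ⊤), a • p = q)
    (hiff : ∀ a : Γ(X, ⊤), a • p = 0 ↔ a • g = 0) :
    ∃ φ : P ⟶ G, Mono φ := by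
  have hπ : ∀ a : Γ(X, ⊤), (ofSection P p).app ⊤ (show Γ(Coh.structureModule X, ⊤) from a) = a • p := by
    intro a
    rw [ofSection_app, res_self]
  have hμ : ∀ a : Γ(X, ⊤), (ofSection G g).app ⊤ (show Γ(Coh.structureModule X, ⊤) from a) = a • g := by
    intro a
    rw [ofSection_app, res_self]
  have hcov : ∀ x : X, ∃ _ : Unit, x ∈ (⊤ : X.Opens) := fun x => ⟨(), trivial⟩
  haveI hepi : Epi (ofSection P p) := by
    refine epi_of_affine_cover (ofSection P p) (fun _ : Unit => (⊤ : X.Opens)) (fun _ => isAffineOpen_top X) hcov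
      (fun _ => isLocOn_of_isQuasicoherent P (isAffineOpen_top X)) ?_
    intro _ q
    obtain ⟨a, ha⟩ := hsurj q
    exact ⟨a, (hπ a).trans ha⟩
  haveI : (kernel (ofSection P p) : X.Modules).IsQuasicoherent :=
    Groth.Agent.Lib.Helper17.CohKer.isQuasicoherent_kernel (ofSection P p)
  have hzero : kernel.ι (ofSection P p) ≫ ofSection G g = 0 := by
    apply hom_eq_zero_of_app_top
    intro k
    have h1 := Groth.Agent.Lib.Helper17.CohKer.app_kernel_ι_app (ofSection P p) ⊤ k
    set a : Γ(X, ⊤) := (kernel.ι (ofSection P p)).app ⊤ k with ha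
    have h2 : a • p = 0 := (hπ a).symm.trans h1
    have h3 : a • g = 0 := (hiff a).1 h2
    exact (hμ a).trans h3
  let φ : P ⟶ G := (Abelian.epiIsCokernelOfKernel _ (kernelIsKernel (ofSection P p))).desc
    (CokernelCofork.ofπ (ofSection G g) hzero)
  have hφ : ofSection P p ≫ φ = ofSection G g :=
    (Abelian.epiIsCokernelOfKernel _ (kernelIsKernel (ofSection P p))).fac
      (CokernelCofork.ofπ (ofSection G g) hzero) WalkingParallelPair.one
  refine ⟨φ, ?_⟩
  refine mono_of_affine_cover φ (fun _ : Unit => (⊤ : X.Opens)) (fun _ => isAffineOpen_top X) hcov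
    (fun _ => isLocOn_of_isQuasicoherent P (isAffineOpen_top X))
    (fun _ => isLocOn_of_isQuasicoherent G (isAffineOpen_top X)) ?_
  intro _
  have key : ∀ q : Γ(P, ⊤), φ.app ⊤ q = 0 → q = 0 := by
    intro q hq
    obtain ⟨a, rfl⟩ := hsurj q
    have h1 : φ.app ⊤ (a • p) = a • g := by
      rw [← hπ a, ← hμ a, ← hφ]
      rfl
    rw [h1] at hq
    exact (hiff a).2 hq
  intro q q' hqq'
  have h0 : φ.app ⊤ (q - q') = 0 := by
    have : φ.app ⊤ (q - q') = φ.app ⊤ q - φ.app ⊤ q' := map_sub _ _ _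
    rw [this, hqq', sub_self]
  exact sub_eq_zero.1 (key _ h0)

end Groth.Agent.Lib.Helper21.AssMono
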