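import Groth.Agent.Lib.Helper21.AssMono1
import Groth.Agent.Lib.Helper29.QCohExact
import Groth.Prelude.Def_FDesc
import Mathlib

/-!
# Associated points and monomorphisms from the structure sheaf of the reduced closure
-/

set_option backward.isDefEq.respectTransparency.types false
set_option linter.style.haveILetI false
set_option autoImplicit false
universe u
open CategoryTheory CategoryTheory.Limits AlgebraicGeometry Opposite TopologicalSpace

noncomputable section

namespace Groth.Agent.Lib.Helper21.AssMono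

open Groth.Agent.Lib.Helper28.QCohLoc Groth.Agent.Lib.Helper17.Serre Groth.Agent.Lib.Helper29.QCohStalk

variable {X : Scheme.{u}}

section one

variable (I : X.IdealSheafData)

/-- the unit section of `O_X / I` over `W` -/
abbrev one (W : X.Opens) : Γ(ClSub.quotMod I, W) :=
  (show Γ(ClSub.quotMod I, W) from (1 : Γ(I.subscheme, I.subschemeι ⁻¹ᵁ W)))

theorem smul_one (W : X.Opens) (a : Γ(X, W)) :
    (a • one I W : Γ(ClSub.quotMod I, W)) =
      (show Γ(ClSub.quotMod I, W) from (I.subschemeι.app W a : Γ(I.subscheme, I.subschemeι ⁻¹ᵁ W))) := by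
  have h := toSubscheme_app I W a
  have h1 : (ClSub.toSubscheme I).app W (show Γ(Coh.structureModule X, W) from a) =
      a • (ClSub.toSubscheme I).app W (show Γ(Coh.structureModule X, W) from (1 : Γ(X, W))) := by
    rw [← Scheme.Modules.Hom.app_smul]
    congr 1
    exact (mul_one a).symm
  rw [toSubscheme_app I W 1, map_one] at h1
  exact h1.symm.trans h

theorem exists_smul_one_eq {W : X.Opens} (hW : IsAffineOpen W) (q : Γ(ClSub.quotMod I, W)) :
    ∃ a : Γ(X, W), (a • one I W : Γ(ClSub.quotMod I, W)) = q := by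
  obtain ⟨a, ha⟩ := I.subschemeι_app_surjective ⟨W, hW⟩ (show Γ(I.subscheme, I.subschemeι ⁻¹ᵁ W) from q)
  exact ⟨a, (smul_one I W a).trans ha⟩

theorem smul_one_eq_zero_iff {W : X.Opens} (hW : IsAffineOpen W) (a : Γ(X, W)) :
    (a • one I W : Γ(ClSub.quotMod I, W)) = 0 ↔ a ∈ I.ideal ⟨W, hW⟩ := by
  rw [← I.ker_subschemeι_app ⟨W, hW⟩, RingHom.mem_ker, smul_one]
  rfl

end one

/-- the ideal of the reduced closure of a point over an affine open containing it -/
theorem vanishingIdeal_closure_ideal (x : X) {W : X.Opens} (hW : IsAffineOpen W) (hx : x ∈ W) :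
    (Scheme.IdealSheafData.vanishingIdeal ⟨closure {x}, isClosed_closure⟩).ideal ⟨W, hW⟩ =
      germPrime W x hx := by
  obtain ⟨p, rfl⟩ := exists_fromSpec_eq hW hx
  rw [germPrime_fromSpec, Scheme.IdealSheafData.vanishingIdeal_ideal]
  have h : (hW.fromSpec ⁻¹' (closure {hW.fromSpec p})) = closure ({p} : Set (Spec Γ(X, W))) := by
    rw [hW.fromSpec.isOpenEmbedding.isOpenMap.preimage_closure_eq_closure_preimage hW.fromSpec.continuous]
    congr 1
    ext y
    simp only [Set.mem_preimage, Set.mem_singleton_iff]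
    exact hW.fromSpec.isOpenEmbedding.injective.eq_iff
  have h' : PrimeSpectrum.vanishingIdeal (hW.fromSpec ⁻¹' (closure {hW.fromSpec p})) =
      PrimeSpectrum.vanishingIdeal (closure ({p} : Set (PrimeSpectrum Γ(X, W)))) := congrArg _ h
  exact h'.trans ((PrimeSpectrum.vanishingIdeal_closure {p}).trans (PrimeSpectrum.vanishingIdeal_singleton p))

theorem app_smul_restrict {Y : Scheme.{u}} (f : Y ⟶ X) [IsOpenImmersion f] {M N : X.Modules}
    (ψ : M.restrict f ⟶ N.restrict f) (V : Y.Opens) (a : Γ(X, f ''ᵁ V)) (m : Γ(M, f ''ᵁ V)) :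
    ψ.app V (show Γ(M.restrict f, V) from (a • m : Γ(M, f ''ᵁ V))) =
      (show Γ(N.restrict f, V) from
        (a • (show Γ(N, f ''ᵁ V) from ψ.app V (show Γ(M.restrict f, V) from m)) : Γ(N, f ''ᵁ V))) := by
  have h2 : (f.appIso V).inv ((f.appIso V).hom a) = a := by
    rw [← CommRingCat.comp_apply, Iso.hom_inv_id]
    rfl
  have h1 := Scheme.Modules.Hom.app_smul ψ ((f.appIso V).hom a) (show Γ(M.restrict f, V) from m)
  calc ψ.app V (show Γ(M.restrict f, V) from (a • m : Γ(M, f ''ᵁ V)))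
      = ψ.app V (show Γ(M.restrict f, V) from
          (((f.appIso V).inv ((f.appIso V).hom a)) • m : Γ(M, f ''ᵁ V))) := by rw [h2]
    _ = (show Γ(N.restrict f, V) from
        ((((f.appIso V).inv ((f.appIso V).hom a))) •
          (show Γ(N, f ''ᵁ V) from ψ.app V (show Γ(M.restrict f, V) from m)) : Γ(N, f ''ᵁ V))) := h1
    _ = _ := by rw [h2]

/-- **(⇐)**, for an ideal sheaf which is the prime of `x` over every affine open containing `x` -/
theorem isWeakAssPoint_of_mono (I : X.IdealSheafData) (x : X)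
    (hI : ∀ (W : X.Opens) (hW : IsAffineOpen W) (hx : x ∈ W), I.ideal ⟨W, hW⟩ = germPrime W x hx)
    (F : X.Modules) [F.IsQuasicoherent] (U : X.Opens) (hx : x ∈ U)
    (ψ : (ClSub.quotMod I).restrict U.ι ⟶ F.restrict U.ι) [Mono ψ] : Curv2.IsWeakAssPoint F x := by
  obtain ⟨_, ⟨V, hV, rfl⟩, hxV, -⟩ :=
    (U : Scheme.{u}).isBasis_affineOpens.exists_subset_of_mem_open (Set.mem_univ (⟨x, hx⟩ : U)) isOpen_univ
  have hW' : IsAffineOpen (U.ι ''ᵁ V) := hV.image_of_isOpenImmersion U.ι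
  have hxW' : x ∈ U.ι ''ᵁ V := ⟨⟨x, hx⟩, hxV, rfl⟩
  have hinj : Function.Injective (ψ.app V) := injective_app_of_mono ψ inferInstance V
  refine isWeakAssPoint_of_ann_eq_germPrime hW' (isLocOn_of_isQuasicoherent F hW') x hxW'
    (show Γ(F, U.ι ''ᵁ V) from ψ.app V (show Γ((ClSub.quotMod I).restrict U.ι, V) from one I (U.ι ''ᵁ V))) ?_
  rw [← hI _ hW' hxW']
  ext a
  rw [mem_ann, ← smul_one_eq_zero_iff I hW' a]
  have hlin := app_smul_restrict U.ι ψ V a (one I (U.ι ''ᵁ V))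
  constructor
  · intro h
    apply hinj
    refine hlin.trans (h.trans ?_)
    exact (map_zero _).symm
  · intro h
    refine hlin.symm.trans ?_
    rw [h]
    exact map_zero _

/-- **(⇒)**, for an ideal sheaf which is the prime of `x` over every affine open containing `x` -/
theorem exists_mono_of_isWeakAssPoint [IsLocallyNoetherian X] (I : X.IdealSheafData) (x : X)
    (hI : ∀ (W : X.Opens) (hW : IsAffineOpen W) (hx : x ∈ W), I.ideal ⟨W, hW⟩ = germPrime W x hx)
    (F : X.Modules) [F.IsQuasicoherent] (h : Curv2.IsWeakAssPoint F x) :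
    ∃ (U : X.Opens), x ∈ U ∧ ∃ ψ : (ClSub.quotMod I).restrict U.ι ⟶ F.restrict U.ι, Mono ψ := by
  obtain ⟨U, hU, hxU⟩ : ∃ U : X.Opens, IsAffineOpen U ∧ x ∈ U := by
    obtain ⟨_, ⟨U, hU, rfl⟩, hxU, -⟩ :=
      X.isBasis_affineOpens.exists_subset_of_mem_open (Set.mem_univ x) isOpen_univ
    exact ⟨U, hU, hxU⟩
  refine ⟨U, hxU, ?_⟩
  haveI : IsAffine (U : Scheme.{u}) := hU
  have hW' : IsAffineOpen (U.ι ''ᵁ ⊤) := (isAffineOpen_top (U : Scheme.{u})).image_of_isOpenImmersion U.ι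
  have hxW' : x ∈ U.ι ''ᵁ ⊤ := ⟨⟨x, hxU⟩, trivial, rfl⟩
  haveI : IsNoetherianRing Γ(X, U.ι ''ᵁ ⊤) := IsLocallyNoetherian.component_noetherian ⟨_, hW'⟩
  obtain ⟨m, hm⟩ := exists_ann_eq_germPrime_of_isWeakAssPoint hW' (isLocOn_of_isQuasicoherent F hW') x hxW' h
  haveI : ((ClSub.quotMod I).restrict U.ι).IsQuasicoherent := inferInstance
  haveI : (F.restrict U.ι).IsQuasicoherent := inferInstance
  refine exists_mono_of_sections ((ClSub.quotMod I).restrict U.ι) (F.restrict U.ι)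
    (show Γ((ClSub.quotMod I).restrict U.ι, ⊤) from one I (U.ι ''ᵁ ⊤))
    (show Γ(F.restrict U.ι, ⊤) from m) ?_ ?_
  · intro q
    obtain ⟨a, ha⟩ := exists_smul_one_eq I hW' (show Γ(ClSub.quotMod I, U.ι ''ᵁ ⊤) from q)
    refine ⟨(U.ι.appIso ⊤).hom a, ?_⟩
    have h2 : (U.ι.appIso ⊤).inv ((U.ι.appIso ⊤).hom a) = a := by
      rw [← CommRingCat.comp_apply, Iso.hom_inv_id]
      rfl
    change ((U.ι.appIso ⊤).inv ((U.ι.appIso ⊤).hom a) • one I (U.ι ''ᵁ ⊤) :
      Γ(ClSub.quotMod I, U.ι ''ᵁ ⊤)) = q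
    rw [h2]
    exact ha
  · intro a
    change ((U.ι.appIso ⊤).inv a • one I (U.ι ''ᵁ ⊤) : Γ(ClSub.quotMod I, U.ι ''ᵁ ⊤)) = 0 ↔
      ((U.ι.appIso ⊤).inv a • m : Γ(F, U.ι ''ᵁ ⊤)) = 0
    rw [smul_one_eq_zero_iff I hW', hI _ hW' hxW', ← hm, mem_ann]

end Groth.Agent.Lib.Helper21.AssMono
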