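import Groth.Agent.Lib.Helper21.ZarLocal
import Groth.Agent.Lib.Helper21.UniLocal
import Groth.Agent.Lib.Helper9.BlowIntegral
import Groth.Agent.Lib.Helper9.BlowProper7

set_option autoImplicit false
set_option backward.isDefEq.respectTransparency.types false
set_option linter.style.haveILetI false
universe u
open CategoryTheory CategoryTheory.Limits AlgebraicGeometry Opposite TopologicalSpace

namespace Groth.Agent.Lib.Helper21.BlowConn

open Groth.Agent.Lib.Helper29.EffCart Groth.Agent.Lib.Helper9.ABlow

/-- the complement of an effective Cartier divisor is dense. -/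
theorem closure_compl_support {X : Scheme.{u}} (D : X.IdealSheafData)
    (hD : BlowUp.IsEffCartierIdeal D) : closure ((D.support.compl : X.Opens) : Set X) = Set.univ := by
  set V : X.Opens := D.support.compl with hV
  haveI : QuasiCompact V.ι :=
    quasiCompact_awayFrom_ι D
      (fun x => by obtain ⟨W, hx, f, _, hf⟩ := hD x; exact ⟨W, hx, f, hf⟩)
  have hker : V.ι.ker = ⊥ := ker_ι_compl_support_eq_bot _ hD
  have h1 := Scheme.Hom.support_ker V.ι
  rw [hker, Scheme.IdealSheafData.support_bot, Scheme.Opens.range_ι] at h1
  exact h1.symm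

/-- a blow-up in the zero ideal is empty. -/
theorem isEmpty_of_isBlowUp_bot {X Y : Scheme.{u}} (b : X ⟶ Y)
    (hb : BlowUp.IsBlowUp b (⊥ : Y.IdealSheafData)) : IsEmpty X := by
  have h := closure_compl_support _ hb.1
  have hsupp : (((⊥ : Y.IdealSheafData).comap b).support.compl : X.Opens) = ⊥ := by
    ext x
    simp only [Opens.coe_bot, Set.mem_empty_iff_false, iff_false]
    intro hx
    apply hx
    show x ∈ ((⊥ : Y.IdealSheafData).comap b).support
    rw [Scheme.IdealSheafData.support_comap, Scheme.IdealSheafData.support_bot]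
    trivial
  rw [hsupp] at h
  simp only [Opens.coe_bot, closure_empty] at h
  exact ⟨fun x => (h ▸ Set.mem_univ x : x ∈ (∅ : Set X))⟩

end Groth.Agent.Lib.Helper21.BlowConn
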