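import Groth.Agent.Lib.Helper21.BlowConn

set_option autoImplicit false
set_option backward.isDefEq.respectTransparency.types false
set_option linter.style.haveILetI false
universe u
open CategoryTheory CategoryTheory.Limits AlgebraicGeometry Opposite TopologicalSpace

namespace Groth.Agent.Lib.Helper21.BlowConn

open Groth.Agent.Lib.Helper29.EffCart Groth.Agent.Lib.Helper9.ABlow
open Groth.Agent.Lib.Helper9.BlowIntegral

/-- The ring of global functions of a blow-up of a unibranch Noetherian local domain is local. -/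
theorem isLocalRing_Γ_of_isBlowUp (A : Type u) [CommRing A] [IsDomain A] [IsNoetherianRing A]
    [IsLocalRing A] (hA : CAlg2.IsUnibranch A) {X : Scheme.{u}}
    (b : X ⟶ Spec (CommRingCat.of A)) [IsProper b]
    (𝓘 : (Spec (CommRingCat.of A)).IdealSheafData) (hI : 𝓘 ≠ ⊥) (hb : BlowUp.IsBlowUp b 𝓘) :
    IsLocalRing Γ(X, ⊤) := by
  obtain ⟨hint, hgen, -⟩ := main 𝓘 hI b hb
  haveI := hint
  set U' : (Spec (CommRingCat.of A)).Opens := 𝓘.support.compl with hU'
  haveI hiso : IsIso (b ∣_ U') := IsBlowUp.isIso_morphismRestrict hb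
  set V : X.Opens := b ⁻¹ᵁ U' with hV
  haveI hoi : IsOpenImmersion (V.ι ≫ b) := by
    rw [← morphismRestrict_ι]; infer_instance
  obtain ⟨y, hy⟩ := exists_not_mem_support 𝓘 hI
  obtain ⟨v, -⟩ := (ConcreteCategory.bijective_of_isIso (b ∣_ U').base).2 ⟨y, hy⟩
  set η := genericPoint X with hη
  have hηV : η ∈ V :=
    ((genericPoint_spec X).mem_open_set_iff V.isOpen).2 ⟨_, Set.mem_univ _, v.2⟩
  -- the stalk map at the generic point is an isomorphism
  haveI hst : IsIso (b.stalkMap η) := by
    let v' : (V : Scheme.{u}) := ⟨η, hηV⟩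
    have h1 := Scheme.Hom.stalkMap_comp V.ι b v'
    have h2 : IsIso ((V.ι ≫ b).stalkMap v') := inferInstance
    haveI : IsIso (V.ι.stalkMap v') := inferInstance
    haveI : IsIso (b.stalkMap (V.ι v') ≫ V.ι.stalkMap v') := by
      rw [h1] at h2; exact h2
    exact IsIso.of_isIso_comp_right (b.stalkMap (V.ι v')) (V.ι.stalkMap v')
  -- the relevant maps
  let gX : Γ(X, ⊤) ⟶ X.presheaf.stalk η := X.presheaf.germ ⊤ η trivial
  let φ : CommRingCat.of A ⟶ Γ(X, ⊤) := (Scheme.ΓSpecIso (CommRingCat.of A)).inv ≫ b.appTop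
  let τ : CommRingCat.of A ⟶ (Spec (CommRingCat.of A)).presheaf.stalk (b η) :=
    (Scheme.ΓSpecIso (CommRingCat.of A)).inv ≫
      (Spec (CommRingCat.of A)).presheaf.germ ⊤ (b η) trivial
  have hrel : φ ≫ gX = τ ≫ b.stalkMap η := by
    simp only [φ, τ, gX, Category.assoc]
    congr 1
    exact (Scheme.Hom.germ_stalkMap b ⊤ η trivial).symm
  have hrel' : ∀ a : A, gX.hom (φ.hom a) = (b.stalkMap η).hom (τ.hom a) := fun a =>
    congrArg (fun k => k.hom a) hrel
  have hstbij : Function.Bijective (b.stalkMap η).hom :=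
    ConcreteCategory.bijective_of_isIso (b.stalkMap η)
  -- the stalk of `Spec A` at `b η` is the localization of `A`
  letI algAS : Algebra A ((Spec (CommRingCat.of A)).presheaf.stalk (b η)) := τ.hom.toAlgebra
  haveI hloc : IsLocalization.AtPrime ((Spec (CommRingCat.of A)).presheaf.stalk (b η))
      (b η).asIdeal := StructureSheaf.IsLocalization.to_stalk (R := A) (b η)
  -- algebra structures
  letI algAB : Algebra A Γ(X, ⊤) := φ.hom.toAlgebra
  letI algBK : Algebra Γ(X, ⊤) X.functionField := gX.hom.toAlgebra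
  letI algAK : Algebra A X.functionField := (gX.hom.comp φ.hom).toAlgebra
  haveI : IsScalarTower A Γ(X, ⊤) X.functionField := IsScalarTower.of_algebraMap_eq (fun a => rfl)
  haveI : Algebra.IsIntegral A Γ(X, ⊤) :=
    ⟨(Groth.Agent.Lib.Helper21.ProperGamma.finite_appTop (CommRingCat.of A) X b).to_isIntegral⟩
  have hinjB : Function.Injective (algebraMap Γ(X, ⊤) X.functionField) :=
    germ_injective_of_isIntegral X (U := ⊤) η trivial
  have hprime0 : ∀ d : A, d ∈ (b η).asIdeal.primeCompl → d ≠ 0 := by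
    intro d hd h0
    exact hd (h0 ▸ (b η).asIdeal.zero_mem)
  have hinjA : Function.Injective (algebraMap A X.functionField) := by
    rw [injective_iff_map_eq_zero]
    intro a ha
    have h1 : (b.stalkMap η).hom (τ.hom a) = 0 := by rw [← hrel']; exact ha
    have h2 : τ.hom a = 0 := hstbij.1 (by rw [h1, map_zero])
    obtain ⟨m, hm⟩ := (IsLocalization.map_eq_zero_iff (b η).asIdeal.primeCompl
      ((Spec (CommRingCat.of A)).presheaf.stalk (b η)) a).mp h2
    exact (mul_eq_zero.mp hm).resolve_left (hprime0 m.1 m.2)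
  have hfrac : ∀ y : X.functionField, ∃ d : A, d ≠ 0 ∧ ∃ d₂ : A,
      algebraMap A X.functionField d * y = algebraMap A X.functionField d₂ := by
    intro y
    obtain ⟨w, rfl⟩ := hstbij.2 y
    obtain ⟨⟨a, d⟩, had⟩ := IsLocalization.surj (b η).asIdeal.primeCompl w
    refine ⟨d.1, hprime0 d.1 d.2, a, ?_⟩
    show gX.hom (φ.hom d.1) * _ = gX.hom (φ.hom a)
    rw [hrel', hrel', ← map_mul, mul_comm]
    exact congrArg (b.stalkMap η).hom had
  exact Groth.Agent.Lib.Helper21.UniLocal.isLocalRing_of_unibranch_of_frac hA hinjB hinjA hfrac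

end Groth.Agent.Lib.Helper21.BlowConn

namespace Groth.Agent.Lib.Helper21.BlowConn

/-- The closed fibre of a blow-up of a unibranch Noetherian local domain is preconnected. -/
theorem preconnectedSpace_closedFibre_of_isBlowUp (A : Type u) [CommRing A] [IsDomain A]
    [IsNoetherianRing A] [IsLocalRing A] (hA : CAlg2.IsUnibranch A) {X : Scheme.{u}}
    (b : X ⟶ Spec (CommRingCat.of A))
    (𝓘 : (Spec (CommRingCat.of A)).IdealSheafData) (hb : BlowUp.IsBlowUp b 𝓘) :
    PreconnectedSpace ↥(b.fiber (IsLocalRing.closedPoint A)) := by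
  by_cases hI : 𝓘 = ⊥
  · subst hI
    haveI := isEmpty_of_isBlowUp_bot b hb
    haveI : IsEmpty ↥(b.fiber (IsLocalRing.closedPoint A)) :=
      Function.isEmpty (b.fiberι (IsLocalRing.closedPoint A))
    infer_instance
  · have hfin : BlowUp.IsFiniteTypeIdeal 𝓘 := by
      intro U
      haveI : IsNoetherianRing Γ(Spec (CommRingCat.of A), U.1) :=
        IsLocallyNoetherian.component_noetherian U
      exact (isNoetherianRing_iff_ideal_fg _).mp inferInstance _
    haveI : IsProper b := Groth.Agent.Lib.Helper9.BlowProper.isProper_of_isBlowUp hb hfin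
    haveI := isLocalRing_Γ_of_isBlowUp A hA b 𝓘 hI hb
    have hpre := Groth.Agent.Lib.Helper21.ZarConn.isPreconnected_closedFibre_of_isLocalRing
      (CommRingCat.of A) b
    haveI h2 : PreconnectedSpace ↥(b ⁻¹' {IsLocalRing.closedPoint (CommRingCat.of A)}) :=
      isPreconnected_iff_preconnectedSpace.mp hpre
    exact (b.fiberHomeo (IsLocalRing.closedPoint A)).symm.surjective.denseRange.preconnectedSpace
      (b.fiberHomeo (IsLocalRing.closedPoint A)).symm.continuous

end Groth.Agent.Lib.Helper21.BlowConn
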