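import Mathlib
import Groth.Agent.Lib.Helper21.CMAff1
import Groth.Agent.Lib.Helper21.FlatDescQ2
import Groth.Agent.Lib.Helper21.FlatDescZ

/-!
# Helper21 — CMAff2: flatness over the polynomial ring `R[T₁..Tₙ]` (local, essentially finitely
presented situation) when the `Tᵢ` act through a sequence regular on the closed fibre.
-/

set_option autoImplicit false

namespace Groth.Agent.Lib.Helper21.CMAff

open IsLocalRing MvPolynomial RingTheory.Sequence TensorProduct
open Groth.Agent.Lib.Helper21.FlatDesc
open scoped Pointwise

universe u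

set_option maxHeartbeats 1600000 in
set_option synthInstance.maxHeartbeats 200000 in
/-- **Flatness over `R[T₁..Tₙ]`**: `R → S` local, `S` essentially finitely presented and flat over
`R`, `f₁..fₙ ∈ m_S` regular on the (Noetherian) closed fibre `S / m_R S`. Then `S` is flat over
`R[T₁..Tₙ]`, `Tᵢ ↦ fᵢ`. -/
theorem flat_mvPolynomial_of_fibre (R S : Type u) [CommRing R] [CommRing S]
    [IsLocalRing R] [IsLocalRing S] [Algebra R S] [IsLocalHom (algebraMap R S)]
    (S₀ : Type u) [CommRing S₀] [Algebra R S₀] [Algebra.FinitePresentation R S₀] [Algebra S₀ S]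
    [IsScalarTower R S₀ S] (T₀ : Submonoid S₀) [IsLocalization T₀ S]
    [Module.Flat R S] (n : ℕ) (f : Fin n → S) (hf : ∀ i, f i ∈ maximalIdeal S)
    [IsNoetherianRing (S ⧸ (maximalIdeal R).map (algebraMap R S))]
    (hreg : IsWeaklyRegular (S ⧸ (maximalIdeal R).map (algebraMap R S))
      (List.ofFn fun i => Ideal.Quotient.mk ((maximalIdeal R).map (algebraMap R S)) (f i))) :
    letI : Algebra (MvPolynomial (Fin n) R) S := (aeval (R := R) f).toRingHom.toAlgebra
    Module.Flat (MvPolynomial (Fin n) R) S := by
  letI aXS : Algebra (MvPolynomial (Fin n) R) S := (aeval (R := R) f).toRingHom.toAlgebra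
  haveI twXS : IsScalarTower R (MvPolynomial (Fin n) R) S := IsScalarTower.of_algebraMap_eq fun r =>
    ((aeval (R := R) f).commutes r).symm
  have hX : ∀ i, algebraMap (MvPolynomial (Fin n) R) S (X i) = f i := fun i => aeval_X f i
  -- fibre flatness
  have hfibQ := flat_mvPolynomial_fibre R S n (fun i => by rw [hX]; exact hf i)
    (by simp_rw [hX]; exact hreg)
  haveI hfib : Module.Flat
      (MvPolynomial (Fin n) R ⧸ (maximalIdeal R).map (algebraMap R (MvPolynomial (Fin n) R)))
      ((MvPolynomial (Fin n) R ⧸ (maximalIdeal R).map (algebraMap R (MvPolynomial (Fin n) R)))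
        ⊗[MvPolynomial (Fin n) R] S) :=
    flat_quot_tensor_of_flat_quot_smul _ S hfibQ
  -- spreading out
  let σ : MvPolynomial (Fin n) R →ₐ[R] S := aeval (R := R) f
  obtain ⟨t, φ, ψ, hψφ, hψ, ht⟩ := exists_spread R (MvPolynomial (Fin n) R) S₀ S T₀ σ
  have hσ : ∀ x, ψ (φ x) = algebraMap (MvPolynomial (Fin n) R) S x := fun x => by
    have := congrArg (fun g => g x) hψφ
    exact this
  letI aφ : Algebra (MvPolynomial (Fin n) R) (Localization.Away t) := φ.toRingHom.toAlgebra
  letI aψ : Algebra (Localization.Away t) S := ψ.toRingHom.toAlgebra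
  haveI tw1 : IsScalarTower R (MvPolynomial (Fin n) R) (Localization.Away t) :=
    IsScalarTower.of_algebraMap_eq fun r => (φ.commutes r).symm
  haveI tw2 : IsScalarTower R (Localization.Away t) S :=
    IsScalarTower.of_algebraMap_eq fun r => (ψ.commutes r).symm
  haveI tw3 : IsScalarTower S₀ (Localization.Away t) S :=
    IsScalarTower.of_algebraMap_eq fun x => (hψ x).symm
  haveI tw6 : IsScalarTower (MvPolynomial (Fin n) R) (Localization.Away t) S :=
    IsScalarTower.of_algebraMap_eq fun x => (hσ x).symm
  haveI : Algebra.FinitePresentation S₀ (Localization.Away t) :=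
    IsLocalization.Away.finitePresentation t
  haveI : Algebra.FinitePresentation R (Localization.Away t) :=
    Algebra.FinitePresentation.trans R S₀ (Localization.Away t)
  haveI hAt : IsLocalization.AtPrime S ((maximalIdeal S).comap (algebraMap S₀ S)) :=
    isLocalization_atPrime_of_isLocalRing T₀
  have hle : Submonoid.powers t ≤ ((maximalIdeal S).comap (algebraMap S₀ S)).primeCompl := by
    rintro _ ⟨k, rfl⟩
    exact fun h => ht (Ideal.IsPrime.mem_of_pow_mem inferInstance k h)
  haveI hloc'' : IsLocalization
      (((maximalIdeal S).comap (algebraMap S₀ S)).primeCompl.map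
        (algebraMap S₀ (Localization.Away t))) S :=
    IsLocalization.isLocalization_of_submonoid_le (Localization.Away t) S (Submonoid.powers t)
      ((maximalIdeal S).comap (algebraMap S₀ S)).primeCompl hle
  exact flat_of_flat_fibre_essFP R (MvPolynomial (Fin n) R) (Localization.Away t) S
      (((maximalIdeal S).comap (algebraMap S₀ S)).primeCompl.map
        (algebraMap S₀ (Localization.Away t))) S

end Groth.Agent.Lib.Helper21.CMAff
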