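import Mathlib
import Groth.Agent.Lib.Helper21.FlatDescQ16
import Groth.Agent.Lib.Helper21.FlatDescQ17

/-!
# Helper21 — CMAff3: ring-level spreading out for `A → A[T₁..Tₙ] → B`
-/

set_option autoImplicit false

namespace Groth.Agent.Lib.Helper21.CMAff

open IsLocalRing MvPolynomial TensorProduct
open Groth.Agent.Lib.Helper21.FlatDesc
open scoped Pointwise

universe u

attribute [local instance] MvPolynomial.algebraMvPolynomial

/-- descent of flatness over the polynomial ring along a localization of the base. -/
theorem flat_mvPolynomial_of_isLocalization (A R O : Type u) [CommRing A] [CommRing R] [CommRing O]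
    [Algebra A R] (M : Submonoid A) [IsLocalization M R] [Algebra A O] [Algebra R O]
    [IsScalarTower A R O] (n : ℕ) (f : Fin n → O)
    (h : letI : Algebra (MvPolynomial (Fin n) R) O := (aeval (R := R) f).toRingHom.toAlgebra
      Module.Flat (MvPolynomial (Fin n) R) O) :
    letI : Algebra (MvPolynomial (Fin n) A) O := (aeval (R := A) f).toRingHom.toAlgebra
    Module.Flat (MvPolynomial (Fin n) A) O := by
  letI aR : Algebra (MvPolynomial (Fin n) R) O := (aeval (R := R) f).toRingHom.toAlgebra
  letI aA : Algebra (MvPolynomial (Fin n) A) O := (aeval (R := A) f).toRingHom.toAlgebra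
  haveI : Module.Flat (MvPolynomial (Fin n) R) O := h
  haveI tw : IsScalarTower (MvPolynomial (Fin n) A) (MvPolynomial (Fin n) R) O :=
    IsScalarTower.of_algebraMap_eq fun p => by
      show aeval (R := A) f p = aeval (R := R) f (MvPolynomial.map (algebraMap A R) p)
      rw [MvPolynomial.aeval_map_algebraMap]
  haveI : Module.Flat (MvPolynomial (Fin n) A) (MvPolynomial (Fin n) R) :=
    IsLocalization.flat (MvPolynomial (Fin n) R) (M.map (C (σ := Fin n)))
  exact Module.Flat.trans (MvPolynomial (Fin n) A) (MvPolynomial (Fin n) R) O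

set_option maxHeartbeats 1600000 in
set_option synthInstance.maxHeartbeats 200000 in
/-- **spreading out**: flat and quasi-finite over `A[T₁..Tₙ]` on a principal open neighbourhood. -/
theorem exists_away_flat_quasiFinite (A B : Type u) [CommRing A] [CommRing B] [Algebra A B]
    [Algebra.FinitePresentation A B] (q : Ideal B) [q.IsPrime]
    (O : Type u) [CommRing O] [Algebra B O] [IsLocalization.AtPrime O q] [Algebra A O]
    [IsScalarTower A B O] (n : ℕ) (bs : Fin n → B) (hbs : ∀ i, bs i ∈ q)
    (hflat : letI : Algebra (MvPolynomial (Fin n) A) O :=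
        (aeval (R := A) (fun i => algebraMap B O (bs i))).toRingHom.toAlgebra
      Module.Flat (MvPolynomial (Fin n) A) O)
    (hcl : IsClosed (X := PrimeSpectrum.comap (algebraMap A B) ⁻¹'
        {(⟨q, inferInstance⟩ : PrimeSpectrum B).comap (algebraMap A B)})
      {⟨(⟨q, inferInstance⟩ : PrimeSpectrum B), rfl⟩})
    (hprim : letI := IsLocalization.AtPrime.isLocalRing O q
      ∀ P : Ideal O, P.IsPrime → (q.comap (algebraMap A B)).map (algebraMap A O) ≤ P →
        (∀ i, algebraMap B O (bs i) ∈ P) → P = maximalIdeal O) :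
    letI : Algebra (MvPolynomial (Fin n) A) B := (aeval (R := A) bs).toRingHom.toAlgebra
    ∃ g ∉ q, ∀ g' : B, g ∣ g' → ∀ (B' : Type u) [CommRing B'] [Algebra B B']
      [Algebra (MvPolynomial (Fin n) A) B'] [IsScalarTower (MvPolynomial (Fin n) A) B B']
      [IsLocalization.Away g' B'],
      Module.Flat (MvPolynomial (Fin n) A) B' ∧ Algebra.QuasiFinite (MvPolynomial (Fin n) A) B' := by
  letI := IsLocalization.AtPrime.isLocalRing O q
  letI aPB : Algebra (MvPolynomial (Fin n) A) B := (aeval (R := A) bs).toRingHom.toAlgebra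
  letI aPO : Algebra (MvPolynomial (Fin n) A) O :=
    (aeval (R := A) (fun i => algebraMap B O (bs i))).toRingHom.toAlgebra
  haveI twAPB : IsScalarTower A (MvPolynomial (Fin n) A) B := IsScalarTower.of_algebraMap_eq fun r =>
    ((aeval (R := A) bs).commutes r).symm
  haveI twPBO : IsScalarTower (MvPolynomial (Fin n) A) B O := IsScalarTower.of_algebraMap_eq fun p => by
    show aeval (R := A) (fun i => algebraMap B O (bs i)) p = algebraMap B O (aeval (R := A) bs p)
    exact MvPolynomial.aeval_algebraMap_apply O bs p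
  haveI : Algebra.FinitePresentation (MvPolynomial (Fin n) A) B :=
    Algebra.FinitePresentation.of_restrict_scalars_finitePresentation A (MvPolynomial (Fin n) A) B
  haveI : Algebra.FiniteType (MvPolynomial (Fin n) A) B :=
    Algebra.FiniteType.of_finitePresentation
  haveI hflat' : Module.Flat (MvPolynomial (Fin n) A) O := hflat
  -- flatness spreads out
  haveI : IsLocalizedModule q.primeCompl (Algebra.linearMap B O) :=
    isLocalizedModule_iff_isLocalization.mpr inferInstance
  have h1 : Module.Flat (MvPolynomial (Fin n) A) (LocalizedModule q.primeCompl B) :=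
    FlatOpen.flat_of_le (A' := MvPolynomial (Fin n) A) q.primeCompl q.primeCompl le_rfl
      (Algebra.linearMap B O) (LocalizedModule.mkLinearMap q.primeCompl B)
  obtain ⟨g₁, hg₁, H₁⟩ := exists_away_flat_module (MvPolynomial (Fin n) A) B B q h1
  -- quasi-finiteness at `q`
  let Qpt : PrimeSpectrum B := ⟨q, inferInstance⟩
  have hcoA : ∀ Q' : Ideal B, Q'.comap (algebraMap (MvPolynomial (Fin n) A) B) =
      q.comap (algebraMap (MvPolynomial (Fin n) A) B) →
      Q'.comap (algebraMap A B) = q.comap (algebraMap A B) := by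
    intro Q' h
    rw [IsScalarTower.algebraMap_eq A (MvPolynomial (Fin n) A) B, ← Ideal.comap_comap,
      ← Ideal.comap_comap, h]
  have hcl' : IsClosed (X := PrimeSpectrum.comap (algebraMap (MvPolynomial (Fin n) A) B) ⁻¹'
      {Qpt.comap (algebraMap (MvPolynomial (Fin n) A) B)}) {⟨Qpt, rfl⟩} := by
    let Φ : (PrimeSpectrum.comap (algebraMap (MvPolynomial (Fin n) A) B) ⁻¹'
        {Qpt.comap (algebraMap (MvPolynomial (Fin n) A) B)}) →
        (PrimeSpectrum.comap (algebraMap A B) ⁻¹' {Qpt.comap (algebraMap A B)}) :=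
      fun Q' => ⟨Q'.1, PrimeSpectrum.ext (hcoA Q'.1.asIdeal
        (congrArg PrimeSpectrum.asIdeal Q'.2))⟩
    have hΦ : Continuous Φ := Continuous.subtype_mk continuous_subtype_val _
    have h2 := hcl.preimage hΦ
    convert h2 using 1
    ext Q'
    simp only [Set.mem_singleton_iff, Set.mem_preimage]
    exact ⟨fun h => by rw [h], fun h => Subtype.ext
      (congrArg (fun z : (PrimeSpectrum.comap (algebraMap A B) ⁻¹' {Qpt.comap (algebraMap A B)}) =>
        z.1) h)⟩
  have hgen' : ∀ Q' : PrimeSpectrum B, Q' ≤ Qpt →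
      Q'.comap (algebraMap (MvPolynomial (Fin n) A) B) =
        Qpt.comap (algebraMap (MvPolynomial (Fin n) A) B) → Q' = Qpt := by
    intro Q' hle hco
    haveI := Q'.isPrime
    have hco' : Q'.asIdeal.comap (algebraMap (MvPolynomial (Fin n) A) B) =
        q.comap (algebraMap (MvPolynomial (Fin n) A) B) := congrArg PrimeSpectrum.asIdeal hco
    have hbsQ' : ∀ i, bs i ∈ Q'.asIdeal := by
      intro i
      have h3 : (X i : MvPolynomial (Fin n) A) ∈
          q.comap (algebraMap (MvPolynomial (Fin n) A) B) := by
        rw [Ideal.mem_comap]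
        show aeval (R := A) bs (X i) ∈ q
        rw [aeval_X]
        exact hbs i
      rw [← hco', Ideal.mem_comap] at h3
      have h4 : algebraMap (MvPolynomial (Fin n) A) B (X i) = bs i := aeval_X bs i
      rwa [h4] at h3
    have hJ : (q.comap (algebraMap A B)).map (algebraMap A B) ⊔ Ideal.span (Set.range bs) ≤
        Q'.asIdeal := by
      refine sup_le ?_ (Ideal.span_le.mpr ?_)
      · rw [Ideal.map_le_iff_le_comap, hcoA Q'.asIdeal hco']
      · rintro _ ⟨i, rfl⟩
        exact hbsQ' i
    have h3 := eq_of_le_of_map_le q O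
      ((q.comap (algebraMap A B)).map (algebraMap A B) ⊔ Ideal.span (Set.range bs)) (by
        intro P hP hJP
        rw [Ideal.map_sup, Ideal.map_map, ← IsScalarTower.algebraMap_eq] at hJP
        refine hprim P hP (le_trans le_sup_left hJP) fun i => ?_
        exact hJP (Ideal.mem_sup_right (Ideal.mem_map_of_mem _ (Ideal.subset_span ⟨i, rfl⟩))))
      Q'.asIdeal hJ hle
    exact PrimeSpectrum.ext h3
  haveI hqfat : Algebra.QuasiFiniteAt (MvPolynomial (Fin n) A) q :=
    quasiFiniteAt_of_closed_of_generic (MvPolynomial (Fin n) A) B Qpt hcl' hgen'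
  obtain ⟨c, hcq, -, hqf⟩ := exists_away_quasiFinite (MvPolynomial (Fin n) A) B q
  refine ⟨g₁ * c, fun h => (Ideal.IsPrime.mem_or_mem inferInstance h).elim hg₁ hcq, ?_⟩
  intro g' hg' B' _ _ _ _ _
  refine ⟨?_, hqf g' (dvd_trans (dvd_mul_left c g₁) hg') B'⟩
  haveI := H₁ g' (dvd_trans (dvd_mul_right g₁ c) hg')
  haveI : IsLocalizedModule (Submonoid.powers g') (Algebra.linearMap B B') :=
    isLocalizedModule_iff_isLocalization.mpr inferInstance
  exact FlatOpen.flat_of_le (A' := MvPolynomial (Fin n) A) (Submonoid.powers g')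
    (Submonoid.powers g') le_rfl (LocalizedModule.mkLinearMap (Submonoid.powers g') B)
    (Algebra.linearMap B B')

end Groth.Agent.Lib.Helper21.CMAff
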