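import Mathlib

/-!
# Helper21 — CMAff5: morphisms to affine space from ring maps out of a polynomial ring (charts)
-/

set_option autoImplicit false

namespace Groth.Agent.Lib.Helper21.CMAff

open AlgebraicGeometry CategoryTheory Limits MvPolynomial

universe u

instance isOpenImmersion_map {S T : Scheme.{u}} (n : Type u) (j : S ⟶ T) [IsOpenImmersion j] :
    IsOpenImmersion (AffineSpace.map n j) :=
  MorphismProperty.of_isPullback (P := @IsOpenImmersion) (AffineSpace.isPullback_map j).flip
    inferInstance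

set_option maxHeartbeats 800000 in
/-- the morphism to affine space over `S` attached to a ring map out of a polynomial ring on
charts. -/
theorem exists_hom_toAffineSpace {X S : Scheme.{u}} (f : X ⟶ S) (V : S.Opens) (hV : IsAffineOpen V)
    (U : X.Opens) (hU : IsAffineOpen U) (hUV : U ≤ f ⁻¹ᵁ V) (n : Type u)
    (ψ : MvPolynomial n Γ(S, V) →+* Γ(X, U))
    (hψ : ψ.comp (C : Γ(S, V) →+* MvPolynomial n Γ(S, V)) = (f.appLE V U hUV).hom) :
    ∃ g : (U : Scheme.{u}) ⟶ 𝔸(n; S), g ≫ (𝔸(n; S) ↘ S) = U.ι ≫ f ∧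
      (ψ.QuasiFinite → LocallyQuasiFinite g) ∧ (ψ.Flat → Flat g) := by
  refine ⟨hU.isoSpec.hom ≫ Spec.map (CommRingCat.ofHom ψ) ≫
    (AffineSpace.SpecIso n Γ(S, V)).inv ≫ AffineSpace.map n hV.fromSpec, ?_, ?_, ?_⟩
  · simp only [Category.assoc, AffineSpace.map_over, AffineSpace.SpecIso_inv_over_assoc]
    rw [← Spec.map_comp_assoc]
    have h1 : CommRingCat.ofHom (C : Γ(S, V) →+* MvPolynomial n Γ(S, V)) ≫ CommRingCat.ofHom ψ =
        f.appLE V U hUV := by
      ext a
      exact congrArg (fun φ => φ a) hψ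
    rw [h1, IsAffineOpen.SpecMap_appLE_fromSpec f hV hU hUV, ← Category.assoc,
      hU.isoSpec_hom_fromSpec]
  · intro h
    haveI : LocallyQuasiFinite (Spec.map (CommRingCat.ofHom ψ)) := by
      rw [HasRingHomProperty.Spec_iff (P := @LocallyQuasiFinite)]
      exact h
    infer_instance
  · intro h
    haveI : Flat (Spec.map (CommRingCat.ofHom ψ)) := by
      rw [Flat.SpecMap_iff]
      exact h
    infer_instance

end Groth.Agent.Lib.Helper21.CMAff
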