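import Mathlib
import Groth.Agent.Lib.Helper21.CMAff2
import Groth.Agent.Lib.Helper21.CMAff3
import Groth.Agent.Lib.Helper21.FlatDescQ4
import Groth.Agent.Lib.Helper21.FlatDescQ18
import Groth.Agent.Lib.Helper21.FibreStalk
import Groth.Agent.Lib.Helper21.CMAff5
import Groth.Prelude.Def_MoreMor

/-!
# Helper21 — CMAff4: Cohen–Macaulay at a closed point of the fibre ⇒ flat, locally quasi-finite
morphism to affine space on a neighbourhood.
-/

set_option autoImplicit false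

namespace Groth.Agent.Lib.Helper21.CMAff

open AlgebraicGeometry CategoryTheory Limits
open IsLocalRing MvPolynomial RingTheory.Sequence
open Groth.Agent.Lib.Helper21.FlatDesc Groth.Agent.Lib.Helper21.FibreStalk
open scoped Pointwise

universe u

set_option maxHeartbeats 800000 in
set_option synthInstance.maxHeartbeats 200000 in
/-- stalk-level flatness over the polynomial ring. -/
theorem stalk_flat_mvPolynomial {X S : Scheme.{u}} (f : X ⟶ S) [LocallyOfFinitePresentation f]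
    (x : X) (hflat : (f.stalkMap x).hom.Flat) (n : ℕ) (hs : Fin n → X.presheaf.stalk x)
    (hm : ∀ i, hs i ∈ maximalIdeal (X.presheaf.stalk x))
    (hreg : IsWeaklyRegular (X.presheaf.stalk x ⧸ fibIdeal f x)
      (List.ofFn fun i => Ideal.Quotient.mk (fibIdeal f x) (hs i))) :
    letI : Algebra (S.presheaf.stalk (f x)) (X.presheaf.stalk x) := (f.stalkMap x).hom.toAlgebra
    letI : Algebra (MvPolynomial (Fin n) (S.presheaf.stalk (f x))) (X.presheaf.stalk x) :=
      (aeval (R := S.presheaf.stalk (f x)) hs).toRingHom.toAlgebra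
    Module.Flat (MvPolynomial (Fin n) (S.presheaf.stalk (f x))) (X.presheaf.stalk x) := by
  letI aO : Algebra (S.presheaf.stalk (f x)) (X.presheaf.stalk x) := (f.stalkMap x).hom.toAlgebra
  haveI : IsLocalHom (algebraMap (S.presheaf.stalk (f x)) (X.presheaf.stalk x)) :=
    inferInstanceAs (IsLocalHom (f.stalkMap x).hom)
  obtain ⟨C₀, _, a, b, TC, hab, ha, hloc⟩ := essFP_stalkMap f x
  letI aAC₀ : Algebra (S.presheaf.stalk (f x)) C₀ := a.toAlgebra
  letI aC₀C : Algebra C₀ (X.presheaf.stalk x) := b.toAlgebra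
  haveI twC : IsScalarTower (S.presheaf.stalk (f x)) C₀ (X.presheaf.stalk x) :=
    IsScalarTower.of_algebraMap_eq fun r => by
      show (f.stalkMap x).hom r = b (a r)
      rw [hab]; rfl
  haveI : Algebra.FinitePresentation (S.presheaf.stalk (f x)) C₀ := ha
  haveI := hloc
  haveI : Module.Flat (S.presheaf.stalk (f x)) (X.presheaf.stalk x) := hflat
  haveI : IsLocallyNoetherian (f.fiber (f x)) := by
    unfold Scheme.Hom.fiber
    infer_instance
  obtain ⟨e⟩ := nonempty_fibreStalkEquiv f x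
  haveI : IsNoetherianRing (X.presheaf.stalk x ⧸ fibIdeal f x) :=
    isNoetherianRing_of_ringEquiv _ e
  exact flat_mvPolynomial_of_fibre (S.presheaf.stalk (f x)) (X.presheaf.stalk x) C₀ TC n hs hm hreg

/-- finitely many germs come from sections over one open neighbourhood. -/
theorem exists_germs_fin {X : Scheme.{u}} (x : X) (n : ℕ) (hs : Fin n → X.presheaf.stalk x) :
    ∃ (W : X.Opens) (hxW : x ∈ W) (bs : Fin n → Γ(X, W)),
      ∀ i, X.presheaf.germ W x hxW (bs i) = hs i := by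
  induction n with
  | zero => exact ⟨⊤, trivial, Fin.elim0, fun i => Fin.elim0 i⟩
  | succ n ih =>
    obtain ⟨W, hxW, bs, hbs⟩ := ih (fun i => hs i.succ)
    obtain ⟨W', hxW', b, hb⟩ := TopCat.Presheaf.germ_exist (F := X.presheaf) (x := x) (hs 0)
    refine ⟨W ⊓ W', ⟨hxW, hxW'⟩, Fin.cons (X.presheaf.map (homOfLE inf_le_right).op b)
      (fun i => X.presheaf.map (homOfLE inf_le_left).op (bs i)), ?_⟩
    intro i
    refine Fin.cases ?_ (fun j => ?_) i
    · rw [Fin.cons_zero, ← hb]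
      exact TopCat.Presheaf.germ_res_apply X.presheaf (homOfLE inf_le_right) x ⟨hxW, hxW'⟩ b
    · rw [Fin.cons_succ, ← hbs j]
      exact TopCat.Presheaf.germ_res_apply X.presheaf (homOfLE inf_le_left) x ⟨hxW, hxW'⟩ (bs j)

set_option maxHeartbeats 3200000 in
set_option synthInstance.maxHeartbeats 200000 in
/-- **closed point case**: Cohen–Macaulay at a point closed in its fibre gives a flat, locally
quasi-finite morphism to affine space on a neighbourhood. -/
theorem exists_flat_lqf_toAffineSpace_of_closed {X S : Scheme.{u}} (f : X ⟶ S)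
    [LocallyOfFinitePresentation f] (x : X) (hcm : MoreMor.IsCMAt f x)
    (hcl : IsClosed ({f.asFiber x} : Set ↑(f.fiber (f x)))) :
    ∃ (n : ℕ) (U : X.Opens) (_ : x ∈ U) (g : (U : Scheme.{u}) ⟶ 𝔸(ULift.{u} (Fin n); S)),
      g ≫ (𝔸(ULift.{u} (Fin n); S) ↘ S) = U.ι ≫ f ∧ LocallyQuasiFinite g ∧ Flat g := by
  classical
  obtain ⟨hflat, hCM⟩ := hcm
  letI aO : Algebra (S.presheaf.stalk (f x)) (X.presheaf.stalk x) := (f.stalkMap x).hom.toAlgebra
  obtain ⟨e⟩ := nonempty_fibreStalkEquiv f x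
  haveI := hCM
  obtain ⟨hsL, hsm, hsreg, hsprime⟩ :=
    exists_lift_regular_primary (X.presheaf.stalk x) (fibIdeal f x) _ e
  set n := hsL.length with hn
  let hs : Fin n → X.presheaf.stalk x := fun i => hsL.get i
  have hsm' : ∀ i, hs i ∈ maximalIdeal (X.presheaf.stalk x) := fun i =>
    hsm _ (List.get_mem _ _)
  have hofFn : List.ofFn hs = hsL := List.ofFn_get hsL
  have hsreg' : IsWeaklyRegular (X.presheaf.stalk x ⧸ fibIdeal f x)
      (List.ofFn fun i => Ideal.Quotient.mk (fibIdeal f x) (hs i)) := by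
    have h1 : (List.ofFn fun i => Ideal.Quotient.mk (fibIdeal f x) (hs i)) =
        hsL.map (Ideal.Quotient.mk (fibIdeal f x)) := by
      rw [← hofFn, List.map_ofFn]
      rfl
    rw [h1]; exact hsreg
  have hstalkflat := stalk_flat_mvPolynomial f x hflat n hs hsm' hsreg'
  -- charts
  obtain ⟨_, ⟨V, hV : IsAffineOpen V, rfl⟩, hfxV, -⟩ :=
    S.isBasis_affineOpens.exists_subset_of_mem_open (Set.mem_univ (f x)) isOpen_univ
  obtain ⟨W, hxW, bs₀, hbs₀⟩ := exists_germs_fin x n hs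
  obtain ⟨_, ⟨U₀, hU₀ : IsAffineOpen U₀, rfl⟩, hxU₀, hU₀le⟩ :=
    X.isBasis_affineOpens.exists_subset_of_mem_open
      (show x ∈ ((W ⊓ f ⁻¹ᵁ V : X.Opens) : Set X) from ⟨hxW, hfxV⟩) (W ⊓ f ⁻¹ᵁ V).isOpen
  have hU₀W : U₀ ≤ W := fun y hy => (hU₀le hy).1
  have hU₀V : U₀ ≤ f ⁻¹ᵁ V := fun y hy => (hU₀le hy).2
  let bs : Fin n → Γ(X, U₀) := fun i => X.presheaf.map (homOfLE hU₀W).op (bs₀ i)
  have hbs : ∀ i, X.presheaf.germ U₀ x hxU₀ (bs i) = hs i := fun i => by
    rw [← hbs₀ i]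
    exact TopCat.Presheaf.germ_res_apply X.presheaf (homOfLE hU₀W) x hxU₀ (bs₀ i)
  -- ring data
  letI aAB : Algebra Γ(S, V) Γ(X, U₀) := (f.appLE V U₀ hU₀V).hom.toAlgebra
  haveI : Algebra.FinitePresentation Γ(S, V) Γ(X, U₀) :=
    (HasRingHomProperty.appLE @LocallyOfFinitePresentation f inferInstance ⟨V, hV⟩ ⟨U₀, hU₀⟩ hU₀V :
      RingHom.FinitePresentation _)
  let q : Ideal Γ(X, U₀) := (hU₀.primeIdealOf ⟨x, hxU₀⟩).asIdeal
  letI aBO : Algebra Γ(X, U₀) (X.presheaf.stalk x) := X.presheaf.algebra_section_stalk ⟨x, hxU₀⟩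
  haveI locO : IsLocalization.AtPrime (X.presheaf.stalk x) q := hU₀.isLocalization_stalk ⟨x, hxU₀⟩
  letI aAA₀ : Algebra Γ(S, V) (S.presheaf.stalk (f x)) :=
    S.presheaf.algebra_section_stalk ⟨f x, hfxV⟩
  haveI locA₀ := hV.isLocalization_stalk ⟨f x, hfxV⟩
  letI aAO : Algebra Γ(S, V) (X.presheaf.stalk x) :=
    ((algebraMap Γ(X, U₀) (X.presheaf.stalk x)).comp (algebraMap Γ(S, V) Γ(X, U₀))).toAlgebra
  haveI tw1 : IsScalarTower Γ(S, V) Γ(X, U₀) (X.presheaf.stalk x) :=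
    IsScalarTower.of_algebraMap_eq fun a => rfl
  haveI tw2 : IsScalarTower Γ(S, V) (S.presheaf.stalk (f x)) (X.presheaf.stalk x) :=
    IsScalarTower.of_algebraMap_eq fun a => by
      show X.presheaf.germ U₀ x hxU₀ (f.appLE V U₀ hU₀V a) =
        f.stalkMap x (S.presheaf.germ V (f x) hfxV a)
      rw [Scheme.Hom.germ_stalkMap_apply, Scheme.Hom.appLE]
      exact (TopCat.Presheaf.germ_res_apply X.presheaf (homOfLE hU₀V) x hxU₀ _)
  have hpA : (hV.primeIdealOf ⟨f x, hfxV⟩).asIdeal = q.comap (algebraMap Γ(S, V) Γ(X, U₀)) :=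
    congr($(IsAffineOpen.comap_primeIdealOf_appLE V hV U₀ hU₀ hU₀V hxU₀).1).symm
  have hfun : (fun i => algebraMap Γ(X, U₀) (X.presheaf.stalk x) (bs i)) = hs := funext hbs
  have hbsq : ∀ i, bs i ∈ q := by
    intro i
    rw [← IsLocalization.AtPrime.to_map_mem_maximal_iff (X.presheaf.stalk x) q (bs i)]
    show X.presheaf.germ U₀ x hxU₀ (bs i) ∈ _
    rw [hbs]
    exact hsm' i
  -- flatness over `A[T]`
  have hflatA := flat_mvPolynomial_of_isLocalization Γ(S, V) (S.presheaf.stalk (f x))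
    (X.presheaf.stalk x) (hV.primeIdealOf ⟨f x, hfxV⟩).asIdeal.primeCompl n hs hstalkflat
  -- closedness in the fibre
  let Qpt : PrimeSpectrum Γ(X, U₀) := ⟨q, inferInstance⟩
  have hQpt : hU₀.fromSpec Qpt = x := hU₀.fromSpec_primeIdealOf ⟨x, hxU₀⟩
  have hfι₀ : ∀ Q' : PrimeSpectrum Γ(X, U₀), f (hU₀.fromSpec Q') =
      hV.fromSpec (Q'.comap (algebraMap Γ(S, V) Γ(X, U₀))) := by
    intro Q'
    have h1 := congrArg (fun φ => φ Q') (IsAffineOpen.SpecMap_appLE_fromSpec f hV hU₀ hU₀V)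
    exact h1.symm
  have hclX : IsClosed ({⟨x, rfl⟩} : Set (f ⁻¹' {f x})) := by
    have h1 := (f.fiberHomeo (f x)).symm.isClosed_preimage.mpr hcl
    convert h1 using 1
    ext y
    simp only [Set.mem_singleton_iff, Set.mem_preimage]
    constructor
    · rintro rfl; rfl
    · intro h; exact (f.fiberHomeo (f x)).symm.injective h
  have hcl' : IsClosed (X := PrimeSpectrum.comap (algebraMap Γ(S, V) Γ(X, U₀)) ⁻¹'
      {Qpt.comap (algebraMap Γ(S, V) Γ(X, U₀))}) {⟨Qpt, rfl⟩} := by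
    let Φ : (PrimeSpectrum.comap (algebraMap Γ(S, V) Γ(X, U₀)) ⁻¹'
        {Qpt.comap (algebraMap Γ(S, V) Γ(X, U₀))}) → (f ⁻¹' {f x}) :=
      fun Q' => ⟨hU₀.fromSpec Q'.1, by
        show f (hU₀.fromSpec Q'.1) = f x
        rw [hfι₀, show Q'.1.comap _ = Qpt.comap _ from Q'.2, ← hfι₀, hQpt]⟩
    have hΦ : Continuous Φ :=
      Continuous.subtype_mk (hU₀.fromSpec.continuous.comp continuous_subtype_val) _
    have h1 := hclX.preimage hΦ
    convert h1 using 1
    ext Q'
    simp only [Set.mem_singleton_iff, Set.mem_preimage]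
    constructor
    · rintro rfl
      exact Subtype.ext hQpt
    · intro h
      have h2 : hU₀.fromSpec Q'.1 = x := congrArg Subtype.val h
      exact Subtype.ext (hU₀.fromSpec.isOpenEmbedding.injective (h2.trans hQpt.symm))
  -- primary condition
  have hprim : ∀ P : Ideal (X.presheaf.stalk x), P.IsPrime →
      (q.comap (algebraMap Γ(S, V) Γ(X, U₀))).map (algebraMap Γ(S, V) (X.presheaf.stalk x)) ≤ P →
      (∀ i, algebraMap Γ(X, U₀) (X.presheaf.stalk x) (bs i) ∈ P) →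
      P = maximalIdeal (X.presheaf.stalk x) := by
    intro P hP h1 h2
    refine hsprime P hP ?_ ?_
    · refine le_trans ?_ h1
      rw [← hpA]
      show (maximalIdeal (S.presheaf.stalk (f x))).map
        (algebraMap (S.presheaf.stalk (f x)) (X.presheaf.stalk x)) ≤ _
      rw [← IsLocalization.AtPrime.map_eq_maximalIdeal
        (hV.primeIdealOf ⟨f x, hfxV⟩).asIdeal (S.presheaf.stalk (f x)), Ideal.map_map,
        ← IsScalarTower.algebraMap_eq]
    · rw [Ideal.ofList, Ideal.span_le]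
      intro h hh
      rw [← hofFn] at hh
      obtain ⟨i, rfl⟩ := (List.mem_ofFn' _ _).mp hh
      rw [← hbs i]
      exact h2 i
  letI aPB : Algebra (MvPolynomial (Fin n) Γ(S, V)) Γ(X, U₀) :=
    (aeval (R := Γ(S, V)) bs).toRingHom.toAlgebra
  obtain ⟨g, hgq, H⟩ := exists_away_flat_quasiFinite Γ(S, V) Γ(X, U₀) q (X.presheaf.stalk x) n bs
    hbsq (by rw [hfun]; exact hflatA) hcl' hprim
  -- the final chart
  have hU : IsAffineOpen (X.basicOpen g) := hU₀.basicOpen g
  have hxU : x ∈ X.basicOpen g := by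
    rw [Scheme.mem_basicOpen _ _ _ hxU₀]
    exact (IsLocalization.AtPrime.isUnit_to_map_iff (X.presheaf.stalk x) q g).mpr hgq
  haveI locB' : IsLocalization.Away g Γ(X, X.basicOpen g) := hU₀.isLocalization_basicOpen g
  have hUV : X.basicOpen g ≤ f ⁻¹ᵁ V := (X.basicOpen_le g).trans hU₀V
  letI aPB' : Algebra (MvPolynomial (Fin n) Γ(S, V)) Γ(X, X.basicOpen g) :=
    ((algebraMap Γ(X, U₀) Γ(X, X.basicOpen g)).comp
      (algebraMap (MvPolynomial (Fin n) Γ(S, V)) Γ(X, U₀))).toAlgebra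
  haveI twP : IsScalarTower (MvPolynomial (Fin n) Γ(S, V)) Γ(X, U₀) Γ(X, X.basicOpen g) :=
    IsScalarTower.of_algebraMap_eq fun _ => rfl
  obtain ⟨hfl, hqf⟩ := H g dvd_rfl Γ(X, X.basicOpen g)
  let ρ : MvPolynomial (ULift.{u} (Fin n)) Γ(S, V) →+* MvPolynomial (Fin n) Γ(S, V) :=
    (rename (ULift.down : ULift.{u} (Fin n) → Fin n) :
      MvPolynomial (ULift.{u} (Fin n)) Γ(S, V) →ₐ[Γ(S, V)] MvPolynomial (Fin n) Γ(S, V)).toRingHom
  have hρbij : Function.Bijective ρ :=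
    ⟨rename_injective _ ULift.down_injective, rename_surjective _ ULift.down_surjective⟩
  let ψ : MvPolynomial (ULift.{u} (Fin n)) Γ(S, V) →+* Γ(X, X.basicOpen g) :=
    (algebraMap (MvPolynomial (Fin n) Γ(S, V)) Γ(X, X.basicOpen g)).comp ρ
  have hψ : ψ.comp (C : Γ(S, V) →+* MvPolynomial (ULift.{u} (Fin n)) Γ(S, V)) =
      (f.appLE V (X.basicOpen g) hUV).hom := by
    ext a
    show algebraMap Γ(X, U₀) Γ(X, X.basicOpen g) (aeval (R := Γ(S, V)) bs
      (rename ULift.down (C a))) = _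
    rw [rename_C, aeval_C]
    show X.presheaf.map (homOfLE (X.basicOpen_le g)).op (f.appLE V U₀ hU₀V a) =
      f.appLE V (X.basicOpen g) hUV a
    rw [← CommRingCat.comp_apply, Scheme.Hom.appLE_map]
  have hψqf : ψ.QuasiFinite :=
    RingHom.QuasiFinite.comp (RingHom.quasiFinite_algebraMap.mpr hqf)
      (RingHom.QuasiFinite.of_finite (RingHom.Finite.of_surjective _ hρbij.2))
  have hψfl : ψ.Flat :=
    RingHom.Flat.comp (RingHom.Flat.of_bijective hρbij) (RingHom.flat_algebraMap_iff.mpr hfl)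
  obtain ⟨gm, hgm1, hgm2, hgm3⟩ := exists_hom_toAffineSpace f V hV (X.basicOpen g) hU hUV
    (ULift.{u} (Fin n)) ψ hψ
  exact ⟨n, X.basicOpen g, hxU, gm, hgm1, hgm2 hψqf, hgm3 hψfl⟩

end Groth.Agent.Lib.Helper21.CMAff
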