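import Mathlib
import Groth.Prelude.Def_CAlg
import Groth.Agent.Lib.helper11.CMLocus
import Groth.Agent.Lib.Helper21.DepthKit3

set_option autoImplicit false
universe u

namespace Groth.Agent.Lib.Helper21.CMPoint

open Groth.Agent.Lib.Helper21.DepthKit IsLocalRing Module

/-- a zero-dimensional Noetherian local ring is Cohen–Macaulay. -/
theorem isCM_of_ringKrullDim_le_zero (R : Type u) [CommRing R] [IsLocalRing R] [IsNoetherianRing R]
    (h : ringKrullDim R ≤ 0) : LocCoh.IsCohenMacaulayLocalRing R where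
  supportDim_eq_depth := by
    have h1 : ((LocCoh.depth R R : ℕ∞) : WithBot ℕ∞) ≤ supportDim R R :=
      depth_le_supportDim (A := R) (M := R)
    rw [Module.supportDim_self_eq_ringKrullDim] at h1 ⊢
    have h2 : ((LocCoh.depth R R : ℕ∞) : WithBot ℕ∞) ≤ 0 := h1.trans h
    have h3 : (LocCoh.depth R R : ℕ∞) = 0 := by
      have : ((LocCoh.depth R R : ℕ∞) : WithBot ℕ∞) ≤ ((0 : ℕ∞) : WithBot ℕ∞) := h2
      exact le_antisymm (WithBot.coe_le_coe.mp this) zero_le
    rw [h3]
    exact le_antisymm h ringKrullDim_nonneg_of_nontrivial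

/-- a nonzero finite type algebra over a field has a maximal ideal at which it is
Cohen–Macaulay. -/
theorem exists_maximal_isCM (k B : Type u) [Field k] [CommRing B] [Algebra k B]
    [Algebra.FiniteType k B] [Nontrivial B] :
    ∃ m : Ideal B, ∃ _ : m.IsMaximal,
      LocCoh.IsCohenMacaulayLocalRing (Localization.AtPrime m) := by
  haveI : IsNoetherianRing B := Algebra.FiniteType.isNoetherianRing k B
  haveI : IsJacobsonRing B := isJacobsonRing_of_finiteType (A := k)
  haveI : JacobsonSpace (PrimeSpectrum B) :=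
    PrimeSpectrum.isJacobsonRing_iff_jacobsonSpace.mp inferInstance
  have hopen := Groth.Agent.Lib.helper11.CMLocus.isOpen_CM_locus k B
  obtain ⟨p, hp⟩ := Ideal.nonempty_minimalPrimes (bot_ne_top : (⊥ : Ideal B) ≠ ⊤)
  haveI hpp : p.IsPrime := hp.1.1
  have hpCM : (⟨p, hpp⟩ : PrimeSpectrum B) ∈ {q : PrimeSpectrum B |
      LocCoh.IsCohenMacaulayLocalRing (Localization.AtPrime q.asIdeal)} := by
    apply isCM_of_ringKrullDim_le_zero
    rw [IsLocalization.AtPrime.ringKrullDim_eq_height p, Ideal.height_eq_zero_iff.mpr hp]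
    rfl
  obtain ⟨q, hq, hqcl⟩ := nonempty_inter_closedPoints ⟨_, hpCM⟩ hopen.isLocallyClosed
  exact ⟨q.asIdeal, (PrimeSpectrum.isClosed_singleton_iff_isMaximal q).mp hqcl, hq⟩

end Groth.Agent.Lib.Helper21.CMPoint
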