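import Mathlib
import Groth.Agent.S1349
import Groth.Agent.Lib.Helper21.CMPoint
import Groth.Agent.Lib.Helper21.FibreBCAlg

set_option autoImplicit false
universe u

namespace Groth.Agent.Lib.Helper21.LqfCover

open AlgebraicGeometry CategoryTheory Limits

/-- a nonempty fibre of a morphism locally of finite type has a closed point with
Cohen–Macaulay local ring. -/
theorem exists_closed_CM_point_fiber {X S : Scheme.{u}} (g : X ⟶ S) [LocallyOfFiniteType g]
    (s : S) (y₀ : g.fiber s) :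
    ∃ y : g.fiber s, IsClosed ({y} : Set (g.fiber s)) ∧
      LocCoh.IsCohenMacaulayLocalRing ((g.fiber s).presheaf.stalk y) := by
  haveI hφ : LocallyOfFiniteType (g.fiberToSpecResidueField s) :=
    MorphismProperty.pullback_snd _ _ inferInstance
  obtain ⟨_, ⟨W, hW : IsAffineOpen W, rfl⟩, hyW, -⟩ :=
    (g.fiber s).isBasis_affineOpens.exists_subset_of_mem_open (Set.mem_univ y₀) isOpen_univ
  have hft : RingHom.FiniteType ((g.fiberToSpecResidueField s).appLE ⊤ W le_top).hom :=
    HasRingHomProperty.appLE @LocallyOfFiniteType (g.fiberToSpecResidueField s) inferInstance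
      ⟨⊤, isAffineOpen_top _⟩ ⟨W, hW⟩ le_top
  let ψ : S.residueField s →+* Γ(g.fiber s, W) :=
    ((g.fiberToSpecResidueField s).appLE ⊤ W le_top).hom.comp
      (Scheme.ΓSpecIso (S.residueField s)).inv.hom
  have hψ : ψ.FiniteType := hft.comp (RingHom.FiniteType.of_surjective _
    (ConcreteCategory.bijective_of_isIso (Scheme.ΓSpecIso (S.residueField s)).inv).2)
  letI : Algebra (S.residueField s) Γ(g.fiber s, W) := ψ.toAlgebra
  haveI : Algebra.FiniteType (S.residueField s) Γ(g.fiber s, W) := hψ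
  haveI : Nontrivial Γ(g.fiber s, W) :=
    PrimeSpectrum.nonempty_iff_nontrivial.mp ⟨hW.primeIdealOf ⟨y₀, hyW⟩⟩
  obtain ⟨m, hm, hCM⟩ := CMPoint.exists_maximal_isCM (S.residueField s) Γ(g.fiber s, W)
  let mpt : PrimeSpectrum Γ(g.fiber s, W) := ⟨m, hm.isPrime⟩
  have hmcl : IsClosed ({mpt} : Set (PrimeSpectrum Γ(g.fiber s, W))) :=
    (PrimeSpectrum.isClosed_singleton_iff_isMaximal mpt).mpr hm
  set y : g.fiber s := hW.fromSpec mpt with hy
  have hyW' : y ∈ W := by
    have : y ∈ Set.range hW.fromSpec := ⟨mpt, rfl⟩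
    rwa [hW.range_fromSpec] at this
  have hprime : hW.primeIdealOf ⟨y, hyW'⟩ = mpt := by
    apply hW.fromSpec.isOpenEmbedding.injective
    rw [hW.fromSpec_primeIdealOf]
  refine ⟨y, ?_, ?_⟩
  · have h1 := hW.fromSpec.isOpenEmbedding.preimage_closedPoints
    have h2 : mpt ∈ closedPoints (Spec Γ(g.fiber s, W)) := hmcl
    rw [← h1] at h2
    exact h2
  · letI : Algebra Γ(g.fiber s, W) ((g.fiber s).presheaf.stalk y) :=
      (g.fiber s).presheaf.algebra_section_stalk ⟨y, hyW'⟩
    haveI hloc : IsLocalization.AtPrime ((g.fiber s).presheaf.stalk y) m := by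
      have := hW.isLocalization_stalk ⟨y, hyW'⟩
      rw [hprime] at this
      exact this
    exact FibreBCAlg.isCMLocal_of_ringEquiv
      (IsLocalization.algEquiv m.primeCompl (Localization.AtPrime m)
        ((g.fiber s).presheaf.stalk y)).toRingEquiv hCM

theorem asFiber_transport {X S : Scheme.{u}} (g : X ⟶ S) (P : ∀ s : S, g.fiber s → Prop) (x : X)
    (s : S) (h : g x = s) (y : g.fiber s) (hy : g.fiberι s y = x) (hP : P s y) :
    P (g x) (g.asFiber x) := by
  subst h
  have : y = g.asFiber x :=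
    (g.fiberι _).isEmbedding.injective (hy.trans (g.fiberι_asFiber x).symm)
  subst this
  exact hP

/-- every point of the image of a morphism locally of finite type is the image of a point which
is closed in its fibre and at which the fibre is Cohen–Macaulay. -/
theorem exists_CM_closed_point {X S : Scheme.{u}} (g : X ⟶ S) [LocallyOfFiniteType g] (s : S)
    (hs : s ∈ Set.range g) :
    ∃ x : X, g x = s ∧
      LocCoh.IsCohenMacaulayLocalRing ((g.fiber (g x)).presheaf.stalk (g.asFiber x)) ∧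
      IsClosed ({g.asFiber x} : Set (g.fiber (g x))) := by
  obtain ⟨x₀, rfl⟩ := hs
  obtain ⟨y, hycl, hyCM⟩ := exists_closed_CM_point_fiber g (g x₀) (g.asFiber x₀)
  have hx : g (g.fiberι (g x₀) y) = g x₀ := by
    have : g.fiberι (g x₀) y ∈ Set.range (g.fiberι (g x₀)) := ⟨y, rfl⟩
    rw [g.range_fiberι] at this
    exact this
  refine ⟨g.fiberι (g x₀) y, hx, ?_⟩
  exact asFiber_transport g (fun s y => LocCoh.IsCohenMacaulayLocalRing
    ((g.fiber s).presheaf.stalk y) ∧ IsClosed ({y} : Set (g.fiber s))) _ _ hx y rfl ⟨hyCM, hycl⟩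

/-- local quasi-finite flat slices through every point of the image of an fppf morphism. -/
theorem exists_lqf_flat_chart {X S : Scheme.{u}} (g : X ⟶ S) [Flat g]
    [LocallyOfFinitePresentation g] (s : S) (hs : s ∈ Set.range g) :
    ∃ (Z : Scheme.{u}) (j : Z ⟶ X), IsAffine Z ∧ Flat (j ≫ g) ∧
      LocallyOfFinitePresentation (j ≫ g) ∧ LocallyQuasiFinite (j ≫ g) ∧
      s ∈ Set.range (j ≫ g) := by
  obtain ⟨x, rfl, hCM, hcl⟩ := exists_CM_closed_point g s hs
  obtain ⟨V, Z, i, -, ⟨z, hz⟩, hfl, hfp, hqf, -⟩ :=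
    Groth.Agent.S1349.result g x ⟨Flat.stalkMap g x, hCM⟩ hcl
  obtain ⟨_, ⟨W, hW : IsAffineOpen W, rfl⟩, hzW, -⟩ :=
    Z.isBasis_affineOpens.exists_subset_of_mem_open (Set.mem_univ z) isOpen_univ
  refine ⟨W, Scheme.Opens.ι W ≫ i ≫ V.ι, hW, ?_, ?_, ?_, ?_⟩
  · rw [Category.assoc, Category.assoc]; infer_instance
  · rw [Category.assoc, Category.assoc]; infer_instance
  · rw [Category.assoc, Category.assoc]; infer_instance
  · refine ⟨⟨z, hzW⟩, ?_⟩
    rw [Scheme.Hom.comp_apply, Scheme.Hom.comp_apply]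
    have : Scheme.Opens.ι W ⟨z, hzW⟩ = z := rfl
    rw [this]
    exact congrArg g hz

/-- an fppf morphism is refined by a flat, lfp, locally quasi-finite surjection (affine when the
base is quasi-compact). -/
theorem exists_lqf_flat_cover {X S : Scheme.{u}} (f : X ⟶ S) [Flat f]
    [LocallyOfFinitePresentation f] [Surjective f] :
    ∃ (S' : Scheme.{u}) (h : S' ⟶ X), Flat (h ≫ f) ∧ LocallyOfFinitePresentation (h ≫ f) ∧
      LocallyQuasiFinite (h ≫ f) ∧ Surjective (h ≫ f) ∧ (CompactSpace S → IsAffine S') := by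
  classical
  have H : ∀ s : S, ∃ (Z : Scheme.{u}) (j : Z ⟶ X), IsAffine Z ∧ Flat (j ≫ f) ∧
      LocallyOfFinitePresentation (j ≫ f) ∧ LocallyQuasiFinite (j ≫ f) ∧
      s ∈ Set.range (j ≫ f) := fun s => exists_lqf_flat_chart f s (f.surjective s)
  choose Z j hZ hfl hfp hqf hs using H
  have key : ∀ (σ : Type u) (ι : σ → S) (_ : ∀ s : S, ∃ a : σ, s ∈ Set.range (j (ι a) ≫ f)),
      Flat (Sigma.desc (fun a : σ => j (ι a)) ≫ f) ∧
      LocallyOfFinitePresentation (Sigma.desc (fun a : σ => j (ι a)) ≫ f) ∧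
      LocallyQuasiFinite (Sigma.desc (fun a : σ => j (ι a)) ≫ f) ∧
      Surjective (Sigma.desc (fun a : σ => j (ι a)) ≫ f) := by
    intro σ ι hcov
    have heq : Sigma.desc (fun a : σ => j (ι a)) ≫ f = Sigma.desc (fun a : σ => j (ι a) ≫ f) := by
      apply Sigma.hom_ext
      intro a
      simp
    rw [heq]
    refine ⟨IsZariskiLocalAtSource.sigmaDesc (fun a => hfl (ι a)),
      IsZariskiLocalAtSource.sigmaDesc (fun a => hfp (ι a)),
      IsZariskiLocalAtSource.sigmaDesc (fun a => hqf (ι a)),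
      Surjective.sigmaDesc_of_union_range_eq_univ ?_⟩
    rw [Set.eq_univ_iff_forall]
    intro s
    obtain ⟨a, ha⟩ := hcov s
    exact Set.mem_iUnion.mpr ⟨a, ha⟩
  by_cases hS : CompactSpace S
  · have hopen : ∀ s : S, IsOpen (Set.range (j s ≫ f)) := fun s =>
      (j s ≫ f).isOpenMap.isOpen_range
    obtain ⟨t, ht⟩ := isCompact_univ.elim_finite_subcover (fun s : S => Set.range (j s ≫ f)) hopen
      (fun s _ => Set.mem_iUnion.mpr ⟨s, hs s⟩)
    obtain ⟨h1, h2, h3, h4⟩ := key {s : S // s ∈ t} Subtype.val (by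
      intro s
      obtain ⟨a, ha⟩ := Set.mem_iUnion.mp (ht (Set.mem_univ s))
      obtain ⟨hat, ha⟩ := Set.mem_iUnion.mp ha
      exact ⟨⟨a, hat⟩, ha⟩)
    refine ⟨_, _, h1, h2, h3, h4, fun _ => ?_⟩
    haveI : ∀ a : {s : S // s ∈ t}, IsAffine (Z a.1) := fun a => hZ a.1
    infer_instance
  · obtain ⟨h1, h2, h3, h4⟩ := key S id (fun s => ⟨s, hs s⟩)
    exact ⟨_, _, h1, h2, h3, h4, fun h => absurd h hS⟩

end Groth.Agent.Lib.Helper21.LqfCover
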