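import Mathlib
import Groth.Agent.Lib.Helper21.CMAff4
import Groth.Agent.Lib.Helper21.LqfCover
import Groth.Agent.Lib.Helper21.FlatDescK

set_option autoImplicit false

namespace Groth.Agent.Lib.Helper21.CMAff

open AlgebraicGeometry CategoryTheory Limits
open Groth.Agent.Lib.Helper21.FlatDesc Groth.Agent.Lib.Helper21.FibreStalk

universe u

/-- the Cohen–Macaulay locus of a fibre of a morphism locally of finite type is open. -/
theorem isOpen_CM_locus_fiber {X S : Scheme.{u}} (g : X ⟶ S) [LocallyOfFiniteType g] (s : S) :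
    IsOpen {y : g.fiber s | LocCoh.IsCohenMacaulayLocalRing ((g.fiber s).presheaf.stalk y)} := by
  rw [isOpen_iff_forall_mem_open]
  intro y₀ hy₀
  haveI hφ : LocallyOfFiniteType (g.fiberToSpecResidueField s) :=
    MorphismProperty.pullback_snd _ _ inferInstance
  obtain ⟨_, ⟨W, hW : IsAffineOpen W, rfl⟩, hyW, -⟩ :=
    (g.fiber s).isBasis_affineOpens.exists_subset_of_mem_open (Set.mem_univ y₀) isOpen_univ
  have hft : RingHom.FiniteType ((g.fiberToSpecResidueField s).appLE ⊤ W le_top).hom :=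
    HasRingHomProperty.appLE @LocallyOfFiniteType (g.fiberToSpecResidueField s) inferInstance
      ⟨⊤, isAffineOpen_top _⟩ ⟨W, hW⟩ le_top
  let ψ : S.residueField s →+* Γ(g.fiber s, W) :=
    ((g.fiberToSpecResidueField s).appLE ⊤ W le_top).hom.comp
      (Scheme.ΓSpecIso (S.residueField s)).inv.hom
  have hψ : ψ.FiniteType := hft.comp (RingHom.FiniteType.of_surjective _
    (ConcreteCategory.bijective_of_isIso (Scheme.ΓSpecIso (S.residueField s)).inv).2)
  letI : Algebra (S.residueField s) Γ(g.fiber s, W) := ψ.toAlgebra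
  haveI : Algebra.FiniteType (S.residueField s) Γ(g.fiber s, W) := hψ
  have hopen := Groth.Agent.Lib.helper11.CMLocus.isOpen_CM_locus (S.residueField s) Γ(g.fiber s, W)
  have key : ∀ y : W, LocCoh.IsCohenMacaulayLocalRing ((g.fiber s).presheaf.stalk y.1) ↔
      LocCoh.IsCohenMacaulayLocalRing (Localization.AtPrime (hW.primeIdealOf y).asIdeal) := by
    intro y
    letI : Algebra Γ(g.fiber s, W) ((g.fiber s).presheaf.stalk y.1) :=
      (g.fiber s).presheaf.algebra_section_stalk y
    haveI hloc : IsLocalization.AtPrime ((g.fiber s).presheaf.stalk y.1)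
      (hW.primeIdealOf y).asIdeal := hW.isLocalization_stalk y
    let e := (IsLocalization.algEquiv (hW.primeIdealOf y).asIdeal.primeCompl
        (Localization.AtPrime (hW.primeIdealOf y).asIdeal)
        ((g.fiber s).presheaf.stalk y.1)).toRingEquiv
    exact ⟨fun h => FibreBCAlg.isCMLocal_of_ringEquiv e.symm h,
      fun h => FibreBCAlg.isCMLocal_of_ringEquiv e h⟩
  refine ⟨Subtype.val '' ((fun y : W => hW.primeIdealOf y) ⁻¹'
    {q : PrimeSpectrum Γ(g.fiber s, W) |
      LocCoh.IsCohenMacaulayLocalRing (Localization.AtPrime q.asIdeal)}), ?_, ?_, ?_⟩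
  · rintro _ ⟨y, hy, rfl⟩
    exact (key y).2 hy
  · exact W.2.isOpenMap_subtype_val _ (hopen.preimage hW.isoSpec.hom.continuous)
  · exact ⟨⟨y₀, hyW⟩, (key ⟨y₀, hyW⟩).1 hy₀, rfl⟩

/-- a point at which `f` is Cohen–Macaulay specializes to a point closed in its fibre at which
`f` is Cohen–Macaulay. -/
theorem exists_closed_specialization_CM {X S : Scheme.{u}} (f : X ⟶ S)
    [LocallyOfFinitePresentation f] (x : X) (hcm : MoreMor.IsCMAt f x) :
    ∃ x₁ : X, x ⤳ x₁ ∧ MoreMor.IsCMAt f x₁ ∧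
      IsClosed ({f.asFiber x₁} : Set ↑(f.fiber (f x₁))) := by
  obtain ⟨hflat, hCM⟩ := hcm
  have hO1 : IsOpen {y : f.fiber (f x) | (f.stalkMap (f.fiberι (f x) y)).hom.Flat} :=
    (isOpen_flat_locus f).preimage (f.fiberι (f x)).continuous
  have hO2 := isOpen_CM_locus_fiber f (f x)
  have hZ : IsLocallyClosed (closure {f.asFiber x} ∩
      ({y : f.fiber (f x) | (f.stalkMap (f.fiberι (f x) y)).hom.Flat} ∩
        {y : f.fiber (f x) | LocCoh.IsCohenMacaulayLocalRing
          ((f.fiber (f x)).presheaf.stalk y)})) :=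
    (isClosed_closure.isLocallyClosed).inter (hO1.inter hO2).isLocallyClosed
  have hne : (closure {f.asFiber x} ∩
      ({y : f.fiber (f x) | (f.stalkMap (f.fiberι (f x) y)).hom.Flat} ∩
        {y : f.fiber (f x) | LocCoh.IsCohenMacaulayLocalRing
          ((f.fiber (f x)).presheaf.stalk y)})).Nonempty := by
    refine ⟨f.asFiber x, subset_closure rfl, ?_, hCM⟩
    show (f.stalkMap (f.fiberι (f x) (f.asFiber x))).hom.Flat
    rw [f.fiberι_asFiber x]
    exact hflat
  obtain ⟨y₁, ⟨hy1, hy2, hy3⟩, hycl⟩ := nonempty_inter_closedPoints hne hZ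
  have hx₁ : f (f.fiberι (f x) y₁) = f x := by
    have : f.fiberι (f x) y₁ ∈ Set.range (f.fiberι (f x)) := ⟨y₁, rfl⟩
    rw [Scheme.Hom.range_fiberι] at this
    exact this
  refine ⟨f.fiberι (f x) y₁, ?_, ⟨hy2, ?_⟩, ?_⟩
  · have h1 : f.asFiber x ⤳ y₁ := specializes_iff_mem_closure.mpr hy1
    have h2 := h1.map (f.fiberι (f x)).continuous
    rwa [f.fiberι_asFiber x] at h2
  · exact (LqfCover.asFiber_transport f
      (fun s y => LocCoh.IsCohenMacaulayLocalRing ((f.fiber s).presheaf.stalk y))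
      (f.fiberι (f x) y₁) (f x) hx₁ y₁ rfl hy3)
  · exact (LqfCover.asFiber_transport f
      (fun s y => IsClosed ({y} : Set ↑(f.fiber s)))
      (f.fiberι (f x) y₁) (f x) hx₁ y₁ rfl hycl)

end Groth.Agent.Lib.Helper21.CMAff
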