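import Mathlib
import Groth.Agent.Lib.Helper5.CMFlatLocal
import Groth.Agent.Lib.Helper21.FlatDescQ4
import Groth.Agent.Lib.Helper21.CMPoint

set_option autoImplicit false

namespace Groth.Agent.Lib.Helper21.CMAff

open IsLocalRing
open Groth.Agent.Lib.Helper21.FlatDesc

universe u

set_option maxHeartbeats 1600000 in
set_option synthInstance.maxHeartbeats 200000 in
/-- **Cohen–Macaulayness of the closed fibre along a flat quasi-finite local map**: for local
homomorphisms `R → P → O` with `P` flat over `R`, `O` flat and quasi-finite over `P`, and the closed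
fibre `P / m_R P` Cohen–Macaulay, `O` is flat over `R` and `O / m_R O` is Cohen–Macaulay. -/
theorem cm_quot_of_flat_quasiFinite {R P O : Type u} [CommRing R] [CommRing P] [CommRing O]
    [IsLocalRing R] [IsLocalRing P] [IsLocalRing O] (a : R →+* P) (b : P →+* O)
    [IsLocalHom a] [IsLocalHom b] (ha : a.Flat) (hb : b.Flat) (hqf : b.QuasiFinite)
    [IsNoetherianRing (O ⧸ (maximalIdeal R).map (b.comp a))]
    (hCM : LocCoh.IsCohenMacaulayLocalRing (P ⧸ (maximalIdeal R).map a)) :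
    (b.comp a).Flat ∧
      LocCoh.IsCohenMacaulayLocalRing (O ⧸ (maximalIdeal R).map (b.comp a)) := by
  refine ⟨RingHom.Flat.comp ha hb, ?_⟩
  set I : Ideal P := (maximalIdeal R).map a with hI
  set J : Ideal O := (maximalIdeal R).map (b.comp a) with hJ
  have hIJ : I.map b = J := by rw [hI, hJ, Ideal.map_map]
  have hIJ' : I ≤ J.comap b := by rw [← hIJ]; exact Ideal.le_comap_map
  have hJm : J ≤ maximalIdeal O := by
    haveI : IsLocalHom (b.comp a) := RingHom.isLocalHom_comp b a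
    exact IsLocalRing.map_maximalIdeal_le (b.comp a)
  have hIm : I ≤ maximalIdeal P := IsLocalRing.map_maximalIdeal_le a
  haveI : Nontrivial (O ⧸ J) :=
    Ideal.Quotient.nontrivial_iff.mpr (fun h => (maximalIdeal.isMaximal O).ne_top
      (top_le_iff.mp (h ▸ hJm)))
  haveI : IsLocalRing (O ⧸ J) :=
    IsLocalRing.of_surjective' (Ideal.Quotient.mk J) Ideal.Quotient.mk_surjective
  haveI := hCM
  haveI hPloc : IsLocalRing (P ⧸ I) := inferInstance
  haveI hPN : IsNoetherianRing (P ⧸ I) := inferInstance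
  let φ' : (P ⧸ I) →+* (O ⧸ J) := Ideal.quotientMap J b hIJ'
  letI aPO : Algebra P O := b.toAlgebra
  haveI : Module.Flat P O := hb
  haveI : Algebra.QuasiFinite P O := hqf
  have hφ'flat : φ'.Flat := by
    refine (flat_bar_iff (B := P) (C := O) I (Ideal.Quotient.mk I) (Ideal.Quotient.mk J) φ'
      Ideal.Quotient.mk_surjective Ideal.Quotient.mk_surjective Ideal.mk_ker ?_ ?_).mpr
      (flat_quot_smul_of_flat P O I)
    · rw [Ideal.mk_ker]; exact hIJ.symm
    · exact RingHom.ext fun p =>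
        (Ideal.quotientMap_mk : φ' (Ideal.Quotient.mk I p) = Ideal.Quotient.mk J (b p))
  letI aPŌ : Algebra (P ⧸ I) (O ⧸ J) := φ'.toAlgebra
  haveI : Module.Flat (P ⧸ I) (O ⧸ J) := hφ'flat
  haveI hlocφ : IsLocalHom (algebraMap (P ⧸ I) (O ⧸ J)) := by
    constructor
    intro pb hpb
    obtain ⟨p, rfl⟩ := Ideal.Quotient.mk_surjective pb
    have h1 : IsUnit (Ideal.Quotient.mk J (b p)) := by
      have : algebraMap (P ⧸ I) (O ⧸ J) (Ideal.Quotient.mk I p) = Ideal.Quotient.mk J (b p) :=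
        Ideal.quotientMap_mk
      rwa [this] at hpb
    have h2 : IsUnit (b p) :=
      (IsLocalHom.of_surjective (Ideal.Quotient.mk J) Ideal.Quotient.mk_surjective).map_nonunit _ h1
    exact (isUnit_of_map_unit b p h2).map _
  rw [Groth.Agent.Lib.Helper5.CMFlatLocal.isCohenMacaulayLocalRing_flat_iff (P ⧸ I) (O ⧸ J)]
  refine ⟨hCM, ?_⟩
  set K : Ideal (O ⧸ J) := (maximalIdeal (P ⧸ I)).map (algebraMap (P ⧸ I) (O ⧸ J)) with hK
  have hKm : K ≤ maximalIdeal (O ⧸ J) := IsLocalRing.map_maximalIdeal_le _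
  haveI : Nontrivial ((O ⧸ J) ⧸ K) :=
    Ideal.Quotient.nontrivial_iff.mpr (fun h => (maximalIdeal.isMaximal (O ⧸ J)).ne_top
      (top_le_iff.mp (h ▸ hKm)))
  haveI : IsLocalRing ((O ⧸ J) ⧸ K) :=
    IsLocalRing.of_surjective' (Ideal.Quotient.mk K) Ideal.Quotient.mk_surjective
  apply CMPoint.isCM_of_ringKrullDim_le_zero
  rw [← Nat.cast_zero, ← Ring.krullDimLE_iff, Ring.krullDimLE_zero_iff]
  intro 𝔔 h𝔔
  let σ : O →+* ((O ⧸ J) ⧸ K) := (Ideal.Quotient.mk K).comp (Ideal.Quotient.mk J)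
  have hσ : Function.Surjective σ :=
    Ideal.Quotient.mk_surjective.comp Ideal.Quotient.mk_surjective
  set 𝔓 : Ideal O := 𝔔.comap σ with h𝔓
  haveI : 𝔓.IsPrime := Ideal.comap_isPrime σ 𝔔
  have hmP : (maximalIdeal P).map b ≤ 𝔓 := by
    rw [Ideal.map_le_iff_le_comap]
    intro p hp
    show σ (b p) ∈ 𝔔
    have h1 : σ (b p) = 0 := by
      show Ideal.Quotient.mk K (Ideal.Quotient.mk J (b p)) = 0
      rw [Ideal.Quotient.eq_zero_iff_mem]
      have h2 : Ideal.Quotient.mk J (b p) = algebraMap (P ⧸ I) (O ⧸ J) (Ideal.Quotient.mk I p) :=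
        Ideal.quotientMap_mk.symm
      rw [h2]
      refine Ideal.mem_map_of_mem _ ?_
      rw [IsLocalRing.mem_maximalIdeal, mem_nonunits_iff]
      intro hu
      have := (IsLocalHom.of_surjective (Ideal.Quotient.mk I)
        Ideal.Quotient.mk_surjective).map_nonunit _ hu
      exact (IsLocalRing.mem_maximalIdeal _).mp hp this
    rw [h1]; exact 𝔔.zero_mem
  have h𝔓m : 𝔓 = maximalIdeal O := by
    haveI : (maximalIdeal O).IsPrime := (maximalIdeal.isMaximal O).isPrime
    refine Algebra.QuasiFinite.eq_of_le_of_under_eq (R := P) 𝔓 (maximalIdeal O)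
      (IsLocalRing.le_maximalIdeal_of_isPrime 𝔓) ?_
    have h1 : (maximalIdeal O).under P = maximalIdeal P := by
      show (maximalIdeal O).comap b = _
      exact IsLocalRing.maximalIdeal_comap b
    rw [h1]
    refine ((maximalIdeal.isMaximal P).eq_of_le ?_ ?_).symm
    · exact (Ideal.comap_isPrime (algebraMap P O) 𝔓).ne_top
    · exact Ideal.map_le_iff_le_comap.mp hmP
  have h𝔔eq : 𝔔 = (maximalIdeal O).map σ := by
    rw [← h𝔓m, h𝔓, Ideal.map_comap_of_surjective σ hσ]
  have hne : 𝔔 ≠ ⊤ := h𝔔.ne_top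
  rw [h𝔔eq] at hne ⊢
  exact (Ideal.map_eq_top_or_isMaximal_of_surjective σ hσ (maximalIdeal.isMaximal O)).resolve_left
    hne

end Groth.Agent.Lib.Helper21.CMAff
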