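import Mathlib
import Groth.Agent.Lib.Helper21.CMAff6
import Groth.Agent.Lib.Helper21.CMAff7
import Groth.Agent.Lib.Helper21.CMKit

set_option autoImplicit false

namespace Groth.Agent.Lib.Helper21.CMAff

open AlgebraicGeometry CategoryTheory Limits
open IsLocalRing MvPolynomial
open Groth.Agent.Lib.Helper21.FlatDesc Groth.Agent.Lib.Helper21.FibreStalk

universe u

set_option backward.isDefEq.respectTransparency.types false in
/-- affine space is flat over its base. -/
instance flat_over (n : Type u) (S : Scheme.{u}) : Flat (𝔸(n; S) ↘ S) :=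
  MorphismProperty.pullback_fst _ _ <| by
  have := isIso_of_isTerminal specULiftZIsTerminal.{u} terminalIsTerminal (terminal.from _)
  rw [← terminal.comp_from (Spec.map (CommRingCat.ofHom C)),
    MorphismProperty.cancel_right_of_respectsIso (P := @Flat),
    HasRingHomProperty.Spec_iff (P := @Flat)]
  show (algebraMap (ULift.{u} ℤ) (MvPolynomial n (ULift.{u} ℤ))).Flat
  rw [RingHom.flat_algebraMap_iff]
  infer_instance


/-- the local rings of an affine scheme with regular coordinate ring are Cohen–Macaulay. -/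
theorem isCM_stalk_of_isRegularRing (F : Scheme.{u}) [IsAffine F] [IsRegularRing Γ(F, ⊤)] (y : F) :
    LocCoh.IsCohenMacaulayLocalRing (F.presheaf.stalk y) := by
  have hW : IsAffineOpen (⊤ : F.Opens) := isAffineOpen_top F
  let y' : (⊤ : F.Opens) := ⟨y, trivial⟩
  letI : Algebra Γ(F, ⊤) (F.presheaf.stalk y) := F.presheaf.algebra_section_stalk y'
  haveI hloc : IsLocalization.AtPrime (F.presheaf.stalk y)
      (hW.primeIdealOf y').asIdeal := hW.isLocalization_stalk y'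
  have hCM := (CMKit.isCM_of_isRegularRing Γ(F, ⊤)).isCohenMacaulayLocalRing_localization
    (hW.primeIdealOf y').asIdeal
  exact FibreBCAlg.isCMLocal_of_ringEquiv
    (IsLocalization.algEquiv (hW.primeIdealOf y').asIdeal.primeCompl
      (Localization.AtPrime (hW.primeIdealOf y').asIdeal)
      (F.presheaf.stalk y)).toRingEquiv hCM

/-- the local rings of the fibres of affine space over a base are Cohen–Macaulay. -/
theorem isCM_stalk_fiber_affineSpace (n : Type u) [Finite n] (Y : Scheme.{u}) (s : Y)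
    (y : (𝔸(n; Y) ↘ Y).fiber s) :
    LocCoh.IsCohenMacaulayLocalRing (((𝔸(n; Y) ↘ Y).fiber s).presheaf.stalk y) := by
  let φ : (𝔸(n; Y) ↘ Y).fiber s ≅ Spec (CommRingCat.of (MvPolynomial n (Y.residueField s))) :=
    (IsPullback.of_hasPullback (𝔸(n; Y) ↘ Y) (Y.fromSpecResidueField s)).isoIsPullback _ _
      (AffineSpace.isPullback_map (n := n) (Y.fromSpecResidueField s)) ≪≫
      AffineSpace.SpecIso n (.of (Y.residueField s))
  haveI : IsAffine ((𝔸(n; Y) ↘ Y).fiber s) := IsAffine.of_isIso φ.hom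
  let e : Γ((𝔸(n; Y) ↘ Y).fiber s, ⊤) ≃+* MvPolynomial n (Y.residueField s) :=
    ((Scheme.Γ.mapIso φ.op).symm ≪≫
      Scheme.ΓSpecIso (CommRingCat.of (MvPolynomial n (Y.residueField s)))).commRingCatIsoToRingEquiv
  haveI : IsRegularRing Γ((𝔸(n; Y) ↘ Y).fiber s, ⊤) := IsRegularRing.of_ringEquiv e.symm
  exact isCM_stalk_of_isRegularRing _ y

/-- the stalk-level form of `IsCMAt`. -/
def SCM {X Y : Scheme.{u}} (f : X ⟶ Y) (x : X) : Prop :=
  (f.stalkMap x).hom.Flat ∧ LocCoh.IsCohenMacaulayLocalRing (X.presheaf.stalk x ⧸ fibIdeal f x)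

theorem isCMAt_iff_scm {X Y : Scheme.{u}} (f : X ⟶ Y) (x : X) : MoreMor.IsCMAt f x ↔ SCM f x := by
  obtain ⟨e⟩ := nonempty_fibreStalkEquiv f x
  unfold MoreMor.IsCMAt SCM
  exact and_congr Iff.rfl ⟨fun h => FibreBCAlg.isCMLocal_of_ringEquiv e h,
    fun h => FibreBCAlg.isCMLocal_of_ringEquiv e.symm h⟩

theorem scm_congr {X Y : Scheme.{u}} {f₁ f₂ : X ⟶ Y} (e : f₁ = f₂) (x : X) (h : SCM f₁ x) :
    SCM f₂ x := by
  subst e; exact h


set_option maxHeartbeats 1600000 in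
set_option synthInstance.maxHeartbeats 200000 in
/-- the composite `X' ⟶ Z ⟶ Y` of a morphism quasi-finite and flat at `x'` and a flat morphism with
Cohen–Macaulay fibres is Cohen–Macaulay at `x'`. -/
theorem scm_comp {X' Z Y : Scheme.{u}} (g : X' ⟶ Z) (π : Z ⟶ Y) [LocallyQuasiFinite g] [Flat π]
    [LocallyOfFinitePresentation (g ≫ π)] (x' : X')
    (hflat : (g.stalkMap x').hom.Flat)
    (hCMπ : LocCoh.IsCohenMacaulayLocalRing
      ((π.fiber (π (g x'))).presheaf.stalk (π.asFiber (g x')))) :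
    SCM (g ≫ π) x' := by
  have hcomp : ((g ≫ π).stalkMap x').hom = (g.stalkMap x').hom.comp (π.stalkMap (g x')).hom := by
    rw [Scheme.Hom.stalkMap_comp]
    rfl
  haveI : IsLocalHom (π.stalkMap (g x')).hom := inferInstance
  haveI : IsLocalHom (g.stalkMap x').hom := inferInstance
  obtain ⟨eπ⟩ := nonempty_fibreStalkEquiv π (g x')
  have hCM : LocCoh.IsCohenMacaulayLocalRing (Z.presheaf.stalk (g x') ⧸
      (maximalIdeal (Y.presheaf.stalk (π (g x')))).map (π.stalkMap (g x')).hom) :=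
    FibreBCAlg.isCMLocal_of_ringEquiv eπ hCMπ
  haveI : IsLocallyNoetherian ((g ≫ π).fiber ((g ≫ π) x')) := by
    unfold Scheme.Hom.fiber
    infer_instance
  obtain ⟨e⟩ := nonempty_fibreStalkEquiv (g ≫ π) x'
  haveI hN : IsNoetherianRing (X'.presheaf.stalk x' ⧸ fibIdeal (g ≫ π) x') :=
    isNoetherianRing_of_ringEquiv _ e
  haveI hN' : IsNoetherianRing (X'.presheaf.stalk x' ⧸
      (maximalIdeal (Y.presheaf.stalk (π (g x')))).map
        ((g.stalkMap x').hom.comp (π.stalkMap (g x')).hom)) := by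
    have : fibIdeal (g ≫ π) x' = (maximalIdeal (Y.presheaf.stalk (π (g x')))).map
        ((g.stalkMap x').hom.comp (π.stalkMap (g x')).hom) := by
      exact congrArg (fun φ => Ideal.map φ (maximalIdeal (Y.presheaf.stalk (π (g x'))))) hcomp
    rw [← this]
    exact hN
  have key := cm_quot_of_flat_quasiFinite (π.stalkMap (g x')).hom (g.stalkMap x').hom
    (Flat.stalkMap π (g x')) hflat (g.quasiFiniteAt x') hCM
  unfold SCM
  show ((g ≫ π).stalkMap x').hom.Flat ∧ LocCoh.IsCohenMacaulayLocalRing (X'.presheaf.stalk x' ⧸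
    (maximalIdeal (Y.presheaf.stalk (π (g x')))).map ((g ≫ π).stalkMap x').hom)
  rw [hcomp]
  exact key

/-- `SCM` is insensitive to restriction to an open neighbourhood. -/
theorem scm_of_scm_ι {X Y : Scheme.{u}} (f : X ⟶ Y) (U : X.Opens) (x : X) (hx : x ∈ U)
    (h : SCM (U.ι ≫ f) ⟨x, hx⟩) : SCM f x := by
  have hcomp : ((U.ι ≫ f).stalkMap ⟨x, hx⟩).hom =
      (U.ι.stalkMap ⟨x, hx⟩).hom.comp (f.stalkMap x).hom := by
    rw [Scheme.Hom.stalkMap_comp]
    rfl
  let ε : X.presheaf.stalk x ≃+* (U : Scheme.{u}).presheaf.stalk ⟨x, hx⟩ :=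
    (asIso (U.ι.stalkMap ⟨x, hx⟩)).commRingCatIsoToRingEquiv
  have hε : (ε : X.presheaf.stalk x →+* _) = (U.ι.stalkMap ⟨x, hx⟩).hom := rfl
  obtain ⟨h1, h2⟩ := h
  refine ⟨?_, ?_⟩
  · have h3 : (f.stalkMap x).hom =
        (ε.symm : _ →+* X.presheaf.stalk x).comp ((U.ι ≫ f).stalkMap ⟨x, hx⟩).hom := by
      rw [hcomp, ← hε]
      ext a
      exact (ε.symm_apply_apply _).symm
    rw [h3]
    exact RingHom.Flat.comp h1 (RingHom.Flat.of_bijective ε.symm.bijective)
  · have hI : fibIdeal (U.ι ≫ f) ⟨x, hx⟩ = (fibIdeal f x).map (ε : X.presheaf.stalk x →+* _) := by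
      show (maximalIdeal (Y.presheaf.stalk (f x))).map ((U.ι ≫ f).stalkMap ⟨x, hx⟩).hom = _
      rw [hcomp, hε]
      exact (Ideal.map_map _ _).symm
    exact FibreBCAlg.isCMLocal_of_ringEquiv
      (Ideal.quotientEquiv (fibIdeal f x) (fibIdeal (U.ι ≫ f) ⟨x, hx⟩) ε hI).symm h2

set_option maxHeartbeats 1600000 in
/-- **(b) ⇒ (a)**. -/
theorem isCMAt_of_lqf_flat {X Y : Scheme.{u}} (f : X ⟶ Y) [LocallyOfFinitePresentation f] (x : X)
    (n : Type u) [Finite n] (U : X.Opens) (hx : x ∈ U) (g : (U : Scheme.{u}) ⟶ 𝔸(n; Y))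
    (hg : g ≫ (𝔸(n; Y) ↘ Y) = U.ι ≫ f) [LocallyQuasiFinite g]
    (hflat : (g.stalkMap ⟨x, hx⟩).hom.Flat) : MoreMor.IsCMAt f x := by
  rw [isCMAt_iff_scm]
  apply scm_of_scm_ι f U x hx
  haveI : LocallyOfFinitePresentation (g ≫ (𝔸(n; Y) ↘ Y)) := by
    rw [hg]; infer_instance
  have h1 : SCM (g ≫ (𝔸(n; Y) ↘ Y)) ⟨x, hx⟩ :=
    scm_comp g (𝔸(n; Y) ↘ Y) _ hflat (isCM_stalk_fiber_affineSpace n Y _ _)
  exact scm_congr hg _ h1

end Groth.Agent.Lib.Helper21.CMAff
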