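import Mathlib
import Groth.Agent.Lib.Helper21.CMAff8
import Groth.Agent.Lib.Helper24.FibreDim.Main3386

set_option autoImplicit false

namespace Groth.Agent.Lib.Helper21.CMAff

open AlgebraicGeometry CategoryTheory Limits
open Groth.Agent.Lib.Helper24.FibreDim

universe u

theorem tr_congr {X Y : Scheme.{u}} {f₁ f₂ : X ⟶ Y} (e : f₁ = f₂) [LocallyOfFiniteType f₁]
    [LocallyOfFiniteType f₂] (x : X) : tr f₁ x = tr f₂ x := by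
  subst e; rfl

set_option maxHeartbeats 800000 in
/-- a neighbourhood of `x` admitting a flat locally quasi-finite map to affine `n`-space forces the
fibre dimension at `x` to be `n`. -/
theorem fibreDimAt_eq_of_flat_lqf {X Y : Scheme.{u}} (f : X ⟶ Y) [LocallyOfFiniteType f] (x : X)
    (n : ℕ) (U : X.Opens) (hx : x ∈ U) (g : (U : Scheme.{u}) ⟶ 𝔸(ULift.{u} (Fin n); Y))
    (hg : g ≫ (𝔸(ULift.{u} (Fin n); Y) ↘ Y) = U.ι ≫ f) [LocallyQuasiFinite g] [Flat g] :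
    FlatMor.fibreDimAt f x = n := by
  haveI h1 : LocallyOfFiniteType (g ≫ (𝔸(ULift.{u} (Fin n); Y) ↘ Y)) := by
    rw [hg]; infer_instance
  haveI : LocallyOfFiniteType g := locallyOfFiniteType_of_comp g (𝔸(ULift.{u} (Fin n); Y) ↘ Y)
  rw [fibreDimAt_eq_tr_add_G]
  have key := tr_add_G_eq_of_points' f x n U hx ?_
  · exact_mod_cast key
  intro ζ hζ hmax
  have e1 : tr f ζ = tr (U.ι ≫ f) ⟨ζ, hζ⟩ := (tr_comp_openImmersion U.ι f ⟨ζ, hζ⟩).symm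
  have e2 : tr (U.ι ≫ f) ⟨ζ, hζ⟩ = tr (g ≫ (𝔸(ULift.{u} (Fin n); Y) ↘ Y)) ⟨ζ, hζ⟩ :=
    (tr_congr hg _).symm
  have e3 := tr_comp_of_lqf g (𝔸(ULift.{u} (Fin n); Y) ↘ Y) ⟨ζ, hζ⟩
  rw [e1, e2, e3]
  apply tr_affineSpace_of_G_eq_zero
  rw [G_eq_zero_iff]
  intro t' ht' hsp
  obtain ⟨ζ'', hζ'', hgζ''⟩ := (Flat.generalizingMap g) hsp
  have hf'' : f (U.ι ζ'') = f ζ := by
    have a1 : f (U.ι ζ'') = (𝔸(ULift.{u} (Fin n); Y) ↘ Y) (g ζ'') :=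
      (congrArg (fun φ : (U : Scheme.{u}) ⟶ Y => φ ζ'') hg).symm
    have a2 : f ζ = (𝔸(ULift.{u} (Fin n); Y) ↘ Y) (g ⟨ζ, hζ⟩) :=
      (congrArg (fun φ : (U : Scheme.{u}) ⟶ Y => φ ⟨ζ, hζ⟩) hg).symm
    rw [a1, a2, hgζ'', ht']
  have hsp' : U.ι ζ'' ⤳ ζ := hζ''.map U.ι.continuous
  have h3 : U.ι ζ'' = ζ := hmax _ hf'' hsp'
  have h4 : ζ'' = ⟨ζ, hζ⟩ := Subtype.ext h3
  rw [← hgζ'', h4]

end Groth.Agent.Lib.Helper21.CMAff
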