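import Mathlib
import Groth.Agent.Lib.Helper21.CMAff10

set_option autoImplicit false

namespace Groth.Agent.Lib.Helper21.CMAff

open AlgebraicGeometry CategoryTheory Limits
open Groth.Agent.Lib.Helper24.FibreDim

universe u

/-- a continuous generalizing map between quasi-sober spaces sends irreducible components to dense
subsets of irreducible components. -/
theorem closure_image_mem_irreducibleComponents {A B : Type*} [TopologicalSpace A]
    [TopologicalSpace B] [QuasiSober A] [QuasiSober B] (g : A → B) (hg : Continuous g)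
    (hgen : GeneralizingMap g) (Z : Set A) (hZ : Z ∈ irreducibleComponents A) :
    closure (g '' Z) ∈ irreducibleComponents B := by
  have hZirr : IsIrreducible Z := hZ.1
  have hZcl : IsClosed Z := isClosed_of_mem_irreducibleComponents Z hZ
  obtain ⟨ζ, hζ⟩ := QuasiSober.sober hZirr hZcl
  have hζZ : ζ ∈ Z := hζ.mem
  have hirr : IsIrreducible (closure (g '' Z)) := (hZirr.image g hg.continuousOn).closure
  refine ⟨hirr, ?_⟩
  intro T hT hle
  have hTcl : IsIrreducible (closure T) := hT.closure
  obtain ⟨τ, hτ⟩ := QuasiSober.sober hTcl isClosed_closure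
  have h1 : g ζ ∈ closure T := subset_closure (hle (subset_closure ⟨ζ, hζZ, rfl⟩))
  have h2 : τ ⤳ g ζ := by
    rw [specializes_iff_mem_closure, hτ.def]
    exact h1
  obtain ⟨ζ', hζ', hgζ'⟩ := hgen h2
  have h3 : Z ⊆ closure {ζ'} := by
    rw [← hζ.def]
    exact closure_minimal (Set.singleton_subset_iff.mpr (specializes_iff_mem_closure.mp hζ'))
      isClosed_closure
  have h4 : closure {ζ'} ⊆ Z := hZ.2 isIrreducible_singleton.closure h3
  have h5 : ζ' ∈ Z := h4 (subset_closure rfl)
  have h6 : τ ∈ g '' Z := ⟨ζ', h5, hgζ'⟩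
  calc T ⊆ closure T := subset_closure
    _ = closure {τ} := hτ.def.symm
    _ ⊆ closure (g '' Z) := closure_mono (Set.singleton_subset_iff.mpr h6)

/-- flat + Cohen–Macaulay fibre ⇒ equidimensional at `x` (locally Noetherian base). -/
theorem isEquidimAt_of_isCMAt {X Y : Scheme.{u}} [IsLocallyNoetherian Y] (f : X ⟶ Y)
    [LocallyOfFiniteType f] (x : X) (hcm : MoreMor.IsCMAt f x) : EGA43.IsEquidimAt f x := by
  obtain ⟨x₁, hspec, hcm₁, hcl₁⟩ := exists_closed_specialization_CM f x hcm
  obtain ⟨n, U, hx₁, g, hg, hlqf, hflat⟩ := exists_flat_lqf_toAffineSpace_of_closed f x₁ hcm₁ hcl₁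
  have hxU : x ∈ U := hspec.mem_open U.2 hx₁
  haveI := hlqf
  haveI := hflat
  refine main3386_mpr f x n U g hxU hg ?_
  intro Z hZ
  exact closure_image_mem_irreducibleComponents g g.continuous (Flat.generalizingMap g) Z hZ

end Groth.Agent.Lib.Helper21.CMAff
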