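import Mathlib
import Groth.Agent.Lib.Helper21.CMAff8

set_option autoImplicit false

namespace Groth.Agent.Lib.Helper21.CMAff

open AlgebraicGeometry CategoryTheory Limits
open IsLocalRing MvPolynomial
open Groth.Agent.Lib.Helper21.FlatDesc Groth.Agent.Lib.Helper21.FibreStalk

universe u

/-- every nonempty open of a fibre of a morphism locally of finite type contains a point with
Cohen–Macaulay local ring. -/
theorem exists_CM_point_fiber_mem_open {X S : Scheme.{u}} (g : X ⟶ S) [LocallyOfFiniteType g]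
    (s : S) (V : (g.fiber s).Opens) (y₀ : g.fiber s) (hy₀ : y₀ ∈ V) :
    ∃ y : g.fiber s, y ∈ V ∧
      LocCoh.IsCohenMacaulayLocalRing ((g.fiber s).presheaf.stalk y) := by
  haveI hφ : LocallyOfFiniteType (g.fiberToSpecResidueField s) :=
    MorphismProperty.pullback_snd _ _ inferInstance
  obtain ⟨_, ⟨W, hW : IsAffineOpen W, rfl⟩, hyW, hWV⟩ :=
    (g.fiber s).isBasis_affineOpens.exists_subset_of_mem_open hy₀ V.isOpen
  have hft : RingHom.FiniteType ((g.fiberToSpecResidueField s).appLE ⊤ W le_top).hom :=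
    HasRingHomProperty.appLE @LocallyOfFiniteType (g.fiberToSpecResidueField s) inferInstance
      ⟨⊤, isAffineOpen_top _⟩ ⟨W, hW⟩ le_top
  let ψ : S.residueField s →+* Γ(g.fiber s, W) :=
    ((g.fiberToSpecResidueField s).appLE ⊤ W le_top).hom.comp
      (Scheme.ΓSpecIso (S.residueField s)).inv.hom
  have hψ : ψ.FiniteType := hft.comp (RingHom.FiniteType.of_surjective _
    (ConcreteCategory.bijective_of_isIso (Scheme.ΓSpecIso (S.residueField s)).inv).2)
  letI : Algebra (S.residueField s) Γ(g.fiber s, W) := ψ.toAlgebra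
  haveI : Algebra.FiniteType (S.residueField s) Γ(g.fiber s, W) := hψ
  haveI : Nontrivial Γ(g.fiber s, W) :=
    PrimeSpectrum.nonempty_iff_nontrivial.mp ⟨hW.primeIdealOf ⟨y₀, hyW⟩⟩
  obtain ⟨m, hm, hCM⟩ := CMPoint.exists_maximal_isCM (S.residueField s) Γ(g.fiber s, W)
  let mpt : PrimeSpectrum Γ(g.fiber s, W) := ⟨m, hm.isPrime⟩
  set y : g.fiber s := hW.fromSpec mpt with hy
  have hyW' : y ∈ W := by
    have : y ∈ Set.range hW.fromSpec := ⟨mpt, rfl⟩
    rwa [hW.range_fromSpec] at this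
  have hprime : hW.primeIdealOf ⟨y, hyW'⟩ = mpt := by
    apply hW.fromSpec.isOpenEmbedding.injective
    rw [hW.fromSpec_primeIdealOf]
  refine ⟨y, hWV hyW', ?_⟩
  letI : Algebra Γ(g.fiber s, W) ((g.fiber s).presheaf.stalk y) :=
    (g.fiber s).presheaf.algebra_section_stalk ⟨y, hyW'⟩
  haveI hloc : IsLocalization.AtPrime ((g.fiber s).presheaf.stalk y) m := by
    have := hW.isLocalization_stalk ⟨y, hyW'⟩
    rw [hprime] at this
    exact this
  exact FibreBCAlg.isCMLocal_of_ringEquiv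
    (IsLocalization.algEquiv m.primeCompl (Localization.AtPrime m)
      ((g.fiber s).presheaf.stalk y)).toRingEquiv hCM

/-- for a flat morphism locally of finite type, the Cohen–Macaulay locus is dense in every
fibre. -/
theorem dense_CM_fiber {X S : Scheme.{u}} (f : X ⟶ S) [Flat f] [LocallyOfFiniteType f] (s : S) :
    Dense ((f.fiberι s) ⁻¹' {x : ↑X | MoreMor.IsCMAt f x}) := by
  rw [dense_iff_inter_open]
  intro V hV ⟨y₀, hy₀⟩
  obtain ⟨y, hyV, hyCM⟩ := exists_CM_point_fiber_mem_open f s ⟨V, hV⟩ y₀ hy₀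
  refine ⟨y, hyV, ?_⟩
  have hx : f (f.fiberι s y) = s := by
    have : f.fiberι s y ∈ Set.range (f.fiberι s) := ⟨y, rfl⟩
    rw [Scheme.Hom.range_fiberι] at this
    exact this
  exact ⟨Flat.stalkMap f _, LqfCover.asFiber_transport f
      (fun s y => LocCoh.IsCohenMacaulayLocalRing ((f.fiber s).presheaf.stalk y))
      (f.fiberι s y) s hx y rfl hyCM⟩

end Groth.Agent.Lib.Helper21.CMAff
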