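import Mathlib
import Groth.Agent.Lib.helper11.ConstrTop

/-!
# Helper21 — ConsLoc1: a constructibility criterion in Noetherian spaces
-/

set_option autoImplicit false

namespace Groth.Agent.Lib.Helper21.ConsLoc

open TopologicalSpace Set Topology

universe u

/-- **Constructibility criterion** (EGA 0_III 9.2.3): in a Noetherian space, a set `E` is
constructible as soon as every irreducible closed subset `Y` has a nonempty relatively open part
lying in `E` or in the complement of `E`. -/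
theorem isConstructible_of_dichotomy {X : Type*} [TopologicalSpace X] [NoetherianSpace X]
    (E : Set X)
    (H : ∀ Y : Set X, IsClosed Y → IsIrreducible Y →
      ∃ U : Set X, IsOpen U ∧ (U ∩ Y).Nonempty ∧ (U ∩ Y ⊆ E ∨ U ∩ Y ⊆ Eᶜ)) :
    IsConstructible E := by
  have key : ∀ Y : Set X, IsClosed Y → IsConstructible (E ∩ Y) := by
    intro Y hY
    refine Groth.Agent.Lib.helper11.ConstrTop.closed_induction
      (fun Y => IsConstructible (E ∩ Y)) ?_ ?_ ?_ Y hY
    · simp
    · intro Y₁ Y₂ _ _ h₁ h₂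
      show IsConstructible (E ∩ (Y₁ ∪ Y₂))
      rw [inter_union_distrib_left]
      exact h₁.union h₂
    · intro Y hYc hYi ih
      obtain ⟨U, hU, hne, h⟩ := H Y hYc hYi
      have h1 : IsConstructible (E ∩ (Y \ U)) :=
        ih (Y \ U) (hYc.sdiff hU)
          (Groth.Agent.Lib.helper11.ConstrTop.diff_ssubset_of_inter_nonempty hne)
      have hUY : IsConstructible (U ∩ Y) :=
        (Groth.Agent.Lib.helper11.ConstrTop.isConstructible_of_isOpen hU).inter
          (Groth.Agent.Lib.helper11.ConstrTop.isConstructible_of_isClosed hYc)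
      show IsConstructible (E ∩ Y)
      have e : E ∩ Y = (E ∩ (Y \ U)) ∪ (E ∩ (U ∩ Y)) := by
        ext y
        simp only [mem_inter_iff, mem_union, mem_diff]
        tauto
      rw [e]
      rcases h with h | h
      · have : E ∩ (U ∩ Y) = U ∩ Y := inter_eq_right.mpr h
        rw [this]
        exact h1.union hUY
      · have : E ∩ (U ∩ Y) = ∅ := by
          ext y
          simp only [mem_inter_iff, mem_empty_iff_false, iff_false]
          rintro ⟨hyE, hy⟩
          exact h hy hyE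
        rw [this, union_empty]
        exact h1
  simpa using key univ isClosed_univ

/-- the dichotomy for an irreducible closed set `Z` with generic point `z`, read off from an
embedded chart `j` through `z` on which `E` is open. -/
theorem exists_open_dichotomy {X X' : Type*} [TopologicalSpace X] [TopologicalSpace X']
    (j : X' → X) (hj : IsEmbedding j) (E : Set X) (hE : IsOpen (j ⁻¹' E))
    (Z : Set X) (z : X) (hz : Z ⊆ closure {z}) (hzZ : z ∈ Z)
    (O₁ : Set X) (hO₁ : IsOpen O₁) (hzO₁ : z ∈ O₁) (hO₁Z : O₁ ∩ Z ⊆ range j) :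
    ∃ U : Set X, IsOpen U ∧ (U ∩ Z).Nonempty ∧ (U ∩ Z ⊆ E ∨ U ∩ Z ⊆ Eᶜ) := by
  obtain ⟨O₂, hO₂, hO₂E⟩ := hj.isInducing.isOpen_iff.mp hE
  obtain ⟨z', rfl⟩ := hO₁Z ⟨hzO₁, hzZ⟩
  by_cases hzE : j z' ∈ E
  · have hzO₂ : j z' ∈ O₂ := by
      have : z' ∈ j ⁻¹' O₂ := by rw [hO₂E]; exact hzE
      exact this
    refine ⟨O₁ ∩ O₂, hO₁.inter hO₂, ⟨j z', ⟨hzO₁, hzO₂⟩, hzZ⟩, Or.inl ?_⟩
    rintro y ⟨⟨hy1, hy2⟩, hyZ⟩
    obtain ⟨y', rfl⟩ := hO₁Z ⟨hy1, hyZ⟩
    have : y' ∈ j ⁻¹' O₂ := hy2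
    rw [hO₂E] at this
    exact this
  · refine ⟨O₁, hO₁, ⟨j z', hzO₁, hzZ⟩, Or.inr ?_⟩
    rintro y ⟨hy1, hyZ⟩ hyE
    obtain ⟨y', rfl⟩ := hO₁Z ⟨hy1, hyZ⟩
    have hy2 : j y' ∈ O₂ := by
      have : y' ∈ j ⁻¹' O₂ := by rw [hO₂E]; exact hyE
      exact this
    have hsp : j z' ⤳ j y' := specializes_iff_mem_closure.mpr (hz hyZ)
    have hzO₂ : j z' ∈ O₂ := hsp.mem_open hO₂ hy2
    apply hzE
    have : z' ∈ j ⁻¹' O₂ := hzO₂
    rw [hO₂E] at this
    exact this

end Groth.Agent.Lib.Helper21.ConsLoc
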