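import Mathlib
import Groth.Agent.Lib.Helper21.ConsLoc1
import Groth.Agent.S0414

/-!
# Helper21 — ConsLoc2: constructibility of fibrewise loci, Noetherian affine base
-/

set_option autoImplicit false

namespace Groth.Agent.Lib.Helper21.ConsLoc

open AlgebraicGeometry CategoryTheory Limits TopologicalSpace Topology

universe u

/-- a pointwise property of morphisms which is invariant under base change and restriction to
opens of the source, and open on flat finitely presented morphisms. -/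
structure FibPred (P : ∀ {X S : Scheme.{u}} (_ : X ⟶ S), X → Prop) : Prop where
  bc : ∀ {X Y X' Y' : Scheme.{u}} {f : X ⟶ Y} {f' : X' ⟶ Y'} {g' : X' ⟶ X} {g : Y' ⟶ Y}
    [LocallyOfFiniteType f] (_ : IsPullback g' f' f g) (x' : X'), P f' x' ↔ P f (g' x')
  src : ∀ {X' X S : Scheme.{u}} (j : X' ⟶ X) [IsOpenImmersion j] (f : X ⟶ S) (x' : X'),
    P (j ≫ f) x' ↔ P f (j x')
  isOpen : ∀ {X S : Scheme.{u}} (f : X ⟶ S) [Flat f] [LocallyOfFinitePresentation f],
    IsOpen {x | P f x}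

variable {P : ∀ {X S : Scheme.{u}} (_ : X ⟶ S), X → Prop}

set_option maxHeartbeats 1600000 in
/-- **Noetherian affine base.** -/
theorem isConstructible_of_noetherian (hP : FibPred @P) (A₀ : CommRingCat.{u})
    [IsNoetherianRing A₀] {X : Scheme.{u}} (f : X ⟶ Spec A₀) [LocallyOfFiniteType f]
    [QuasiCompact f] : IsConstructible {x : X | P f x} := by
  haveI : IsLocallyNoetherian X := LocallyOfFiniteType.isLocallyNoetherian f
  haveI : CompactSpace X := QuasiCompact.compactSpace_of_compactSpace f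
  haveI : IsNoetherian X := ⟨⟩
  apply isConstructible_of_dichotomy
  intro Z hZc hZi
  obtain ⟨z, hz⟩ := QuasiSober.sober hZi hZc
  have hzZ : z ∈ Z := hz.mem
  set s : Spec A₀ := f z with hs
  let 𝔭 : Ideal A₀ := s.asIdeal
  haveI : 𝔭.IsPrime := s.isPrime
  let ιT : Spec (CommRingCat.of (A₀ ⧸ 𝔭)) ⟶ Spec A₀ :=
    Spec.map (CommRingCat.ofHom (Ideal.Quotient.mk 𝔭))
  haveI : IsClosedImmersion ιT :=
    IsClosedImmersion.spec_of_surjective _ Ideal.Quotient.mk_surjective
  let pr := pullback.fst f ιT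
  let fT := pullback.snd f ιT
  obtain ⟨V, hVd, hVfl, hVfp⟩ := Groth.Agent.S0414.result fT
  haveI := hVfl
  haveI := hVfp
  let j' : (fT ⁻¹ᵁ V : Scheme.{u}) ⟶ X := (fT ⁻¹ᵁ V).ι ≫ pr
  -- `E` pulls back to the locus of the flat restriction
  have hpre : (j' : (fT ⁻¹ᵁ V : Scheme.{u}) → X) ⁻¹' {x : X | P f x} =
      {x | P (fT ∣_ V) x} := by
    ext x'
    simp only [Set.mem_preimage, Set.mem_setOf_eq]
    exact ((hP.bc (isPullback_morphismRestrict fT V).flip x').trans
      (hP.bc (IsPullback.of_hasPullback f ιT) ((fT ⁻¹ᵁ V).ι x'))).symm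
  have hopen : IsOpen ((j' : (fT ⁻¹ᵁ V : Scheme.{u}) → X) ⁻¹' {x : X | P f x}) := by
    rw [hpre]
    exact hP.isOpen (fT ∣_ V)
  have hemb : IsEmbedding (j' : (fT ⁻¹ᵁ V : Scheme.{u}) → X) := by
    have h1 : (j' : (fT ⁻¹ᵁ V : Scheme.{u}) → X) = pr ∘ (fT ⁻¹ᵁ V).ι := by
      ext x'; rfl
    rw [h1]
    exact pr.isClosedEmbedding.isEmbedding.comp (fT ⁻¹ᵁ V).ι.isOpenEmbedding.isEmbedding
  -- the generic point of `T`
  let η : Spec (CommRingCat.of (A₀ ⧸ 𝔭)) := ⟨⊥, Ideal.isPrime_bot⟩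
  have hη : ιT η = s := by
    apply PrimeSpectrum.ext
    show Ideal.comap (Ideal.Quotient.mk 𝔭) ⊥ = 𝔭
    rw [← RingHom.ker_eq_comap_bot, Ideal.mk_ker]
  have hηV : η ∈ V := by
    obtain ⟨t, ht⟩ := hVd.nonempty
    have h1 : η ⤳ t :=
      (PrimeSpectrum.le_iff_specializes (R := A₀ ⧸ 𝔭) η t).mp
        (show η.asIdeal ≤ t.asIdeal from bot_le)
    exact h1.mem_open V.2 ht
  obtain ⟨V'', hV''o, hV''⟩ := ιT.isEmbedding.isInducing.isOpen_iff.mp V.2
  have hrange : Set.range ιT = closure {s} := by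
    have h1 : closure ({s} : Set (PrimeSpectrum A₀)) = PrimeSpectrum.zeroLocus 𝔭 :=
      PrimeSpectrum.closure_singleton s
    have h2 : Set.range (PrimeSpectrum.comap (Ideal.Quotient.mk 𝔭)) =
        PrimeSpectrum.zeroLocus 𝔭 := by
      rw [_root_.range_comap_of_surjective _ _ Ideal.Quotient.mk_surjective, Ideal.mk_ker]
    exact h2.trans h1.symm
  refine exists_open_dichotomy j' hemb {x : X | P f x} hopen Z z (by rw [hz.def]) hzZ
    (f ⁻¹' V'') (hV''o.preimage f.continuous) ?_ ?_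
  · show f z ∈ V''
    rw [← hs, ← hη]
    have : η ∈ ιT ⁻¹' V'' := by rw [hV'']; exact hηV
    exact this
  · rintro y ⟨hy1, hyZ⟩
    have hyz : z ⤳ y := by
      rw [specializes_iff_mem_closure, hz.def]; exact hyZ
    have h1 : f y ∈ closure {s} := specializes_iff_mem_closure.mp (hyz.map f.continuous)
    rw [← hrange] at h1
    obtain ⟨t, ht⟩ := h1
    have htV : t ∈ V := by
      have : t ∈ ιT ⁻¹' V'' := by
        show ιT t ∈ V''
        rw [ht]; exact hy1
      rw [hV''] at this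
      exact this
    obtain ⟨yT, hyT1, hyT2⟩ := Scheme.Pullback.exists_preimage_pullback (f := f) (g := ιT) y t ht.symm
    have hyTV : yT ∈ fT ⁻¹ᵁ V := by
      show fT yT ∈ V
      rw [show fT yT = t from hyT2]; exact htV
    exact ⟨⟨yT, hyTV⟩, hyT1⟩

end Groth.Agent.Lib.Helper21.ConsLoc
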