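import Mathlib
import Groth.Agent.Lib.Helper21.ConsLoc2

/-!
# Helper21 — ConsLoc3: constructibility of fibrewise loci, general base
-/

set_option autoImplicit false

namespace Groth.Agent.Lib.Helper21.ConsLoc

open AlgebraicGeometry CategoryTheory Limits TopologicalSpace Topology TensorProduct

universe u

variable {P : ∀ {X S : Scheme.{u}} (_ : X ⟶ S), X → Prop}

theorem isPullback_id_of_mono {C : Type*} [Category C] {X V S : C} (ψ : X ⟶ V) (j : V ⟶ S)
    [Mono j] : IsPullback (𝟙 X) ψ (ψ ≫ j) j :=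
  ⟨⟨by simp⟩, ⟨PullbackCone.IsLimit.mk _ (fun s => s.fst) (fun s => by simp)
    (fun s => by
      rw [← cancel_mono j]
      simpa using s.condition)
    (fun s m h1 _ => by simpa using h1)⟩⟩

/-- invariance under open immersions in the target. -/
theorem FibPred.tgt (hP : FibPred @P) {X V S : Scheme.{u}} (ψ : X ⟶ V) (j : V ⟶ S)
    [IsOpenImmersion j] [LocallyOfFiniteType (ψ ≫ j)] (x : X) : P ψ x ↔ P (ψ ≫ j) x :=
  hP.bc (isPullback_id_of_mono ψ j) x

theorem FibPred.congr {X S : Scheme.{u}} {f₁ f₂ : X ⟶ S} (e : f₁ = f₂) (x : X) :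
    P f₁ x ↔ P f₂ x := by
  subst e; exact Iff.rfl

set_option maxHeartbeats 1600000 in
/-- **affine case**: a finitely presented ring map. -/
theorem isConstructible_Spec (hP : FibPred @P) {A B : CommRingCat.{u}} (φ : A ⟶ B)
    (hφ : φ.hom.FinitePresentation) : IsConstructible {x : Spec B | P (Spec.map φ) x} := by
  letI aAB : Algebra A B := φ.hom.toAlgebra
  haveI : Algebra.FinitePresentation A B := hφ
  let Pr := Algebra.Presentation.ofFinitePresentation A B
  let A₀ := Pr.Core
  let B₀ := Pr.ModelOfHasCoeffs A₀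
  haveI : IsNoetherianRing A₀ := Algebra.FiniteType.isNoetherianRing ℤ A₀
  let e : A ⊗[A₀] B₀ ≃ₐ[A] B := Pr.tensorModelOfHasCoeffsEquiv A₀
  let g₀ : CommRingCat.of A₀ ⟶ CommRingCat.of B₀ := CommRingCat.ofHom (algebraMap A₀ B₀)
  let φ' : A ⟶ CommRingCat.of (A ⊗[A₀] B₀) :=
    CommRingCat.ofHom (Algebra.TensorProduct.includeLeftRingHom)
  let inr : CommRingCat.of B₀ ⟶ CommRingCat.of (A ⊗[A₀] B₀) :=
    CommRingCat.ofHom (Algebra.TensorProduct.includeRight.toRingHom)
  let ε : CommRingCat.of (A ⊗[A₀] B₀) ≅ B := e.toRingEquiv.toCommRingCatIso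
  have hφε : φ' ≫ ε.hom = φ := by
    ext a
    show e (a ⊗ₜ 1) = φ a
    have := e.commutes a
    rw [Algebra.TensorProduct.algebraMap_apply] at this
    exact this
  -- the Noetherian model
  haveI : LocallyOfFiniteType (Spec.map g₀) := by
    rw [HasRingHomProperty.Spec_iff (P := @LocallyOfFiniteType)]
    exact RingHom.finiteType_algebraMap.mpr inferInstance
  have h0 : IsConstructible {y : Spec (CommRingCat.of B₀) | P (Spec.map g₀) y} :=
    isConstructible_of_noetherian hP (CommRingCat.of A₀) (Spec.map g₀)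
  have hpb : IsPullback (Spec.map inr) (Spec.map φ')
      (Spec.map g₀) (Spec.map (CommRingCat.ofHom (algebraMap A₀ A))) :=
    (isPullback_SpecMap_of_isPushout _ _ _ _ (CommRingCat.isPushout_tensorProduct A₀ A B₀)).flip
  have h1 : IsConstructible {y : Spec (CommRingCat.of (A ⊗[A₀] B₀)) | P (Spec.map φ') y} := by
    have : {y : Spec (CommRingCat.of (A ⊗[A₀] B₀)) | P (Spec.map φ') y} =
        (Spec.map inr) ⁻¹' {y | P (Spec.map g₀) y} := by
      ext y
      exact hP.bc hpb y
    rw [this]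
    exact (Spec.map inr).isConstructible_preimage h0
  have h2 : {x : Spec B | P (Spec.map φ) x} =
      (Spec.map ε.hom) ⁻¹' {y | P (Spec.map φ') y} := by
    ext x
    simp only [Set.mem_setOf_eq, Set.mem_preimage]
    rw [← hP.src (Spec.map ε.hom) (Spec.map φ') x]
    exact FibPred.congr (by rw [← Spec.map_comp, hφε]) x
  rw [h2]
  exact (Spec.map ε.hom).isConstructible_preimage h1

set_option maxHeartbeats 1600000 in
/-- **general case**. -/
theorem isLocallyConstructible (hP : FibPred @P) {X S : Scheme.{u}} (f : X ⟶ S)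
    [LocallyOfFinitePresentation f] : IsLocallyConstructible {x : X | P f x} := by
  intro x
  obtain ⟨_, ⟨V, hV : IsAffineOpen V, rfl⟩, hfxV, -⟩ :=
    S.isBasis_affineOpens.exists_subset_of_mem_open (Set.mem_univ (f x)) isOpen_univ
  obtain ⟨_, ⟨U, hU : IsAffineOpen U, rfl⟩, hxU, hUV₀⟩ :=
    X.isBasis_affineOpens.exists_subset_of_mem_open (show x ∈ (f ⁻¹ᵁ V : Set X) from hfxV)
      (f ⁻¹ᵁ V).isOpen
  have hUV : U ≤ f ⁻¹ᵁ V := hUV₀
  refine ⟨U, U.2.mem_nhds hxU, U.2, ?_⟩
  have hfp : (f.appLE V U hUV).hom.FinitePresentation :=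
    HasRingHomProperty.appLE @LocallyOfFinitePresentation f inferInstance ⟨V, hV⟩ ⟨U, hU⟩ hUV
  have h0 := isConstructible_Spec hP (f.appLE V U hUV) hfp
  have hsq : Spec.map (f.appLE V U hUV) ≫ hV.fromSpec = hU.fromSpec ≫ f :=
    IsAffineOpen.SpecMap_appLE_fromSpec f hV hU hUV
  haveI : LocallyOfFiniteType (Spec.map (f.appLE V U hUV) ≫ hV.fromSpec) := by
    rw [hsq]; infer_instance
  have key : ∀ b : Spec Γ(X, U), P (Spec.map (f.appLE V U hUV)) b ↔ P f (hU.fromSpec b) := by
    intro b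
    rw [hP.tgt (Spec.map (f.appLE V U hUV)) hV.fromSpec b, FibPred.congr (P := @P) hsq b]
    exact hP.src hU.fromSpec f b
  have h1 : (Subtype.val : U → X) ⁻¹' {x : X | P f x} =
      (⇑hU.isoSpec.hom) ⁻¹'
        {b | P (Spec.map (f.appLE V U hUV)) b} := by
    ext u
    show P f u.1 ↔ P (Spec.map (f.appLE V U hUV)) (hU.isoSpec.hom u)
    rw [key]
    have : hU.fromSpec (hU.isoSpec.hom u) = u.1 := by
      rw [← hU.isoSpec_inv_ι, ← Scheme.Hom.comp_apply, Iso.hom_inv_id_assoc]
      rfl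
    rw [this]
  show IsConstructible ((Subtype.val : U → X) ⁻¹' {x : X | P f x})
  rw [h1]
  exact hU.isoSpec.hom.isConstructible_preimage h0

end Groth.Agent.Lib.Helper21.ConsLoc
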