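import Mathlib
import Groth.Agent.Lib.Helper21.ConsLoc3
import Groth.Agent.S4961
import Groth.Agent.Lib.Helper21.FibreBC2

/-!
# Helper21 — CMCons: the fibrewise Cohen–Macaulay locus is locally constructible
-/

set_option autoImplicit false

namespace Groth.Agent.Lib.Helper21.ConsLoc

open AlgebraicGeometry CategoryTheory Limits IsLocalRing
open Groth.Agent.Lib.Helper21.FibreStalk

universe u

/-- the fibre through `x` is Cohen–Macaulay at `x`. -/
def PCM {X S : Scheme.{u}} (f : X ⟶ S) (x : X) : Prop :=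
  LocCoh.IsCohenMacaulayLocalRing ((f.fiber (f x)).presheaf.stalk (f.asFiber x))

theorem pcm_iff_quot {X S : Scheme.{u}} (f : X ⟶ S) (x : X) :
    PCM f x ↔ LocCoh.IsCohenMacaulayLocalRing (X.presheaf.stalk x ⧸ fibIdeal f x) := by
  obtain ⟨e⟩ := nonempty_fibreStalkEquiv f x
  exact ⟨fun h => FibreBCAlg.isCMLocal_of_ringEquiv e h,
    fun h => FibreBCAlg.isCMLocal_of_ringEquiv e.symm h⟩

theorem pcm_comp_iff_of_isIso_stalkMap {X' X Y : Scheme.{u}} (j : X' ⟶ X) (f : X ⟶ Y) (x' : X')
    [IsIso (j.stalkMap x')] : PCM (j ≫ f) x' ↔ PCM f (j x') := by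
  rw [pcm_iff_quot, pcm_iff_quot]
  have hcomp : ((j ≫ f).stalkMap x').hom =
      (j.stalkMap x').hom.comp (f.stalkMap (j x')).hom := by
    rw [Scheme.Hom.stalkMap_comp]
    rfl
  let ε : X.presheaf.stalk (j x') ≃+* X'.presheaf.stalk x' :=
    (asIso (j.stalkMap x')).commRingCatIsoToRingEquiv
  have hε : (ε : X.presheaf.stalk (j x') →+* _) = (j.stalkMap x').hom := rfl
  have hI : fibIdeal (j ≫ f) x' = (fibIdeal f (j x')).map (ε : X.presheaf.stalk (j x') →+* _) := by
    show (maximalIdeal (Y.presheaf.stalk (f (j x')))).map ((j ≫ f).stalkMap x').hom = _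
    rw [hcomp, hε]
    exact (Ideal.map_map _ _).symm
  exact ⟨fun h2 => FibreBCAlg.isCMLocal_of_ringEquiv
      (Ideal.quotientEquiv (fibIdeal f (j x')) (fibIdeal (j ≫ f) x') ε hI).symm h2,
    fun h2 => FibreBCAlg.isCMLocal_of_ringEquiv
      (Ideal.quotientEquiv (fibIdeal f (j x')) (fibIdeal (j ≫ f) x') ε hI) h2⟩

theorem fibPred_PCM : FibPred.{u} @PCM where
  bc := fun hc x' => FibreBC.isCM_fibre_stalk_iff' hc x'
  src := fun j _ f x' => pcm_comp_iff_of_isIso_stalkMap j f x'
  isOpen := fun f _ _ => by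
    have h := Groth.Agent.S4961.result f
    have e : {x | PCM f x} = {x | MoreMor.IsCMAt f x} := by
      ext x
      exact ⟨fun h => ⟨Flat.stalkMap f x, h⟩, fun h => h.2⟩
    rw [e]
    exact h

/-- **the fibrewise Cohen–Macaulay locus of a morphism locally of finite presentation is locally
constructible.** -/
theorem isLocallyConstructible_PCM {X S : Scheme.{u}} (f : X ⟶ S)
    [LocallyOfFinitePresentation f] :
    Topology.IsLocallyConstructible {x : X |
      LocCoh.IsCohenMacaulayLocalRing ((f.fiber (f x)).presheaf.stalk (f.asFiber x))} :=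
  isLocallyConstructible fibPred_PCM f

end Groth.Agent.Lib.Helper21.ConsLoc
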