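import Mathlib
import Groth.Agent.Lib.Helper21.CMCons
import Groth.Agent.Lib.Helper21.LqfCover

set_option autoImplicit false

namespace Groth.Agent.Lib.Helper21.ConsLoc

open AlgebraicGeometry CategoryTheory Limits IsLocalRing Topology

universe u

theorem isLocallyConstructible_compl {X : Type*} [TopologicalSpace X] {s : Set X}
    (hs : IsLocallyConstructible s) : IsLocallyConstructible sᶜ := by
  intro x
  obtain ⟨U, hU, hUo, hc⟩ := hs x
  refine ⟨U, hU, hUo, ?_⟩
  have : (Subtype.val : U → X) ⁻¹' sᶜ = ((Subtype.val : U → X) ⁻¹' s)ᶜ := rfl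
  show IsConstructible ((Subtype.val : U → X) ⁻¹' sᶜ)
  rw [this]
  exact hc.compl

theorem asFiber_transport_inv {X S : Scheme.{u}} (g : X ⟶ S) (Q : ∀ s : S, g.fiber s → Prop)
    (x : X) (s : S) (h : g x = s) (y : g.fiber s) (hy : g.fiberι s y = x)
    (hQ : Q (g x) (g.asFiber x)) : Q s y := by
  subst h
  have : y = g.asFiber x :=
    (g.fiberι _).isEmbedding.injective (hy.trans (g.fiberι_asFiber x).symm)
  subst this
  exact hQ

theorem forall_fiber_iff {X S : Scheme.{u}} (f : X ⟶ S) (Q : ∀ s : S, f.fiber s → Prop) (s : S) :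
    (∀ z : f.fiber s, Q s z) ↔ ∀ x : X, f x = s → Q (f x) (f.asFiber x) := by
  constructor
  · intro h x hx
    subst hx
    exact h _
  · intro h z
    have hx : f (f.fiberι s z) = s := by
      have : f.fiberι s z ∈ Set.range (f.fiberι s) := ⟨z, rfl⟩
      rw [Scheme.Hom.range_fiberι] at this
      exact this
    exact asFiber_transport_inv f Q (f.fiberι s z) s hx z rfl (h _ hx)

/-- the set of points of the base over which the fibre is Cohen–Macaulay is locally
constructible. -/
theorem isLocallyConstructible_CM_fibres {X S : Scheme.{u}} (f : X ⟶ S)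
    [LocallyOfFinitePresentation f] [QuasiCompact f] :
    IsLocallyConstructible {s : S | ∀ z : ↥(f.fiber s),
      LocCoh.IsCohenMacaulayLocalRing ((f.fiber s).presheaf.stalk z)} := by
  have h1 := isLocallyConstructible_compl (isLocallyConstructible_PCM f)
  have h2 := isLocallyConstructible_compl (f.isLocallyConstructible_image h1)
  convert h2 using 1
  ext s
  rw [Set.mem_setOf_eq, forall_fiber_iff f
    (fun s z => LocCoh.IsCohenMacaulayLocalRing ((f.fiber s).presheaf.stalk z)) s]
  simp only [Set.mem_compl_iff, Set.mem_image, Set.mem_setOf_eq, not_exists, not_and, not_not]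
  constructor
  · intro h x hx hfx
    exact hx (h x hfx)
  · intro h x hfx
    by_contra hx
    exact h x hx hfx

end Groth.Agent.Lib.Helper21.ConsLoc
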