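import Mathlib
import Groth.Agent.Lib.Helper21.CMAff10
import Groth.Agent.Lib.Helper24.FibreDim.Main4944
import Groth.Agent.Lib.Helper24.FibreDim.Main4690
import Groth.Agent.Lib.helper19.FlatDimFormula

set_option autoImplicit false

namespace Groth.Agent.Lib.Helper21.CMAff

open AlgebraicGeometry CategoryTheory Limits Order
open Groth.Agent.Lib.Helper24.FibreDim Groth.Agent.Lib.lead
open Groth.Agent.Lib.Helper21.FibreStalk

universe u

/-- the coheight of a point of an open subscheme is its coheight in the ambient scheme. -/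
theorem coheight_opens {X : Scheme.{u}} (W : X.Opens) (w : (W : Scheme.{u})) :
    Order.coheight w = Order.coheight (W.ι w) := by
  have h1 := ringKrullDim_stalk_eq_coheight (X := (W : Scheme.{u})) w
  have h2 := ringKrullDim_stalk_eq_coheight (X := X) (W.ι w)
  let e : X.presheaf.stalk (W.ι w) ≃+* (W : Scheme.{u}).presheaf.stalk w :=
    (asIso (W.ι.stalkMap w)).commRingCatIsoToRingEquiv
  have h3 : ringKrullDim (X.presheaf.stalk (W.ι w)) =
      ringKrullDim ((W : Scheme.{u}).presheaf.stalk w) := ringKrullDim_eq_of_ringEquiv e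
  rw [h1, h2] at h3
  exact (WithBot.coe_injective h3).symm

theorem dim_opens_eq_iSup_coheight {X : Scheme.{u}} (W : X.Opens) (hW : (W : Set X).Nonempty) :
    topologicalKrullDim (W : Set X) =
      ((⨆ w : W, Order.coheight (w.1 : X) : ℕ∞) : WithBot ℕ∞) := by
  haveI : Nonempty (W : Scheme.{u}) := hW.to_subtype
  have h := dim_eq_iSup_coheight (W : Scheme.{u})
  have h' : topologicalKrullDim (W : Set X) = topologicalKrullDim ↥(W : Scheme.{u}) := rfl
  rw [h', h]
  congr 2
  funext w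
  exact coheight_opens W w

/-- the dimension formula for a morphism flat at `u`. -/
theorem coheight_eq_add_G {X Y : Scheme.{u}} [IsLocallyNoetherian X] [IsLocallyNoetherian Y]
    (f : X ⟶ Y) (u : X) (hflat : (f.stalkMap u).hom.Flat) :
    Order.coheight u = Order.coheight (f u) + FibreOrder.G f u := by
  have h1 := Groth.Agent.Lib.Helper19.FlatDimFormula.stalk_dim f u hflat
  obtain ⟨e⟩ := nonempty_fibreStalkEquiv f u
  have h2 : ringKrullDim ((f.fiber (f u)).presheaf.stalk (f.asFiber u)) =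
      ringKrullDim (X.presheaf.stalk u ⧸ fibIdeal f u) := ringKrullDim_eq_of_ringEquiv e
  rw [FibreOrder.ringKrullDim_fiber_stalk] at h2
  have h3 : ringKrullDim (X.presheaf.stalk u ⧸
      (IsLocalRing.maximalIdeal (Y.presheaf.stalk (f.base u))).map (f.stalkMap u).hom) =
      ((FibreOrder.G f u : ℕ∞) : WithBot ℕ∞) := h2.symm
  rw [h3, ringKrullDim_stalk_eq_coheight, ringKrullDim_stalk_eq_coheight] at h1
  exact_mod_cast h1

/-- every point of an open set has, in the same fibre and the same open set, a point closed in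
the fibre. -/
theorem exists_tr_zero_mem_open {X Y : Scheme.{u}} (f : X ⟶ Y) [LocallyOfFiniteType f]
    (W : X.Opens) (w₀ : X) (hw₀ : w₀ ∈ W) : ∃ w₁ ∈ W, f w₁ = f w₀ ∧ tr f w₁ = 0 := by
  have hopen : IsOpen ((f.fiberι (f w₀)) ⁻¹' (W : Set X)) := W.2.preimage (f.fiberι (f w₀)).continuous
  have hne : ((f.fiberι (f w₀)) ⁻¹' (W : Set X)).Nonempty :=
    ⟨f.asFiber w₀, by
      show f.fiberι (f w₀) (f.asFiber w₀) ∈ W
      rw [f.fiberι_asFiber]; exact hw₀⟩
  obtain ⟨z, hzW, hzcl⟩ := nonempty_inter_closedPoints hne hopen.isLocallyClosed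
  have hfz : f (f.fiberι (f w₀) z) = f w₀ := by
    have : f.fiberι (f w₀) z ∈ Set.range (f.fiberι (f w₀)) := ⟨z, rfl⟩
    rw [Scheme.Hom.range_fiberι] at this
    exact this
  refine ⟨f.fiberι (f w₀) z, hzW, hfz, ?_⟩
  apply tr_eq_zero_of_closed
  intro x' hx' hsp
  have hx'' : x' ∈ Set.range (f.fiberι (f w₀)) := by
    rw [Scheme.Hom.range_fiberι]
    exact hx'.trans hfz
  obtain ⟨z', rfl⟩ := hx''
  have h1 : z ⤳ z' := (f.fiberι (f w₀)).isEmbedding.isInducing.specializes_iff.mp hsp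
  have h2 : z' ∈ closure {z} := specializes_iff_mem_closure.mp h1
  have hcl : IsClosed ({z} : Set (f.fiber (f w₀))) := hzcl
  rw [hcl.closure_eq] at h2
  rw [Set.mem_singleton_iff.mp h2]


lemma topologicalKrullDim_mono_set' {T : Type*} [TopologicalSpace T] {A B : Set T} (h : A ⊆ B) :
    topologicalKrullDim ↥A ≤ topologicalKrullDim ↥B :=
  (Topology.IsEmbedding.inclusion h).isInducing.topologicalKrullDim_le

set_option maxHeartbeats 1600000 in
/-- **dimension formula for Cohen–Macaulay morphisms**. -/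
theorem localDim_eq_of_isCMAt {X Y : Scheme.{u}} (f : X ⟶ Y) [IsLocallyNoetherian X]
    [IsLocallyNoetherian Y] [LocallyOfFiniteType f] (hf : ∀ x : X, MoreMor.IsCMAt f x) (x : X) :
    FlatMor.localDim ↑X x = FlatMor.localDim ↑Y (f x) + FlatMor.fibreDimAt f x := by
  haveI : Flat f := Flat.of_stalkMap f (fun x => (hf x).1)
  obtain ⟨x₁, hspec, hcm₁, hcl₁⟩ := exists_closed_specialization_CM f x (hf x)
  obtain ⟨n, U, hx₁, g, hg, hlqf, hflat⟩ := exists_flat_lqf_toAffineSpace_of_closed f x₁ hcm₁ hcl₁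
  have hxU : x ∈ U := hspec.mem_open U.2 hx₁
  haveI := hlqf
  haveI := hflat
  have hn : ∀ u ∈ U, FlatMor.fibreDimAt f u = n := fun u hu =>
    fibreDimAt_eq_of_flat_lqf f u n U hu g hg
  have hG : ∀ u ∈ U, ((tr f u : ℕ) : ℕ∞) + FibreOrder.G f u = n := by
    intro u hu
    have h1 := hn u hu
    rw [fibreDimAt_eq_tr_add_G] at h1
    exact_mod_cast h1
  rw [hn x hxU]
  -- the key equality
  have key : ∀ W : X.Opens, W ≤ U → x ∈ W →
      topologicalKrullDim (W : Set X) = topologicalKrullDim (f '' (W : Set X)) + (n : WithBot ℕ∞) := by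
    intro W hWU hxW
    have hVo : IsOpen (f '' (W : Set X)) := f.isOpenMap _ W.2
    let V : Y.Opens := ⟨f '' (W : Set X), hVo⟩
    have hVne : (V : Set Y).Nonempty := ⟨f x, x, hxW, rfl⟩
    haveI : Nonempty V := hVne.to_subtype
    haveI : Nonempty {v // v ∈ V} := ⟨⟨f x, x, hxW, rfl⟩⟩
    have h1 := dim_opens_eq_iSup_coheight W ⟨x, hxW⟩
    have h2 := dim_opens_eq_iSup_coheight V hVne
    have h3 : (⨆ w : W, Order.coheight (w.1 : X) : ℕ∞) =
        (⨆ v : V, Order.coheight (v.1 : Y) : ℕ∞) + n := by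
      apply le_antisymm
      · apply iSup_le
        intro w
        rw [coheight_eq_add_G f w.1 (Flat.stalkMap f w.1)]
        have hGle : FibreOrder.G f w.1 ≤ n := by
          rw [← hG w.1 (hWU w.2)]
          exact le_add_self
        have hv : Order.coheight (f w.1) ≤ (⨆ v : V, Order.coheight (v.1 : Y) : ℕ∞) :=
          le_iSup (fun v : V => (Order.coheight (v.1 : Y) : ℕ∞)) ⟨f w.1, w.1, w.2, rfl⟩
        exact add_le_add hv hGle
      · rw [ENat.iSup_add]
        apply iSup_le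
        rintro ⟨_, w₀, hw₀, rfl⟩
        obtain ⟨w₁, hw₁W, hfw₁, htr⟩ := exists_tr_zero_mem_open f W w₀ hw₀
        have hG1 := hG w₁ (hWU hw₁W)
        rw [htr, Nat.cast_zero, zero_add] at hG1
        have h4 := coheight_eq_add_G f w₁ (Flat.stalkMap f w₁)
        rw [hG1, hfw₁] at h4
        show Order.coheight (f w₀) + (n : ℕ∞) ≤ _
        rw [← h4]
        exact le_iSup (fun w : W => (Order.coheight (w.1 : X) : ℕ∞)) ⟨w₁, hw₁W⟩
    show topologicalKrullDim (W : Set X) = topologicalKrullDim (V : Set Y) + (n : WithBot ℕ∞)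
    rw [h1, h2, h3]
    rfl
  unfold FlatMor.localDim
  apply le_antisymm
  · -- `≤`
    haveI : Nonempty {V : TopologicalSpace.Opens Y // f x ∈ V} := ⟨⟨⊤, trivial⟩⟩
    obtain ⟨V₀, hV₀⟩ := ciInf_mem
      (fun V : {V : TopologicalSpace.Opens Y // f x ∈ V} => topologicalKrullDim (V.1 : Set Y))
    rw [← hV₀]
    have hxW : x ∈ U ⊓ f ⁻¹ᵁ V₀.1 := ⟨hxU, V₀.2⟩
    refine (iInf_le (fun W : {W : TopologicalSpace.Opens X // x ∈ W} =>
      topologicalKrullDim (W.1 : Set X)) ⟨U ⊓ f ⁻¹ᵁ V₀.1, hxW⟩).trans ?_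
    show topologicalKrullDim ((U ⊓ f ⁻¹ᵁ V₀.1 : X.Opens) : Set X) ≤ _
    rw [key (U ⊓ f ⁻¹ᵁ V₀.1) inf_le_left hxW]
    refine add_le_add_left ?_ _
    apply topologicalKrullDim_mono_set'
    rintro _ ⟨w, hw, rfl⟩
    exact hw.2
  · -- `≥`
    apply le_iInf
    rintro ⟨W, hxW⟩
    have hxW' : x ∈ W ⊓ U := ⟨hxW, hxU⟩
    have h1 : topologicalKrullDim ((W ⊓ U : X.Opens) : Set X) ≤ topologicalKrullDim (W : Set X) :=
      topologicalKrullDim_mono_set' (fun w hw => hw.1)
    refine le_trans ?_ h1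
    rw [key (W ⊓ U) inf_le_right hxW']
    refine add_le_add_left ?_ _
    have hVo : IsOpen (f '' ((W ⊓ U : X.Opens) : Set X)) := f.isOpenMap _ (W ⊓ U).2
    exact iInf_le (fun V : {V : TopologicalSpace.Opens Y // f x ∈ V} =>
      topologicalKrullDim (V.1 : Set Y)) ⟨⟨_, hVo⟩, x, hxW', rfl⟩

end Groth.Agent.Lib.Helper21.CMAff
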