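import Mathlib
import Groth.Agent.Lib.Helper21.CMAff10
import Groth.Agent.Lib.Helper21.CMAff9
import Groth.Agent.Lib.Helper7.AffinePoints

set_option autoImplicit false

namespace Groth.Agent.Lib.Helper21.CMAff

open AlgebraicGeometry CategoryTheory Limits

universe u

/-- around a Cohen–Macaulay point of a flat morphism locally of finite presentation the fibre
dimension is constant. -/
theorem exists_open_fibreDimAt_const {X S : Scheme.{u}} (f : X ⟶ S)
    [LocallyOfFinitePresentation f] (x : X) (hcm : MoreMor.IsCMAt f x) :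
    ∃ (n : ℕ) (U : X.Opens), x ∈ U ∧ ∀ u ∈ U, FlatMor.fibreDimAt f u = n := by
  obtain ⟨x₁, hspec, hcm₁, hcl₁⟩ := exists_closed_specialization_CM f x hcm
  obtain ⟨n, U, hx₁, g, hg, hlqf, hflat⟩ := exists_flat_lqf_toAffineSpace_of_closed f x₁ hcm₁ hcl₁
  haveI := hlqf
  haveI := hflat
  exact ⟨n, U, hspec.mem_open U.2 hx₁, fun u hu => fibreDimAt_eq_of_flat_lqf f u n U hu g hg⟩

theorem exists_opens_fibreDim_pieces {X S : Scheme.{u}} (f : X ⟶ S) [Flat f]
    [LocallyOfFinitePresentation f] :
    ∃ U : ℕ → X.Opens, (∀ s : S, Dense ((f.fiberι s) ⁻¹' ((⨆ d, U d : X.Opens) : Set ↑X))) ∧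
      ∀ (d : ℕ) (x : ↑X), x ∈ U d → FlatMor.fibreDimAt f x = d := by
  refine ⟨fun d => ⟨interior {x : X | FlatMor.fibreDimAt f x = d}, isOpen_interior⟩, ?_, ?_⟩
  · intro s
    refine (dense_CM_fiber f s).mono (Set.preimage_mono ?_)
    intro x hx
    obtain ⟨n, U, hxU, hU⟩ := exists_open_fibreDimAt_const f x hx
    rw [SetLike.mem_coe, TopologicalSpace.Opens.mem_iSup]
    refine ⟨n, ?_⟩
    exact interior_maximal (fun u hu => hU u hu) U.2 hxU
  · intro d x hx
    have h2 : x ∈ interior {x : X | FlatMor.fibreDimAt f x = d} := hx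
    have h3 : x ∈ {x : X | FlatMor.fibreDimAt f x = d} := interior_subset h2
    exact h3

end Groth.Agent.Lib.Helper21.CMAff

namespace Groth.Agent.Lib.Helper21.CMAff

open AlgebraicGeometry CategoryTheory Limits

universe u

/-- the local ring of a locally Noetherian scheme at the generic point of an irreducible component
is Cohen–Macaulay. -/
theorem isCM_stalk_of_isGenericPoint {Y : Scheme.{u}} [IsLocallyNoetherian Y] (y : Y)
    (hgen : ∃ Z ∈ irreducibleComponents ↥Y, IsGenericPoint y Z) :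
    LocCoh.IsCohenMacaulayLocalRing (Y.presheaf.stalk y) := by
  obtain ⟨Z, hZ, hy⟩ := hgen
  apply CMPoint.isCM_of_ringKrullDim_le_zero
  rw [ringKrullDim_stalk_eq_coheight]
  have hmax : IsMax y := by
    intro y' hy'
    have h1 : closure ({y} : Set Y) ∈ irreducibleComponents (Y : Type u) := by
      rw [hy.def]; exact hZ
    have := (Groth.Agent.Lib.Helper7.AffPts.closure_mem_irreducibleComponents_iff y).1 h1 y' hy'
    rw [this]
  rw [Order.coheight_eq_zero.2 hmax]
  rfl

theorem fibreDimAt_eq_of_specializes_generic {X S : Scheme.{u}} (f : X ⟶ S) [Flat f]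
    [LocallyOfFinitePresentation f]
    (x x' : X) (hsp : x' ⤳ x)
    (hgen : ∃ Z ∈ irreducibleComponents ↥(f.fiber (f x)), IsGenericPoint (f.asFiber x) Z) :
    FlatMor.fibreDimAt f x' = FlatMor.fibreDimAt f x := by
  haveI : IsLocallyNoetherian (f.fiber (f x)) := by
    haveI hφ : LocallyOfFiniteType (f.fiberToSpecResidueField (f x)) :=
      MorphismProperty.pullback_snd _ _ inferInstance
    exact LocallyOfFiniteType.isLocallyNoetherian (f.fiberToSpecResidueField (f x))
  have hcm : MoreMor.IsCMAt f x := ⟨Flat.stalkMap f x, isCM_stalk_of_isGenericPoint _ hgen⟩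
  obtain ⟨n, U, hxU, hU⟩ := exists_open_fibreDimAt_const f x hcm
  rw [hU x hxU, hU x' (hsp.mem_open U.2 hxU)]

end Groth.Agent.Lib.Helper21.CMAff
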