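import Mathlib
import Groth.Agent.S4961
import Groth.Agent.Lib.Helper21.CMAff9
import Groth.Agent.Lib.Helper21.FibreBC2
import Groth.Agent.Lib.Helper24.Unibranch.Main7498
import Groth.Agent.Lib.Helper4.GrpdDense
import Groth.Prelude.Def_Grpd

set_option autoImplicit false

namespace Groth.Agent.Lib.Helper21.CMGrpd

open AlgebraicGeometry CategoryTheory Limits IsLocalRing
open Groth.Agent.Lib.Helper21.CMAff Groth.Agent.Lib.Helper21.FibreStalk

universe u

/-- `SCM` is insensitive to precomposition with a morphism inducing an isomorphism on the stalk. -/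
theorem scm_comp_iff_of_isIso_stalkMap {X' X Y : Scheme.{u}} (j : X' ⟶ X) (f : X ⟶ Y) (x' : X')
    [IsIso (j.stalkMap x')] : SCM (j ≫ f) x' ↔ SCM f (j x') := by
  have hcomp : ((j ≫ f).stalkMap x').hom =
      (j.stalkMap x').hom.comp (f.stalkMap (j x')).hom := by
    rw [Scheme.Hom.stalkMap_comp]
    rfl
  let ε : X.presheaf.stalk (j x') ≃+* X'.presheaf.stalk x' :=
    (asIso (j.stalkMap x')).commRingCatIsoToRingEquiv
  have hε : (ε : X.presheaf.stalk (j x') →+* _) = (j.stalkMap x').hom := rfl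
  have hI : fibIdeal (j ≫ f) x' = (fibIdeal f (j x')).map (ε : X.presheaf.stalk (j x') →+* _) := by
    show (maximalIdeal (Y.presheaf.stalk (f (j x')))).map ((j ≫ f).stalkMap x').hom = _
    rw [hcomp, hε]
    exact (Ideal.map_map _ _).symm
  constructor
  · rintro ⟨h1, h2⟩
    refine ⟨?_, ?_⟩
    · have h3 : (f.stalkMap (j x')).hom =
          (ε.symm : _ →+* X.presheaf.stalk (j x')).comp ((j ≫ f).stalkMap x').hom := by
        rw [hcomp, ← hε]
        ext a
        exact (ε.symm_apply_apply _).symm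
      rw [h3]
      exact RingHom.Flat.comp h1 (RingHom.Flat.of_bijective ε.symm.bijective)
    · exact FibreBCAlg.isCMLocal_of_ringEquiv
        (Ideal.quotientEquiv (fibIdeal f (j x')) (fibIdeal (j ≫ f) x') ε hI).symm h2
  · rintro ⟨h1, h2⟩
    refine ⟨?_, ?_⟩
    · rw [hcomp, ← hε]
      exact RingHom.Flat.comp h1 (RingHom.Flat.of_bijective ε.bijective)
    · exact FibreBCAlg.isCMLocal_of_ringEquiv
        (Ideal.quotientEquiv (fibIdeal f (j x')) (fibIdeal (j ≫ f) x') ε hI) h2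

/-- base change invariance of `IsCMAt` for flat morphisms locally of finite type. -/
theorem isCMAt_bc_iff {X Y X' Y' : Scheme.{u}} {f : X ⟶ Y} {f' : X' ⟶ Y'} {g' : X' ⟶ X}
    {g : Y' ⟶ Y} [LocallyOfFiniteType f] [Flat f] (hc : IsPullback g' f' f g) (x' : X') :
    MoreMor.IsCMAt f' x' ↔ MoreMor.IsCMAt f (g' x') := by
  haveI : Flat f' := MorphismProperty.of_isPullback hc (inferInstance : Flat f)
  exact ⟨fun h => ⟨Flat.stalkMap f _, (FibreBC.isCM_fibre_stalk_iff' hc x').1 h.2⟩,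
    fun h => ⟨Flat.stalkMap f' _, (FibreBC.isCM_fibre_stalk_iff' hc x').2 h.2⟩⟩

theorem grpd_isCMAt_iff {X Y : Scheme.{u}} (f : X ⟶ Y) (x : X) :
    Grpd.IsCMAt f x ↔ MoreMor.IsCMAt f x :=
  (isCMAt_iff_scm f x).symm

variable {S : Scheme.{u}} (G : Grpd.GroupoidScheme S)

open Groth.Agent.Lib.Helper24.Unibranch in
theorem cm_s_iff_of_t_eq [Flat G.s] [LocallyOfFinitePresentation G.s] (r r' : G.R)
    (h : G.t r = G.t r') : MoreMor.IsCMAt G.s r ↔ MoreMor.IsCMAt G.s r' := by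
  obtain ⟨k, _, a, b, φ, p, ha, hb, hφ, hp, hp'⟩ := main7498 G r r' h
  have h1 := isCMAt_bc_iff (IsPullback.of_hasPullback G.s a) p
  have h2 := isCMAt_bc_iff (IsPullback.of_hasPullback G.s b) (φ.hom p)
  have h3 : MoreMor.IsCMAt (pullback.snd G.s a) p ↔
      MoreMor.IsCMAt (pullback.snd G.s b) (φ.hom p) := by
    rw [isCMAt_iff_scm, isCMAt_iff_scm]
    refine Iff.trans ?_ (scm_comp_iff_of_isIso_stalkMap φ.hom (pullback.snd G.s b) p)
    exact ⟨scm_congr hφ.symm p, scm_congr hφ p⟩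
  rw [hp] at h1
  rw [hp'] at h2
  exact h1.symm.trans (h3.trans h2)

theorem cm_t_iff_cm_s_i (r : G.R) : MoreMor.IsCMAt G.t r ↔ MoreMor.IsCMAt G.s (G.i r) := by
  haveI := Groth.Agent.Lib.Helper4.GrpdDense.isIso_i G
  rw [isCMAt_iff_scm, isCMAt_iff_scm]
  refine Iff.trans ?_ (scm_comp_iff_of_isIso_stalkMap G.i G.s r)
  exact ⟨scm_congr G.i_s.symm r, scm_congr G.i_s r⟩

theorem exists_cm_point_over {X Y : Scheme.{u}} (f : X ⟶ Y) [Flat f] [LocallyOfFiniteType f]
    (u : Y) (hu : u ∈ Set.range f) : ∃ r : X, MoreMor.IsCMAt f r ∧ f r = u := by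
  have hne : Nonempty (f.fiber u) := by
    obtain ⟨r₀, hr₀⟩ := hu
    have : r₀ ∈ Set.range (f.fiberι u) := by
      rw [Scheme.Hom.range_fiberι]; exact hr₀
    obtain ⟨y, -⟩ := this
    exact ⟨y⟩
  obtain ⟨y, hy⟩ := (dense_CM_fiber f u).nonempty
  refine ⟨f.fiberι u y, hy, ?_⟩
  have : f.fiberι u y ∈ Set.range (f.fiberι u) := ⟨y, rfl⟩
  rw [Scheme.Hom.range_fiberι] at this
  exact this

end Groth.Agent.Lib.Helper21.CMGrpd
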