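import Mathlib

/-!
# Helper21 — ClosedGen1: going down at a quasi-finite point over a normal domain, with avoidance
-/

set_option autoImplicit false
set_option backward.isDefEq.respectTransparency.types false

namespace Groth.Agent.Lib.Helper21.ClosedGen

universe u

/-- polynomial rings in finitely many variables over an integrally closed domain are integrally
closed. -/
theorem isIntegrallyClosed_mvPolynomial_fin (V : Type u) [CommRing V] [IsDomain V]
    [IsIntegrallyClosed V] (n : ℕ) : IsIntegrallyClosed (MvPolynomial (Fin n) V) := by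
  induction n with
  | zero =>
    exact IsIntegrallyClosed.of_equiv (MvPolynomial.isEmptyRingEquiv V (Fin 0)).symm
  | succ n ih =>
    haveI := ih
    exact IsIntegrallyClosed.of_equiv (MvPolynomial.finSuccEquiv V n).symm.toRingEquiv

/-- transfer of a smaller prime of a subalgebra through `S'[1/r] = S[1/r]` (copied from
`Lib/lead/UnibranchGD`). -/
theorem exists_prime_of_awayMap_bijective {R T : Type u} [CommRing R] [CommRing T] [Algebra R T]
    (D : Subalgebra R T) (r : D)
    (hbij : Function.Bijective (Localization.awayMap D.val.toRingHom r))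
    (Q : Ideal T) [Q.IsPrime] (hr : (r : T) ∉ Q) (n' : Ideal D) [n'.IsPrime]
    (hn' : n' ≤ Q.comap D.val.toRingHom) :
    ∃ Q' : Ideal T, Q'.IsPrime ∧ Q' ≤ Q ∧ Q'.comap D.val.toRingHom = n' := by
  have hrn' : r ∉ n' := fun h => hr (hn' h)
  let Dr := Localization.Away r
  let Tr := Localization.Away (D.val.toRingHom r)
  let φ : Dr →+* Tr := Localization.awayMap D.val.toRingHom r
  let e : Dr ≃+* Tr := RingEquiv.ofBijective φ hbij
  have hφ : ∀ x : D, φ (algebraMap D Dr x) = algebraMap T Tr (x : T) := by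
    intro x
    exact IsLocalization.map_eq _ x
  have hdisj : Disjoint (Submonoid.powers r : Set D) (n' : Set D) := by
    rw [Set.disjoint_left]
    rintro _ ⟨k, rfl⟩ h
    exact hrn' (Ideal.IsPrime.mem_of_pow_mem inferInstance k h)
  let J' := n'.map (algebraMap D Dr)
  haveI : J'.IsPrime :=
    IsLocalization.isPrime_of_isPrime_disjoint (Submonoid.powers r) Dr n' inferInstance hdisj
  have hJ' : J'.comap (algebraMap D Dr) = n' :=
    IsLocalization.under_map_of_isPrime_disjoint (Submonoid.powers r) Dr inferInstance hdisj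
  let Q' := (J'.comap (e.symm : Tr →+* Dr)).comap (algebraMap T Tr)
  refine ⟨Q', inferInstance, ?_, ?_⟩
  · have hdisjQ : Disjoint (Submonoid.powers (D.val.toRingHom r) : Set T) (Q : Set T) := by
      rw [Set.disjoint_left]
      rintro _ ⟨k, rfl⟩ h
      exact hr (Ideal.IsPrime.mem_of_pow_mem inferInstance k h)
    let I := Q.map (algebraMap T Tr)
    have hI : I.comap (algebraMap T Tr) = Q :=
      IsLocalization.under_map_of_isPrime_disjoint (Submonoid.powers (D.val.toRingHom r)) Tr
        inferInstance hdisjQ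
    have h1 : J' ≤ I.comap (e : Dr →+* Tr) := by
      rw [Ideal.map_le_iff_le_comap]
      intro x hx
      rw [Ideal.mem_comap, Ideal.mem_comap]
      change φ (algebraMap D Dr x) ∈ I
      rw [hφ]
      exact Ideal.mem_map_of_mem _ (hn' hx)
    intro x hx
    have h2 : e.symm (algebraMap T Tr x) ∈ J' := hx
    have h3 := h1 h2
    rw [Ideal.mem_comap] at h3
    have h4 : (e : Dr →+* Tr) (e.symm (algebraMap T Tr x)) = algebraMap T Tr x :=
      e.apply_symm_apply _
    rw [h4] at h3
    rw [← hI]
    exact h3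
  · ext x
    rw [Ideal.mem_comap]
    change e.symm (algebraMap T Tr (x : T)) ∈ J' ↔ _
    rw [← hφ, show φ (algebraMap D Dr x) = e (algebraMap D Dr x) from rfl, e.symm_apply_apply,
      ← Ideal.mem_comap, hJ']

set_option maxHeartbeats 800000 in
/-- **going down at a quasi-finite point over a normal domain, with avoidance**: there is a nonzero
`G` of the base such that every prime `y` of the base below `Q ∩ R` not containing `G` is the
contraction of a prime `Q₁ ⊆ Q` not containing `b`. -/
theorem exists_prime_le_of_quasiFiniteAt {R T : Type u} [CommRing R] [IsDomain R]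
    [IsIntegrallyClosed R] [CommRing T] [IsDomain T] [Algebra R T] [FaithfulSMul R T]
    [Algebra.FiniteType R T] (Q : Ideal T) [Q.IsPrime] [Algebra.QuasiFiniteAt R Q]
    (b : T) (hb : b ≠ 0) :
    ∃ G : R, G ≠ 0 ∧ (∀ z : T, ∃ r' d : T, r' ∉ Q ∧ IsIntegral R r' ∧ IsIntegral R d ∧
        z * r' = d) ∧
      ∀ y : Ideal R, y.IsPrime → y ≤ Q.comap (algebraMap R T) → G ∉ y →
      ∃ Q₁ : Ideal T, Q₁.IsPrime ∧ Q₁ ≤ Q ∧ Q₁.comap (algebraMap R T) = y ∧ b ∉ Q₁ := by
  classical
  obtain ⟨D, hDfg, r, hrQ, hbij⟩ :=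
    (Algebra.ZariskisMainProperty.of_finiteType (R := R)
      Q).exists_fg_and_exists_notMem_and_awayMap_bijective
  haveI : Module.Finite R D := ⟨(Submodule.fg_top _).mpr hDfg⟩
  haveI : Algebra.IsIntegral R D := Algebra.IsIntegral.of_finite R D
  haveI : FaithfulSMul R D := by
    rw [faithfulSMul_iff_algebraMap_injective]
    intro a a' h
    apply FaithfulSMul.algebraMap_injective R T
    have := congrArg (D.val) h
    simpa using this
  have hr0 : (r : T) ≠ 0 := fun h => hrQ (h ▸ Q.zero_mem)
  -- `b r^n ∈ D`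
  have key : ∀ b : T, ∃ (n : ℕ) (d : D), (d : T) = b * (r : T) ^ n := by
    intro b
    obtain ⟨z, hz⟩ := hbij.2 (algebraMap T (Localization.Away (D.val.toRingHom r)) b)
    obtain ⟨⟨d, s⟩, hds⟩ := IsLocalization.surj (Submonoid.powers r) z
    obtain ⟨n, hn⟩ := s.2
    have h1 := congrArg (Localization.awayMap D.val.toRingHom r) hds
    rw [map_mul, hz] at h1
    have h2 : Localization.awayMap D.val.toRingHom r (algebraMap D (Localization.Away r) (s : D)) =
        algebraMap T (Localization.Away (D.val.toRingHom r)) ((s : D) : T) :=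
      IsLocalization.map_eq _ _
    have h3 : Localization.awayMap D.val.toRingHom r (algebraMap D (Localization.Away r) d) =
        algebraMap T (Localization.Away (D.val.toRingHom r)) (d : T) :=
      IsLocalization.map_eq _ _
    rw [h2, h3, ← map_mul] at h1
    obtain ⟨c, hc⟩ := (IsLocalization.eq_iff_exists (Submonoid.powers (D.val.toRingHom r)) _).1 h1
    obtain ⟨l, hl⟩ := c.2
    refine ⟨n, d, ?_⟩
    have hc0 : (c : T) ≠ 0 := by
      rw [← hl]
      exact pow_ne_zero _ hr0
    have := mul_left_cancel₀ hc0 hc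
    rw [← this, ← hn]
    rfl
  obtain ⟨n, d, hd⟩ := key b
  have hd0 : d ≠ 0 := by
    intro h
    rw [h] at hd
    have : b * (r : T) ^ n = 0 := hd.symm ▸ rfl
    rcases mul_eq_zero.1 this with h | h
    · exact hb h
    · exact pow_ne_zero _ hr0 h
  have hdint : IsIntegral R d := Algebra.IsIntegral.isIntegral d
  obtain ⟨G, hG0, e, he⟩ := hdint.isAlgebraic.exists_nonzero_dvd
    (mem_nonZeroDivisors_of_ne_zero hd0)
  refine ⟨G, hG0, ?_, ?_⟩
  · intro z
    obtain ⟨n, d, hd⟩ := key z
    have hrint : IsIntegral R (r : T) := by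
      have h1 : IsIntegral R r := Algebra.IsIntegral.isIntegral r
      exact h1.map D.val
    refine ⟨(r : T) ^ n, (d : T), fun h => hrQ (Ideal.IsPrime.mem_of_pow_mem inferInstance n h),
      hrint.pow n, ?_, hd.symm⟩
    have h1 : IsIntegral R d := Algebra.IsIntegral.isIntegral d
    exact h1.map D.val
  intro y hy hyQ hGy
  haveI := hy
  set nD : Ideal D := Q.comap D.val.toRingHom with hnD
  haveI : nD.IsPrime := Ideal.comap_isPrime _ _
  haveI : nD.LiesOver (Q.comap (algebraMap R T)) := by
    constructor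
    ext a
    simp [hnD, Ideal.under, Ideal.mem_comap]
  obtain ⟨n', hn'le, hn'p, hn'o⟩ :=
    Ideal.exists_ideal_le_liesOver_of_le (p := y) (q := Q.comap (algebraMap R T)) nD hyQ
  haveI := hn'p
  obtain ⟨Q₁, hQ₁p, hQ₁le, hQ₁c⟩ := exists_prime_of_awayMap_bijective D r hbij Q hrQ n' hn'le
  have hQ₁y : Q₁.comap (algebraMap R T) = y := by
    have h1 : n'.comap (algebraMap R D) = y := (hn'o.over).symm
    rw [← h1, ← hQ₁c, Ideal.comap_comap]
    rfl
  refine ⟨Q₁, hQ₁p, hQ₁le, hQ₁y, ?_⟩
  intro hbQ₁
  apply hGy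
  have hdn' : d ∈ n' := by
    rw [← hQ₁c, Ideal.mem_comap]
    show (d : T) ∈ Q₁
    rw [hd]
    exact Q₁.mul_mem_right _ hbQ₁
  have : algebraMap R D G ∈ n' := by
    rw [he]
    exact n'.mul_mem_right _ hdn'
  rw [hn'o.over]
  exact this

end Groth.Agent.Lib.Helper21.ClosedGen
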