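import Mathlib

/-!
# Helper21 — ClosedGen2: Noether normalization of a finitely generated algebra over a field,
centred at a closed point
-/

set_option autoImplicit false
set_option backward.isDefEq.respectTransparency.types false

namespace Groth.Agent.Lib.Helper21.ClosedGen

universe u

open Polynomial in
/-- substituting `pᵢ(Xᵢ)` for `Xᵢ` (with `pᵢ` monic nonconstant) is an integral endomorphism of
the polynomial ring. -/
theorem isIntegral_aeval_polys (k : Type u) [Field k] (m : ℕ) (p : Fin m → Polynomial k)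
    (hp : ∀ i, (p i).Monic) (hd : ∀ i, 0 < (p i).natDegree) :
    (MvPolynomial.aeval (R := k) (fun i : Fin m =>
      Polynomial.aeval (MvPolynomial.X i : MvPolynomial (Fin m) k) (p i))).toRingHom.IsIntegral := by
  set x : Fin m → MvPolynomial (Fin m) k := fun i =>
    Polynomial.aeval (MvPolynomial.X i : MvPolynomial (Fin m) k) (p i) with hx
  set ψ : MvPolynomial (Fin m) k →+* MvPolynomial (Fin m) k :=
    (MvPolynomial.aeval (R := k) x).toRingHom with hψ
  have hψC : ∀ a : k, ψ (MvPolynomial.C a) = MvPolynomial.C a := fun a => by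
    simp [hψ]
  have hψX : ∀ i, ψ (MvPolynomial.X i) = x i := fun i => by simp [hψ]
  intro z
  induction z using MvPolynomial.induction_on with
  | C a =>
    rw [← hψC a]
    exact ψ.isIntegralElem_map
  | add f g hf hg => exact RingHom.IsIntegralElem.add ψ hf hg
  | mul_X f i hf =>
    refine RingHom.IsIntegralElem.mul ψ hf ?_
    refine ⟨(p i).map (MvPolynomial.C : k →+* MvPolynomial (Fin m) k) -
      Polynomial.C (MvPolynomial.X i), ?_, ?_⟩
    · apply Polynomial.Monic.sub_of_left ((hp i).map _)
      refine Polynomial.degree_C_le.trans_lt ?_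
      rw [Polynomial.degree_eq_natDegree ((hp i).map _).ne_zero, (hp i).natDegree_map]
      exact_mod_cast hd i
    · rw [Polynomial.eval₂_sub, Polynomial.eval₂_C, Polynomial.eval₂_map, hψX, hx]
      have : ψ.comp (MvPolynomial.C : k →+* MvPolynomial (Fin m) k) =
          algebraMap k (MvPolynomial (Fin m) k) := by
        refine RingHom.ext fun a => ?_
        exact hψC a
      rw [this]
      simp [Polynomial.aeval_def]

open Cardinal in
/-- ... and it is injective. -/
theorem injective_aeval_polys (k : Type u) [Field k] (m : ℕ) (p : Fin m → Polynomial k)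
    (hp : ∀ i, (p i).Monic) (hd : ∀ i, 0 < (p i).natDegree) :
    Function.Injective (MvPolynomial.aeval (R := k) (fun i : Fin m =>
      Polynomial.aeval (MvPolynomial.X i : MvPolynomial (Fin m) k) (p i))) := by
  have hint := isIntegral_aeval_polys k m p hp hd
  set x : Fin m → MvPolynomial (Fin m) k := fun i =>
    Polynomial.aeval (MvPolynomial.X i : MvPolynomial (Fin m) k) (p i) with hx
  set ψ : MvPolynomial (Fin m) k →ₐ[k] MvPolynomial (Fin m) k := MvPolynomial.aeval (R := k) x
    with hψ
  have hS : Algebra.adjoin k (Set.range x) = ψ.range := Algebra.adjoin_range_eq_range_aeval k x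
  haveI : Algebra.IsIntegral (Algebra.adjoin k (Set.range x)) (MvPolynomial (Fin m) k) := by
    rw [hS]
    constructor
    intro z
    obtain ⟨P, hPm, hPz⟩ := hint z
    refine ⟨P.map ψ.rangeRestrict.toRingHom, hPm.map _, ?_⟩
    rw [Polynomial.eval₂_map]
    exact hPz
  haveI : Algebra.IsAlgebraic (Algebra.adjoin k (Set.range x)) (MvPolynomial (Fin m) k) :=
    Algebra.IsIntegral.isAlgebraic
  have htr : Cardinal.lift.{u} #(Fin m) ≤
      Cardinal.lift.{0} (Algebra.trdeg k (MvPolynomial (Fin m) k)) := by
    rw [MvPolynomial.trdeg_of_isDomain]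
    simp
  have := Algebra.IsAlgebraic.isTranscendenceBasis_of_lift_le_trdeg_of_finite k x htr
  exact this.1

/-- **Noether normalization centred at a closed point**: the coordinates can be taken in the
given prime with algebraic residue field. -/
theorem exists_integral_inj_algHom_mem (k F : Type u) [Field k] [CommRing F] [Algebra k F]
    [Algebra.FiniteType k F] (𝔫 : Ideal F) [𝔫.IsPrime]
    (halg : Algebra.IsAlgebraic k (F ⧸ 𝔫)) :
    ∃ (m : ℕ) (g : MvPolynomial (Fin m) k →ₐ[k] F), Function.Injective g ∧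
      g.toRingHom.IsIntegral ∧ ∀ i, g (MvPolynomial.X i) ∈ 𝔫 := by
  haveI : Nontrivial F := ⟨⟨0, 1, fun h => (Ideal.IsPrime.ne_top ‹𝔫.IsPrime›)
    ((Ideal.eq_top_iff_one _).2 (h ▸ 𝔫.zero_mem))⟩⟩
  obtain ⟨m, g₀, hinj, hint⟩ := exists_integral_inj_algHom_of_fg k F
  set u : Fin m → F ⧸ 𝔫 := fun i => Ideal.Quotient.mk 𝔫 (g₀ (MvPolynomial.X i)) with hu
  have huint : ∀ i, IsIntegral k (u i) := fun i =>
    (Algebra.IsAlgebraic.isAlgebraic (u i)).isIntegral
  set p : Fin m → Polynomial k := fun i => minpoly k (u i) with hp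
  have hpm : ∀ i, (p i).Monic := fun i => minpoly.monic (huint i)
  have hpd : ∀ i, 0 < (p i).natDegree := fun i => minpoly.natDegree_pos (huint i)
  set ψ : MvPolynomial (Fin m) k →ₐ[k] MvPolynomial (Fin m) k :=
    MvPolynomial.aeval (R := k) (fun i : Fin m =>
      Polynomial.aeval (MvPolynomial.X i : MvPolynomial (Fin m) k) (p i)) with hψ
  refine ⟨m, g₀.comp ψ, ?_, ?_, ?_⟩
  · exact hinj.comp (injective_aeval_polys k m p hpm hpd)
  · exact RingHom.IsIntegral.trans _ _ (isIntegral_aeval_polys k m p hpm hpd) hint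
  · intro i
    have h1 : (g₀.comp ψ) (MvPolynomial.X i) = Polynomial.aeval (g₀ (MvPolynomial.X i)) (p i) := by
      rw [AlgHom.comp_apply, hψ, MvPolynomial.aeval_X, ← Polynomial.aeval_algHom_apply]
    rw [h1, ← Ideal.Quotient.eq_zero_iff_mem, ← Ideal.Quotient.mkₐ_eq_mk k,
      ← Polynomial.aeval_algHom_apply, Ideal.Quotient.mkₐ_eq_mk]
    exact minpoly.aeval k (u i)

end Groth.Agent.Lib.Helper21.ClosedGen
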