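import Mathlib
import Groth.Agent.Lib.Helper21.ClosedGen1
import Groth.Agent.Lib.Helper21.ClosedGen2

/-!
# Helper21 — ClosedGen3: closed points of the generic fibre specializing to a given closed point of
the special fibre, over a valuation ring
-/

set_option autoImplicit false
set_option backward.isDefEq.respectTransparency.types false
set_option linter.style.haveILetI false

namespace Groth.Agent.Lib.Helper21.ClosedGen

universe u

/-- quasi-finiteness at a prime can be checked modulo an ideal contained in the ideal generated by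
the contraction. -/
theorem quasiFiniteAt_of_quotient {R B : Type u} [CommRing R] [CommRing B] [Algebra R B]
    [Algebra.FiniteType R B] (I : Ideal B) [Algebra.QuasiFinite R (B ⧸ I)]
    (Q : Ideal B) [Q.IsPrime] (hle : I ≤ (Q.under R).map (algebraMap R B)) :
    Algebra.QuasiFiniteAt R Q := by
  haveI : Algebra.QuasiFinite R (B ⧸ (Q.under R).map (algebraMap R B)) :=
    .of_surjective_algHom (Ideal.Quotient.factorₐ R hle) (Ideal.Quotient.factor_surjective hle)
  haveI : Algebra.WeaklyQuasiFiniteAt R Q := inferInstance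
  exact .of_weaklyQuasiFiniteAt Q

section Val

variable {W : Type u} [CommRing W] [IsDomain W] [ValuationRing W]

theorem exists_min_dvd {ι : Type*} (c : ι → W) (s : Finset ι) (hs : s.Nonempty) :
    ∃ m₀ ∈ s, ∀ m ∈ s, c m₀ ∣ c m := by
  classical
  induction hs using Finset.Nonempty.cons_induction with
  | singleton a => exact ⟨a, by simp, by simp⟩
  | cons a s ha hs ih =>
    obtain ⟨m₁, hm₁, h₁⟩ := ih
    rcases ValuationRing.dvd_total (c m₁) (c a) with h | h
    · refine ⟨m₁, Finset.mem_cons.2 (Or.inr hm₁), fun m hm => ?_⟩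
      rcases Finset.mem_cons.1 hm with rfl | hm
      · exact h
      · exact h₁ m hm
    · refine ⟨a, Finset.mem_cons_self _ _, fun m hm => ?_⟩
      rcases Finset.mem_cons.1 hm with rfl | hm
      · exact dvd_rfl
      · exact h.trans (h₁ m hm)

/-- a nonzero polynomial over a valuation ring is a nonzero constant times a polynomial with a
coefficient equal to `1` (copied from `Lib/lead/FlatGenDim`). -/
theorem exists_primitive {σ : Type*} (P : MvPolynomial σ W) (hP : P ≠ 0) :
    ∃ (c : W) (P₀ : MvPolynomial σ W) (m₀ : σ →₀ ℕ), c ≠ 0 ∧ P = MvPolynomial.C c * P₀ ∧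
      P₀.coeff m₀ = 1 := by
  classical
  have hne : P.support.Nonempty := by
    rw [Finset.nonempty_iff_ne_empty, Ne, MvPolynomial.support_eq_empty]; exact hP
  obtain ⟨m₀, hm₀, hmin⟩ := exists_min_dvd (fun m => P.coeff m) P.support hne
  have hc : P.coeff m₀ ≠ 0 := MvPolynomial.mem_support_iff.1 hm₀
  have hdiv : ∀ m, P.coeff m₀ ∣ P.coeff m := by
    intro m
    by_cases hm : m ∈ P.support
    · exact hmin m hm
    · rw [MvPolynomial.notMem_support_iff.1 hm]; exact dvd_zero _
  choose q hq using hdiv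
  refine ⟨P.coeff m₀, ∑ m ∈ P.support, MvPolynomial.monomial m (q m), m₀, hc, ?_, ?_⟩
  · rw [Finset.mul_sum]
    conv_lhs => rw [P.as_sum]
    refine Finset.sum_congr rfl fun m _ => ?_
    rw [MvPolynomial.C_mul_monomial, ← hq m]
  · rw [MvPolynomial.coeff_sum]
    simp only [MvPolynomial.coeff_monomial]
    rw [Finset.sum_ite_eq' P.support m₀, if_pos hm₀]
    have := hq m₀
    exact (mul_left_cancel₀ hc (by rw [mul_one]; exact this)).symm

end Val

set_option maxHeartbeats 1600000 in
set_option synthInstance.maxHeartbeats 200000 in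
/-- **Part A**: over a valuation ring `V` with nonzero maximal ideal, for a finitely generated
`V`-algebra domain `B ⊇ V`, a prime `Q` of `B` over the maximal ideal with `B/Q` integral over `V`,
and `b ≠ 0`: there is a prime `Q₁ ⊆ Q` with `Q₁ ∩ V = 0`, `b ∉ Q₁`, `B/Q₁` algebraic over `V`. -/
theorem exists_prime_le_of_valuationRing (V B : Type u) [CommRing V] [IsDomain V] [ValuationRing V]
    [CommRing B] [IsDomain B] [Algebra V B] [FaithfulSMul V B] [Algebra.FiniteType V B]
    (hm : IsLocalRing.maximalIdeal V ≠ ⊥)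
    (Q : Ideal B) [Q.IsPrime] [Q.LiesOver (IsLocalRing.maximalIdeal V)]
    [Algebra.IsIntegral V (B ⧸ Q)] (b : B) (hb : b ≠ 0) :
    ∃ Q₁ : Ideal B, Q₁.IsPrime ∧ Q₁ ≤ Q ∧ Q₁.comap (algebraMap V B) = ⊥ ∧ b ∉ Q₁ ∧
      Algebra.IsAlgebraic V (B ⧸ Q₁) := by
  classical
  haveI : IsIntegrallyClosed V := inferInstance
  let 𝔪 := IsLocalRing.maximalIdeal V
  let I : Ideal B := 𝔪.map (algebraMap V B)
  let k := V ⧸ 𝔪
  let F := B ⧸ I
  letI : Field k := Ideal.Quotient.field _
  letI : Algebra k F := Ideal.Quotient.algebraQuotientMapQuotient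
  haveI : IsScalarTower V k F := inferInstance
  haveI : Algebra.FiniteType V F := inferInstance
  haveI : Algebra.FiniteType k F := Algebra.FiniteType.of_restrictScalars_finiteType V _ _
  have hIQ : I ≤ Q := by
    rw [Ideal.map_le_iff_le_comap]
    exact (Ideal.LiesOver.over (p := 𝔪) (P := Q)).le
  have h𝔪Q : ∀ a ∈ 𝔪, algebraMap V B a ∈ Q := fun a ha => hIQ (Ideal.mem_map_of_mem _ ha)
  let 𝔫 : Ideal F := Q.map (Ideal.Quotient.mk I)
  haveI : 𝔫.IsPrime := by
    apply Ideal.map_isPrime_of_surjective Ideal.Quotient.mk_surjective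
    rw [Ideal.mk_ker]
    exact hIQ
  have hmem𝔫 : ∀ z : B, Ideal.Quotient.mk I z ∈ 𝔫 ↔ z ∈ Q := by
    intro z
    constructor
    · intro h
      obtain ⟨z', hz', hzz'⟩ := (Ideal.mem_map_iff_of_surjective _ Ideal.Quotient.mk_surjective).1 h
      have : z' - z ∈ I := by
        rw [← Ideal.Quotient.eq_zero_iff_mem, map_sub, hzz', sub_self]
      have h2 := Q.sub_mem hz' (hIQ this)
      simpa using h2
    · exact fun h => Ideal.mem_map_of_mem _ h
  have halg : Algebra.IsAlgebraic k (F ⧸ 𝔫) := by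
    constructor
    intro z
    obtain ⟨z, rfl⟩ := Ideal.Quotient.mk_surjective z
    obtain ⟨z, rfl⟩ := Ideal.Quotient.mk_surjective z
    apply IsIntegral.isAlgebraic
    obtain ⟨P, hPm, hP⟩ := Algebra.IsIntegral.isIntegral (R := V) (Ideal.Quotient.mk Q z)
    refine ⟨P.map (Ideal.Quotient.mk 𝔪), hPm.map _, ?_⟩
    rw [Polynomial.eval₂_map]
    have h1 : Polynomial.eval₂ (algebraMap V B) z P ∈ Q := by
      rw [← Ideal.Quotient.eq_zero_iff_mem, Polynomial.hom_eval₂]
      exact hP
    have h2 : (algebraMap k (F ⧸ 𝔫)).comp (Ideal.Quotient.mk 𝔪) =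
        ((Ideal.Quotient.mk 𝔫).comp (Ideal.Quotient.mk I)).comp (algebraMap V B) := by
      refine RingHom.ext fun a => ?_
      rfl
    have h3 := Polynomial.hom_eval₂ P (algebraMap V B)
      ((Ideal.Quotient.mk 𝔫).comp (Ideal.Quotient.mk I)) z
    rw [RingHom.comp_apply, RingHom.comp_apply] at h3
    rw [h2, ← h3, Ideal.Quotient.eq_zero_iff_mem, hmem𝔫]
    exact h1
  obtain ⟨m, g, hginj, hgint, hg𝔫⟩ := exists_integral_inj_algHom_mem k F 𝔫 halg
  have ht : ∀ i, ∃ t : B, t ∈ Q ∧ Ideal.Quotient.mk I t = g (MvPolynomial.X i) := by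
    intro i
    obtain ⟨t, ht⟩ := Ideal.Quotient.mk_surjective (g (MvPolynomial.X i))
    exact ⟨t, (hmem𝔫 t).1 (ht ▸ hg𝔫 i), ht⟩
  choose t htQ htg using ht
  let R := MvPolynomial (Fin m) V
  let φ : R →ₐ[V] B := MvPolynomial.aeval t
  have hkey : (Ideal.Quotient.mk I).comp φ.toRingHom =
      g.toRingHom.comp (MvPolynomial.map (Ideal.Quotient.mk 𝔪)) := by
    apply MvPolynomial.ringHom_ext
    · intro a
      have h1 : φ (MvPolynomial.C a) = algebraMap V B a := MvPolynomial.aeval_C _ _
      have h2 : g (MvPolynomial.C (Ideal.Quotient.mk 𝔪 a)) =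
          algebraMap k F (Ideal.Quotient.mk 𝔪 a) := g.commutes _
      simp only [RingHom.comp_apply, AlgHom.toRingHom_eq_coe, RingHom.coe_coe, MvPolynomial.map_C]
      rw [h1, h2]
      rfl
    · intro i
      have h1 : φ (MvPolynomial.X i) = t i := MvPolynomial.aeval_X _ _
      simp only [RingHom.comp_apply, AlgHom.toRingHom_eq_coe, RingHom.coe_coe, MvPolynomial.map_X]
      rw [h1, htg]
  have hkey' : ∀ H : R, Ideal.Quotient.mk I (φ H) = g (MvPolynomial.map (Ideal.Quotient.mk 𝔪) H) :=
    fun H => RingHom.congr_fun hkey H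
  have hφinj : Function.Injective φ := by
    rw [injective_iff_map_eq_zero]
    intro H hH
    by_contra hH0
    obtain ⟨c, H₀, s₀, hc, rfl, hs₀⟩ := exists_primitive H hH0
    rw [map_mul, show φ (MvPolynomial.C c) = algebraMap V B c from MvPolynomial.aeval_C _ _] at hH
    have hc' : algebraMap V B c ≠ 0 :=
      (map_ne_zero_iff _ (FaithfulSMul.algebraMap_injective V B)).2 hc
    have h1 : φ H₀ = 0 := (mul_eq_zero.1 hH).resolve_left hc'
    have h2 : g (MvPolynomial.map (Ideal.Quotient.mk 𝔪) H₀) = 0 := by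
      rw [← hkey', h1, map_zero]
    have h3 : MvPolynomial.map (Ideal.Quotient.mk 𝔪) H₀ = 0 := hginj (h2.trans (map_zero g).symm)
    have h4 := congrArg (MvPolynomial.coeff s₀) h3
    rw [MvPolynomial.coeff_map, hs₀, map_one, MvPolynomial.coeff_zero] at h4
    exact one_ne_zero h4
  letI : Algebra R B := φ.toRingHom.toAlgebra
  haveI : IsScalarTower V R B := IsScalarTower.of_algebraMap_eq fun a => (φ.commutes a).symm
  haveI : Algebra.FiniteType R B := Algebra.FiniteType.of_restrictScalars_finiteType V R B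
  haveI : FaithfulSMul R B := (faithfulSMul_iff_algebraMap_injective R B).2 hφinj
  haveI : IsIntegrallyClosed R := isIntegrallyClosed_mvPolynomial_fin V m
  -- quasi-finiteness at `Q`
  haveI : Algebra.IsIntegral R F := by
    have h1 : (algebraMap R F) = g.toRingHom.comp (MvPolynomial.map (Ideal.Quotient.mk 𝔪)) :=
      hkey
    have h2 : (algebraMap R F).IsIntegral := by
      rw [h1]
      exact RingHom.IsIntegral.trans _ _ (RingHom.isIntegral_of_surjective _
        (MvPolynomial.map_surjective _ Ideal.Quotient.mk_surjective)) hgint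
    exact ⟨h2⟩
  haveI : Module.Finite R F := Algebra.IsIntegral.finite
  haveI : Algebra.QuasiFiniteAt R Q := by
    refine quasiFiniteAt_of_quotient I Q ?_
    rw [Ideal.map_le_iff_le_comap]
    intro a ha
    rw [Ideal.mem_comap]
    have h1 : algebraMap V B a = algebraMap R B (MvPolynomial.C a) :=
      (MvPolynomial.aeval_C t a).symm
    rw [h1]
    apply Ideal.mem_map_of_mem
    rw [Ideal.mem_comap, ← h1]
    exact h𝔪Q a ha
  obtain ⟨G, hG0, hzmt, hG⟩ := exists_prime_le_of_quasiFiniteAt (R := R) (T := B) Q b hb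
  -- a point of `𝔪^m` where `G` does not vanish
  have hminf : (𝔪 : Set V).Infinite := by
    obtain ⟨c, hc𝔪, hc0⟩ := Submodule.exists_mem_ne_zero_of_ne_bot hm
    have hcu : ¬ IsUnit c := (IsLocalRing.mem_maximalIdeal c).1 hc𝔪
    refine Set.infinite_of_injective_forall_mem (f := fun n : ℕ => c ^ (n + 1)) ?_ ?_
    · intro i j hij
      have := pow_injective_of_not_isUnit hcu hc0 hij
      omega
    · intro n
      exact Ideal.pow_mem_of_mem _ hc𝔪 _ (Nat.succ_pos _)
  obtain ⟨a, ha𝔪, haG⟩ : ∃ a : Fin m → V, (∀ i, a i ∈ 𝔪) ∧ MvPolynomial.eval a G ≠ 0 := by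
    by_contra hcon
    push Not at hcon
    apply hG0
    apply MvPolynomial.funext_set (fun _ => (𝔪 : Set V)) (fun _ => hminf)
    intro x hx
    rw [map_zero]
    exact hcon x (fun i => hx i (Set.mem_univ i))
  let ev : R →+* V := MvPolynomial.eval a
  let y : Ideal R := RingHom.ker ev
  haveI hyp : y.IsPrime := RingHom.ker_isPrime ev
  have hGy : G ∉ y := fun h => haG ((RingHom.mem_ker).1 h)
  have hcompQ : (Ideal.Quotient.mk Q).comp φ.toRingHom = (algebraMap V (B ⧸ Q)).comp ev := by
    apply MvPolynomial.ringHom_ext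
    · intro c
      have h1 : φ (MvPolynomial.C c) = algebraMap V B c := MvPolynomial.aeval_C _ _
      simp only [RingHom.comp_apply, AlgHom.toRingHom_eq_coe, RingHom.coe_coe, ev,
        MvPolynomial.eval_C]
      rw [h1]
      rfl
    · intro i
      have h1 : φ (MvPolynomial.X i) = t i := MvPolynomial.aeval_X _ _
      simp only [RingHom.comp_apply, AlgHom.toRingHom_eq_coe, RingHom.coe_coe, ev,
        MvPolynomial.eval_X]
      rw [h1, Ideal.Quotient.eq_zero_iff_mem.2 (htQ i)]
      symm
      change Ideal.Quotient.mk Q (algebraMap V B (a i)) = 0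
      rw [Ideal.Quotient.eq_zero_iff_mem]
      exact h𝔪Q _ (ha𝔪 i)
  have hyQ : y ≤ Q.comap (algebraMap R B) := by
    intro H hH
    rw [Ideal.mem_comap]
    have h1 := RingHom.congr_fun hcompQ H
    simp only [RingHom.comp_apply] at h1
    rw [(RingHom.mem_ker).1 hH, map_zero] at h1
    exact Ideal.Quotient.eq_zero_iff_mem.1 h1
  obtain ⟨Q₁, hQ₁p, hQ₁le, hQ₁c, hbQ₁⟩ := hG y hyp hyQ hGy
  haveI := hQ₁p
  have hev : ∀ H : R, Ideal.Quotient.mk Q₁ (φ H) =
      Ideal.Quotient.mk Q₁ (algebraMap V B (ev H)) := by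
    intro H
    have h1 : H - MvPolynomial.C (ev H) ∈ y := by
      rw [RingHom.mem_ker, map_sub]
      change ev H - MvPolynomial.eval a (MvPolynomial.C (ev H)) = 0
      rw [MvPolynomial.eval_C, sub_self]
    rw [← hQ₁c, Ideal.mem_comap] at h1
    have h2 : algebraMap R B (H - MvPolynomial.C (ev H)) = φ H - algebraMap V B (ev H) := by
      change φ (H - MvPolynomial.C (ev H)) = _
      rw [map_sub, show φ (MvPolynomial.C (ev H)) = algebraMap V B (ev H) from
        MvPolynomial.aeval_C _ _]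
    rw [h2] at h1
    exact (Ideal.Quotient.mk_eq_mk_iff_sub_mem _ _).2 h1
  refine ⟨Q₁, hQ₁p, hQ₁le, ?_, hbQ₁, ?_⟩
  · rw [eq_bot_iff]
    intro c hc
    rw [Ideal.mem_comap] at hc
    have h1 : algebraMap V B c = algebraMap R B (MvPolynomial.C c) :=
      (MvPolynomial.aeval_C t c).symm
    rw [h1, ← Ideal.mem_comap, hQ₁c, RingHom.mem_ker] at hc
    have h2 : ev (MvPolynomial.C c) = c := MvPolynomial.eval_C _
    rw [h2] at hc
    rw [hc]
    exact Ideal.zero_mem _
  · -- algebraicity
    have hintV : ∀ z : B, IsIntegral R z → IsIntegral V (Ideal.Quotient.mk Q₁ z) := by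
      intro z ⟨P, hPm, hP⟩
      refine ⟨P.map ev, hPm.map _, ?_⟩
      rw [Polynomial.eval₂_map]
      have h1 : (algebraMap V (B ⧸ Q₁)).comp ev = (Ideal.Quotient.mk Q₁).comp (algebraMap R B) := by
        refine RingHom.ext fun H => ?_
        exact (hev H).symm
      rw [h1, ← Polynomial.hom_eval₂, hP, map_zero]
    constructor
    intro z
    obtain ⟨z, rfl⟩ := Ideal.Quotient.mk_surjective z
    obtain ⟨r', d, hr', hr'int, hdint, hzd⟩ := hzmt z
    have hr'0 : Ideal.Quotient.mk Q₁ r' ≠ 0 := by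
      rw [Ne, Ideal.Quotient.eq_zero_iff_mem]
      exact fun h => hr' (hQ₁le h)
    refine IsAlgebraic.of_mul (y := Ideal.Quotient.mk Q₁ r') (mem_nonZeroDivisors_of_ne_zero hr'0)
      (hintV r' hr'int).isAlgebraic ?_
    rw [← map_mul, mul_comm, hzd]
    exact (hintV d hdint).isAlgebraic

end Groth.Agent.Lib.Helper21.ClosedGen
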