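import Mathlib
import Groth.Agent.Lib.Helper21.ClosedGen3

set_option autoImplicit false
set_option backward.isDefEq.respectTransparency.types false
set_option linter.style.haveILetI false

/-!
# Helper21 — ClosedGen4: closed points of the fibre over a generization specializing to a given
closed point of a fibre (algebraic core)
-/

namespace Groth.Agent.Lib.Helper21.ClosedGen

universe u

/-- a valuation ring of `K` containing the image of `R` whose maximal ideal contracts to a given
prime containing the kernel (copied from `Lib/lead/ChainVal`). -/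
theorem exists_valuationSubring_of_prime {K : Type u} [Field K] {R : Type u} [CommRing R]
    (φ : R →+* K) (P : Ideal R) [P.IsPrime] (hker : RingHom.ker φ ≤ P) :
    ∃ (V : ValuationSubring K) (hφ : ∀ r, φ r ∈ V),
      (IsLocalRing.maximalIdeal V).comap (φ.codRestrict V.toSubring hφ) = P := by
  have hg : ∀ y : P.primeCompl, IsUnit (φ y) := by
    intro y
    rw [isUnit_iff_ne_zero]
    intro h0
    exact y.2 (hker h0)
  let f₀ : Localization.AtPrime P →+* K := IsLocalization.lift hg
  have hf₀ : ∀ r, f₀ (algebraMap R (Localization.AtPrime P) r) = φ r := fun r =>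
    IsLocalization.lift_eq hg r
  obtain ⟨A, hA, hloc⟩ := IsLocalRing.exists_factor_valuationRing f₀
  have hφ : ∀ r, φ r ∈ A := fun r => by rw [← hf₀ r]; exact hA _
  refine ⟨A, hφ, ?_⟩
  have hcomp : φ.codRestrict A.toSubring hφ =
      (f₀.codRestrict A.toSubring hA).comp (algebraMap R (Localization.AtPrime P)) := by
    ext r
    exact (hf₀ r).symm
  rw [hcomp, ← Ideal.comap_comap, IsLocalRing.maximalIdeal_comap]
  exact IsLocalization.AtPrime.under_maximalIdeal (Localization.AtPrime P) P

set_option maxHeartbeats 1600000 in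
set_option synthInstance.maxHeartbeats 200000 in
/-- **(GA)**: `A ⊆ B` domains, `B` finitely generated over `A`, `q'` a prime of `B` over a nonzero
prime `p'` of `A` with `B/q'` algebraic over `A/p'`, and `b ≠ 0`.  Then there is a prime `q₁ ⊆ q'`
with `q₁ ∩ A = 0`, `b ∉ q₁` and `B/q₁` algebraic over `A`. -/
theorem exists_prime_le_algebraic (A B : Type u) [CommRing A] [IsDomain A] [CommRing B] [IsDomain B]
    [Algebra A B] [FaithfulSMul A B] [Algebra.FiniteType A B]
    (p' : Ideal A) [p'.IsPrime] (hp' : p' ≠ ⊥) (q' : Ideal B) [q'.IsPrime] [q'.LiesOver p']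
    (halg : Algebra.IsAlgebraic (A ⧸ p') (B ⧸ q')) (b : B) (hb : b ≠ 0) :
    ∃ q₁ : Ideal B, q₁.IsPrime ∧ q₁ ≤ q' ∧ q₁.comap (algebraMap A B) = ⊥ ∧ b ∉ q₁ ∧
      Algebra.IsAlgebraic A (B ⧸ q₁) := by
  classical
  let L := FractionRing B
  let K₀ := FractionRing A
  letI : Algebra K₀ L := FractionRing.liftAlgebra A L
  haveI : IsScalarTower A K₀ L := FractionRing.isScalarTower_liftAlgebra A L
  let φ : B →+* L := algebraMap B L
  have hφinj : Function.Injective φ := IsFractionRing.injective B L
  obtain ⟨W, hφW, hW⟩ := exists_valuationSubring_of_prime φ q' (by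
    rw [(RingHom.injective_iff_ker_eq_bot φ).1 hφinj]; exact bot_le)
  let f : K₀ →+* L := algebraMap K₀ L
  let V : ValuationSubring K₀ := W.comap f
  -- the map `V → W`
  let j : V →+* W := (f.comp V.subtype).codRestrict W.toSubring (fun v => v.2)
  have hjinj : Function.Injective j := by
    intro v v' h
    apply Subtype.ext
    apply f.injective
    exact congrArg Subtype.val h
  haveI : IsLocalHom j := by
    constructor
    intro v hv
    have h1 : (j v : L) ∈ W.nonunits → False := by
      intro h
      rw [ValuationSubring.coe_mem_nonunits_iff] at h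
      exact ((IsLocalRing.mem_maximalIdeal _).1 h) hv
    by_contra hnu
    apply h1
    have h2 : ((v : K₀)) ∈ V.nonunits := by
      rw [ValuationSubring.coe_mem_nonunits_iff]
      exact (IsLocalRing.mem_maximalIdeal _).2 hnu
    rw [ValuationSubring.mem_nonunits_iff_or] at h2 ⊢
    rcases h2 with h2 | h2
    · left
      change f (v : K₀) = 0
      rw [h2, map_zero]
    · right
      intro h3
      apply h2
      change f ((v : K₀)⁻¹) ∈ W
      rw [map_inv₀]
      exact h3
  have hjm : (IsLocalRing.maximalIdeal W).comap j = IsLocalRing.maximalIdeal V :=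
    IsLocalRing.maximalIdeal_comap j
  letI : Algebra V L := (f.comp V.subtype).toAlgebra
  -- `A → V`
  have hAV : ∀ a : A, algebraMap A K₀ a ∈ V := by
    intro a
    change f (algebraMap A K₀ a) ∈ W
    have h1 : f (algebraMap A K₀ a) = φ (algebraMap A B a) := by
      change algebraMap K₀ L (algebraMap A K₀ a) = algebraMap B L (algebraMap A B a)
      rw [← IsScalarTower.algebraMap_apply, ← IsScalarTower.algebraMap_apply]
    rw [h1]
    exact hφW _
  let iAV : A →+* V := (algebraMap A K₀).codRestrict V.toSubring hAV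
  have hiAVinj : Function.Injective iAV := by
    intro a a' h
    apply IsFractionRing.injective A K₀
    exact congrArg Subtype.val h
  letI : Algebra A V := iAV.toAlgebra
  haveI : IsScalarTower A V L := IsScalarTower.of_algebraMap_eq fun a => by
    change algebraMap A L a = f (algebraMap A K₀ a)
    exact IsScalarTower.algebraMap_apply A K₀ L a
  -- the algebra `B' = V[B]`
  let B' : Subalgebra V L := Algebra.adjoin V (Set.range φ)
  have hB'W : ∀ x : L, x ∈ B' → x ∈ W := by
    intro x hx
    induction hx using Algebra.adjoin_induction with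
    | mem x hx =>
      obtain ⟨z, rfl⟩ := hx
      exact hφW z
    | algebraMap v => exact v.2
    | add x y _ _ hx hy => exact W.add_mem _ _ hx hy
    | mul x y _ _ hx hy => exact W.mul_mem _ _ hx hy
  let ιB : B →+* B' := φ.codRestrict B'.toSubring (fun z => Algebra.subset_adjoin ⟨z, rfl⟩)
  have hιBinj : Function.Injective ιB := by
    intro z z' h
    apply hφinj
    exact congrArg Subtype.val h
  let incl : B' →+* W := (B'.val.toRingHom).codRestrict W.toSubring (fun x => hB'W x.1 x.2)
  let Q'' : Ideal B' := (IsLocalRing.maximalIdeal W).comap incl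
  haveI hQ''p : Q''.IsPrime := Ideal.comap_isPrime _ _
  have hQ''B : Q''.comap ιB = q' := by
    rw [← hW]
    rfl
  have hQ''V : Q''.comap (algebraMap V B') = IsLocalRing.maximalIdeal V := by
    rw [← hjm]
    rfl
  haveI : Q''.LiesOver (IsLocalRing.maximalIdeal V) := ⟨hQ''V.symm⟩
  haveI : FaithfulSMul V B' := by
    rw [faithfulSMul_iff_algebraMap_injective]
    intro v v' h
    apply hjinj
    apply Subtype.ext
    exact congrArg (fun x : B' => (x : L)) h
  -- finite type
  haveI : Algebra.FiniteType V B' := by
    rw [← Subalgebra.fg_iff_finiteType]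
    obtain ⟨s, hs⟩ := (Algebra.FiniteType.out : (⊤ : Subalgebra A B).FG)
    refine ⟨s.image φ, le_antisymm (Algebra.adjoin_mono ?_) (Algebra.adjoin_le ?_)⟩
    · intro x hx
      rw [Finset.coe_image] at hx
      obtain ⟨z, -, rfl⟩ := hx
      exact ⟨z, rfl⟩
    · rintro _ ⟨z, rfl⟩
      have hz : z ∈ Algebra.adjoin A (s : Set B) := by rw [hs]; trivial
      induction hz using Algebra.adjoin_induction with
      | mem z hz =>
        apply Algebra.subset_adjoin
        rw [Finset.coe_image]
        exact ⟨z, hz, rfl⟩
      | algebraMap a =>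
        have h1 : φ (algebraMap A B a) = algebraMap V L (iAV a) := by
          change algebraMap B L (algebraMap A B a) = f (algebraMap A K₀ a)
          rw [← IsScalarTower.algebraMap_apply]
          exact IsScalarTower.algebraMap_apply A K₀ L a
        rw [h1]
        exact Subalgebra.algebraMap_mem _ _
      | add x y _ _ hx hy =>
        rw [map_add]
        exact Subalgebra.add_mem _ hx hy
      | mul x y _ _ hx hy =>
        rw [map_mul]
        exact Subalgebra.mul_mem _ hx hy
  have hcompat : ∀ a : A, ιB (algebraMap A B a) = algebraMap V B' (iAV a) := by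
    intro a
    apply Subtype.ext
    change algebraMap B L (algebraMap A B a) = f (algebraMap A K₀ a)
    rw [← IsScalarTower.algebraMap_apply]
    exact IsScalarTower.algebraMap_apply A K₀ L a
  have hp'V : ∀ a : A, a ∈ p' ↔ iAV a ∈ IsLocalRing.maximalIdeal V := by
    intro a
    constructor
    · intro h
      have h1 : algebraMap A B a ∈ q' := (Ideal.mem_of_liesOver q' p' a).1 h
      rw [← hQ''B, Ideal.mem_comap, hcompat] at h1
      rw [← hQ''V]
      exact h1
    · intro h
      rw [← hQ''V, Ideal.mem_comap, ← hcompat] at h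
      rw [Ideal.mem_of_liesOver q' p' a, ← hQ''B]
      exact h
  have hmV : IsLocalRing.maximalIdeal V ≠ ⊥ := by
    obtain ⟨a, hap', ha0⟩ := Submodule.exists_mem_ne_zero_of_ne_bot hp'
    intro h
    have h1 := (hp'V a).1 hap'
    rw [h, Ideal.mem_bot] at h1
    exact ha0 (hiAVinj (h1.trans (map_zero iAV).symm))
  -- integrality of the residue ring
  haveI : Algebra.IsIntegral V (B' ⧸ Q'') := by
    letI : Field (V ⧸ IsLocalRing.maximalIdeal V) := Ideal.Quotient.field _
    haveI : Algebra.IsIntegral V (V ⧸ IsLocalRing.maximalIdeal V) :=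
      Algebra.isIntegral_of_surjective Ideal.Quotient.mk_surjective
    have hgen : ∀ z : B, IsIntegral V (Ideal.Quotient.mk Q'' (ιB z)) := by
      intro z
      obtain ⟨Pb, hPb0, hPb⟩ :=
        Algebra.IsAlgebraic.isAlgebraic (R := A ⧸ p') (Ideal.Quotient.mk q' z)
      obtain ⟨P, rfl⟩ := Polynomial.map_surjective _ Ideal.Quotient.mk_surjective Pb
      have h1 : Polynomial.eval₂ (algebraMap A B) z P ∈ q' := by
        rw [← Ideal.Quotient.eq_zero_iff_mem, Polynomial.hom_eval₂]
        rw [Polynomial.aeval_def, Polynomial.eval₂_map] at hPb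
        exact hPb
      apply isIntegral_trans (A := V ⧸ IsLocalRing.maximalIdeal V)
      apply IsAlgebraic.isIntegral
      refine ⟨(P.map iAV).map (Ideal.Quotient.mk (IsLocalRing.maximalIdeal V)), ?_, ?_⟩
      · intro h0
        apply hPb0
        ext n
        have h2 := congrArg (fun R => Polynomial.coeff R n) h0
        simp only [Polynomial.coeff_map, Polynomial.coeff_zero] at h2 ⊢
        rw [Ideal.Quotient.eq_zero_iff_mem] at h2 ⊢
        exact (hp'V _).2 h2
      · rw [Polynomial.aeval_def, Polynomial.eval₂_map, Polynomial.eval₂_map]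
        have h2 : ((algebraMap (V ⧸ IsLocalRing.maximalIdeal V) (B' ⧸ Q'')).comp
            (Ideal.Quotient.mk (IsLocalRing.maximalIdeal V))).comp iAV =
            ((Ideal.Quotient.mk Q'').comp ιB).comp (algebraMap A B) := by
          refine RingHom.ext fun a => ?_
          simp only [RingHom.comp_apply]
          rw [hcompat]
          rfl
        have h3 := Polynomial.hom_eval₂ P (algebraMap A B) ((Ideal.Quotient.mk Q'').comp ιB) z
        rw [RingHom.comp_apply, RingHom.comp_apply] at h3
        rw [h2, ← h3, Ideal.Quotient.eq_zero_iff_mem, ← Ideal.mem_comap, hQ''B]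
        exact h1
    constructor
    intro x
    obtain ⟨⟨x, hx⟩, rfl⟩ := Ideal.Quotient.mk_surjective x
    induction hx using Algebra.adjoin_induction with
    | mem x hx =>
      obtain ⟨z, rfl⟩ := hx
      exact hgen z
    | algebraMap v =>
      exact isIntegral_algebraMap (R := V) (A := B' ⧸ Q'') (x := v)
    | add x y hx hy hx' hy' =>
      have h := IsIntegral.add (R := V) (A := B' ⧸ Q'') hx' hy'
      exact h
    | mul x y hx hy hx' hy' =>
      have h := IsIntegral.mul (R := V) (A := B' ⧸ Q'') hx' hy'
      exact h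
  haveI : IsDomain B' := inferInstance
  have hb' : ιB b ≠ 0 := fun h => hb (hιBinj (h.trans (map_zero ιB).symm))
  obtain ⟨Q₁', hQ₁'p, hQ₁'le, hQ₁'c, hbQ₁', hQ₁'alg⟩ :=
    exists_prime_le_of_valuationRing V B' hmV Q'' (ιB b) hb'
  haveI := hQ₁'p
  let q₁ : Ideal B := Q₁'.comap ιB
  haveI : q₁.IsPrime := Ideal.comap_isPrime _ _
  refine ⟨q₁, inferInstance, ?_, ?_, hbQ₁', ?_⟩
  · rw [← hQ''B]
    exact Ideal.comap_mono hQ₁'le
  · rw [eq_bot_iff]
    intro a ha
    rw [Ideal.mem_comap] at ha
    have h1 : ιB (algebraMap A B a) ∈ Q₁' := ha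
    rw [hcompat, ← Ideal.mem_comap, hQ₁'c, Ideal.mem_bot] at h1
    rw [Ideal.mem_bot]
    exact hiAVinj (h1.trans (map_zero iAV).symm)
  · -- algebraicity
    haveI : IsScalarTower A V K₀ := IsScalarTower.of_algebraMap_eq fun a => rfl
    haveI : Algebra.IsAlgebraic A K₀ := IsLocalization.isAlgebraic K₀ (nonZeroDivisors A)
    haveI : Algebra.IsAlgebraic A V := by
      constructor
      intro v
      have h1 : IsAlgebraic A (algebraMap V K₀ v) := Algebra.IsAlgebraic.isAlgebraic _
      exact (isAlgebraic_algebraMap_iff (A := K₀) (S := V) (R := A) Subtype.val_injective).1 h1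
    haveI : Algebra.IsAlgebraic A (B' ⧸ Q₁') := Algebra.IsAlgebraic.trans A V (B' ⧸ Q₁')
    let g : B ⧸ q₁ →+* B' ⧸ Q₁' := Ideal.quotientMap Q₁' ιB le_rfl
    have hginj : Function.Injective g := Ideal.quotientMap_injective
    refine Algebra.IsAlgebraic.of_ringHom_of_comp_eq (RingHom.id A) g Function.surjective_id hginj ?_
    refine RingHom.ext fun a => ?_
    simp only [RingHom.comp_apply, RingHom.id_apply]
    change algebraMap A (B' ⧸ Q₁') a = g (Ideal.Quotient.mk q₁ (algebraMap A B a))
    rw [Ideal.quotientMap_mk, hcompat, IsScalarTower.algebraMap_apply A V (B' ⧸ Q₁') a]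
    rfl

end Groth.Agent.Lib.Helper21.ClosedGen
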