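import Mathlib
import Groth.Agent.Lib.Helper21.ClosedGen4

set_option autoImplicit false
set_option backward.isDefEq.respectTransparency.types false
set_option linter.style.haveILetI false

/-!
# Helper21 — ClosedGen5: relative form (GA') of the algebraic core, with the elementwise
algebraicity predicate `AlgMod`
-/

namespace Groth.Agent.Lib.Helper21.ClosedGen

universe u

/-- elementwise form of "`B/q` is algebraic over `A/p`". -/
def AlgMod {A B : Type u} [CommRing A] [CommRing B] [Algebra A B] (p : Ideal A) (q : Ideal B) :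
    Prop :=
  ∀ z : B, ∃ P : Polynomial A, (∃ n, P.coeff n ∉ p) ∧ Polynomial.eval₂ (algebraMap A B) z P ∈ q

theorem algMod_iff {A B : Type u} [CommRing A] [CommRing B] [Algebra A B] (p : Ideal A)
    (q : Ideal B) [q.LiesOver p] :
    AlgMod p q ↔ Algebra.IsAlgebraic (A ⧸ p) (B ⧸ q) := by
  have hcomp : (algebraMap (A ⧸ p) (B ⧸ q)).comp (Ideal.Quotient.mk p) =
      (Ideal.Quotient.mk q).comp (algebraMap A B) := RingHom.ext fun a => rfl
  have key : ∀ (z : B) (P : Polynomial A),
      Polynomial.aeval (Ideal.Quotient.mk q z) (P.map (Ideal.Quotient.mk p)) =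
        Ideal.Quotient.mk q (Polynomial.eval₂ (algebraMap A B) z P) := by
    intro z P
    rw [Polynomial.aeval_def, Polynomial.eval₂_map, hcomp, Polynomial.hom_eval₂]
  constructor
  · intro h
    constructor
    intro z
    obtain ⟨z, rfl⟩ := Ideal.Quotient.mk_surjective z
    obtain ⟨P, ⟨n, hn⟩, hP⟩ := h z
    refine ⟨P.map (Ideal.Quotient.mk p), ?_, ?_⟩
    · intro h0
      have h2 := congrArg (fun R => Polynomial.coeff R n) h0
      simp only [Polynomial.coeff_map, Polynomial.coeff_zero] at h2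
      exact hn (Ideal.Quotient.eq_zero_iff_mem.1 h2)
    · rw [key, Ideal.Quotient.eq_zero_iff_mem]
      exact hP
  · intro h z
    obtain ⟨Pb, hPb0, hPb⟩ := Algebra.IsAlgebraic.isAlgebraic (R := A ⧸ p) (Ideal.Quotient.mk q z)
    obtain ⟨P, rfl⟩ := Polynomial.map_surjective _ Ideal.Quotient.mk_surjective Pb
    refine ⟨P, ?_, ?_⟩
    · by_contra hcon
      push Not at hcon
      apply hPb0
      ext n
      simp only [Polynomial.coeff_map, Polynomial.coeff_zero]
      exact Ideal.Quotient.eq_zero_iff_mem.2 (hcon n)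
    · rw [key] at hPb
      exact Ideal.Quotient.eq_zero_iff_mem.1 hPb

set_option maxHeartbeats 1600000 in
set_option synthInstance.maxHeartbeats 200000 in
/-- **(GA')**: relative version for primes `q ⊆ q'` of a finite type algebra. -/
theorem exists_prime_between_algMod (A B : Type u) [CommRing A] [CommRing B] [Algebra A B]
    [Algebra.FiniteType A B] (q q' : Ideal B) [q.IsPrime] [q'.IsPrime] (hqq' : q ≤ q')
    (hne : q.comap (algebraMap A B) ≠ q'.comap (algebraMap A B))
    (halg : AlgMod (q'.comap (algebraMap A B)) q') (b : B) (hb : b ∉ q) :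
    ∃ q₁ : Ideal B, q₁.IsPrime ∧ q ≤ q₁ ∧ q₁ ≤ q' ∧
      q₁.comap (algebraMap A B) = q.comap (algebraMap A B) ∧ b ∉ q₁ ∧
      AlgMod (q.comap (algebraMap A B)) q₁ := by
  classical
  set p : Ideal A := q.comap (algebraMap A B) with hp
  set p' : Ideal A := q'.comap (algebraMap A B) with hp'
  haveI : p.IsPrime := Ideal.comap_isPrime _ _
  haveI : p'.IsPrime := Ideal.comap_isPrime _ _
  haveI : q.LiesOver p := ⟨rfl⟩
  haveI : q'.LiesOver p' := ⟨rfl⟩
  have hpp' : p ≤ p' := Ideal.comap_mono hqq'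
  let A₁ := A ⧸ p
  let B₁ := B ⧸ q
  haveI : IsDomain A₁ := Ideal.Quotient.isDomain p
  haveI : IsDomain B₁ := Ideal.Quotient.isDomain q
  haveI : Algebra.FiniteType A B₁ := inferInstance
  haveI : Algebra.FiniteType A₁ B₁ := Algebra.FiniteType.of_restrictScalars_finiteType A A₁ B₁
  let p₁' : Ideal A₁ := p'.map (Ideal.Quotient.mk p)
  let q₁' : Ideal B₁ := q'.map (Ideal.Quotient.mk q)
  have hmemp : ∀ a : A, Ideal.Quotient.mk p a ∈ p₁' ↔ a ∈ p' := by
    intro a
    constructor
    · intro h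
      obtain ⟨a', ha', haa'⟩ := (Ideal.mem_map_iff_of_surjective _ Ideal.Quotient.mk_surjective).1 h
      have : a' - a ∈ p := by
        rw [← Ideal.Quotient.eq_zero_iff_mem, map_sub, haa', sub_self]
      have h2 := p'.sub_mem ha' (hpp' this)
      simpa using h2
    · exact fun h => Ideal.mem_map_of_mem _ h
  have hmemq : ∀ z : B, Ideal.Quotient.mk q z ∈ q₁' ↔ z ∈ q' := by
    intro a
    constructor
    · intro h
      obtain ⟨a', ha', haa'⟩ := (Ideal.mem_map_iff_of_surjective _ Ideal.Quotient.mk_surjective).1 h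
      have : a' - a ∈ q := by
        rw [← Ideal.Quotient.eq_zero_iff_mem, map_sub, haa', sub_self]
      have h2 := q'.sub_mem ha' (hqq' this)
      simpa using h2
    · exact fun h => Ideal.mem_map_of_mem _ h
  haveI : p₁'.IsPrime := by
    apply Ideal.map_isPrime_of_surjective Ideal.Quotient.mk_surjective
    rw [Ideal.mk_ker]
    exact hpp'
  haveI : q₁'.IsPrime := by
    apply Ideal.map_isPrime_of_surjective Ideal.Quotient.mk_surjective
    rw [Ideal.mk_ker]
    exact hqq'
  haveI : q₁'.LiesOver p₁' := by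
    constructor
    ext a
    obtain ⟨a, rfl⟩ := Ideal.Quotient.mk_surjective a
    rw [hmemp, Ideal.under, Ideal.mem_comap]
    change a ∈ p' ↔ Ideal.Quotient.mk q (algebraMap A B a) ∈ q₁'
    rw [hmemq]
    rfl
  have hp₁' : p₁' ≠ ⊥ := by
    intro h
    apply hne
    apply le_antisymm hpp'
    intro a ha
    have h1 := (hmemp a).2 ha
    rw [h, Ideal.mem_bot] at h1
    exact Ideal.Quotient.eq_zero_iff_mem.1 h1
  have hcompat : (algebraMap A₁ B₁).comp (Ideal.Quotient.mk p) =
      (Ideal.Quotient.mk q).comp (algebraMap A B) := RingHom.ext fun a => rfl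
  have halg₁ : Algebra.IsAlgebraic (A₁ ⧸ p₁') (B₁ ⧸ q₁') := by
    rw [← algMod_iff]
    intro z
    obtain ⟨z, rfl⟩ := Ideal.Quotient.mk_surjective z
    obtain ⟨P, ⟨n, hn⟩, hP⟩ := halg z
    refine ⟨P.map (Ideal.Quotient.mk p), ⟨n, ?_⟩, ?_⟩
    · rw [Polynomial.coeff_map, hmemp]
      exact hn
    · rw [Polynomial.eval₂_map, hcompat, ← Polynomial.hom_eval₂, hmemq]
      exact hP
  have hb₁ : Ideal.Quotient.mk q b ≠ 0 := fun h => hb (Ideal.Quotient.eq_zero_iff_mem.1 h)
  obtain ⟨Q₁, hQ₁p, hQ₁le, hQ₁c, hbQ₁, hQ₁alg⟩ :=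
    exists_prime_le_algebraic A₁ B₁ p₁' hp₁' q₁' halg₁ (Ideal.Quotient.mk q b) hb₁
  haveI := hQ₁p
  refine ⟨Q₁.comap (Ideal.Quotient.mk q), Ideal.comap_isPrime _ _, ?_, ?_, ?_, hbQ₁, ?_⟩
  · intro z hz
    rw [Ideal.mem_comap, Ideal.Quotient.eq_zero_iff_mem.2 hz]
    exact Q₁.zero_mem
  · intro z hz
    exact (hmemq z).1 (hQ₁le hz)
  · ext a
    rw [Ideal.mem_comap, Ideal.mem_comap]
    have h1 : Ideal.Quotient.mk q (algebraMap A B a) = algebraMap A₁ B₁ (Ideal.Quotient.mk p a) := rfl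
    rw [h1, ← Ideal.mem_comap, hQ₁c, Ideal.mem_bot, Ideal.Quotient.eq_zero_iff_mem]
  · intro z
    obtain ⟨Pb, hPb0, hPb⟩ := Algebra.IsAlgebraic.isAlgebraic (R := A₁)
      (Ideal.Quotient.mk Q₁ (Ideal.Quotient.mk q z))
    obtain ⟨P, rfl⟩ := Polynomial.map_surjective _ Ideal.Quotient.mk_surjective Pb
    refine ⟨P, ?_, ?_⟩
    · by_contra hcon
      push Not at hcon
      apply hPb0
      ext n
      simp only [Polynomial.coeff_map, Polynomial.coeff_zero]
      exact Ideal.Quotient.eq_zero_iff_mem.2 (hcon n)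
    · rw [Polynomial.aeval_def, Polynomial.eval₂_map] at hPb
      have h2 : (algebraMap A₁ (B₁ ⧸ Q₁)).comp (Ideal.Quotient.mk p) =
          ((Ideal.Quotient.mk Q₁).comp (Ideal.Quotient.mk q)).comp (algebraMap A B) :=
        RingHom.ext fun a => rfl
      have h3 := Polynomial.hom_eval₂ P (algebraMap A B)
        ((Ideal.Quotient.mk Q₁).comp (Ideal.Quotient.mk q)) z
      rw [RingHom.comp_apply, RingHom.comp_apply] at h3
      rw [h2, ← h3, Ideal.Quotient.eq_zero_iff_mem] at hPb
      exact hPb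

end Groth.Agent.Lib.Helper21.ClosedGen
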