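import Mathlib
import Groth.Agent.Lib.Helper21.ClosedGen5
import Groth.Agent.Lib.Helper21.FibDepth4
import Groth.Agent.Lib.Helper24.FibreDim.Main4944

/-!
# Helper21 — ClosedGen6: points closed in the fibre over a generization, lying between a point and a
specialization closed in its fibre, are dense (scheme level)
-/

set_option autoImplicit false
set_option backward.isDefEq.respectTransparency.types false
set_option linter.style.haveILetI false

namespace Groth.Agent.Lib.Helper21.ClosedGen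

open AlgebraicGeometry CategoryTheory TopologicalSpace Topology
open Groth.Agent.Lib.Helper24.FibreDim Groth.Agent.Lib.Helper21.FibDepth Groth.Agent.Lib.lead

universe u

variable {X S : Scheme.{u}}

/-- membership in a basic open of an affine open in terms of the prime ideal of the point (copied
from `Lib/Helper4/LocImm`). -/
lemma mem_basicOpen_iff_not_mem_primeIdealOf {U : X.Opens} (hU : IsAffineOpen U) (x : X)
    (hx : x ∈ U) (g : Γ(X, U)) :
    x ∈ X.basicOpen g ↔ g ∉ (hU.primeIdealOf ⟨x, hx⟩).asIdeal := by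
  rw [Scheme.mem_basicOpen _ _ x hx]
  let := X.presheaf.algebra_section_stalk ⟨x, hx⟩
  have := hU.isLocalization_stalk ⟨x, hx⟩
  exact IsLocalization.AtPrime.isUnit_to_map_iff (X.presheaf.stalk x)
    (hU.primeIdealOf ⟨x, hx⟩).asIdeal g

set_option maxHeartbeats 1600000 in
set_option synthInstance.maxHeartbeats 200000 in
theorem exists_closed_between (f : X ⟶ S) [LocallyOfFiniteType f] (x x' : X) (hsp : x ⤳ x')
    (hne : f x ≠ f x') (htr : tr f x' = 0) (O : X.Opens) (hxO : x ∈ O) :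
    ∃ x₁ : X, x₁ ∈ O ∧ f x₁ = f x ∧ tr f x₁ = 0 ∧ x ⤳ x₁ ∧ x₁ ⤳ x' := by
  obtain ⟨V, hV, U, hU, hUV, hx'U⟩ := exists_chart f x'
  have hxU : x ∈ U := hsp.mem_open U.isOpen hx'U
  letI algCB : Algebra Γ(S, V) Γ(X, U) := (f.appLE V U hUV).hom.toAlgebra
  have halg : algebraMap Γ(S, V) Γ(X, U) = (f.appLE V U hUV).hom := rfl
  haveI : Algebra.FiniteType Γ(S, V) Γ(X, U) := f.finiteType_appLE hV hU hUV
  set q : Ideal Γ(X, U) := (hU.primeIdealOf ⟨x, hxU⟩).asIdeal with hq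
  set q' : Ideal Γ(X, U) := (hU.primeIdealOf ⟨x', hx'U⟩).asIdeal with hq'
  set p : Ideal Γ(S, V) := (hV.primeIdealOf ⟨f x, hUV hxU⟩).asIdeal with hp
  set p' : Ideal Γ(S, V) := (hV.primeIdealOf ⟨f x', hUV hx'U⟩).asIdeal with hp'
  haveI : q.LiesOver p := ResTrdegBridge.liesOver_primeIdealOf f x hV hU hUV hxU (hUV hxU) halg
  haveI : q'.LiesOver p' :=
    ResTrdegBridge.liesOver_primeIdealOf f x' hV hU hUV hx'U (hUV hx'U) halg
  have hqc : q.comap (algebraMap Γ(S, V) Γ(X, U)) = p := (Ideal.LiesOver.over (p := p) (P := q)).symm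
  have hq'c : q'.comap (algebraMap Γ(S, V) Γ(X, U)) = p' :=
    (Ideal.LiesOver.over (p := p') (P := q')).symm
  have hqq' : q ≤ q' := (primeIdealOf_le_iff hU hxU hx'U).2 hsp
  have hpp' : q.comap (algebraMap Γ(S, V) Γ(X, U)) ≠ q'.comap (algebraMap Γ(S, V) Γ(X, U)) := by
    rw [hqc, hq'c]
    intro h
    apply hne
    have h2 : hV.primeIdealOf ⟨f x, hUV hxU⟩ = hV.primeIdealOf ⟨f x', hUV hx'U⟩ :=
      PrimeSpectrum.ext h
    have h3 := congrArg hV.fromSpec h2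
    rw [hV.fromSpec_primeIdealOf, hV.fromSpec_primeIdealOf] at h3
    exact h3
  obtain ⟨b₀, hb₀O, hxb₀⟩ := hU.exists_basicOpen_le (V := O) ⟨x, hxO⟩ hxU
  have hb₀q : b₀ ∉ q :=
    (mem_basicOpen_iff_not_mem_primeIdealOf hU x hxU b₀).1 hxb₀
  have halg' : AlgMod (q'.comap (algebraMap Γ(S, V) Γ(X, U))) q' := by
    rw [hq'c, algMod_iff, ← _root_.trdeg_eq_zero_iff,
      trdeg_chart f hV hU hUV x' hx'U halg p' hp', htr]
    simp
  obtain ⟨q₁, hq₁p, hqq₁, hq₁q', hq₁c, hb₀q₁, halg₁⟩ :=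
    exists_prime_between_algMod Γ(S, V) Γ(X, U) q q' hqq' hpp' halg' b₀ hb₀q
  obtain ⟨x₁, hx₁U, hx₁⟩ := exists_primeIdealOf_eq hU (⟨q₁, hq₁p⟩ : PrimeSpectrum Γ(X, U))
  have hx₁q : (hU.primeIdealOf ⟨x₁, hx₁U⟩).asIdeal = q₁ := congrArg PrimeSpectrum.asIdeal hx₁
  have hfx₁ : f x₁ = f x := by
    have h1 := IsAffineOpen.comap_primeIdealOf_appLE (f := f) (x := x₁) V hV U hU hUV hx₁U
    have h2 : hV.primeIdealOf ⟨f x₁, hUV hx₁U⟩ = hV.primeIdealOf ⟨f x, hUV hxU⟩ := by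
      rw [← h1, hx₁]
      apply PrimeSpectrum.ext
      show q₁.comap (algebraMap Γ(S, V) Γ(X, U)) = p
      rw [hq₁c, hqc]
    have h3 := congrArg hV.fromSpec h2
    rw [hV.fromSpec_primeIdealOf, hV.fromSpec_primeIdealOf] at h3
    exact h3
  refine ⟨x₁, ?_, hfx₁, ?_, ?_, ?_⟩
  · apply hb₀O
    rw [mem_basicOpen_iff_not_mem_primeIdealOf hU x₁ hx₁U b₀, hx₁q]
    exact hb₀q₁
  · haveI hlo : (hU.primeIdealOf ⟨x₁, hx₁U⟩).asIdeal.LiesOver p := by
      rw [hx₁q]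
      exact ⟨(hq₁c.trans hqc).symm⟩
    have hp₁ : p = (hV.primeIdealOf ⟨f x₁, hUV hx₁U⟩).asIdeal := by
      rw [hp]
      congr 2
      exact Subtype.ext hfx₁.symm
    have h2 := trdeg_chart f hV hU hUV x₁ hx₁U halg p hp₁
    have h3 : Algebra.IsAlgebraic (Γ(S, V) ⧸ p)
        (Γ(X, U) ⧸ (hU.primeIdealOf ⟨x₁, hx₁U⟩).asIdeal) := by
      rw [← algMod_iff, hx₁q, ← hqc]
      exact halg₁
    rw [_root_.trdeg_eq_zero_iff.2 h3] at h2
    exact_mod_cast h2.symm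
  · apply (primeIdealOf_le_iff hU hxU hx₁U).1
    rw [hx₁]
    exact hqq₁
  · apply (primeIdealOf_le_iff hU hx₁U hx'U).1
    rw [hx₁]
    exact hq₁q'

/-- a point of residue transcendence degree `0` is closed in its fibre. -/
theorem isClosed_fibre_of_tr_eq_zero (f : X ⟶ S) [LocallyOfFiniteType f] (x₁ : X) (s : S)
    (hs : f x₁ = s) (htr : tr f x₁ = 0) :
    IsClosed (Subtype.val ⁻¹' {x₁} : Set ↑(f ⁻¹' {s})) := by
  have h1 : (Subtype.val ⁻¹' {x₁} : Set ↑(f ⁻¹' {s})) = Subtype.val ⁻¹' (closure {x₁}) := by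
    ext ⟨y, hy⟩
    simp only [Set.mem_preimage, Set.mem_singleton_iff]
    constructor
    · rintro rfl
      exact subset_closure rfl
    · intro h
      have hsp₁ : x₁ ⤳ y := specializes_iff_mem_closure.2 h
      by_contra hne₁
      have hle : y ≤ x₁ := hsp₁
      have hnle : ¬ x₁ ≤ y := by
        intro h2
        have h3 : y ⤳ x₁ := h2
        exact hne₁ (Specializes.antisymm h3 hsp₁).eq
      have hlt : y < x₁ := lt_of_le_not_ge hle hnle
      have h4 := tr_lt_of_lt f hlt ((show f y = s from hy).trans hs.symm)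
      omega
  rw [h1]
  exact isClosed_closure.preimage continuous_subtype_val

theorem dense_closed_between (f : X ⟶ S) [LocallyOfFiniteType f] (x x' : X) (hsp : x ⤳ x')
    (hne : f x ≠ f x')
    (hcl : IsClosed (Subtype.val ⁻¹' {x'} : Set ↑(f ⁻¹' {f x'}))) :
    Dense (Subtype.val ⁻¹' {x₁ : ↑X | f x₁ = f x ∧
      IsClosed (Subtype.val ⁻¹' {x₁} : Set ↑(f ⁻¹' {f x})) ∧ x ⤳ x₁ ∧ x₁ ⤳ x'} :
      Set ↑(closure {x} ∩ f ⁻¹' {f x})) := by
  have htr : tr f x' = 0 := by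
    apply tr_eq_zero_of_closed
    intro y hy hxy
    have h1 : (⟨x', rfl⟩ : ↑(f ⁻¹' {f x'})) ⤳ ⟨y, hy⟩ := (subtype_specializes_iff _ _).2 hxy
    have h2 := h1.mem_closed hcl (by simp)
    exact h2
  rw [dense_iff_inter_open]
  rintro W hW ⟨⟨z, hz⟩, hzW⟩
  obtain ⟨O, hO, rfl⟩ := isOpen_induced_iff.1 hW
  have hxz : x ⤳ z := specializes_iff_mem_closure.2 hz.1
  have hxO : x ∈ O := hxz.mem_open hO hzW
  obtain ⟨x₁, hx₁O, hfx₁, htr₁, hxx₁, hx₁x'⟩ :=
    exists_closed_between f x x' hsp hne htr ⟨O, hO⟩ hxO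
  refine ⟨⟨x₁, specializes_iff_mem_closure.1 hxx₁, hfx₁⟩, hx₁O, hfx₁, ?_, hxx₁, hx₁x'⟩
  exact isClosed_fibre_of_tr_eq_zero f x₁ (f x) hfx₁ htr₁

end Groth.Agent.Lib.Helper21.ClosedGen
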