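import Mathlib
import Groth.Agent.Lib.Helper24.OpenConst.Main4922

/-!
# Local constancy of the set of dimensions of the irreducible components of the fibres of an
open morphism (EGA IV 14.2.5 (ii)) (helper21, on top of helper24's OpenConst)
-/

set_option autoImplicit false
set_option linter.style.haveILetI false
universe u
open scoped Cardinal
open AlgebraicGeometry CategoryTheory TopologicalSpace Topology
open Groth.Agent.Lib.Helper7 Groth.Agent.Lib.lead Groth.Agent.Lib.Helper18
open Groth.Agent.Lib.Helper24.FibreDim Groth.Agent.Lib.Helper24.OpenAt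
open Groth.Agent.Lib.Helper24.OpenConst

namespace Groth.Agent.Lib.Helper21.CompConst

variable {X Y : Scheme.{u}}

/-- The set of dimensions of the irreducible components of the fibre over `z`. -/
abbrev E (f : X ⟶ Y) (z : Y) : Set (WithBot ℕ∞) :=
  (fun Z : Set ↥(f.fiber z) => topologicalKrullDim ↥Z) '' irreducibleComponents ↥(f.fiber z)

/-- `e` is the dimension of an irreducible component of `X_z` iff it is the local fibre dimension
at some point of `X_z`. -/
theorem mem_E_iff (f : X ⟶ Y) [LocallyOfFiniteType f] (z : Y) (e : WithBot ℕ∞) :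
    e ∈ E f z ↔ ∃ x : X, f x = z ∧ FlatMor.fibreDimAt f x = e := by
  constructor
  · rintro ⟨W, hW, rfl⟩
    obtain ⟨ζF, hζF⟩ := QuasiSober.sober hW.1 (isClosed_of_mem_irreducibleComponents W hW)
    obtain rfl : closure ({ζF} : Set (f.fiber z)) = W := hζF.def
    have hζFmax : ∀ w : f.fiber z, w ⤳ ζF → w = ζF :=
      (AffPts.closure_mem_irreducibleComponents_iff ζF).mp hW
    have hfζ : f (f.fiberι z ζF) = z := by
      have : f.fiberι z ζF ∈ Set.range (f.fiberι z) := ⟨ζF, rfl⟩
      rw [f.range_fiberι] at this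
      exact this
    have hζmax := fiberι_max_of_max f z ζF hζFmax
    refine ⟨f.fiberι z ζF, hfζ, ?_⟩
    show _ = topologicalKrullDim ↥(closure ({ζF} : Set (f.fiber z)))
    rw [dim_closure_fibre_point f z _ hfζ ζF rfl, ← fibreDimAt_of_fibre_max f _ hζmax]
  · rintro ⟨x, rfl, rfl⟩
    obtain ⟨ξ, hfξ, -, hξmax, htr⟩ := exists_max_tr f x
    obtain ⟨ξF, hξF⟩ := exists_fibre_point f ξ (f x) hfξ
    have hξFmax : ∀ w : f.fiber (f x), w ⤳ ξF → w = ξF :=
      fibre_max_of_fiberι_max f (f x) ξF (by rw [hξF]; exact hξmax)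
    refine ⟨closure {ξF}, (AffPts.closure_mem_irreducibleComponents_iff ξF).mpr hξFmax, ?_⟩
    show topologicalKrullDim ↥(closure ({ξF} : Set (f.fiber (f x)))) = _
    rw [dim_closure_fibre_point f (f x) ξ hfξ ξF hξF, htr]

theorem setOf_mem_E_eq (f : X ⟶ Y) [LocallyOfFiniteType f] (e : WithBot ℕ∞) :
    {z : Y | e ∈ E f z} = f '' {x : X | FlatMor.fibreDimAt f x = e} := by
  ext z
  show e ∈ E f z ↔ z ∈ f '' {x : X | FlatMor.fibreDimAt f x = e}
  rw [mem_E_iff]
  constructor
  · rintro ⟨x, hx, hk⟩; exact ⟨x, hk, hx⟩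
  · rintro ⟨x, hk, hx⟩; exact ⟨x, hx, hk⟩

theorem isLocallyConstructible_setOf_fibreDimAt_eq [IsLocallyNoetherian X] (f : X ⟶ Y)
    [LocallyOfFiniteType f] (e : WithBot ℕ∞) :
    IsLocallyConstructible {x : X | FlatMor.fibreDimAt f x = e} := by
  by_cases he : ∃ d : ℕ, e = (d : WithBot ℕ∞)
  · obtain ⟨d, rfl⟩ := he
    have : {x : X | FlatMor.fibreDimAt f x = (d : WithBot ℕ∞)} =
        {x : X | (d : WithBot ℕ∞) ≤ FlatMor.fibreDimAt f x} ∩
          {x : X | (d : WithBot ℕ∞) + 1 ≤ FlatMor.fibreDimAt f x}ᶜ := by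
      ext x
      simp only [Set.mem_setOf_eq, Set.mem_inter_iff, Set.mem_compl_iff]
      obtain ⟨k, hk⟩ := Chev.exists_nat_fibreDimAt f x
      rw [hk]
      constructor
      · intro h
        have : k = d := by exact_mod_cast h
        subst this
        refine ⟨le_rfl, fun h2 => ?_⟩
        have : k + 1 ≤ k := by exact_mod_cast h2
        omega
      · rintro ⟨h1, h2⟩
        have a1 : d ≤ k := by exact_mod_cast h1
        have a2 : ¬ d + 1 ≤ k := fun h3 => h2 (by exact_mod_cast h3)
        have : k = d := by omega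
        rw [this]
    rw [this]
    apply IsLocallyConstructible.inter
    · exact isLocallyConstructible_of_isClosed _ (isClosed_setOf_le_fibreDimAt f d)
    · apply isLocallyConstructible_compl
      have := isLocallyConstructible_of_isClosed _ (isClosed_setOf_le_fibreDimAt f (d + 1))
      exact_mod_cast this
  · have : {x : X | FlatMor.fibreDimAt f x = e} = ∅ := by
      ext x
      simp only [Set.mem_setOf_eq, Set.mem_empty_iff_false, iff_false]
      intro h
      obtain ⟨k, hk⟩ := Chev.exists_nat_fibreDimAt f x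
      exact he ⟨k, by rw [← h, hk]⟩
    rw [this]
    exact isLocallyConstructible_of_isClosed _ isClosed_empty

/-- **Constructibility** of the locus where the fibre has an irreducible component of
dimension `e`. -/
theorem isLocallyConstructible_setOf_mem_E [IsLocallyNoetherian Y] (f : X ⟶ Y)
    [LocallyOfFiniteType f] [QuasiCompact f] (e : WithBot ℕ∞) :
    IsLocallyConstructible {z : Y | e ∈ E f z} := by
  haveI := Groth.Agent.Lib.Helper27.NoethLfp.locallyOfFinitePresentation_of_isLocallyNoetherian f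
  rw [setOf_mem_E_eq]
  apply f.isLocallyConstructible_image
  haveI : IsLocallyNoetherian X := LocallyOfFiniteType.isLocallyNoetherian f
  exact isLocallyConstructible_setOf_fibreDimAt_eq f e

/-- Elements of `E f z` are natural numbers bounded by any bound of the fibre dimension. -/
theorem exists_nat_of_mem_E (f : X ⟶ Y) [LocallyOfFiniteType f] (z : Y) (m : ℕ)
    (hm : topologicalKrullDim ↥(f.fiber z) ≤ (m : WithBot ℕ∞)) (e : WithBot ℕ∞) (he : e ∈ E f z) :
    ∃ d : ℕ, d ≤ m ∧ e = (d : WithBot ℕ∞) := by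
  have h1 : e ≤ (m : WithBot ℕ∞) := by
    obtain ⟨W, -, rfl⟩ := he
    exact (topologicalKrullDim_subspace_le _ W).trans hm
  obtain ⟨x, -, hx⟩ := (mem_E_iff f z e).mp he
  obtain ⟨k, hk⟩ := Chev.exists_nat_fibreDimAt f x
  rw [hk] at hx
  subst hx
  exact ⟨k, by exact_mod_cast h1, rfl⟩

theorem main4923 [IsLocallyNoetherian Y]
    (f : X ⟶ Y) [LocallyOfFiniteType f] [QuasiCompact f] (hf : IsOpenMap f.base) (y : Y)
    (h : ∀ η : Y, y ∈ closure {η} → closure {η} ∈ irreducibleComponents (Y : Type u) →
      E f y = E f η) :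
    ∃ V ∈ nhds y, ∀ z ∈ V, E f z = E f y := by
  have hop : ∀ x : X, EGA43.IsOpenAt f.base x := fun x => isOpenAt_of_isOpenMap _ hf x
  -- Step 1: constancy along generizations
  have hgen : ∀ z : Y, z ⤳ y → E f z = E f y := by
    intro z hz
    apply Set.Subset.antisymm
    · obtain ⟨η, hzη, hηmax⟩ := FibreOrder.exists_isMax_ge z
      have hηz : η ⤳ z := Scheme.le_iff_specializes.mp hzη
      have hcomp : closure ({η} : Set Y) ∈ irreducibleComponents (Y : Type u) := by
        rw [AffPts.closure_mem_irreducibleComponents_iff]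
        intro y' hy'
        have a1 : η ≤ y' := Scheme.le_iff_specializes.mpr hy'
        have a2 : y' ≤ η := hηmax a1
        exact (hy'.antisymm (Scheme.le_iff_specializes.mp a2)).eq
      have hyη : y ∈ closure ({η} : Set Y) := specializes_iff_mem_closure.mp (hηz.trans hz)
      rw [h η hyη hcomp]
      exact E_subset_of_specializes f z η hηz (fun x _ => hop x)
    · exact E_subset_of_specializes f y z hz (fun x _ => hop x)
  -- Step 2: a uniform bound for the fibre dimension near `y`
  obtain ⟨m, hm⟩ := exists_nat_dim_fiber_le f y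
  have hV0 : {z : Y | topologicalKrullDim ↥(f.fiber z) ≤ (m : WithBot ℕ∞)} ∈ 𝓝 y := by
    apply nhds_dim_fiber_le f y (m : WithBot ℕ∞)
    · intro h1
      have h2 : (⊤ : ℕ∞) ≤ (m : ℕ∞) := WithBot.coe_le_coe.mp (le_of_eq h1.symm)
      exact absurd (top_le_iff.mp h2) (ENat.natCast_ne_top m)
    · intro z hz
      apply dim_le_of_components
      intro W hW
      have h1 : topologicalKrullDim ↥W ∈ E f z := ⟨W, hW, rfl⟩
      rw [hgen z hz] at h1
      obtain ⟨W', -, hW'⟩ := h1
      have hW'' : topologicalKrullDim ↥W' = topologicalKrullDim ↥W := hW'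
      rw [← hW'']
      exact (topologicalKrullDim_subspace_le _ W').trans hm
  -- Step 3: finitely many constructible conditions
  classical
  let S : Finset (WithBot ℕ∞) := (Finset.range (m + 1)).image (fun d : ℕ => (d : WithBot ℕ∞))
  have hS : ∀ z : Y, topologicalKrullDim ↥(f.fiber z) ≤ (m : WithBot ℕ∞) → ∀ e ∈ E f z, e ∈ S := by
    intro z hz e he
    obtain ⟨d, hd, rfl⟩ := exists_nat_of_mem_E f z m hz e he
    exact Finset.mem_image.mpr ⟨d, Finset.mem_range.mpr (by omega), rfl⟩
  have hT : ∀ e ∈ S, {z : Y | e ∈ E f z ↔ e ∈ E f y} ∈ 𝓝 y := by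
    intro e _
    by_cases hey : e ∈ E f y
    · have : {z : Y | e ∈ E f z ↔ e ∈ E f y} = {z : Y | e ∈ E f z} := by
        ext z; simp only [Set.mem_setOf_eq, hey, iff_true]
      rw [this]
      apply mem_nhds_of_isLocallyConstructible _ (isLocallyConstructible_setOf_mem_E f e)
      intro z hz
      show e ∈ E f z
      rw [hgen z hz]; exact hey
    · have : {z : Y | e ∈ E f z ↔ e ∈ E f y} = {z : Y | e ∈ E f z}ᶜ := by
        ext z; simp only [Set.mem_setOf_eq, hey, iff_false, Set.mem_compl_iff]
      rw [this]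
      apply mem_nhds_of_isLocallyConstructible _
        (isLocallyConstructible_compl (isLocallyConstructible_setOf_mem_E f e))
      intro z hz
      show ¬ e ∈ E f z
      rw [hgen z hz]; exact hey
  have hT' : (⋂ e ∈ S, {z : Y | e ∈ E f z ↔ e ∈ E f y}) ∈ 𝓝 y :=
    (Filter.biInter_finset_mem S).mpr hT
  refine ⟨_, Filter.inter_mem hV0 hT', ?_⟩
  rintro z ⟨hz1, hz2⟩
  ext e
  by_cases heS : e ∈ S
  · have := Set.mem_iInter₂.mp hz2 e heS
    exact this
  · constructor
    · intro he; exact absurd (hS z hz1 e he) heS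
    · intro he; exact absurd (hS y hm e he) heS

end Groth.Agent.Lib.Helper21.CompConst
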