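import Mathlib
import Groth.Agent.Lib.Helper7.FibreDepthDim
import Groth.Agent.Lib.Helper7.FibreCMComp
import Groth.Agent.Lib.Helper21.FibreBCAlg

/-!
# Helper21 — Coprof1: codepth at most `n`, ring level
-/

set_option autoImplicit false

namespace Groth.Agent.Lib.Helper21.Coprof

open IsLocalRing
open Groth.Agent.Lib.Helper21

universe u

/-- the codepth of the local ring `A` is at most `n`. -/
def CoprofLE (A : Type u) [CommRing A] (n : ℕ) : Prop :=
  ∃ _ : IsLocalRing A, ringKrullDim A ≤ ((LocCoh.depth A A : ℕ∞) : WithBot ℕ∞) + n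

theorem coprofLE_iff (A : Type u) [CommRing A] [IsLocalRing A] (n : ℕ) :
    CoprofLE A n ↔ ringKrullDim A ≤ ((LocCoh.depth A A : ℕ∞) : WithBot ℕ∞) + n :=
  ⟨fun ⟨_, h⟩ => h, fun h => ⟨inferInstance, h⟩⟩

theorem coprofLE_of_ringEquiv {A B : Type u} [CommRing A] [CommRing B] (e : A ≃+* B) (n : ℕ)
    (h : CoprofLE A n) : CoprofLE B n := by
  obtain ⟨hA, h⟩ := h
  haveI : IsLocalRing B := e.isLocalRing
  rw [coprofLE_iff]
  have h1 : LocCoh.depth A A = LocCoh.depth B B :=
    DepthKit.depth_eq_of_semilinear (e : A →+* B) e.surjective e.toAddEquiv (fun a x => map_mul e a x)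
  rw [← h1, ← ringKrullDim_eq_of_ringEquiv e]
  exact h

theorem coprofLE_iff_of_ringEquiv {A B : Type u} [CommRing A] [CommRing B] (e : A ≃+* B) (n : ℕ) :
    CoprofLE A n ↔ CoprofLE B n :=
  ⟨coprofLE_of_ringEquiv e n, coprofLE_of_ringEquiv e.symm n⟩

theorem coprofLE_mono {A : Type u} [CommRing A] {n m : ℕ} (hnm : n ≤ m) (h : CoprofLE A n) :
    CoprofLE A m := by
  obtain ⟨hA, h⟩ := h
  refine ⟨hA, h.trans ?_⟩
  gcongr

theorem coprofLE_iff_of_codepth_eq {A B : Type u} [CommRing A] [CommRing B] [IsLocalRing A]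
    [IsLocalRing B] [IsNoetherianRing A] [IsNoetherianRing B]
    (h : ringKrullDim A + ((LocCoh.depth B B : ℕ∞) : WithBot ℕ∞) =
      ringKrullDim B + ((LocCoh.depth A A : ℕ∞) : WithBot ℕ∞)) (n : ℕ) :
    CoprofLE B n ↔ CoprofLE A n := by
  obtain ⟨a, ha⟩ := DepthKit.exists_nat_supportDim (A := A) (M := A)
  obtain ⟨b, hb⟩ := DepthKit.exists_nat_supportDim (A := B) (M := B)
  obtain ⟨da, hda⟩ := DepthKit.exists_nat_depth (A := A) (M := A)
  obtain ⟨db, hdb⟩ := DepthKit.exists_nat_depth (A := B) (M := B)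
  rw [coprofLE_iff, coprofLE_iff]
  rw [← Module.supportDim_self_eq_ringKrullDim, ← Module.supportDim_self_eq_ringKrullDim,
    ha, hb, hda, hdb] at h ⊢
  have h' : a + db = b + da := by exact_mod_cast h
  constructor
  · intro hB
    have hB' : b ≤ db + n := by exact_mod_cast hB
    have : a ≤ da + n := by omega
    exact_mod_cast this
  · intro hA
    have hA' : a ≤ da + n := by exact_mod_cast hA
    have : b ≤ db + n := by omega
    exact_mod_cast this

theorem coprofLE_of_dim_le {A : Type u} [CommRing A] [IsLocalRing A] (n : ℕ)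
    (h : ringKrullDim A ≤ n) : CoprofLE A n := by
  rw [coprofLE_iff]
  refine h.trans ?_
  have h0 : ((0 : ℕ∞) : WithBot ℕ∞) ≤ ((LocCoh.depth A A : ℕ∞) : WithBot ℕ∞) :=
    WithBot.coe_le_coe.mpr zero_le
  calc (n : WithBot ℕ∞) = ((0 : ℕ∞) : WithBot ℕ∞) + n := by simp
    _ ≤ _ := by gcongr

open Groth.Agent.Lib.Helper7.FibreCMComp in
/-- along a flat local homomorphism with Cohen–Macaulay source, the codepth of the target is the
codepth of the closed fibre. -/
theorem coprofLE_flat_iff (A B : Type u) [CommRing A] [CommRing B] [IsNoetherianRing A]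
    [IsNoetherianRing B] [IsLocalRing A] [IsLocalRing B] [Algebra A B]
    [IsLocalHom (algebraMap A B)] [Module.Flat A B] (hA : LocCoh.IsCohenMacaulayLocalRing A)
    (n : ℕ) : CoprofLE B n ↔ CoprofLE (B ⧸ IB A B) n := by
  apply coprofLE_iff_of_codepth_eq
  have h1 := Groth.Agent.Lib.Helper7.FibreDepthDim.depth_eq_add A B
  have h2 := Groth.Agent.Lib.Helper7.FibreDepthDim.dim_eq_add A B
  have h3 := hA.supportDim_eq_depth
  rw [Module.supportDim_self_eq_ringKrullDim] at h3
  rw [h1, h2, h3]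
  push_cast
  abel

open Groth.Agent.Lib.Helper7.FibreCMComp in
/-- **codepth of the closed fibre of a composite**: for local homomorphisms `A → B → C` with `C`
flat over `B` and `B / m_A B` Cohen–Macaulay, the codepths of `C / m_A C` and `C / m_B C` agree. -/
theorem coprofLE_fibre_iff (A B C : Type u) [CommRing A] [CommRing B] [CommRing C]
    [IsLocalRing A] [IsLocalRing B] [IsLocalRing C]
    [Algebra A B] [Algebra B C] [Algebra A C] [IsScalarTower A B C]
    [IsLocalHom (algebraMap A B)] [IsLocalHom (algebraMap B C)]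
    [Module.Flat B C] [IsNoetherianRing (C ⧸ IC A B C)]
    (hB : LocCoh.IsCohenMacaulayLocalRing (B ⧸ IB A B)) (n : ℕ) :
    CoprofLE (C ⧸ IC A B C) n ↔ CoprofLE (C ⧸ JC B C) n := by
  haveI : IsNoetherianRing (B ⧸ IB A B) := by haveI := hB; infer_instance
  rw [coprofLE_flat_iff (B ⧸ IB A B) (C ⧸ IC A B C) hB n]
  exact coprofLE_iff_of_ringEquiv (fibreEquiv A B C) n

end Groth.Agent.Lib.Helper21.Coprof
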