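import Mathlib
import Groth.Agent.Lib.Helper21.Coprof1
import Groth.Agent.Lib.Helper21.CMAff8

/-!
# Helper21 — Coprof2: codepth of fibre local rings, scheme level
-/

set_option autoImplicit false

namespace Groth.Agent.Lib.Helper21.Coprof

open AlgebraicGeometry CategoryTheory Limits IsLocalRing
open Groth.Agent.Lib.Helper21.FibreStalk Groth.Agent.Lib.Helper21.CMAff

universe u

/-- the local ring at `x` of the fibre through `x` has codepth at most `n`. -/
def Cop {X S : Scheme.{u}} (f : X ⟶ S) (n : ℕ) (x : X) : Prop :=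
  CoprofLE ((f.fiber (f x)).presheaf.stalk (f.asFiber x)) n

theorem cop_iff_quot {X S : Scheme.{u}} (f : X ⟶ S) (n : ℕ) (x : X) :
    Cop f n x ↔ CoprofLE (X.presheaf.stalk x ⧸ fibIdeal f x) n := by
  obtain ⟨e⟩ := nonempty_fibreStalkEquiv f x
  exact coprofLE_iff_of_ringEquiv e n

theorem cop_iff {X S : Scheme.{u}} (f : X ⟶ S) (n : ℕ) (x : X) :
    Cop f n x ↔ ringKrullDim ((f.fiber (f x)).presheaf.stalk (f.asFiber x)) ≤
      ((LocCoh.depth ((f.fiber (f x)).presheaf.stalk (f.asFiber x))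
        ((f.fiber (f x)).presheaf.stalk (f.asFiber x)) : ℕ∞) : WithBot ℕ∞) + n :=
  coprofLE_iff _ n

theorem cop_comp_iff_of_isIso_stalkMap {X' X Y : Scheme.{u}} (j : X' ⟶ X) (f : X ⟶ Y) (n : ℕ)
    (x' : X') [IsIso (j.stalkMap x')] : Cop (j ≫ f) n x' ↔ Cop f n (j x') := by
  rw [cop_iff_quot, cop_iff_quot]
  have hcomp : ((j ≫ f).stalkMap x').hom =
      (j.stalkMap x').hom.comp (f.stalkMap (j x')).hom := by
    rw [Scheme.Hom.stalkMap_comp]
    rfl
  let ε : X.presheaf.stalk (j x') ≃+* X'.presheaf.stalk x' :=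
    (asIso (j.stalkMap x')).commRingCatIsoToRingEquiv
  have hε : (ε : X.presheaf.stalk (j x') →+* _) = (j.stalkMap x').hom := rfl
  have hI : fibIdeal (j ≫ f) x' = (fibIdeal f (j x')).map (ε : X.presheaf.stalk (j x') →+* _) := by
    show (maximalIdeal (Y.presheaf.stalk (f (j x')))).map ((j ≫ f).stalkMap x').hom = _
    rw [hcomp, hε]
    exact (Ideal.map_map _ _).symm
  exact (coprofLE_iff_of_ringEquiv
    (Ideal.quotientEquiv (fibIdeal f (j x')) (fibIdeal (j ≫ f) x') ε hI) n).symm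

/-- flatness of the stalk map is insensitive to restriction to an open neighbourhood. -/
theorem flat_stalkMap_comp_iff_of_isIso_stalkMap {X' X Y : Scheme.{u}} (j : X' ⟶ X) (f : X ⟶ Y)
    (x' : X') [IsIso (j.stalkMap x')] :
    ((j ≫ f).stalkMap x').hom.Flat ↔ (f.stalkMap (j x')).hom.Flat := by
  have hcomp : ((j ≫ f).stalkMap x').hom =
      (j.stalkMap x').hom.comp (f.stalkMap (j x')).hom := by
    rw [Scheme.Hom.stalkMap_comp]
    rfl
  let ε : X.presheaf.stalk (j x') ≃+* X'.presheaf.stalk x' :=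
    (asIso (j.stalkMap x')).commRingCatIsoToRingEquiv
  have hε : (ε : X.presheaf.stalk (j x') →+* _) = (j.stalkMap x').hom := rfl
  rw [hcomp]
  constructor
  · intro h
    have h3 : (f.stalkMap (j x')).hom =
        (ε.symm : X'.presheaf.stalk x' →+* X.presheaf.stalk (j x')).comp
          ((j.stalkMap x').hom.comp (f.stalkMap (j x')).hom) := by
      ext a
      exact (ε.symm_apply_apply _).symm
    rw [h3]
    exact RingHom.Flat.comp h (RingHom.Flat.of_bijective ε.symm.bijective)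
  · intro h
    exact RingHom.Flat.comp h (RingHom.Flat.of_bijective ε.bijective)

set_option maxHeartbeats 1600000 in
set_option synthInstance.maxHeartbeats 200000 in
/-- **codepth of the fibres of a composite** `X' ⟶ Z ⟶ Y` with `g` flat at `x'` and `π` flat with
Cohen–Macaulay fibre at `g x'`: the codepth of the fibre of `g ≫ π` at `x'` is that of the fibre of
`g` at `x'`. -/
theorem cop_comp_iff {X' Z Y : Scheme.{u}} (g : X' ⟶ Z) (π : Z ⟶ Y)
    [LocallyOfFiniteType (g ≫ π)] (n : ℕ) (x' : X')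
    (hflat : (g.stalkMap x').hom.Flat)
    (hCMπ : LocCoh.IsCohenMacaulayLocalRing
      ((π.fiber (π (g x'))).presheaf.stalk (π.asFiber (g x')))) :
    Cop (g ≫ π) n x' ↔ Cop g n x' := by
  rw [cop_iff_quot, cop_iff_quot]
  have hcomp : ((g ≫ π).stalkMap x').hom = (g.stalkMap x').hom.comp (π.stalkMap (g x')).hom := by
    rw [Scheme.Hom.stalkMap_comp]
    rfl
  haveI : IsLocalHom (π.stalkMap (g x')).hom := inferInstance
  haveI : IsLocalHom (g.stalkMap x').hom := inferInstance
  obtain ⟨eπ⟩ := nonempty_fibreStalkEquiv π (g x')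
  letI aAB : Algebra (Y.presheaf.stalk (π (g x'))) (Z.presheaf.stalk (g x')) :=
    (π.stalkMap (g x')).hom.toAlgebra
  letI aBC : Algebra (Z.presheaf.stalk (g x')) (X'.presheaf.stalk x') :=
    (g.stalkMap x').hom.toAlgebra
  letI aAC : Algebra (Y.presheaf.stalk (π (g x'))) (X'.presheaf.stalk x') :=
    ((g.stalkMap x').hom.comp (π.stalkMap (g x')).hom).toAlgebra
  haveI : IsScalarTower (Y.presheaf.stalk (π (g x'))) (Z.presheaf.stalk (g x'))
      (X'.presheaf.stalk x') := IsScalarTower.of_algebraMap_eq fun _ => rfl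
  haveI : IsLocalHom (algebraMap (Y.presheaf.stalk (π (g x'))) (Z.presheaf.stalk (g x'))) :=
    inferInstanceAs (IsLocalHom (π.stalkMap (g x')).hom)
  haveI : IsLocalHom (algebraMap (Z.presheaf.stalk (g x')) (X'.presheaf.stalk x')) :=
    inferInstanceAs (IsLocalHom (g.stalkMap x').hom)
  haveI : Module.Flat (Z.presheaf.stalk (g x')) (X'.presheaf.stalk x') := hflat
  have hCM : LocCoh.IsCohenMacaulayLocalRing (Z.presheaf.stalk (g x') ⧸
      Groth.Agent.Lib.Helper7.FibreCMComp.IB (Y.presheaf.stalk (π (g x')))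
        (Z.presheaf.stalk (g x'))) :=
    FibreBCAlg.isCMLocal_of_ringEquiv eπ hCMπ
  haveI : IsLocallyNoetherian ((g ≫ π).fiber ((g ≫ π) x')) := by
    haveI hφ : LocallyOfFiniteType ((g ≫ π).fiberToSpecResidueField ((g ≫ π) x')) :=
      MorphismProperty.pullback_snd _ _ inferInstance
    exact LocallyOfFiniteType.isLocallyNoetherian ((g ≫ π).fiberToSpecResidueField _)
  obtain ⟨e⟩ := nonempty_fibreStalkEquiv (g ≫ π) x'
  haveI hN : IsNoetherianRing (X'.presheaf.stalk x' ⧸ fibIdeal (g ≫ π) x') :=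
    isNoetherianRing_of_ringEquiv _ e
  have hI : fibIdeal (g ≫ π) x' =
      Groth.Agent.Lib.Helper7.FibreCMComp.IC (Y.presheaf.stalk (π (g x')))
        (Z.presheaf.stalk (g x')) (X'.presheaf.stalk x') := by
    rw [Groth.Agent.Lib.Helper7.FibreCMComp.IC_eq]
    exact congrArg (fun φ => Ideal.map φ (maximalIdeal (Y.presheaf.stalk (π (g x'))))) hcomp
  haveI hN' : IsNoetherianRing (X'.presheaf.stalk x' ⧸
      Groth.Agent.Lib.Helper7.FibreCMComp.IC (Y.presheaf.stalk (π (g x')))
        (Z.presheaf.stalk (g x')) (X'.presheaf.stalk x')) := by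
    rw [← hI]; exact hN
  have key := coprofLE_fibre_iff (Y.presheaf.stalk (π (g x'))) (Z.presheaf.stalk (g x'))
    (X'.presheaf.stalk x') hCM n
  rw [hI]
  exact key

end Groth.Agent.Lib.Helper21.Coprof
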