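import Mathlib
import Groth.Agent.Lib.Helper21.CMAff5

/-!
# Helper21 — Coprof3: the chart morphism to affine space and its coordinates
-/

set_option autoImplicit false

namespace Groth.Agent.Lib.Helper21.Coprof

open AlgebraicGeometry CategoryTheory Limits MvPolynomial
open Groth.Agent.Lib.Helper21.CMAff

universe u

/-- the morphism to affine space over `S` attached to a ring map out of a polynomial ring on
charts. -/
noncomputable def toAff {X S : Scheme.{u}} (V : S.Opens) (hV : IsAffineOpen V)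
    (U : X.Opens) (hU : IsAffineOpen U) (n : Type u)
    (ψ : MvPolynomial n Γ(S, V) →+* Γ(X, U)) : (U : Scheme.{u}) ⟶ 𝔸(n; S) :=
  hU.isoSpec.hom ≫ Spec.map (CommRingCat.ofHom ψ) ≫
    (AffineSpace.SpecIso n Γ(S, V)).inv ≫ AffineSpace.map n hV.fromSpec

variable {X S : Scheme.{u}} (f : X ⟶ S) (V : S.Opens) (hV : IsAffineOpen V)
    (U : X.Opens) (hU : IsAffineOpen U) (hUV : U ≤ f ⁻¹ᵁ V) (n : Type u)
    (ψ : MvPolynomial n Γ(S, V) →+* Γ(X, U))

include hUV in
theorem toAff_over
    (hψ : ψ.comp (C : Γ(S, V) →+* MvPolynomial n Γ(S, V)) = (f.appLE V U hUV).hom) :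
    toAff V hV U hU n ψ ≫ (𝔸(n; S) ↘ S) = U.ι ≫ f := by
  unfold toAff
  simp only [Category.assoc, AffineSpace.map_over, AffineSpace.SpecIso_inv_over_assoc]
  rw [← Spec.map_comp_assoc]
  have h1 : CommRingCat.ofHom (C : Γ(S, V) →+* MvPolynomial n Γ(S, V)) ≫ CommRingCat.ofHom ψ =
      f.appLE V U hUV := by
    ext a
    exact congrArg (fun φ => φ a) hψ
  rw [h1, IsAffineOpen.SpecMap_appLE_fromSpec f hV hU hUV, ← Category.assoc,
    hU.isoSpec_hom_fromSpec]

theorem toAff_flat (h : ψ.Flat) : Flat (toAff V hV U hU n ψ) := by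
  haveI : Flat (Spec.map (CommRingCat.ofHom ψ)) := by
    rw [Flat.SpecMap_iff]
    exact h
  unfold toAff
  infer_instance

theorem toAff_appTop_coord (i : n) :
    (toAff V hV U hU n ψ).appTop (AffineSpace.coord S i) = U.topIso.inv (ψ (MvPolynomial.X i)) := by
  unfold toAff
  simp only [Scheme.Hom.comp_appTop, CommRingCat.comp_apply]
  rw [AffineSpace.map_appTop_coord, AffineSpace.SpecIso_inv_appTop_coord]
  have h1 : (Spec.map (CommRingCat.ofHom ψ)).appTop
      ((Scheme.ΓSpecIso (CommRingCat.of (MvPolynomial n Γ(S, V)))).inv (MvPolynomial.X i)) =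
      (Scheme.ΓSpecIso Γ(X, U)).inv (ψ (MvPolynomial.X i)) := by
    have := ConcreteCategory.congr_hom
      (Scheme.ΓSpecIso_inv_naturality (CommRingCat.ofHom ψ))
      (MvPolynomial.X i : MvPolynomial n Γ(S, V))
    rw [CommRingCat.comp_apply, CommRingCat.comp_apply] at this
    exact this.symm
  rw [h1, hU.isoSpec_hom_appTop, CommRingCat.comp_apply]
  simp

/-- points with the same image under the chart morphism have the same contraction. -/
theorem toAff_eq_imp (x₁ x₂ : (U : Scheme.{u}))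
    (h : toAff V hV U hU n ψ x₁ = toAff V hV U hU n ψ x₂) :
    (hU.isoSpec.hom x₁).comap ψ = (hU.isoSpec.hom x₂).comap ψ := by
  have hmono : Function.Injective ((AffineSpace.SpecIso n Γ(S, V)).inv ≫
      AffineSpace.map n hV.fromSpec : _ ⟶ 𝔸(n; S)) :=
    (Scheme.Hom.isOpenEmbedding _).injective
  unfold toAff at h
  simp only [Scheme.Hom.comp_apply] at h
  have h2 := hmono h
  exact h2

end Groth.Agent.Lib.Helper21.Coprof
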