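import Mathlib
import Groth.Agent.Lib.Helper21.CMAff2
import Groth.Agent.Lib.Helper21.CMAff3

/-!
# Helper21 — Coprof4: flatness over a polynomial ring, generic case, and spreading out
-/

set_option autoImplicit false

namespace Groth.Agent.Lib.Helper21.Coprof

open IsLocalRing MvPolynomial TensorProduct
open Groth.Agent.Lib.Helper21.FlatDesc Groth.Agent.Lib.Helper21.CMAff
open scoped Pointwise

universe u

section Fibre

variable (R O : Type u) [CommRing R] [CommRing O] [IsLocalRing R] [IsLocalRing O]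
  [Algebra R O] [IsLocalHom (algebraMap R O)] (n : ℕ)
  [Algebra (MvPolynomial (Fin n) R) O] [IsScalarTower R (MvPolynomial (Fin n) R) O]

set_option maxHeartbeats 1600000 in
set_option synthInstance.maxHeartbeats 200000 in
/-- **closed-fibre flatness over the polynomial ring** when the variables act through elements which
are algebraically independent modulo the maximal ideals. -/
theorem flat_mvPolynomial_fibre_generic
    (hgen : ∀ F : MvPolynomial (Fin n) R, algebraMap (MvPolynomial (Fin n) R) O F ∈ maximalIdeal O →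
      F ∈ (maximalIdeal R).map (C : R →+* MvPolynomial (Fin n) R)) :
    Module.Flat (MvPolynomial (Fin n) R ⧸ (maximalIdeal R).map (C : R →+* MvPolynomial (Fin n) R))
      (O ⧸ (maximalIdeal R).map (C : R →+* MvPolynomial (Fin n) R) •
        (⊤ : Submodule (MvPolynomial (Fin n) R) O)) := by
  classical
  set I : Ideal (MvPolynomial (Fin n) R) :=
    (maximalIdeal R).map (C : R →+* MvPolynomial (Fin n) R) with hI
  set 𝔣 : Ideal O := (maximalIdeal R).map (algebraMap R O) with h𝔣
  have hcomp : (algebraMap (MvPolynomial (Fin n) R) O).comp (C : R →+* MvPolynomial (Fin n) R) =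
      algebraMap R O := by
    rw [← MvPolynomial.algebraMap_eq]
    exact (IsScalarTower.algebraMap_eq R (MvPolynomial (Fin n) R) O).symm
  have hI𝔣 : I ≤ 𝔣.comap (algebraMap (MvPolynomial (Fin n) R) O) := by
    rw [hI, Ideal.map_le_iff_le_comap, Ideal.comap_comap, hcomp]
    exact Ideal.le_comap_map
  have h𝔣m : 𝔣 ≤ maximalIdeal O := IsLocalRing.map_maximalIdeal_le (algebraMap R O)
  haveI : Nontrivial (O ⧸ 𝔣) :=
    Ideal.Quotient.nontrivial_iff.mpr (fun h => (maximalIdeal.isMaximal O).ne_top
      (top_le_iff.mp (h ▸ h𝔣m)))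
  haveI : IsLocalRing (O ⧸ 𝔣) :=
    IsLocalRing.of_surjective' (Ideal.Quotient.mk 𝔣) Ideal.Quotient.mk_surjective
  let θ : (MvPolynomial (Fin n) R ⧸ I) →+* (O ⧸ 𝔣) :=
    Ideal.quotientMap 𝔣 (algebraMap (MvPolynomial (Fin n) R) O) hI𝔣
  letI aD'Ō : Algebra (MvPolynomial (Fin n) R ⧸ I) (O ⧸ 𝔣) := θ.toAlgebra
  letI : Field (R ⧸ maximalIdeal R) := Ideal.Quotient.field _
  let e : MvPolynomial (Fin n) (R ⧸ maximalIdeal R) ≃ₐ[R] (MvPolynomial (Fin n) R ⧸ I) :=
    MvPolynomial.quotientEquivQuotientMvPolynomial (maximalIdeal R)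
  haveI : IsDomain (MvPolynomial (Fin n) R ⧸ I) :=
    e.symm.toRingEquiv.toMulEquiv.isDomain (MvPolynomial (Fin n) (R ⧸ maximalIdeal R))
  -- nonzero elements act through units
  have hunit : ∀ y : nonZeroDivisors (MvPolynomial (Fin n) R ⧸ I), IsUnit (θ y) := by
    rintro ⟨y, hy⟩
    obtain ⟨F, rfl⟩ := Ideal.Quotient.mk_surjective y
    have hF : F ∉ I := by
      intro h
      have h0 : Ideal.Quotient.mk I F = 0 := Ideal.Quotient.eq_zero_iff_mem.mpr h
      exact nonZeroDivisors.ne_zero hy h0
    show IsUnit (θ (Ideal.Quotient.mk I F))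
    rw [show θ (Ideal.Quotient.mk I F) =
      Ideal.Quotient.mk 𝔣 (algebraMap (MvPolynomial (Fin n) R) O F) from Ideal.quotientMap_mk]
    apply IsUnit.map
    by_contra hnu
    exact hF (hgen F ((IsLocalRing.mem_maximalIdeal _).mpr hnu))
  let K := FractionRing (MvPolynomial (Fin n) R ⧸ I)
  let θ' : K →+* (O ⧸ 𝔣) :=
    IsLocalization.lift (M := nonZeroDivisors (MvPolynomial (Fin n) R ⧸ I)) hunit
  letI aKŌ : Algebra K (O ⧸ 𝔣) := θ'.toAlgebra
  haveI tw1 : IsScalarTower (MvPolynomial (Fin n) R ⧸ I) K (O ⧸ 𝔣) :=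
    IsScalarTower.of_algebraMap_eq fun x => (IsLocalization.lift_eq hunit x).symm
  haveI hflK : Module.Flat K (O ⧸ 𝔣) := inferInstance
  have hflD' : Module.Flat (MvPolynomial (Fin n) R ⧸ I) (O ⧸ 𝔣) :=
    (Module.flat_iff_of_isLocalization K (nonZeroDivisors (MvPolynomial (Fin n) R ⧸ I))
      (O ⧸ 𝔣)).mp hflK
  -- transfer to the module quotient
  have hset : I • (⊤ : Submodule (MvPolynomial (Fin n) R) O) =
      𝔣.restrictScalars (MvPolynomial (Fin n) R) := by
    rw [Ideal.smul_top_eq_map, hI, Ideal.map_map, hcomp]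
  haveI tw2 : IsScalarTower (MvPolynomial (Fin n) R) (MvPolynomial (Fin n) R ⧸ I) (O ⧸ 𝔣) :=
    IsScalarTower.of_algebraMap_smul (R := MvPolynomial (Fin n) R)
        (A := MvPolynomial (Fin n) R ⧸ I) (M := O ⧸ 𝔣) fun c (y : O ⧸ 𝔣) => by
      obtain ⟨o, rfl⟩ := Ideal.Quotient.mk_surjective (I := 𝔣) y
      show θ (Ideal.Quotient.mk I c) * Ideal.Quotient.mk 𝔣 o = _
      rw [Ideal.quotientMap_mk, ← map_mul (Ideal.Quotient.mk 𝔣), ← Algebra.smul_def]
      rfl
  let ε₀ : (O ⧸ I • (⊤ : Submodule (MvPolynomial (Fin n) R) O)) ≃ₗ[MvPolynomial (Fin n) R]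
      (O ⧸ 𝔣) :=
    (Submodule.quotEquivOfEq _ _ hset) ≪≫ₗ
      Submodule.Quotient.restrictScalarsEquiv (MvPolynomial (Fin n) R) 𝔣
  let ε : (O ⧸ I • (⊤ : Submodule (MvPolynomial (Fin n) R) O)) ≃ₗ[MvPolynomial (Fin n) R ⧸ I]
      (O ⧸ 𝔣) := ε₀.extendScalarsOfSurjective Ideal.Quotient.mk_surjective
  haveI := hflD'
  exact Module.Flat.of_linearEquiv ε

end Fibre

set_option maxHeartbeats 1600000 in
set_option synthInstance.maxHeartbeats 200000 in
/-- **Flatness over `R[T₁..Tₙ]`, generic case**: `R → S` local, `S` essentially finitely presented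
and flat over `R`, `f₁..fₙ ∈ S` algebraically independent modulo the maximal ideals. Then `S` is
flat over `R[T₁..Tₙ]`, `Tᵢ ↦ fᵢ`. -/
theorem flat_mvPolynomial_of_generic (R S : Type u) [CommRing R] [CommRing S]
    [IsLocalRing R] [IsLocalRing S] [Algebra R S] [IsLocalHom (algebraMap R S)]
    (S₀ : Type u) [CommRing S₀] [Algebra R S₀] [Algebra.FinitePresentation R S₀] [Algebra S₀ S]
    [IsScalarTower R S₀ S] (T₀ : Submonoid S₀) [IsLocalization T₀ S]
    [Module.Flat R S] (n : ℕ) (f : Fin n → S)
    (hgen : ∀ F : MvPolynomial (Fin n) R, aeval (R := R) f F ∈ maximalIdeal S →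
      F ∈ (maximalIdeal R).map (C : R →+* MvPolynomial (Fin n) R)) :
    letI : Algebra (MvPolynomial (Fin n) R) S := (aeval (R := R) f).toRingHom.toAlgebra
    Module.Flat (MvPolynomial (Fin n) R) S := by
  letI aXS : Algebra (MvPolynomial (Fin n) R) S := (aeval (R := R) f).toRingHom.toAlgebra
  haveI twXS : IsScalarTower R (MvPolynomial (Fin n) R) S := IsScalarTower.of_algebraMap_eq fun r =>
    ((aeval (R := R) f).commutes r).symm
  -- fibre flatness
  have hfibQ := flat_mvPolynomial_fibre_generic R S n hgen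
  haveI hfib : Module.Flat
      (MvPolynomial (Fin n) R ⧸ (maximalIdeal R).map (algebraMap R (MvPolynomial (Fin n) R)))
      ((MvPolynomial (Fin n) R ⧸ (maximalIdeal R).map (algebraMap R (MvPolynomial (Fin n) R)))
        ⊗[MvPolynomial (Fin n) R] S) :=
    flat_quot_tensor_of_flat_quot_smul _ S hfibQ
  -- spreading out
  let σ : MvPolynomial (Fin n) R →ₐ[R] S := aeval (R := R) f
  obtain ⟨t, φ, ψ, hψφ, hψ, ht⟩ := exists_spread R (MvPolynomial (Fin n) R) S₀ S T₀ σ
  have hσ : ∀ x, ψ (φ x) = algebraMap (MvPolynomial (Fin n) R) S x := fun x => by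
    have := congrArg (fun g => g x) hψφ
    exact this
  letI aφ : Algebra (MvPolynomial (Fin n) R) (Localization.Away t) := φ.toRingHom.toAlgebra
  letI aψ : Algebra (Localization.Away t) S := ψ.toRingHom.toAlgebra
  haveI tw1 : IsScalarTower R (MvPolynomial (Fin n) R) (Localization.Away t) :=
    IsScalarTower.of_algebraMap_eq fun r => (φ.commutes r).symm
  haveI tw2 : IsScalarTower R (Localization.Away t) S :=
    IsScalarTower.of_algebraMap_eq fun r => (ψ.commutes r).symm
  haveI tw3 : IsScalarTower S₀ (Localization.Away t) S :=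
    IsScalarTower.of_algebraMap_eq fun x => (hψ x).symm
  haveI tw6 : IsScalarTower (MvPolynomial (Fin n) R) (Localization.Away t) S :=
    IsScalarTower.of_algebraMap_eq fun x => (hσ x).symm
  haveI : Algebra.FinitePresentation S₀ (Localization.Away t) :=
    IsLocalization.Away.finitePresentation t
  haveI : Algebra.FinitePresentation R (Localization.Away t) :=
    Algebra.FinitePresentation.trans R S₀ (Localization.Away t)
  haveI hAt : IsLocalization.AtPrime S ((maximalIdeal S).comap (algebraMap S₀ S)) :=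
    isLocalization_atPrime_of_isLocalRing T₀
  have hle : Submonoid.powers t ≤ ((maximalIdeal S).comap (algebraMap S₀ S)).primeCompl := by
    rintro _ ⟨k, rfl⟩
    exact fun h => ht (Ideal.IsPrime.mem_of_pow_mem inferInstance k h)
  haveI hloc'' : IsLocalization
      (((maximalIdeal S).comap (algebraMap S₀ S)).primeCompl.map
        (algebraMap S₀ (Localization.Away t))) S :=
    IsLocalization.isLocalization_of_submonoid_le (Localization.Away t) S (Submonoid.powers t)
      ((maximalIdeal S).comap (algebraMap S₀ S)).primeCompl hle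
  exact flat_of_flat_fibre_essFP R (MvPolynomial (Fin n) R) (Localization.Away t) S
      (((maximalIdeal S).comap (algebraMap S₀ S)).primeCompl.map
        (algebraMap S₀ (Localization.Away t))) S

set_option maxHeartbeats 1600000 in
set_option synthInstance.maxHeartbeats 200000 in
/-- **spreading out**: flat over `A[T₁..Tₙ]` on a principal open neighbourhood. -/
theorem exists_away_flat (A B : Type u) [CommRing A] [CommRing B] [Algebra A B]
    [Algebra.FinitePresentation A B] (q : Ideal B) [q.IsPrime]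
    (O : Type u) [CommRing O] [Algebra B O] [IsLocalization.AtPrime O q] [Algebra A O]
    [IsScalarTower A B O] (n : ℕ) (bs : Fin n → B)
    (hflat : letI : Algebra (MvPolynomial (Fin n) A) O :=
        (aeval (R := A) (fun i => algebraMap B O (bs i))).toRingHom.toAlgebra
      Module.Flat (MvPolynomial (Fin n) A) O) :
    letI : Algebra (MvPolynomial (Fin n) A) B := (aeval (R := A) bs).toRingHom.toAlgebra
    ∃ g ∉ q, ∀ g' : B, g ∣ g' → ∀ (B' : Type u) [CommRing B'] [Algebra B B']
      [Algebra (MvPolynomial (Fin n) A) B'] [IsScalarTower (MvPolynomial (Fin n) A) B B']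
      [IsLocalization.Away g' B'], Module.Flat (MvPolynomial (Fin n) A) B' := by
  letI := IsLocalization.AtPrime.isLocalRing O q
  letI aPB : Algebra (MvPolynomial (Fin n) A) B := (aeval (R := A) bs).toRingHom.toAlgebra
  letI aPO : Algebra (MvPolynomial (Fin n) A) O :=
    (aeval (R := A) (fun i => algebraMap B O (bs i))).toRingHom.toAlgebra
  haveI twAPB : IsScalarTower A (MvPolynomial (Fin n) A) B := IsScalarTower.of_algebraMap_eq fun r =>
    ((aeval (R := A) bs).commutes r).symm
  haveI twPBO : IsScalarTower (MvPolynomial (Fin n) A) B O := IsScalarTower.of_algebraMap_eq fun p => by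
    show aeval (R := A) (fun i => algebraMap B O (bs i)) p = algebraMap B O (aeval (R := A) bs p)
    exact MvPolynomial.aeval_algebraMap_apply O bs p
  haveI : Algebra.FinitePresentation (MvPolynomial (Fin n) A) B :=
    Algebra.FinitePresentation.of_restrict_scalars_finitePresentation A (MvPolynomial (Fin n) A) B
  haveI hflat' : Module.Flat (MvPolynomial (Fin n) A) O := hflat
  haveI : IsLocalizedModule q.primeCompl (Algebra.linearMap B O) :=
    isLocalizedModule_iff_isLocalization.mpr inferInstance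
  have h1 : Module.Flat (MvPolynomial (Fin n) A) (LocalizedModule q.primeCompl B) :=
    FlatOpen.flat_of_le (A' := MvPolynomial (Fin n) A) q.primeCompl q.primeCompl le_rfl
      (Algebra.linearMap B O) (LocalizedModule.mkLinearMap q.primeCompl B)
  obtain ⟨g₁, hg₁, H₁⟩ := exists_away_flat_module (MvPolynomial (Fin n) A) B B q h1
  refine ⟨g₁, hg₁, ?_⟩
  intro g' hg' B' _ _ _ _ _
  haveI := H₁ g' hg'
  haveI : IsLocalizedModule (Submonoid.powers g') (Algebra.linearMap B B') :=
    isLocalizedModule_iff_isLocalization.mpr inferInstance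
  exact FlatOpen.flat_of_le (A' := MvPolynomial (Fin n) A) (Submonoid.powers g')
    (Submonoid.powers g') le_rfl (LocalizedModule.mkLinearMap (Submonoid.powers g') B)
    (Algebra.linearMap B B')

end Groth.Agent.Lib.Helper21.Coprof
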