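import Mathlib
import Groth.Agent.Lib.Helper21.Coprof3
import Groth.Agent.Lib.Helper21.Coprof4
import Groth.Agent.Lib.Helper21.CMAff4

/-!
# Helper21 — Coprof5: flat chart morphisms to affine space
-/

set_option autoImplicit false

namespace Groth.Agent.Lib.Helper21.Coprof

open AlgebraicGeometry CategoryTheory Limits
open IsLocalRing MvPolynomial
open Groth.Agent.Lib.Helper21.FlatDesc Groth.Agent.Lib.Helper21.FibreStalk
open Groth.Agent.Lib.Helper21.CMAff

universe u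

/-- the ring map `Γ(S, V)[T] → Γ(X, U)` attached to a vector of sections. -/
noncomputable def chartHom {X S : Scheme.{u}} (f : X ⟶ S) (V : S.Opens) (U : X.Opens)
    (hUV : U ≤ f ⁻¹ᵁ V) (n : ℕ) (bs : Fin n → Γ(X, U)) :
    MvPolynomial (ULift.{u} (Fin n)) Γ(S, V) →+* Γ(X, U) :=
  letI : Algebra Γ(S, V) Γ(X, U) := (f.appLE V U hUV).hom.toAlgebra
  (aeval (R := Γ(S, V)) (fun i : ULift.{u} (Fin n) => bs i.down)).toRingHom

theorem chartHom_comp_C {X S : Scheme.{u}} (f : X ⟶ S) (V : S.Opens) (U : X.Opens)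
    (hUV : U ≤ f ⁻¹ᵁ V) (n : ℕ) (bs : Fin n → Γ(X, U)) :
    (chartHom f V U hUV n bs).comp (C : Γ(S, V) →+* MvPolynomial (ULift.{u} (Fin n)) Γ(S, V)) =
      (f.appLE V U hUV).hom := by
  letI : Algebra Γ(S, V) Γ(X, U) := (f.appLE V U hUV).hom.toAlgebra
  ext a
  show aeval (R := Γ(S, V)) (fun i : ULift.{u} (Fin n) => bs i.down) (C a) = _
  rw [aeval_C]
  rfl

theorem chartHom_X {X S : Scheme.{u}} (f : X ⟶ S) (V : S.Opens) (U : X.Opens)
    (hUV : U ≤ f ⁻¹ᵁ V) (n : ℕ) (bs : Fin n → Γ(X, U)) (i : ULift.{u} (Fin n)) :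
    chartHom f V U hUV n bs (MvPolynomial.X i) = bs i.down := by
  letI : Algebra Γ(S, V) Γ(X, U) := (f.appLE V U hUV).hom.toAlgebra
  show aeval (R := Γ(S, V)) (fun i : ULift.{u} (Fin n) => bs i.down) (MvPolynomial.X i) = _
  rw [aeval_X]

set_option maxHeartbeats 3200000 in
set_option synthInstance.maxHeartbeats 200000 in
/-- **flat chart**: stalk-level flatness over the polynomial ring spreads to a basic open
neighbourhood. -/
theorem exists_basicOpen_flat {X S : Scheme.{u}} (f : X ⟶ S) [LocallyOfFinitePresentation f]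
    (V : S.Opens) (hV : IsAffineOpen V) (U₀ : X.Opens) (hU₀ : IsAffineOpen U₀)
    (hU₀V : U₀ ≤ f ⁻¹ᵁ V) (x : X) (hxU₀ : x ∈ U₀) (n : ℕ) (bs : Fin n → Γ(X, U₀))
    (hstalkflat :
      letI : Algebra (S.presheaf.stalk (f x)) (X.presheaf.stalk x) := (f.stalkMap x).hom.toAlgebra
      letI : Algebra (MvPolynomial (Fin n) (S.presheaf.stalk (f x))) (X.presheaf.stalk x) :=
        (aeval (R := S.presheaf.stalk (f x))
          (fun i => X.presheaf.germ U₀ x hxU₀ (bs i))).toRingHom.toAlgebra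
      Module.Flat (MvPolynomial (Fin n) (S.presheaf.stalk (f x))) (X.presheaf.stalk x)) :
    ∃ g : Γ(X, U₀), x ∈ X.basicOpen g ∧
      (chartHom f V (X.basicOpen g) ((X.basicOpen_le g).trans hU₀V) n
        (fun i => X.presheaf.map (homOfLE (X.basicOpen_le g)).op (bs i))).Flat := by
  classical
  letI aO : Algebra (S.presheaf.stalk (f x)) (X.presheaf.stalk x) := (f.stalkMap x).hom.toAlgebra
  have hfxV : f x ∈ V := hU₀V hxU₀
  let hs : Fin n → X.presheaf.stalk x := fun i => X.presheaf.germ U₀ x hxU₀ (bs i)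
  -- ring data
  letI aAB : Algebra Γ(S, V) Γ(X, U₀) := (f.appLE V U₀ hU₀V).hom.toAlgebra
  haveI : Algebra.FinitePresentation Γ(S, V) Γ(X, U₀) :=
    (HasRingHomProperty.appLE @LocallyOfFinitePresentation f inferInstance ⟨V, hV⟩ ⟨U₀, hU₀⟩ hU₀V :
      RingHom.FinitePresentation _)
  let q : Ideal Γ(X, U₀) := (hU₀.primeIdealOf ⟨x, hxU₀⟩).asIdeal
  letI aBO : Algebra Γ(X, U₀) (X.presheaf.stalk x) := X.presheaf.algebra_section_stalk ⟨x, hxU₀⟩
  haveI locO : IsLocalization.AtPrime (X.presheaf.stalk x) q := hU₀.isLocalization_stalk ⟨x, hxU₀⟩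
  letI aAA₀ : Algebra Γ(S, V) (S.presheaf.stalk (f x)) :=
    S.presheaf.algebra_section_stalk ⟨f x, hfxV⟩
  haveI locA₀ := hV.isLocalization_stalk ⟨f x, hfxV⟩
  letI aAO : Algebra Γ(S, V) (X.presheaf.stalk x) :=
    ((algebraMap Γ(X, U₀) (X.presheaf.stalk x)).comp (algebraMap Γ(S, V) Γ(X, U₀))).toAlgebra
  haveI tw1 : IsScalarTower Γ(S, V) Γ(X, U₀) (X.presheaf.stalk x) :=
    IsScalarTower.of_algebraMap_eq fun a => rfl
  haveI tw2 : IsScalarTower Γ(S, V) (S.presheaf.stalk (f x)) (X.presheaf.stalk x) :=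
    IsScalarTower.of_algebraMap_eq fun a => by
      show X.presheaf.germ U₀ x hxU₀ (f.appLE V U₀ hU₀V a) =
        f.stalkMap x (S.presheaf.germ V (f x) hfxV a)
      rw [Scheme.Hom.germ_stalkMap_apply, Scheme.Hom.appLE]
      exact (TopCat.Presheaf.germ_res_apply X.presheaf (homOfLE hU₀V) x hxU₀ _)
  have hfun : (fun i => algebraMap Γ(X, U₀) (X.presheaf.stalk x) (bs i)) = hs := rfl
  -- flatness over `A[T]`
  have hflatA := flat_mvPolynomial_of_isLocalization Γ(S, V) (S.presheaf.stalk (f x))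
    (X.presheaf.stalk x) (hV.primeIdealOf ⟨f x, hfxV⟩).asIdeal.primeCompl n hs hstalkflat
  letI aPB : Algebra (MvPolynomial (Fin n) Γ(S, V)) Γ(X, U₀) :=
    (aeval (R := Γ(S, V)) bs).toRingHom.toAlgebra
  obtain ⟨g, hgq, H⟩ := exists_away_flat Γ(S, V) Γ(X, U₀) q (X.presheaf.stalk x) n bs
    (by rw [hfun]; exact hflatA)
  -- the final chart
  have hxU : x ∈ X.basicOpen g := by
    rw [Scheme.mem_basicOpen _ _ _ hxU₀]
    exact (IsLocalization.AtPrime.isUnit_to_map_iff (X.presheaf.stalk x) q g).mpr hgq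
  haveI locB' : IsLocalization.Away g Γ(X, X.basicOpen g) := hU₀.isLocalization_basicOpen g
  have hUV : X.basicOpen g ≤ f ⁻¹ᵁ V := (X.basicOpen_le g).trans hU₀V
  letI aPB' : Algebra (MvPolynomial (Fin n) Γ(S, V)) Γ(X, X.basicOpen g) :=
    ((algebraMap Γ(X, U₀) Γ(X, X.basicOpen g)).comp
      (algebraMap (MvPolynomial (Fin n) Γ(S, V)) Γ(X, U₀))).toAlgebra
  haveI twP : IsScalarTower (MvPolynomial (Fin n) Γ(S, V)) Γ(X, U₀) Γ(X, X.basicOpen g) :=
    IsScalarTower.of_algebraMap_eq fun _ => rfl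
  have hfl := H g dvd_rfl Γ(X, X.basicOpen g)
  let ρ : MvPolynomial (ULift.{u} (Fin n)) Γ(S, V) →+* MvPolynomial (Fin n) Γ(S, V) :=
    (rename (ULift.down : ULift.{u} (Fin n) → Fin n) :
      MvPolynomial (ULift.{u} (Fin n)) Γ(S, V) →ₐ[Γ(S, V)] MvPolynomial (Fin n) Γ(S, V)).toRingHom
  have hρbij : Function.Bijective ρ :=
    ⟨rename_injective _ ULift.down_injective, rename_surjective _ ULift.down_surjective⟩
  refine ⟨g, hxU, ?_⟩
  have hψ : chartHom f V (X.basicOpen g) hUV n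
      (fun i => X.presheaf.map (homOfLE (X.basicOpen_le g)).op (bs i)) =
      (algebraMap (MvPolynomial (Fin n) Γ(S, V)) Γ(X, X.basicOpen g)).comp ρ := by
    letI : Algebra Γ(S, V) Γ(X, X.basicOpen g) := (f.appLE V (X.basicOpen g) hUV).hom.toAlgebra
    apply MvPolynomial.ringHom_ext
    · intro a
      have h1 := congrArg (fun φ => φ a) (chartHom_comp_C f V (X.basicOpen g) hUV n
        (fun i => X.presheaf.map (homOfLE (X.basicOpen_le g)).op (bs i)))
      refine h1.trans ?_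
      show f.appLE V (X.basicOpen g) hUV a = algebraMap Γ(X, U₀) Γ(X, X.basicOpen g)
        (aeval (R := Γ(S, V)) bs (rename ULift.down (C a)))
      rw [rename_C, aeval_C]
      show _ = X.presheaf.map (homOfLE (X.basicOpen_le g)).op (f.appLE V U₀ hU₀V a)
      rw [← CommRingCat.comp_apply, Scheme.Hom.appLE_map]
    · intro i
      rw [chartHom_X]
      show _ = algebraMap Γ(X, U₀) Γ(X, X.basicOpen g)
        (aeval (R := Γ(S, V)) bs (rename ULift.down (MvPolynomial.X i)))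
      rw [rename_X, aeval_X]
      rfl
  rw [hψ]
  exact RingHom.Flat.comp (RingHom.Flat.of_bijective hρbij) (RingHom.flat_algebraMap_iff.mpr hfl)

end Groth.Agent.Lib.Helper21.Coprof
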