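import Mathlib
import Groth.Agent.Lib.Helper21.Coprof1

/-!
# Helper21 — Coprof6a: cutting down by a maximal regular sequence
-/

set_option autoImplicit false

namespace Groth.Agent.Lib.Helper21.Coprof

open IsLocalRing RingTheory.Sequence
open Groth.Agent.Lib.Helper21

universe u

/-- **cutting by a maximal regular sequence**: if `O / 𝔣` is a Noetherian local ring of codepth at
most `n`, there is a sequence in the maximal ideal of `O`, regular on `O / 𝔣`, such that the quotient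
by `𝔣` and the sequence has dimension at most `n`. -/
theorem exists_lift_regular_dim_le (O : Type u) [CommRing O] [IsLocalRing O] (𝔣 : Ideal O)
    [IsNoetherianRing (O ⧸ 𝔣)] (n : ℕ) (h : CoprofLE (O ⧸ 𝔣) n) :
    ∃ hs : List O, (∀ h ∈ hs, h ∈ maximalIdeal O) ∧
      IsWeaklyRegular (O ⧸ 𝔣) (hs.map (Ideal.Quotient.mk 𝔣)) ∧
      ringKrullDim (O ⧸ (𝔣 ⊔ Ideal.ofList hs)) ≤ n := by
  classical
  obtain ⟨hloc, hle⟩ := h
  haveI := hloc
  obtain ⟨rs, hrsm, hrsreg, hlen⟩ := DepthKit.exists_seq_length_eq_depth (A := O ⧸ 𝔣) (M := O ⧸ 𝔣)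
  have hsurj : Function.Surjective (Ideal.Quotient.mk 𝔣) := Ideal.Quotient.mk_surjective
  choose lift hlift using hsurj
  have hmap : (rs.map lift).map (Ideal.Quotient.mk 𝔣) = rs := by
    rw [List.map_map]
    conv_rhs => rw [← List.map_id rs]
    apply List.map_congr_left
    intro r _
    exact hlift r
  refine ⟨rs.map lift, ?_, ?_, ?_⟩
  · intro h hh
    rw [List.mem_map] at hh
    obtain ⟨r, hr, rfl⟩ := hh
    have h1 := hrsm r hr
    rw [mem_maximalIdeal, mem_nonunits_iff] at h1 ⊢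
    intro hu
    apply h1
    rw [← hlift r]
    exact hu.map (Ideal.Quotient.mk 𝔣)
  · rw [hmap]; exact hrsreg
  · -- dimension count
    have hreg : IsRegular (O ⧸ 𝔣) rs :=
      (IsLocalRing.isRegular_iff_isWeaklyRegular_of_subset_maximalIdeal hrsm).mpr hrsreg
    have h1 := Module.supportDim_add_length_eq_supportDim_of_isRegular rs hreg
    have e1 : ((O ⧸ 𝔣) ⧸ (Ideal.ofList rs • (⊤ : Submodule (O ⧸ 𝔣) (O ⧸ 𝔣)))) ≃ₗ[O ⧸ 𝔣]
        ((O ⧸ 𝔣) ⧸ Ideal.ofList rs) :=
      Submodule.quotEquivOfEq _ _ (by rw [smul_eq_mul, Ideal.mul_top])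
    rw [Module.supportDim_eq_of_equiv e1, Module.supportDim_quotient_eq_ringKrullDim,
      Module.supportDim_self_eq_ringKrullDim] at h1
    have hJ : (Ideal.ofList (rs.map lift)).map (Ideal.Quotient.mk 𝔣) = Ideal.ofList rs := by
      rw [Ideal.map_ofList, hmap]
    have e2 : ((O ⧸ 𝔣) ⧸ Ideal.ofList rs) ≃+* (O ⧸ (𝔣 ⊔ Ideal.ofList (rs.map lift))) :=
      (Ideal.quotEquivOfEq hJ.symm).trans (DoubleQuot.quotQuotEquivQuotSup 𝔣 _)
    rw [← ringKrullDim_eq_of_ringEquiv e2]
    -- arithmetic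
    obtain ⟨a, ha⟩ := DepthKit.exists_nat_supportDim (A := O ⧸ 𝔣) (M := O ⧸ 𝔣)
    rw [Module.supportDim_self_eq_ringKrullDim] at ha
    obtain ⟨d, hd⟩ := DepthKit.exists_nat_depth (A := O ⧸ 𝔣) (M := O ⧸ 𝔣)
    rw [hd] at hlen hle
    have hlen' : rs.length = d := by exact_mod_cast hlen
    rw [ha] at hle h1
    have hle' : a ≤ d + n := by exact_mod_cast hle
    rw [hlen'] at h1
    -- `dim (Ō/rs) + d = a`
    cases hq : ringKrullDim ((O ⧸ 𝔣) ⧸ Ideal.ofList rs) using WithBot.recBotCoe with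
    | bot => exact bot_le
    | coe q =>
      rw [hq] at h1
      have h1e : q + (d : ℕ∞) = (a : ℕ∞) := by exact_mod_cast h1
      have hqa : q ≤ (a : ℕ∞) := by rw [← h1e]; exact le_self_add
      obtain ⟨q', rfl⟩ := ENat.ne_top_iff_exists.mp (ne_top_of_le_ne_top (ENat.coe_ne_top a) hqa)
      have h1' : q' + d = a := by exact_mod_cast h1e
      have : q' ≤ n := by omega
      exact_mod_cast this

end Groth.Agent.Lib.Helper21.Coprof
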