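import Mathlib
import Groth.Agent.Lib.Helper21.Coprof2
import Groth.Agent.Lib.Helper21.Coprof5
import Groth.Agent.Lib.Helper21.Coprof6a
import Groth.Agent.Lib.Helper21.CMAff10
import Groth.Agent.Lib.Helper24.FibreDim.Main4944
import Groth.Agent.Lib.Helper18.Chev.Main

/-!
# Helper21 — Coprof6: openness of the codepth locus around points closed in their fibre
-/

set_option autoImplicit false

namespace Groth.Agent.Lib.Helper21.Coprof

open AlgebraicGeometry CategoryTheory Limits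
open IsLocalRing MvPolynomial RingTheory.Sequence
open Groth.Agent.Lib.Helper21.FlatDesc Groth.Agent.Lib.Helper21.FibreStalk
open Groth.Agent.Lib.Helper21.CMAff
open Groth.Agent.Lib.Helper24.FibreDim Groth.Agent.Lib.lead

universe u

theorem germ_topIso_inv {X : Scheme.{u}} (U : X.Opens) (x : X) (hx : x ∈ U) (b : Γ(X, U)) :
    (U.ι.stalkMap ⟨x, hx⟩).hom (X.presheaf.germ U x hx b) =
      (U : Scheme.{u}).presheaf.germ ⊤ ⟨x, hx⟩ trivial (U.topIso.inv b) := by
  have h1 := U.germ_stalkIso_inv ⊤ ⟨x, hx⟩ trivial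
  rw [Scheme.Opens.stalkIso_inv] at h1
  have h2 := ConcreteCategory.congr_hom h1 (U.topIso.inv b)
  rw [CommRingCat.comp_apply] at h2
  refine Eq.trans ?_ h2
  show (U.ι.stalkMap ⟨x, hx⟩).hom _ = (U.ι.stalkMap ⟨x, hx⟩).hom _
  congr 1
  rw [Scheme.Opens.topIso_inv]
  exact (TopCat.Presheaf.germ_res_apply X.presheaf _ x _ b).symm

theorem cop_congr {X S : Scheme.{u}} {f₁ f₂ : X ⟶ S} (e : f₁ = f₂) (n : ℕ) (x : X)
    (h : Cop f₁ n x) : Cop f₂ n x := by
  subst e; exact h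

theorem flat_stalkMap_congr {X S : Scheme.{u}} {f₁ f₂ : X ⟶ S} (e : f₁ = f₂) (x : X)
    (h : (f₁.stalkMap x).hom.Flat) : (f₂.stalkMap x).hom.Flat := by
  subst e; exact h

theorem fibIdeal_comp_le {X Z Y : Scheme.{u}} (g : X ⟶ Z) (π : Z ⟶ Y) (x : X) :
    fibIdeal (g ≫ π) x ≤ fibIdeal g x := by
  have hcomp : ((g ≫ π).stalkMap x).hom = (g.stalkMap x).hom.comp (π.stalkMap (g x)).hom := by
    rw [Scheme.Hom.stalkMap_comp]
    rfl
  haveI : IsLocalHom (π.stalkMap (g x)).hom := inferInstance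
  show (maximalIdeal _).map ((g ≫ π).stalkMap x).hom ≤ _
  rw [hcomp]
  refine (Ideal.map_map _ _).symm.le.trans ?_
  exact Ideal.map_mono (IsLocalRing.map_maximalIdeal_le (π.stalkMap (g x)).hom)

theorem fibIdeal_congr {X S : Scheme.{u}} {f₁ f₂ : X ⟶ S} (e : f₁ = f₂) (x : X) :
    fibIdeal f₁ x = fibIdeal f₂ x := by
  subst e; rfl

theorem ringKrullDim_quot_le_of_map_le {A B : Type u} [CommRing A] [CommRing B] (ε : A ≃+* B)
    (I : Ideal A) (J : Ideal B) (h : I.map (ε : A →+* B) ≤ J) :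
    ringKrullDim (B ⧸ J) ≤ ringKrullDim (A ⧸ I) :=
  ringKrullDim_le_of_surjective
    (Ideal.quotientMap J (ε : A →+* B) (Ideal.map_le_iff_le_comap.mp h))
    (Ideal.quotientMap_surjective ε.surjective)

/-- the fibre ideal of the restriction to an open neighbourhood. -/
theorem fibIdeal_ι_comp {X S : Scheme.{u}} (f : X ⟶ S) (U : X.Opens) (x : X) (hx : x ∈ U) :
    (fibIdeal f x).map ((U.ι.stalkMap ⟨x, hx⟩).hom) = fibIdeal (U.ι ≫ f) ⟨x, hx⟩ := by
  have hcompU : ((U.ι ≫ f).stalkMap ⟨x, hx⟩).hom =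
      (U.ι.stalkMap ⟨x, hx⟩).hom.comp (f.stalkMap x).hom := by
    rw [Scheme.Hom.stalkMap_comp]
    rfl
  show _ = (maximalIdeal (S.presheaf.stalk (f x))).map ((U.ι ≫ f).stalkMap ⟨x, hx⟩).hom
  rw [hcompU]
  exact Ideal.map_map _ _

set_option maxHeartbeats 3200000 in
set_option synthInstance.maxHeartbeats 200000 in
/-- **closed point case**: around a point closed in its fibre at which `f` is flat and the fibre has
codepth at most `n`, the same holds on a neighbourhood. -/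
theorem exists_open_cop_of_closed {X S : Scheme.{u}} (f : X ⟶ S)
    [LocallyOfFinitePresentation f] (n : ℕ) (x : X) (hflat : (f.stalkMap x).hom.Flat)
    (hcop : Cop f n x) (hcl : ∀ x' : X, f x' = f x → x ⤳ x' → x' = x) :
    ∃ U : X.Opens, x ∈ U ∧ ∀ x' ∈ U, (f.stalkMap x').hom.Flat ∧ Cop f n x' := by
  classical
  letI aO : Algebra (S.presheaf.stalk (f x)) (X.presheaf.stalk x) := (f.stalkMap x).hom.toAlgebra
  haveI : IsLocallyNoetherian (f.fiber (f x)) := by
    haveI hφ : LocallyOfFiniteType (f.fiberToSpecResidueField (f x)) :=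
      MorphismProperty.pullback_snd _ _ inferInstance
    exact LocallyOfFiniteType.isLocallyNoetherian (f.fiberToSpecResidueField _)
  obtain ⟨e⟩ := nonempty_fibreStalkEquiv f x
  haveI hN : IsNoetherianRing (X.presheaf.stalk x ⧸ fibIdeal f x) :=
    isNoetherianRing_of_ringEquiv _ e
  have hcop' : CoprofLE (X.presheaf.stalk x ⧸ fibIdeal f x) n := (cop_iff_quot f n x).mp hcop
  obtain ⟨hsL, hsm, hsreg, hdim⟩ :=
    exists_lift_regular_dim_le (X.presheaf.stalk x) (fibIdeal f x) n hcop'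
  set r := hsL.length with hr
  let hs : Fin r → X.presheaf.stalk x := fun i => hsL.get i
  have hsm' : ∀ i, hs i ∈ maximalIdeal (X.presheaf.stalk x) := fun i =>
    hsm _ (List.get_mem _ _)
  have hofFn : List.ofFn hs = hsL := List.ofFn_get hsL
  have hsreg' : IsWeaklyRegular (X.presheaf.stalk x ⧸ fibIdeal f x)
      (List.ofFn fun i => Ideal.Quotient.mk (fibIdeal f x) (hs i)) := by
    have h1 : (List.ofFn fun i => Ideal.Quotient.mk (fibIdeal f x) (hs i)) =
        hsL.map (Ideal.Quotient.mk (fibIdeal f x)) := by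
      rw [← hofFn, List.map_ofFn]
      rfl
    rw [h1]; exact hsreg
  have hstalkflat := stalk_flat_mvPolynomial f x hflat r hs hsm' hsreg'
  -- charts
  obtain ⟨_, ⟨V, hV : IsAffineOpen V, rfl⟩, hfxV, -⟩ :=
    S.isBasis_affineOpens.exists_subset_of_mem_open (Set.mem_univ (f x)) isOpen_univ
  obtain ⟨W, hxW, bs₀, hbs₀⟩ := exists_germs_fin x r hs
  obtain ⟨_, ⟨U₀, hU₀ : IsAffineOpen U₀, rfl⟩, hxU₀, hU₀le⟩ :=
    X.isBasis_affineOpens.exists_subset_of_mem_open
      (show x ∈ ((W ⊓ f ⁻¹ᵁ V : X.Opens) : Set X) from ⟨hxW, hfxV⟩) (W ⊓ f ⁻¹ᵁ V).isOpen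
  have hU₀W : U₀ ≤ W := fun y hy => (hU₀le hy).1
  have hU₀V : U₀ ≤ f ⁻¹ᵁ V := fun y hy => (hU₀le hy).2
  let bs : Fin r → Γ(X, U₀) := fun i => X.presheaf.map (homOfLE hU₀W).op (bs₀ i)
  have hbs : ∀ i, X.presheaf.germ U₀ x hxU₀ (bs i) = hs i := fun i => by
    rw [← hbs₀ i]
    exact TopCat.Presheaf.germ_res_apply X.presheaf (homOfLE hU₀W) x hxU₀ (bs₀ i)
  have hfun : (fun i => X.presheaf.germ U₀ x hxU₀ (bs i)) = hs := funext hbs
  obtain ⟨g, hxU, hψfl⟩ := exists_basicOpen_flat f V hV U₀ hU₀ hU₀V x hxU₀ r bs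
    (by rw [hfun]; exact hstalkflat)
  -- the chart morphism
  have hU : IsAffineOpen (X.basicOpen g) := hU₀.basicOpen g
  have hUV : X.basicOpen g ≤ f ⁻¹ᵁ V := (X.basicOpen_le g).trans hU₀V
  let bs' : Fin r → Γ(X, X.basicOpen g) :=
    fun i => X.presheaf.map (homOfLE (X.basicOpen_le g)).op (bs i)
  have hbs' : ∀ i, X.presheaf.germ (X.basicOpen g) x hxU (bs' i) = hs i := fun i => by
    rw [← hbs i]
    exact TopCat.Presheaf.germ_res_apply X.presheaf (homOfLE (X.basicOpen_le g)) x hxU (bs i)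
  let ψ := chartHom f V (X.basicOpen g) hUV r bs'
  let gm : (X.basicOpen g : Scheme.{u}) ⟶ 𝔸(ULift.{u} (Fin r); S) :=
    toAff V hV (X.basicOpen g) hU (ULift.{u} (Fin r)) ψ
  have hgm1 : gm ≫ (𝔸(ULift.{u} (Fin r); S) ↘ S) = (X.basicOpen g).ι ≫ f :=
    toAff_over f V hV (X.basicOpen g) hU hUV _ ψ (chartHom_comp_C f V (X.basicOpen g) hUV r bs')
  haveI hgmfl : Flat gm := toAff_flat V hV (X.basicOpen g) hU _ ψ hψfl
  haveI h1 : LocallyOfFiniteType (gm ≫ (𝔸(ULift.{u} (Fin r); S) ↘ S)) := by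
    rw [hgm1]; infer_instance
  haveI : LocallyOfFiniteType gm :=
    locallyOfFiniteType_of_comp gm (𝔸(ULift.{u} (Fin r); S) ↘ S)
  set xU : (X.basicOpen g : Scheme.{u}) := ⟨x, hxU⟩ with hxUdef
  -- the coordinates lie in the fibre ideal
  let ε : X.presheaf.stalk x ≃+* (X.basicOpen g : Scheme.{u}).presheaf.stalk xU :=
    (asIso ((X.basicOpen g).ι.stalkMap xU)).commRingCatIsoToRingEquiv
  have hε : ∀ a, ε a = ((X.basicOpen g).ι.stalkMap xU).hom a := fun a => rfl
  have hcoord : ∀ i : Fin r, ε (hs i) ∈ fibIdeal gm xU := by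
    intro i
    have h2 : ε (hs i) = (gm.stalkMap xU).hom
        ((𝔸(ULift.{u} (Fin r); S)).presheaf.germ ⊤ (gm xU) trivial
          (AffineSpace.coord S (ULift.up i))) := by
      rw [hε, ← hbs' i, germ_topIso_inv]
      have h3 := Scheme.Hom.germ_stalkMap_apply gm ⊤ xU trivial (AffineSpace.coord S (ULift.up i))
      rw [h3]
      congr 1
      have h4 := toAff_appTop_coord V hV (X.basicOpen g) hU (ULift.{u} (Fin r)) ψ (ULift.up i)
      rw [show ψ (MvPolynomial.X (ULift.up i)) = bs' i from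
        chartHom_X f V (X.basicOpen g) hUV r bs' (ULift.up i)] at h4
      exact h4.symm
    rw [h2]
    refine Ideal.mem_map_of_mem _ ?_
    rw [IsLocalRing.mem_maximalIdeal, mem_nonunits_iff]
    intro hu
    have h5 := hu.map (gm.stalkMap xU).hom
    rw [← h2] at h5
    have h6 : IsUnit (hs i) := by
      have := h5.map ε.symm
      rwa [RingEquiv.symm_apply_apply] at this
    exact (IsLocalRing.mem_maximalIdeal _).mp (hsm' i) h6
  -- dimension of the fibre of `gm` at `xU`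
  have hfibf : (fibIdeal f x).map (ε : X.presheaf.stalk x →+* _) ≤ fibIdeal gm xU := by
    have h2 : (fibIdeal f x).map (ε : X.presheaf.stalk x →+* _) =
        fibIdeal ((X.basicOpen g).ι ≫ f) xU := fibIdeal_ι_comp f (X.basicOpen g) x hxU
    rw [h2, ← fibIdeal_congr hgm1 xU]
    exact fibIdeal_comp_le gm _ xU
  have hJ : (fibIdeal f x ⊔ Ideal.ofList hsL).map (ε : X.presheaf.stalk x →+* _) ≤
      fibIdeal gm xU := by
    rw [Ideal.map_sup]
    refine sup_le hfibf ?_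
    rw [Ideal.map_ofList, Ideal.ofList, Ideal.span_le]
    intro y hy
    rw [Set.mem_setOf_eq, List.mem_map] at hy
    obtain ⟨h, hh, rfl⟩ := hy
    rw [← hofFn] at hh
    obtain ⟨i, rfl⟩ := (List.mem_ofFn' _ _).mp hh
    exact hcoord i
  have hG : ringKrullDim ((gm.fiber (gm xU)).presheaf.stalk (gm.asFiber xU)) ≤ n := by
    obtain ⟨egm⟩ := nonempty_fibreStalkEquiv gm xU
    rw [ringKrullDim_eq_of_ringEquiv egm]
    exact (ringKrullDim_quot_le_of_map_le ε _ _ hJ).trans hdim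
  -- fibre dimension of `gm` at `xU`
  have hclU : ∀ x' : (X.basicOpen g : Scheme.{u}), gm x' = gm xU → xU ⤳ x' → x' = xU := by
    intro x' h1 h2
    have h3 : f ((X.basicOpen g).ι x') = f x := by
      have h4 := congrArg (fun φ : (X.basicOpen g : Scheme.{u}) ⟶ S => φ x') hgm1
      have h5 := congrArg (fun φ : (X.basicOpen g : Scheme.{u}) ⟶ S => φ xU) hgm1
      simp only [Scheme.Hom.comp_apply] at h4 h5
      rw [← h4, h1, h5]
      rfl
    have h4 : x ⤳ (X.basicOpen g).ι x' := h2.map (X.basicOpen g).ι.continuous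
    have h5 := hcl _ h3 h4
    exact Subtype.ext h5
  have htr : tr gm xU = 0 := tr_eq_zero_of_closed gm xU hclU
  have hfd : FlatMor.fibreDimAt gm xU ≤ n := by
    rw [fibreDimAt_eq_tr_add_G, htr, Nat.cast_zero, zero_add, ← FibreOrder.ringKrullDim_fiber_stalk]
    exact hG
  -- Chevalley
  have hopen := Groth.Agent.Lib.Helper18.Chev.isOpen_fibreDimAt_le gm n
  let W' : (X.basicOpen g : Scheme.{u}).Opens := ⟨_, hopen⟩
  refine ⟨(X.basicOpen g).ι ''ᵁ W', ⟨xU, hfd, rfl⟩, ?_⟩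
  rintro _ ⟨y, hy, rfl⟩
  have hy' : FlatMor.fibreDimAt gm y ≤ n := hy
  have hGy : ringKrullDim ((gm.fiber (gm y)).presheaf.stalk (gm.asFiber y)) ≤ n := by
    rw [FibreOrder.ringKrullDim_fiber_stalk]
    rw [fibreDimAt_eq_tr_add_G] at hy'
    refine le_trans ?_ hy'
    exact_mod_cast le_add_self
  have hcopgm : Cop gm n y := coprofLE_of_dim_le n hGy
  have hflgm : (gm.stalkMap y).hom.Flat := Flat.stalkMap gm y
  have hcop1 : Cop (gm ≫ (𝔸(ULift.{u} (Fin r); S) ↘ S)) n y :=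
    (cop_comp_iff gm (𝔸(ULift.{u} (Fin r); S) ↘ S) n y hflgm
      (isCM_stalk_fiber_affineSpace (ULift.{u} (Fin r)) S _ _)).mpr hcopgm
  have hcop2 : Cop ((X.basicOpen g).ι ≫ f) n y := cop_congr hgm1 n y hcop1
  have hfl1 : ((gm ≫ (𝔸(ULift.{u} (Fin r); S) ↘ S)).stalkMap y).hom.Flat := by
    have hc : ((gm ≫ (𝔸(ULift.{u} (Fin r); S) ↘ S)).stalkMap y).hom =
        (gm.stalkMap y).hom.comp ((𝔸(ULift.{u} (Fin r); S) ↘ S).stalkMap (gm y)).hom := by
      rw [Scheme.Hom.stalkMap_comp]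
      rfl
    rw [hc]
    exact RingHom.Flat.comp (Flat.stalkMap _ _) hflgm
  have hfl2 : (((X.basicOpen g).ι ≫ f).stalkMap y).hom.Flat := flat_stalkMap_congr hgm1 y hfl1
  exact ⟨(flat_stalkMap_comp_iff_of_isIso_stalkMap (X.basicOpen g).ι f y).mp hfl2,
    (cop_comp_iff_of_isIso_stalkMap (X.basicOpen g).ι f n y).mp hcop2⟩

end Groth.Agent.Lib.Helper21.Coprof
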