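import Mathlib
import Groth.Agent.Lib.Helper21.Coprof6
import Groth.Agent.Lib.Helper21.Coprof7a

/-!
# Helper21 — Coprof7: openness of the codepth locus
-/

set_option autoImplicit false

namespace Groth.Agent.Lib.Helper21.Coprof

open AlgebraicGeometry CategoryTheory Limits
open IsLocalRing MvPolynomial RingTheory.Sequence
open Groth.Agent.Lib.Helper21.FlatDesc Groth.Agent.Lib.Helper21.FibreStalk
open Groth.Agent.Lib.Helper21.CMAff
open Groth.Agent.Lib.Helper24.FibreDim Groth.Agent.Lib.lead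

universe u

/-- cancellation for morphisms locally of finite presentation. -/
theorem lfp_of_comp {X Y Z : Scheme.{u}} (f : X ⟶ Y) (g : Y ⟶ Z)
    [LocallyOfFinitePresentation (f ≫ g)] [LocallyOfFiniteType g] :
    LocallyOfFinitePresentation f := by
  rw [HasRingHomProperty.iff_exists_appLE (P := @LocallyOfFinitePresentation)
    (RingHom.finitePresentation_stableUnderComposition.stableUnderCompositionWithLocalizationAway
      RingHom.finitePresentation_holdsForLocalizationAway).left]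
  intro x
  obtain ⟨_, ⟨Z0, hZ0, rfl⟩, hxZ0, -⟩ :=
    Z.isBasis_affineOpens.exists_subset_of_mem_open (Set.mem_univ (g (f x))) isOpen_univ
  obtain ⟨V, hV, hxV, hVZ0⟩ := exists_isAffineOpen_mem_and_subset (x := f x) (U := g ⁻¹ᵁ Z0) hxZ0
  obtain ⟨W, hW, hxW, hWV⟩ := exists_isAffineOpen_mem_and_subset (x := x) (U := f ⁻¹ᵁ V) hxV
  refine ⟨⟨V, hV⟩, ⟨W, hW⟩, hxW, hWV, ?_⟩
  have h1 := (f ≫ g).finitePresentation_appLE hZ0 hW
    (hWV.trans ((TopologicalSpace.Opens.map f.base).map (homOfLE hVZ0)).le)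
  rw [← Scheme.Hom.appLE_comp_appLE f g Z0 V W hVZ0 hWV, CommRingCat.hom_comp] at h1
  exact RingHom.FinitePresentation.of_comp_finiteType _ h1 (g.finiteType_appLE hZ0 hV hVZ0)

theorem toAff_restrict {X S : Scheme.{u}} (V : S.Opens) (hV : IsAffineOpen V) (U₀ D : X.Opens)
    (hU₀ : IsAffineOpen U₀) (hD : IsAffineOpen D) (h : D ≤ U₀) (n : Type u)
    (ψ₀ : MvPolynomial n Γ(S, V) →+* Γ(X, U₀)) :
    toAff V hV D hD n ((X.presheaf.map (homOfLE h).op).hom.comp ψ₀) =
      X.homOfLE h ≫ toAff V hV U₀ hU₀ n ψ₀ := by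
  unfold toAff
  have key : X.homOfLE h ≫ hU₀.isoSpec.hom =
      hD.isoSpec.hom ≫ Spec.map (X.presheaf.map (homOfLE h).op) := by
    rw [← cancel_mono hU₀.fromSpec]
    simp only [Category.assoc]
    rw [hU₀.isoSpec_hom_fromSpec, X.homOfLE_ι, hU₀.map_fromSpec hD, hD.isoSpec_hom_fromSpec]
  rw [← Category.assoc (X.homOfLE h), key, Category.assoc]
  congr 1
  have h2 : Spec.map (CommRingCat.ofHom ((X.presheaf.map (homOfLE h).op).hom.comp ψ₀)) =
      Spec.map (X.presheaf.map (homOfLE h).op) ≫ Spec.map (CommRingCat.ofHom ψ₀) := by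
    rw [← Spec.map_comp]
    rfl
  rw [h2]
  simp only [Category.assoc]

theorem chartHom_restrict {X S : Scheme.{u}} (f : X ⟶ S) (V : S.Opens) (U₀ D : X.Opens)
    (hU₀V : U₀ ≤ f ⁻¹ᵁ V) (h : D ≤ U₀) (n : ℕ) (a : Fin n → Γ(X, U₀)) :
    chartHom f V D (h.trans hU₀V) n (fun i => X.presheaf.map (homOfLE h).op (a i)) =
      (X.presheaf.map (homOfLE h).op).hom.comp (chartHom f V U₀ hU₀V n a) := by
  apply MvPolynomial.ringHom_ext
  · intro r
    have h1 := congrArg (fun φ => φ r) (chartHom_comp_C f V D (h.trans hU₀V) n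
      (fun i => X.presheaf.map (homOfLE h).op (a i)))
    have h2 := congrArg (fun φ => φ r) (chartHom_comp_C f V U₀ hU₀V n a)
    simp only [RingHom.comp_apply] at h1 h2 ⊢
    rw [h1, h2, ← CommRingCat.comp_apply, Scheme.Hom.appLE_map]
  · intro i
    simp only [RingHom.comp_apply]
    rw [chartHom_X, chartHom_X]

set_option maxHeartbeats 800000 in
set_option synthInstance.maxHeartbeats 200000 in
/-- stalk-level flatness over the polynomial ring, generic case. -/
theorem stalk_flat_mvPolynomial_generic {X S : Scheme.{u}} (f : X ⟶ S)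
    [LocallyOfFinitePresentation f]
    (x : X) (hflat : (f.stalkMap x).hom.Flat) (n : ℕ) (hs : Fin n → X.presheaf.stalk x)
    (hgen :
      letI : Algebra (S.presheaf.stalk (f x)) (X.presheaf.stalk x) := (f.stalkMap x).hom.toAlgebra
      ∀ F : MvPolynomial (Fin n) (S.presheaf.stalk (f x)),
        aeval (R := S.presheaf.stalk (f x)) hs F ∈ maximalIdeal (X.presheaf.stalk x) →
        F ∈ (maximalIdeal (S.presheaf.stalk (f x))).map
          (C : S.presheaf.stalk (f x) →+* MvPolynomial (Fin n) (S.presheaf.stalk (f x)))) :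
    letI : Algebra (S.presheaf.stalk (f x)) (X.presheaf.stalk x) := (f.stalkMap x).hom.toAlgebra
    letI : Algebra (MvPolynomial (Fin n) (S.presheaf.stalk (f x))) (X.presheaf.stalk x) :=
      (aeval (R := S.presheaf.stalk (f x)) hs).toRingHom.toAlgebra
    Module.Flat (MvPolynomial (Fin n) (S.presheaf.stalk (f x))) (X.presheaf.stalk x) := by
  letI aO : Algebra (S.presheaf.stalk (f x)) (X.presheaf.stalk x) := (f.stalkMap x).hom.toAlgebra
  haveI : IsLocalHom (algebraMap (S.presheaf.stalk (f x)) (X.presheaf.stalk x)) :=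
    inferInstanceAs (IsLocalHom (f.stalkMap x).hom)
  obtain ⟨C₀, _, a, b, TC, hab, ha, hloc⟩ := essFP_stalkMap f x
  letI aAC₀ : Algebra (S.presheaf.stalk (f x)) C₀ := a.toAlgebra
  letI aC₀C : Algebra C₀ (X.presheaf.stalk x) := b.toAlgebra
  haveI twC : IsScalarTower (S.presheaf.stalk (f x)) C₀ (X.presheaf.stalk x) :=
    IsScalarTower.of_algebraMap_eq fun r => by
      show (f.stalkMap x).hom r = b (a r)
      rw [hab]; rfl
  haveI : Algebra.FinitePresentation (S.presheaf.stalk (f x)) C₀ := ha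
  haveI := hloc
  haveI : Module.Flat (S.presheaf.stalk (f x)) (X.presheaf.stalk x) := hflat
  exact flat_mvPolynomial_of_generic (S.presheaf.stalk (f x)) (X.presheaf.stalk x) C₀ TC n hs hgen

set_option maxHeartbeats 1600000 in
/-- transfer along a flat chart morphism to affine space. -/
theorem cop_of_toAffineSpace {X S : Scheme.{u}} (f : X ⟶ S) [LocallyOfFiniteType f] (n : ℕ)
    (U : X.Opens) (m : Type u) [Finite m] (gm : (U : Scheme.{u}) ⟶ 𝔸(m; S))
    (hgm1 : gm ≫ (𝔸(m; S) ↘ S) = U.ι ≫ f) (y : (U : Scheme.{u}))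
    (hflgm : (gm.stalkMap y).hom.Flat) :
    (f.stalkMap (U.ι y)).hom.Flat ∧ (Cop gm n y ↔ Cop f n (U.ι y)) := by
  haveI h1 : LocallyOfFiniteType (gm ≫ (𝔸(m; S) ↘ S)) := by
    rw [hgm1]; infer_instance
  have hfl1 : ((gm ≫ (𝔸(m; S) ↘ S)).stalkMap y).hom.Flat := by
    have hc : ((gm ≫ (𝔸(m; S) ↘ S)).stalkMap y).hom =
        (gm.stalkMap y).hom.comp ((𝔸(m; S) ↘ S).stalkMap (gm y)).hom := by
      rw [Scheme.Hom.stalkMap_comp]
      rfl
    rw [hc]
    exact RingHom.Flat.comp (Flat.stalkMap _ _) hflgm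
  have hfl2 : ((U.ι ≫ f).stalkMap y).hom.Flat := flat_stalkMap_congr hgm1 y hfl1
  refine ⟨(flat_stalkMap_comp_iff_of_isIso_stalkMap U.ι f y).mp hfl2, ?_⟩
  rw [← cop_comp_iff_of_isIso_stalkMap U.ι f n y]
  rw [← cop_comp_iff gm (𝔸(m; S) ↘ S) n y hflgm (isCM_stalk_fiber_affineSpace m S _ _)]
  exact ⟨cop_congr hgm1 n y, cop_congr hgm1.symm n y⟩

set_option maxHeartbeats 3200000 in
set_option synthInstance.maxHeartbeats 200000 in
/-- **general case**: around any point at which `f` is flat and the fibre has codepth at most `n`,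
the same holds on a neighbourhood. -/
theorem exists_open_cop {X S : Scheme.{u}} (f : X ⟶ S)
    [LocallyOfFinitePresentation f] (n : ℕ) (x : X) (hflat : (f.stalkMap x).hom.Flat)
    (hcop : Cop f n x) :
    ∃ U : X.Opens, x ∈ U ∧ ∀ x' ∈ U, (f.stalkMap x').hom.Flat ∧ Cop f n x' := by
  classical
  letI aO : Algebra (S.presheaf.stalk (f x)) (X.presheaf.stalk x) := (f.stalkMap x).hom.toAlgebra
  -- charts
  obtain ⟨_, ⟨V, hV : IsAffineOpen V, rfl⟩, hfxV, -⟩ :=
    S.isBasis_affineOpens.exists_subset_of_mem_open (Set.mem_univ (f x)) isOpen_univ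
  obtain ⟨_, ⟨U₀, hU₀ : IsAffineOpen U₀, rfl⟩, hxU₀, hU₀le⟩ :=
    X.isBasis_affineOpens.exists_subset_of_mem_open
      (show x ∈ ((f ⁻¹ᵁ V : X.Opens) : Set X) from hfxV) (f ⁻¹ᵁ V).isOpen
  have hU₀V : U₀ ≤ f ⁻¹ᵁ V := hU₀le
  -- ring data
  letI aAB : Algebra Γ(S, V) Γ(X, U₀) := (f.appLE V U₀ hU₀V).hom.toAlgebra
  haveI : Algebra.FinitePresentation Γ(S, V) Γ(X, U₀) :=
    (HasRingHomProperty.appLE @LocallyOfFinitePresentation f inferInstance ⟨V, hV⟩ ⟨U₀, hU₀⟩ hU₀V :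
      RingHom.FinitePresentation _)
  haveI : Algebra.FiniteType Γ(S, V) Γ(X, U₀) := Algebra.FiniteType.of_finitePresentation
  let q : Ideal Γ(X, U₀) := (hU₀.primeIdealOf ⟨x, hxU₀⟩).asIdeal
  let p : Ideal Γ(S, V) := (hV.primeIdealOf ⟨f x, hfxV⟩).asIdeal
  letI aBO : Algebra Γ(X, U₀) (X.presheaf.stalk x) := X.presheaf.algebra_section_stalk ⟨x, hxU₀⟩
  haveI locO : IsLocalization.AtPrime (X.presheaf.stalk x) q := hU₀.isLocalization_stalk ⟨x, hxU₀⟩
  letI aAA₀ : Algebra Γ(S, V) (S.presheaf.stalk (f x)) :=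
    S.presheaf.algebra_section_stalk ⟨f x, hfxV⟩
  haveI locA₀ : IsLocalization.AtPrime (S.presheaf.stalk (f x)) p :=
    hV.isLocalization_stalk ⟨f x, hfxV⟩
  letI aAO : Algebra Γ(S, V) (X.presheaf.stalk x) :=
    ((algebraMap Γ(X, U₀) (X.presheaf.stalk x)).comp (algebraMap Γ(S, V) Γ(X, U₀))).toAlgebra
  haveI tw1 : IsScalarTower Γ(S, V) Γ(X, U₀) (X.presheaf.stalk x) :=
    IsScalarTower.of_algebraMap_eq fun a => rfl
  haveI tw2 : IsScalarTower Γ(S, V) (S.presheaf.stalk (f x)) (X.presheaf.stalk x) :=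
    IsScalarTower.of_algebraMap_eq fun a => by
      show X.presheaf.germ U₀ x hxU₀ (f.appLE V U₀ hU₀V a) =
        f.stalkMap x (S.presheaf.germ V (f x) hfxV a)
      rw [Scheme.Hom.germ_stalkMap_apply, Scheme.Hom.appLE]
      exact (TopCat.Presheaf.germ_res_apply X.presheaf (homOfLE hU₀V) x hxU₀ _)
  have hpA : p = q.comap (algebraMap Γ(S, V) Γ(X, U₀)) :=
    congr($(IsAffineOpen.comap_primeIdealOf_appLE V hV U₀ hU₀ hU₀V hxU₀).1).symm
  haveI hlies : q.LiesOver p := ⟨hpA⟩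
  -- transcendence basis
  obtain ⟨e, a, hind, halg⟩ := exists_vec_transcendenceBasis (R := Γ(S, V)) (A := Γ(X, U₀)) q p
  let hs : Fin e → X.presheaf.stalk x := fun i => X.presheaf.germ U₀ x hxU₀ (a i)
  have hgen : ∀ F : MvPolynomial (Fin e) (S.presheaf.stalk (f x)),
      aeval (R := S.presheaf.stalk (f x)) hs F ∈ maximalIdeal (X.presheaf.stalk x) →
      F ∈ (maximalIdeal (S.presheaf.stalk (f x))).map
        (C : S.presheaf.stalk (f x) →+* MvPolynomial (Fin e) (S.presheaf.stalk (f x))) :=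
    fun F hF => mem_map_C_of_algebraicIndependent Γ(S, V) Γ(X, U₀) q p (S.presheaf.stalk (f x))
      (X.presheaf.stalk x) e a hind F hF
  have hstalkflat := stalk_flat_mvPolynomial_generic f x hflat e hs hgen
  obtain ⟨g, hxD, hψfl⟩ := exists_basicOpen_flat f V hV U₀ hU₀ hU₀V x hxU₀ e a hstalkflat
  -- the chart morphisms
  have hD : IsAffineOpen (X.basicOpen g) := hU₀.basicOpen g
  have hDU₀ : X.basicOpen g ≤ U₀ := X.basicOpen_le g
  have hDV : X.basicOpen g ≤ f ⁻¹ᵁ V := hDU₀.trans hU₀V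
  let a' : Fin e → Γ(X, X.basicOpen g) := fun i => X.presheaf.map (homOfLE hDU₀).op (a i)
  let ψ := chartHom f V (X.basicOpen g) hDV e a'
  let ψ₀ := chartHom f V U₀ hU₀V e a
  let gm : (X.basicOpen g : Scheme.{u}) ⟶ 𝔸(ULift.{u} (Fin e); S) :=
    toAff V hV (X.basicOpen g) hD (ULift.{u} (Fin e)) ψ
  let g₀ : (U₀ : Scheme.{u}) ⟶ 𝔸(ULift.{u} (Fin e); S) :=
    toAff V hV U₀ hU₀ (ULift.{u} (Fin e)) ψ₀
  have hres : gm = X.homOfLE hDU₀ ≫ g₀ := by
    show toAff V hV (X.basicOpen g) hD (ULift.{u} (Fin e)) ψ = _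
    rw [show ψ = (X.presheaf.map (homOfLE hDU₀).op).hom.comp ψ₀ from
      chartHom_restrict f V U₀ (X.basicOpen g) hU₀V hDU₀ e a]
    exact toAff_restrict V hV U₀ (X.basicOpen g) hU₀ hD hDU₀ _ ψ₀
  have hgm1 : gm ≫ (𝔸(ULift.{u} (Fin e); S) ↘ S) = (X.basicOpen g).ι ≫ f :=
    toAff_over f V hV (X.basicOpen g) hD hDV _ ψ (chartHom_comp_C f V (X.basicOpen g) hDV e a')
  haveI hgmfl : Flat gm := toAff_flat V hV (X.basicOpen g) hD _ ψ hψfl
  haveI h1 : LocallyOfFinitePresentation (gm ≫ (𝔸(ULift.{u} (Fin e); S) ↘ S)) := by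
    rw [hgm1]; infer_instance
  haveI : LocallyOfFinitePresentation gm :=
    lfp_of_comp gm (𝔸(ULift.{u} (Fin e); S) ↘ S)
  set xD : (X.basicOpen g : Scheme.{u}) := ⟨x, hxD⟩ with hxDdef
  set xU₀ : (U₀ : Scheme.{u}) := ⟨x, hxU₀⟩ with hxU₀def
  -- closedness in the fibre of `g₀`
  have hcl₀ : ∀ x' : (U₀ : Scheme.{u}), g₀ x' = g₀ xU₀ → xU₀ ⤳ x' → x' = xU₀ := by
    intro x' h1 h2
    have h3 := toAff_eq_imp V hV U₀ hU₀ (ULift.{u} (Fin e)) ψ₀ x' xU₀ h1
    have hle : q ≤ (hU₀.isoSpec.hom x').asIdeal := by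
      have h4 : hU₀.isoSpec.hom xU₀ ⤳ hU₀.isoSpec.hom x' := h2.map hU₀.isoSpec.hom.continuous
      exact (PrimeSpectrum.le_iff_specializes _ _).mpr h4
    haveI : (hU₀.isoSpec.hom x').asIdeal.IsPrime := (hU₀.isoSpec.hom x').isPrime
    have halg' : Algebra.IsAlgebraic
        (Algebra.adjoin (Γ(S, V) ⧸ p) (Set.range fun i : ULift.{u} (Fin e) =>
          Ideal.Quotient.mk q (a i.down))) (Γ(X, U₀) ⧸ q) := by
      have hr : (Set.range fun i : ULift.{u} (Fin e) => Ideal.Quotient.mk q (a i.down)) =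
          Set.range fun i : Fin e => Ideal.Quotient.mk q (a i) := by
        ext y
        constructor
        · rintro ⟨i, rfl⟩; exact ⟨i.down, rfl⟩
        · rintro ⟨i, rfl⟩; exact ⟨ULift.up i, rfl⟩
      rw [hr]; exact halg
    have h5 := Groth.Agent.Lib.Helper18.Chev.eq_of_le_of_forall_aeval
      (fun i : ULift.{u} (Fin e) => a i.down) q p halg' (hU₀.isoSpec.hom x').asIdeal hle
      (by
        intro G hG
        have h6 : G ∈ ((hU₀.isoSpec.hom x').comap ψ₀).asIdeal := hG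
        rw [h3] at h6
        exact h6)
    have h7 : hU₀.isoSpec.hom x' = hU₀.isoSpec.hom xU₀ := PrimeSpectrum.ext h5
    exact (Scheme.homeoOfIso hU₀.isoSpec).injective h7
  -- closedness in the fibre of `gm`
  have hclD : ∀ x' : (X.basicOpen g : Scheme.{u}), gm x' = gm xD → xD ⤳ x' → x' = xD := by
    intro x' h1 h2
    rw [hres] at h1
    simp only [Scheme.Hom.comp_apply] at h1
    have h3 : X.homOfLE hDU₀ xD = xU₀ := by
      apply (Scheme.Opens.ι (X := X) U₀).isOpenEmbedding.injective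
      have := congrArg (fun φ : (X.basicOpen g : Scheme.{u}) ⟶ X => φ xD) (X.homOfLE_ι hDU₀)
      simp only [Scheme.Hom.comp_apply] at this
      exact this
    rw [h3] at h1
    have h4 : xU₀ ⤳ X.homOfLE hDU₀ x' := by
      have := h2.map (X.homOfLE hDU₀).continuous
      rwa [h3] at this
    have h5 := hcl₀ _ h1 h4
    exact (X.homOfLE hDU₀).isOpenEmbedding.injective (h5.trans h3.symm)
  -- codepth of the fibre of `gm`
  have hflgm : (gm.stalkMap xD).hom.Flat := Flat.stalkMap gm xD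
  have htr := cop_of_toAffineSpace f n (X.basicOpen g) (ULift.{u} (Fin e)) gm hgm1 xD hflgm
  have hcopgm : Cop gm n xD := htr.2.mpr hcop
  obtain ⟨U', hxU', hU'⟩ := exists_open_cop_of_closed gm n xD hflgm hcopgm hclD
  refine ⟨(X.basicOpen g).ι ''ᵁ U', ⟨xD, hxU', rfl⟩, ?_⟩
  rintro _ ⟨y, hy, rfl⟩
  obtain ⟨hy1, hy2⟩ := hU' y hy
  have htr' := cop_of_toAffineSpace f n (X.basicOpen g) (ULift.{u} (Fin e)) gm hgm1 y hy1
  exact ⟨htr'.1, htr'.2.mp hy2⟩

/-- **the flat locus with fibres of codepth at most `n` is open**. -/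
theorem isOpen_flat_cop {X S : Scheme.{u}} (f : X ⟶ S) [LocallyOfFinitePresentation f] (n : ℕ) :
    IsOpen {x : X | (f.stalkMap x).hom.Flat ∧ Cop f n x} := by
  rw [isOpen_iff_forall_mem_open]
  rintro x ⟨hx1, hx2⟩
  obtain ⟨U, hxU, hU⟩ := exists_open_cop f n x hx1 hx2
  exact ⟨U, fun y hy => hU y hy, U.2, hxU⟩

end Groth.Agent.Lib.Helper21.Coprof
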