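import Mathlib
import Groth.Agent.Lib.Helper21.Coprof7
import Groth.Agent.Lib.Helper21.ConsLoc3
import Groth.Agent.Lib.Helper21.CMCons2
import Groth.Agent.Lib.Helper21.FibreBC2

/-!
# Helper21 — Coprof8: the codepth of the fibres is locally constructible
-/

set_option autoImplicit false

namespace Groth.Agent.Lib.Helper21.Coprof

open AlgebraicGeometry CategoryTheory Limits IsLocalRing TensorProduct Topology
open Groth.Agent.Lib.Helper21.FibreStalk Groth.Agent.Lib.Helper21.FibreBCAlg
open Groth.Agent.Lib.Helper21.FibreBC Groth.Agent.Lib.Helper21.ConsLoc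

universe u

/-- **codepth of a local ring and field extension of the base.** -/
theorem coprof_loc_tensor_iff (k F k' : Type u) [Field k] [CommRing F] [IsLocalRing F]
    [IsNoetherianRing F] [Algebra k F] [Field k'] [Algebra k k']
    (hft : Algebra.EssFiniteType k F ∨ Algebra.EssFiniteType k k')
    (Q : Ideal (F ⊗[k] k')) [Q.IsPrime]
    (hQ : Q.comap (Algebra.TensorProduct.includeLeftRingHom : F →+* F ⊗[k] k') =
      maximalIdeal F) (n : ℕ) :
    CoprofLE (Localization.AtPrime Q) n ↔ CoprofLE F n := by
  haveI : IsNoetherianRing (F ⊗[k] k') := by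
    rcases hft with h | h
    · haveI := h
      haveI : Algebra.EssFiniteType k' (k' ⊗[k] F) := inferInstance
      haveI : IsNoetherianRing (k' ⊗[k] F) := Algebra.EssFiniteType.isNoetherianRing k' _
      exact isNoetherianRing_of_ringEquiv _ (Algebra.TensorProduct.comm k k' F).toRingEquiv
    · haveI := h
      haveI : Algebra.EssFiniteType F (F ⊗[k] k') := inferInstance
      exact Algebra.EssFiniteType.isNoetherianRing F _
  have hQ' : Q.comap (algebraMap F (F ⊗[k] k')) = maximalIdeal F := hQ
  have hcd := codepth_eq' k F k' hft Q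
  set p := Q.comap (algebraMap F (F ⊗[k] k')) with hp
  have hunits : ∀ x ∈ p.primeCompl, IsUnit x := by
    intro x hx
    have : x ∉ maximalIdeal F := by rw [← hQ']; exact hx
    exact IsLocalRing.notMem_maximalIdeal.1 this
  let e : F ≃ₐ[F] Localization.AtPrime p := IsLocalization.atUnits F p.primeCompl hunits
  rw [coprofLE_iff_of_codepth_eq hcd n]
  exact (coprofLE_iff_of_ringEquiv e.toRingEquiv n).symm

variable {X Y X' Y' : Scheme.{u}} {f : X ⟶ Y} {f' : X' ⟶ Y'} {g' : X' ⟶ X} {g : Y' ⟶ Y}

attribute [local instance] resAlg fibOver Curv2.stalkAlgebra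

/-- **the codepth of the fibre at a point is invariant under base change**. -/
theorem cop_bc_iff [LocallyOfFiniteType f] (hc : IsPullback g' f' f g) (n : ℕ) (x' : X') :
    Cop f' n x' ↔ Cop f n (g' x') := by
  haveI hft : LocallyOfFiniteType (f.fiberToSpecResidueField (g (f' x'))) :=
    MorphismProperty.pullback_snd _ _ inferInstance
  haveI : IsLocallyNoetherian (f.fiber (g (f' x'))) :=
    LocallyOfFiniteType.isLocallyNoetherian (f.fiberToSpecResidueField _)
  haveI : LocallyOfFiniteType ((f.fiber (g (f' x'))) ↘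
      Spec (CommRingCat.of (Y.residueField (g (f' x'))))) := hft
  obtain ⟨x₁, h1, Q, hQ, hQm, ⟨e⟩⟩ := exists_fibre_stalk_bc hc x'
  obtain ⟨e2⟩ := nonempty_stalk_equiv_asFiber f (g' x') (g (f' x')) x₁ h1
  have hE : Algebra.EssFiniteType (Y.residueField (g (f' x')))
      ((f.fiber (g (f' x'))).presheaf.stalk x₁) :=
    essFiniteType_curvStalkMap (Y.residueField (g (f' x'))) (f.fiber (g (f' x'))) x₁
  have h := coprof_loc_tensor_iff (Y.residueField (g (f' x')))
    ((f.fiber (g (f' x'))).presheaf.stalk x₁) (Y'.residueField (f' x')) (Or.inl hE) Q hQm n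
  unfold Cop
  rw [coprofLE_iff_of_ringEquiv e n, h, coprofLE_iff_of_ringEquiv e2 n]

theorem fibPred_Cop (n : ℕ) :
    FibPred.{u} (fun {X S : Scheme.{u}} (f : X ⟶ S) (x : X) => Cop f n x) where
  bc := fun hc x' => cop_bc_iff hc n x'
  src := fun j _ f x' => cop_comp_iff_of_isIso_stalkMap j f n x'
  isOpen := fun f _ _ => by
    have h := isOpen_flat_cop f n
    have e : {x | Cop f n x} = {x | (f.stalkMap x).hom.Flat ∧ Cop f n x} := by
      ext x
      exact ⟨fun h => ⟨Flat.stalkMap f x, h⟩, fun h => h.2⟩
    rw [e]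
    exact h

/-- **the locus where the fibre has codepth at most `n` is locally constructible.** -/
theorem isLocallyConstructible_cop {X S : Scheme.{u}} (f : X ⟶ S)
    [LocallyOfFinitePresentation f] (n : ℕ) :
    IsLocallyConstructible {x : X | Cop f n x} :=
  ConsLoc.isLocallyConstructible (fibPred_Cop n) f

end Groth.Agent.Lib.Helper21.Coprof
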