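import Groth.Prelude.Def_CycDet
import Mathlib
import Groth.Agent.Lib.Helper29.CycDet1

/-!
# Relative admissibility and removal of an entry (towards `CycDet.symbol ≠ 0`)
-/

set_option autoImplicit false
set_option linter.unusedSectionVars false
universe u v

namespace Groth.Agent.Lib.Helper21.CycNZ

open CycDet IsLocalRing Groth.Agent.Lib.Helper29.CycDetLib

variable {R : Type u} [CommRing R] [IsLocalRing R] {M : Type v} [AddCommGroup M] [Module R M]

/-- Admissibility relative to a submodule `G`. -/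
def RelAdm (G : Submodule R M) {n : ℕ} (e : Fin n → M) : Prop :=
  ∀ i : Fin n, ∀ r ∈ maximalIdeal R, r • e i ∈ G ⊔ spanBefore R M e i

lemma succAbove_val {n : ℕ} (p : Fin (n + 1)) (j : Fin n) :
    ((p.succAbove j : Fin (n + 1)) : ℕ) = if (j : ℕ) < (p : ℕ) then (j : ℕ) else (j : ℕ) + 1 := by
  split_ifs with h
  · rw [Fin.succAbove_of_castSucc_lt _ _ (by simpa [Fin.lt_def] using h)]; rfl
  · rw [Fin.succAbove_of_le_castSucc _ _ (by simpa [Fin.le_def] using Nat.le_of_not_gt h)]; rfl

/-- Below the removed position the spans agree. -/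
lemma spanBefore_succAbove_of_le {n : ℕ} (e : Fin (n + 1) → M) (p : Fin (n + 1)) (i : ℕ)
    (hi : i ≤ (p : ℕ)) :
    spanBefore R M (e ∘ p.succAbove) i = spanBefore R M e i := by
  unfold spanBefore
  congr 1
  ext x
  constructor
  · rintro ⟨j, hj, rfl⟩
    refine ⟨p.succAbove j, ?_, rfl⟩
    change ((p.succAbove j : Fin (n + 1)) : ℕ) < i
    rw [succAbove_val, if_pos (lt_of_lt_of_le hj hi)]
    exact hj
  · rintro ⟨k, hk, rfl⟩
    have hk' : (k : ℕ) < i := hk
    have hkn : (k : ℕ) < n := by have := p.2; omega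
    refine ⟨⟨k, hkn⟩, hk', ?_⟩
    change e (p.succAbove ⟨k, hkn⟩) = e k
    congr 1
    apply Fin.ext
    rw [succAbove_val, if_pos (by simpa using lt_of_lt_of_le hk' hi)]

/-- Above the removed position. -/
lemma spanBefore_succ_eq_succAbove {n : ℕ} (e : Fin (n + 1) → M) (p : Fin (n + 1)) (i : ℕ)
    (hi : (p : ℕ) ≤ i) :
    spanBefore R M e (i + 1) =
      spanBefore R M (e ∘ p.succAbove) i ⊔ Submodule.span R {e p} := by
  apply le_antisymm
  · unfold spanBefore
    rw [Submodule.span_le]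
    rintro _ ⟨k, hk, rfl⟩
    have hk' : (k : ℕ) < i + 1 := hk
    by_cases hkp : k = p
    · rw [hkp]
      exact Submodule.mem_sup_right (Submodule.subset_span rfl)
    · obtain ⟨j, rfl⟩ := Fin.exists_succAbove_eq hkp
      refine Submodule.mem_sup_left (Submodule.subset_span ⟨j, ?_, rfl⟩)
      change (j : ℕ) < i
      rw [succAbove_val] at hk'
      split_ifs at hk' with h
      · omega
      · omega
  · apply sup_le
    · unfold spanBefore
      rw [Submodule.span_le]
      rintro _ ⟨j, hj, rfl⟩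
      have hj' : (j : ℕ) < i := hj
      refine Submodule.subset_span ⟨p.succAbove j, ?_, rfl⟩
      change ((p.succAbove j : Fin (n + 1)) : ℕ) < i + 1
      rw [succAbove_val]
      split_ifs <;> omega
    · rw [Submodule.span_le]
      rintro _ rfl
      exact mem_spanBefore e p (by omega)

/-- Comparison of relative spans after removing the entry `p`, when `e p` is already in the
enlarged submodule modulo earlier entries. -/
lemma sup_spanBefore_le_succAbove {n : ℕ} (e : Fin (n + 1) → M) (p : Fin (n + 1))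
    {G G' : Submodule R M} (hG : G ≤ G') (hp : e p ∈ G' ⊔ spanBefore R M e p) (i : ℕ) :
    (i ≤ (p : ℕ) → G ⊔ spanBefore R M e i ≤ G' ⊔ spanBefore R M (e ∘ p.succAbove) i) ∧
    ((p : ℕ) ≤ i → G ⊔ spanBefore R M e (i + 1) ≤ G' ⊔ spanBefore R M (e ∘ p.succAbove) i) := by
  constructor
  · intro hi
    rw [spanBefore_succAbove_of_le e p i hi]
    exact sup_le_sup_right hG _
  · intro hi
    rw [spanBefore_succ_eq_succAbove e p i hi]
    apply sup_le (le_trans hG le_sup_left)
    apply sup_le le_sup_right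
    rw [Submodule.span_le]
    rintro _ rfl
    have h1 : G' ⊔ spanBefore R M e p ≤ G' ⊔ spanBefore R M (e ∘ p.succAbove) i := by
      rw [← spanBefore_succAbove_of_le e p p le_rfl]
      exact sup_le_sup_left (spanBefore_mono _ hi) _
    exact h1 hp

lemma sup_spanBefore_succAbove_le {n : ℕ} (e : Fin (n + 1) → M) (p : Fin (n + 1))
    {G G' : Submodule R M} (hG : G ≤ G') (hp : e p ∈ G' ⊔ spanBefore R M e p) (j : Fin n) :
    G ⊔ spanBefore R M e (p.succAbove j : Fin (n + 1)) ≤
      G' ⊔ spanBefore R M (e ∘ p.succAbove) j := by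
  rw [succAbove_val]
  split_ifs with h
  · exact (sup_spanBefore_le_succAbove e p hG hp j).1 h.le
  · exact (sup_spanBefore_le_succAbove e p hG hp j).2 (by omega)

lemma relAdm_succAbove {n : ℕ} (e : Fin (n + 1) → M) (p : Fin (n + 1))
    {G G' : Submodule R M} (hG : G ≤ G') (hadm : RelAdm G e)
    (hp : e p ∈ G' ⊔ spanBefore R M e p) : RelAdm G' (e ∘ p.succAbove) := by
  intro j r hr
  exact sup_spanBefore_succAbove_le e p hG hp j (hadm (p.succAbove j) r hr)

lemma sup_span_range_le_succAbove {n : ℕ} (e : Fin (n + 1) → M) (p : Fin (n + 1))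
    {G G' : Submodule R M} (hG : G ≤ G') (hp : e p ∈ G' ⊔ spanBefore R M e p) :
    G ⊔ Submodule.span R (Set.range e) ≤
      G' ⊔ Submodule.span R (Set.range (e ∘ p.succAbove)) := by
  have h := (sup_spanBefore_le_succAbove e p hG hp n).2 (Nat.lt_succ_iff.mp p.2)
  rwa [spanBefore_ge e le_rfl, spanBefore_ge (e ∘ p.succAbove) le_rfl] at h

/-- Existence of the unit coefficient. -/
lemma exists_coef {n : ℕ} {G : Submodule R M} (e : Fin n → M) (hadm : RelAdm G e) (p : Fin n)
    (t : M) (h1 : t ∈ G ⊔ spanBefore R M e ((p : ℕ) + 1)) (h2 : t ∉ G ⊔ spanBefore R M e p) :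
    ∃ a : Rˣ, t - (a : R) • e p ∈ G ⊔ spanBefore R M e p := by
  rw [spanBefore_succ, ← sup_assoc, Submodule.mem_sup] at h1
  obtain ⟨y, hy, z, hz, hsum⟩ := h1
  rw [Submodule.mem_span_singleton] at hz
  obtain ⟨μ, rfl⟩ := hz
  have hμ : IsUnit μ := by
    by_contra hnu
    have hmem : μ ∈ maximalIdeal R := (IsLocalRing.mem_maximalIdeal μ).mpr hnu
    apply h2
    rw [← hsum]
    exact Submodule.add_mem _ hy (hadm p μ hmem)
  obtain ⟨a, rfl⟩ := hμ
  refine ⟨a, ?_⟩
  rw [← hsum, add_sub_cancel_right]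
  exact hy

/-- The removed entry lies in the enlarged submodule modulo earlier entries. -/
lemma entry_mem_of_coef {n : ℕ} {G : Submodule R M} (e : Fin n → M) (p : Fin n) (t : M) (a : Rˣ)
    (ha : t - (a : R) • e p ∈ G ⊔ spanBefore R M e p) :
    e p ∈ (G ⊔ Submodule.span R {t}) ⊔ spanBefore R M e p := by
  have h1 : e p = ((a⁻¹ : Rˣ) : R) • t - ((a⁻¹ : Rˣ) : R) • (t - (a : R) • e p) := by
    rw [smul_sub, smul_smul, Units.inv_mul, one_smul]
    abel
  rw [h1]
  apply Submodule.sub_mem
  · exact Submodule.smul_mem _ _ (Submodule.mem_sup_left (Submodule.mem_sup_right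
      (Submodule.subset_span rfl)))
  · apply Submodule.smul_mem
    exact (sup_le_sup_right (le_sup_left : G ≤ G ⊔ Submodule.span R {t}) _) ha

/-- First position at which `t` enters the relative flag. -/
lemma exists_first {n : ℕ} {G : Submodule R M} (e : Fin n → M) (t : M) (ht : t ∉ G)
    (h : t ∈ G ⊔ Submodule.span R (Set.range e)) :
    ∃ p : Fin n, t ∈ G ⊔ spanBefore R M e ((p : ℕ) + 1) ∧ t ∉ G ⊔ spanBefore R M e p := by
  classical
  have hex : ∃ q : ℕ, t ∈ G ⊔ spanBefore R M e q := ⟨n, by rwa [spanBefore_ge e le_rfl]⟩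
  have hq0 : Nat.find hex ≠ 0 := by
    intro h0
    have := Nat.find_spec hex
    rw [h0, spanBefore_zero, sup_bot_eq] at this
    exact ht this
  obtain ⟨q, hq⟩ := Nat.exists_eq_succ_of_ne_zero hq0
  have hqn : Nat.find hex ≤ n := Nat.find_min' hex (by rwa [spanBefore_ge e le_rfl])
  refine ⟨⟨q, by omega⟩, ?_, ?_⟩
  · have := Nat.find_spec hex
    rwa [hq] at this
  · exact Nat.find_min hex (by omega : q < Nat.find hex)

lemma sup_spanBefore_le_of {n : ℕ} {G : Submodule R M} (e e' : Fin n → M) (q : ℕ)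
    (h : ∀ j : Fin n, (j : ℕ) < q → e j ∈ G ⊔ spanBefore R M e' q) :
    G ⊔ spanBefore R M e q ≤ G ⊔ spanBefore R M e' q := by
  apply sup_le le_sup_left
  unfold spanBefore
  rw [Submodule.span_le]
  rintro _ ⟨j, hj, rfl⟩
  exact h j hj

end Groth.Agent.Lib.Helper21.CycNZ
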