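import Groth.Prelude.Def_CycDet
import Mathlib
import Groth.Agent.Lib.Helper21.CycNZA

/-!
# The recursive functional `phi` relative to a reference sequence
-/

set_option autoImplicit false
set_option linter.unusedSectionVars false
universe u v

namespace Groth.Agent.Lib.Helper21.CycNZ

open CycDet IsLocalRing Groth.Agent.Lib.Helper29.CycDetLib

variable {R : Type u} [CommRing R] [IsLocalRing R] {M : Type v} [AddCommGroup M] [Module R M]

/-- The flag attached to a reference sequence. -/
def G (s : ℕ → M) (k : ℕ) : Submodule R M := Submodule.span R (s '' Set.Iio k)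

lemma G_succ (s : ℕ → M) (k : ℕ) :
    G (R := R) s (k + 1) = G (R := R) s k ⊔ Submodule.span R {s k} := by
  unfold G
  rw [← Submodule.span_union]
  congr 1
  ext x
  simp only [Set.mem_image, Set.mem_Iio, Set.union_singleton, Set.mem_insert_iff]
  constructor
  · rintro ⟨j, hj, rfl⟩
    rcases Nat.lt_succ_iff_lt_or_eq.mp hj with h | h
    · exact Or.inr ⟨j, h, rfl⟩
    · exact Or.inl (by rw [h])
  · rintro (rfl | ⟨j, hj, rfl⟩)
    · exact ⟨k, Nat.lt_succ_self k, rfl⟩
    · exact ⟨j, Nat.lt_succ_of_lt hj, rfl⟩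

lemma G_le_succ (s : ℕ → M) (k : ℕ) : G (R := R) s k ≤ G (R := R) s (k + 1) := by
  rw [G_succ]; exact le_sup_left

lemma mem_G_succ (s : ℕ → M) (k : ℕ) : s k ∈ G (R := R) s (k + 1) := by
  rw [G_succ]; exact Submodule.mem_sup_right (Submodule.subset_span rfl)

open Classical in
/-- The coefficient of `t` along `e p` modulo `G ⊔ spanBefore e p` (as a residue class). -/
noncomputable def coef (G : Submodule R M) {n : ℕ} (e : Fin n → M) (p : Fin n) (t : M) :
    ResidueField R :=
  if h' : ∃ a : R, t - a • e p ∈ G ⊔ spanBefore R M e p then residue R (Classical.choose h') else 0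

lemma coef_eq (G : Submodule R M) {n : ℕ} (e : Fin n → M) (p : Fin n) (t : M) (a : R)
    (hp1 : t ∈ G ⊔ spanBefore R M e ((p : ℕ) + 1)) (hp2 : t ∉ G ⊔ spanBefore R M e p)
    (ha : t - a • e p ∈ G ⊔ spanBefore R M e p) : coef G e p t = residue R a := by
  have h' : ∃ a : R, t - a • e p ∈ G ⊔ spanBefore R M e p := ⟨a, ha⟩
  rw [coef, dif_pos h']
  have hspec := Classical.choose_spec h'
  have hdiff : (a - Classical.choose h') • e p ∈ G ⊔ spanBefore R M e p := by
    have := Submodule.sub_mem _ hspec ha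
    have h3 : (a - Classical.choose h') • e p =
        (t - Classical.choose h' • e p) - (t - a • e p) := by
      rw [sub_smul]; abel
    rw [h3]; exact this
  have hmem : a - Classical.choose h' ∈ maximalIdeal R := by
    rw [IsLocalRing.mem_maximalIdeal]
    intro hu
    obtain ⟨w, hw⟩ := hu
    apply hp2
    have hep : e p ∈ G ⊔ spanBefore R M e p := by
      have h4 := Submodule.smul_mem _ ((w⁻¹ : Rˣ) : R) hdiff
      rwa [← hw, smul_smul, Units.inv_mul, one_smul] at h4
    have h5 : G ⊔ spanBefore R M e ((p : ℕ) + 1) ≤ G ⊔ spanBefore R M e p := by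
      rw [spanBefore_succ]
      apply sup_le le_sup_left
      apply sup_le le_sup_right
      rw [Submodule.span_le]
      rintro _ rfl
      exact hep
    exact h5 hp1
  have h6 : residue R (a - Classical.choose h') = 0 := (residue_eq_zero_iff _).2 hmem
  rw [map_sub, sub_eq_zero] at h6
  exact h6.symm

open Classical in
/-- The recursive functional. -/
noncomputable def phi (s : ℕ → M) : (n : ℕ) → ℕ → (Fin n → M) → ResidueField R
  | 0, _, _ => 1
  | (n + 1), k, e =>
    if h : ∃ p : Fin (n + 1), s k ∈ G (R := R) s k ⊔ spanBefore R M e ((p : ℕ) + 1) ∧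
        s k ∉ G (R := R) s k ⊔ spanBefore R M e p then
      (-1) ^ ((Classical.choose h : Fin (n + 1)) : ℕ) *
        (coef (G (R := R) s k) e (Classical.choose h) (s k))⁻¹ *
        phi s n (k + 1) (e ∘ (Classical.choose h).succAbove)
    else 0

lemma phi_zero (s : ℕ → M) (k : ℕ) (e : Fin 0 → M) : phi (R := R) s 0 k e = 1 := by
  rw [phi]

lemma phi_succ_none (s : ℕ → M) {n : ℕ} (k : ℕ) (e : Fin (n + 1) → M)
    (h : s k ∉ G (R := R) s k ⊔ Submodule.span R (Set.range e)) :
    phi (R := R) s (n + 1) k e = 0 := by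
  rw [phi, dif_neg]
  rintro ⟨p, hp, -⟩
  apply h
  have h1 : G (R := R) s k ⊔ spanBefore R M e ((p : ℕ) + 1) ≤
      G (R := R) s k ⊔ Submodule.span R (Set.range e) := by
    apply sup_le_sup_left
    unfold spanBefore
    exact Submodule.span_mono (Set.image_subset_range _ _)
  exact h1 hp

lemma phi_succ_of (s : ℕ → M) {n : ℕ} (k : ℕ) (e : Fin (n + 1) → M) (p : Fin (n + 1)) (a : R)
    (hp1 : s k ∈ G (R := R) s k ⊔ spanBefore R M e ((p : ℕ) + 1))
    (hp2 : s k ∉ G (R := R) s k ⊔ spanBefore R M e p)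
    (ha : s k - a • e p ∈ G (R := R) s k ⊔ spanBefore R M e p) :
    phi (R := R) s (n + 1) k e =
      (-1) ^ (p : ℕ) * (residue R a)⁻¹ * phi s n (k + 1) (e ∘ p.succAbove) := by
  classical
  have h : ∃ p : Fin (n + 1), s k ∈ G (R := R) s k ⊔ spanBefore R M e ((p : ℕ) + 1) ∧
      s k ∉ G (R := R) s k ⊔ spanBefore R M e p := ⟨p, hp1, hp2⟩
  have hch : Classical.choose h = p := by
    obtain ⟨hq1, hq2⟩ := Classical.choose_spec h
    have hmono : ∀ i j : ℕ, i ≤ j → G (R := R) s k ⊔ spanBefore R M e i ≤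
        G (R := R) s k ⊔ spanBefore R M e j :=
      fun i j hij => sup_le_sup_left (spanBefore_mono _ hij) _
    apply Fin.ext
    rcases lt_trichotomy ((Classical.choose h : Fin (n + 1)) : ℕ) (p : ℕ) with h1 | h1 | h1
    · exact absurd (hmono _ _ h1 hq1) hp2
    · exact h1
    · exact absurd (hmono _ _ h1 hp1) hq2
  rw [phi, dif_pos h, hch, coef_eq _ e p (s k) a hp1 hp2 ha]

end Groth.Agent.Lib.Helper21.CycNZ
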