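import Groth.Prelude.Def_CycDet
import Mathlib
import Groth.Agent.Lib.Helper21.CycNZB

/-!
# `phi` kills relations of type (a) and (b)
-/

set_option autoImplicit false
set_option linter.unusedSectionVars false
universe u v

namespace Groth.Agent.Lib.Helper21.CycNZ

open CycDet IsLocalRing Groth.Agent.Lib.Helper29.CycDetLib

variable {R : Type u} [CommRing R] [IsLocalRing R] {M : Type v} [AddCommGroup M] [Module R M]

/-- The reference sequence is admissible and strict up to `l`. -/
structure Good (s : ℕ → M) (l : ℕ) : Prop where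
  adm : ∀ j < l, ∀ r ∈ maximalIdeal R, r • s j ∈ G (R := R) s j
  strict : ∀ j < l, s j ∉ G (R := R) s j

/-- Packaged data of the first position. -/
lemma exists_data (s : ℕ → M) {l n k : ℕ} (hs : Good (R := R) s l) (hnk : n + 1 + k ≤ l)
    (e : Fin (n + 1) → M) (hadm : RelAdm (G (R := R) s k) e)
    (h : s k ∈ G (R := R) s k ⊔ Submodule.span R (Set.range e)) :
    ∃ (p : Fin (n + 1)) (a : Rˣ),
      s k ∈ G (R := R) s k ⊔ spanBefore R M e ((p : ℕ) + 1) ∧
      s k ∉ G (R := R) s k ⊔ spanBefore R M e p ∧
      s k - (a : R) • e p ∈ G (R := R) s k ⊔ spanBefore R M e p ∧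
      e p ∈ G (R := R) s (k + 1) ⊔ spanBefore R M e p ∧
      RelAdm (G (R := R) s (k + 1)) (e ∘ p.succAbove) := by
  obtain ⟨p, hp1, hp2⟩ := exists_first e (s k) (hs.strict k (by omega)) h
  obtain ⟨a, ha⟩ := exists_coef e hadm p (s k) hp1 hp2
  have hep : e p ∈ G (R := R) s (k + 1) ⊔ spanBefore R M e p := by
    rw [G_succ]
    exact entry_mem_of_coef e p (s k) a ha
  exact ⟨p, a, hp1, hp2, ha, hep, relAdm_succAbove e p (G_le_succ s k) hadm hep⟩

/-- Relation (a). -/
theorem phi_eq_zero_of_mem (s : ℕ → M) {l : ℕ} (hs : Good (R := R) s l) :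
    ∀ (n k : ℕ), n + k ≤ l → ∀ (e : Fin n → M), RelAdm (G (R := R) s k) e →
      ∀ i : Fin n, e i ∈ G (R := R) s k ⊔ spanBefore R M e i → phi (R := R) s n k e = 0 := by
  intro n
  induction n with
  | zero => intro k _ e _ i; exact i.elim0
  | succ n ih =>
    intro k hnk e hadm i hi
    by_cases h : s k ∈ G (R := R) s k ⊔ Submodule.span R (Set.range e)
    · obtain ⟨p, a, hp1, hp2, ha, hep, hred⟩ := exists_data s hs hnk e hadm h
      rw [phi_succ_of s k e p (a : R) hp1 hp2 ha]
      have hip : i ≠ p := by
        rintro rfl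
        apply hp2
        have h5 : G (R := R) s k ⊔ spanBefore R M e ((i : ℕ) + 1) ≤
            G (R := R) s k ⊔ spanBefore R M e i := by
          rw [spanBefore_succ]
          apply sup_le le_sup_left
          apply sup_le le_sup_right
          rw [Submodule.span_le]
          rintro _ rfl
          exact hi
        exact h5 hp1
      obtain ⟨j, rfl⟩ := Fin.exists_succAbove_eq hip
      rw [ih (k + 1) (by omega) (e ∘ p.succAbove) hred j
        (sup_spanBefore_succAbove_le e p (G_le_succ s k) hep j hi), mul_zero]
    · exact phi_succ_none s k e h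

/-- Tuples related by (b) have the same relative flags. -/
lemma sup_spanBefore_eq_of_b {n : ℕ} {G₀ : Submodule R M} (e e' : Fin n → M) (i : Fin n)
    (c : Rˣ) (hagree : ∀ j, j ≠ i → e j = e' j)
    (hi : e i - (c : R) • e' i ∈ G₀ ⊔ spanBefore R M e i) (q : ℕ) :
    G₀ ⊔ spanBefore R M e q = G₀ ⊔ spanBefore R M e' q := by
  have hlow : ∀ q' : ℕ, q' ≤ (i : ℕ) → spanBefore R M e q' = spanBefore R M e' q' := by
    intro q' hq'
    apply spanBefore_congr
    intro j hj
    apply hagree
    intro hji
    rw [hji] at hj
    omega
  by_cases hq : q ≤ (i : ℕ)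
  · rw [hlow q hq]
  · have hq' : (i : ℕ) < q := by omega
    apply le_antisymm
    · apply sup_spanBefore_le_of
      intro j hj
      by_cases hji : j = i
      · rw [hji]
        have h1 : e i = (e i - (c : R) • e' i) + (c : R) • e' i := by abel
        rw [h1]
        apply Submodule.add_mem
        · have h2 : G₀ ⊔ spanBefore R M e i ≤ G₀ ⊔ spanBefore R M e' q := by
            rw [hlow i le_rfl]
            exact sup_le_sup_left (spanBefore_mono _ hq'.le) _
          exact h2 hi
        · exact Submodule.smul_mem _ _ (Submodule.mem_sup_right (mem_spanBefore e' i hq'))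
      · rw [hagree j hji]
        exact Submodule.mem_sup_right (mem_spanBefore e' j hj)
    · apply sup_spanBefore_le_of
      intro j hj
      by_cases hji : j = i
      · rw [hji]
        have h1 : e' i = ((c⁻¹ : Rˣ) : R) • e i - ((c⁻¹ : Rˣ) : R) • (e i - (c : R) • e' i) := by
          rw [smul_sub, smul_smul, Units.inv_mul, one_smul]
          abel
        rw [h1]
        apply Submodule.sub_mem
        · exact Submodule.smul_mem _ _ (Submodule.mem_sup_right (mem_spanBefore e i hq'))
        · apply Submodule.smul_mem
          have h2 : G₀ ⊔ spanBefore R M e i ≤ G₀ ⊔ spanBefore R M e q :=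
            sup_le_sup_left (spanBefore_mono _ hq'.le) _
          exact h2 hi
      · rw [← hagree j hji]
        exact Submodule.mem_sup_right (mem_spanBefore e j hj)

/-- Relation (b). -/
theorem phi_smul (s : ℕ → M) {l : ℕ} (hs : Good (R := R) s l) :
    ∀ (n k : ℕ), n + k ≤ l → ∀ (e e' : Fin n → M), RelAdm (G (R := R) s k) e →
      RelAdm (G (R := R) s k) e' → ∀ (i : Fin n) (c : Rˣ), (∀ j, j ≠ i → e j = e' j) →
      e i - (c : R) • e' i ∈ G (R := R) s k ⊔ spanBefore R M e i →
      phi (R := R) s n k e = residue R (c : R) * phi (R := R) s n k e' := by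
  intro n
  induction n with
  | zero => intro k _ e e' _ _ i; exact i.elim0
  | succ n ih =>
    intro k hnk e e' hadm hadm' i c hagree hi
    have hX := sup_spanBefore_eq_of_b e e' i c hagree hi
    by_cases h : s k ∈ G (R := R) s k ⊔ Submodule.span R (Set.range e)
    · obtain ⟨p, a, hp1, hp2, ha, hep, hred⟩ := exists_data s hs hnk e hadm h
      by_cases hip : i = p
      · -- the modified entry is the removed one
        subst hip
        have hredeq : e' ∘ i.succAbove = e ∘ i.succAbove := by
          funext j
          exact (hagree _ (Fin.succAbove_ne i j)).symm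
        have ha' : s k - ((a * c : Rˣ) : R) • e' i ∈ G (R := R) s k ⊔ spanBefore R M e' i := by
          rw [← hX]
          have h1 : s k - ((a * c : Rˣ) : R) • e' i =
              (s k - (a : R) • e i) + (a : R) • (e i - (c : R) • e' i) := by
            rw [Units.val_mul, smul_sub, smul_smul]
            abel
          rw [h1]
          exact Submodule.add_mem _ ha (Submodule.smul_mem _ _ hi)
        rw [phi_succ_of s k e i (a : R) hp1 hp2 ha,
          phi_succ_of s k e' i ((a * c : Rˣ) : R) (by rw [← hX]; exact hp1)
            (by rw [← hX]; exact hp2) ha', hredeq, Units.val_mul, map_mul, mul_inv]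
        have hc0 : residue R (c : R) ≠ 0 := by
          rw [Ne, residue_eq_zero_iff]
          exact fun hmem => (IsLocalRing.mem_maximalIdeal _).1 hmem c.isUnit
        field_simp
      · obtain ⟨j, rfl⟩ := Fin.exists_succAbove_eq hip
        have hpe : e' p = e p := (hagree p (Fin.succAbove_ne p j).symm).symm
        have ha' : s k - (a : R) • e' p ∈ G (R := R) s k ⊔ spanBefore R M e' p := by
          rw [← hX, hpe]; exact ha
        have hep' : e' p ∈ G (R := R) s (k + 1) ⊔ spanBefore R M e' p := by
          rw [G_succ]
          exact entry_mem_of_coef e' p (s k) a ha'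
        have hred' : RelAdm (G (R := R) s (k + 1)) (e' ∘ p.succAbove) :=
          relAdm_succAbove e' p (G_le_succ s k) hadm' hep'
        rw [phi_succ_of s k e p (a : R) hp1 hp2 ha,
          phi_succ_of s k e' p (a : R) (by rw [← hX]; exact hp1) (by rw [← hX]; exact hp2) ha',
          ih (k + 1) (by omega) (e ∘ p.succAbove) (e' ∘ p.succAbove) hred hred' j c
            (fun j' hj' => hagree _ (fun h' => hj' (Fin.succAbove_right_injective h')))
            (sup_spanBefore_succAbove_le e p (G_le_succ s k) hep j hi)]
        ring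
    · have h' : s k ∉ G (R := R) s k ⊔ Submodule.span R (Set.range e') := by
        rw [← spanBefore_ge e' le_rfl, ← hX, spanBefore_ge e le_rfl]
        exact h
      rw [phi_succ_none s k e h, phi_succ_none s k e' h', mul_zero]

end Groth.Agent.Lib.Helper21.CycNZ
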