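import Groth.Prelude.Def_CycDet
import Mathlib
import Groth.Agent.Lib.Helper21.CycNZC

/-!
# `phi` kills relations of type (c)
-/

set_option autoImplicit false
set_option linter.unusedSectionVars false
universe u v

namespace Groth.Agent.Lib.Helper21.CycNZ

open CycDet IsLocalRing Groth.Agent.Lib.Helper29.CycDetLib

variable {R : Type u} [CommRing R] [IsLocalRing R] {M : Type v} [AddCommGroup M] [Module R M]

lemma comp_swap_comp_succAbove {n : ℕ} (e : Fin (n + 1) → M) (p a b : Fin (n + 1)) (a' b' : Fin n)
    (ha : p.succAbove a' = a) (hb : p.succAbove b' = b) :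
    (e ∘ Equiv.swap a b) ∘ p.succAbove = (e ∘ p.succAbove) ∘ Equiv.swap a' b' := by
  funext j
  simp only [Function.comp]
  rw [← ha, ← hb, Fin.succAbove_right_injective.swap_apply]

lemma swap_comp_succAbove {n : ℕ} (e : Fin (n + 1) → M) (a b : Fin (n + 1))
    (hab : (b : ℕ) + 1 = (a : ℕ)) :
    (e ∘ Equiv.swap a b) ∘ a.succAbove = e ∘ b.succAbove := by
  funext j
  simp only [Function.comp]
  congr 1
  rcases lt_trichotomy (j : ℕ) (b : ℕ) with h | h | h
  · have h1 : a.succAbove j = b.succAbove j :=
      Fin.ext (by rw [succAbove_val, succAbove_val, if_pos (by omega), if_pos h])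
    have hne1 : b.succAbove j ≠ a := fun h' => by
      have := congrArg Fin.val h'
      rw [succAbove_val, if_pos h] at this
      omega
    rw [h1, Equiv.swap_apply_of_ne_of_ne hne1 (Fin.succAbove_ne b j)]
  · have h1 : a.succAbove j = b :=
      Fin.ext (by rw [succAbove_val, if_pos (by omega)]; exact h)
    have h2 : b.succAbove j = a :=
      Fin.ext (by rw [succAbove_val, if_neg (by omega)]; omega)
    rw [h1, h2, Equiv.swap_apply_right]
  · have h1 : a.succAbove j = b.succAbove j :=
      Fin.ext (by rw [succAbove_val, succAbove_val, if_neg (by omega), if_neg (by omega)])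
    have hne1 : b.succAbove j ≠ a := fun h' => by
      have := congrArg Fin.val h'
      rw [succAbove_val, if_neg (by omega)] at this
      omega
    rw [h1, Equiv.swap_apply_of_ne_of_ne hne1 (Fin.succAbove_ne b j)]

lemma spanBefore_swap_of_ne {n : ℕ} (e : Fin n → M) (a b : Fin n) (hab : (b : ℕ) + 1 = (a : ℕ))
    (i : ℕ) (hi : i ≠ (a : ℕ)) :
    spanBefore R M (e ∘ Equiv.swap a b) i = spanBefore R M e i := by
  apply spanBefore_swap
  omega

lemma mem_sup_spanBefore_mono {n : ℕ} {G₀ : Submodule R M} (e : Fin n → M) {i j : ℕ}
    (hij : i ≤ j) {x : M} (hx : x ∈ G₀ ⊔ spanBefore R M e i) : x ∈ G₀ ⊔ spanBefore R M e j := by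
  have h : G₀ ⊔ spanBefore R M e i ≤ G₀ ⊔ spanBefore R M e j :=
    sup_le_sup_left (spanBefore_mono _ hij) _
  exact h hx

lemma mem_sup_of_le_left {G₀ G₁ N : Submodule R M} (h : G₀ ≤ G₁) {x : M} (hx : x ∈ G₀ ⊔ N) :
    x ∈ G₁ ⊔ N := by
  have h' : G₀ ⊔ N ≤ G₁ ⊔ N := sup_le_sup_right h _
  exact h' hx

lemma mem_of_coef_mem (N : Submodule R M) (t x : M) (a : Rˣ) (ht : t ∈ N)
    (h : t - (a : R) • x ∈ N) : x ∈ N := by
  have h1 : x = ((a⁻¹ : Rˣ) : R) • t - ((a⁻¹ : Rˣ) : R) • (t - (a : R) • x) := by
    rw [smul_sub, smul_smul, Units.inv_mul, one_smul]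
    abel
  rw [h1]
  exact Submodule.sub_mem _ (Submodule.smul_mem _ _ ht) (Submodule.smul_mem _ _ h)

/-- The case where the first position is `b` for `e` and `a` for `e ∘ swap a b`. -/
lemma phi_swap_case1 (s : ℕ → M) {n k : ℕ}
    (e e' : Fin (n + 1) → M) (hadm : RelAdm (G (R := R) s k) e) (a b : Fin (n + 1))
    (hab : (b : ℕ) + 1 = (a : ℕ)) (he' : e' = e ∘ Equiv.swap a b)
    (hp1 : s k ∈ G (R := R) s k ⊔ spanBefore R M e ((b : ℕ) + 1))
    (hp2 : s k ∉ G (R := R) s k ⊔ spanBefore R M e b)
    (hnot : s k ∉ G (R := R) s k ⊔ spanBefore R M e' a) :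
    phi (R := R) s (n + 1) k e + phi (R := R) s (n + 1) k e' = 0 := by
  obtain ⟨α, hα⟩ := exists_coef e hadm b (s k) hp1 hp2
  have he'a : e' a = e b := by rw [he']; simp [Function.comp]
  have hp1' : s k ∈ G (R := R) s k ⊔ spanBefore R M e' ((a : ℕ) + 1) := by
    rw [he', spanBefore_swap_of_ne e a b hab _ (by omega)]
    exact mem_sup_spanBefore_mono e (by omega) hp1
  have hα' : s k - (α : R) • e' a ∈ G (R := R) s k ⊔ spanBefore R M e' a := by
    rw [he'a]
    have h1 : G (R := R) s k ⊔ spanBefore R M e b ≤ G (R := R) s k ⊔ spanBefore R M e' a := by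
      rw [← spanBefore_swap_of_ne e a b hab b (by omega), ← he']
      exact sup_le_sup_left (spanBefore_mono _ (by omega)) _
    exact h1 hα
  have hred : e' ∘ a.succAbove = e ∘ b.succAbove := by
    rw [he']; exact swap_comp_succAbove e a b hab
  rw [phi_succ_of s k e b (α : R) hp1 hp2 hα, phi_succ_of s k e' a (α : R) hp1' hnot hα', hred,
    ← hab, pow_succ]
  ring

/-- Relation (c). -/
theorem phi_swap (s : ℕ → M) {l : ℕ} (hs : Good (R := R) s l) :
    ∀ (n k : ℕ), n + k ≤ l → ∀ (e e' : Fin n → M), RelAdm (G (R := R) s k) e →
      RelAdm (G (R := R) s k) e' → ∀ (a b : Fin n), (b : ℕ) + 1 = (a : ℕ) →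
      (∀ r ∈ maximalIdeal R, r • e a ∈ G (R := R) s k ⊔ spanBefore R M e b) →
      e' = e ∘ Equiv.swap a b →
      phi (R := R) s n k e + phi (R := R) s n k e' = 0 := by
  intro n
  induction n with
  | zero => intro k _ e e' _ _ a; exact a.elim0
  | succ n ih =>
    intro k hnk e e' hadm hadm' a b hab hc he'
    have hne : a ≠ b := by
      intro h; rw [h] at hab; omega
    have hsw : ∀ i : ℕ, i ≠ (a : ℕ) → spanBefore R M e' i = spanBefore R M e i := by
      intro i hi; rw [he']; exact spanBefore_swap_of_ne e a b hab i hi
    have he'a : e' a = e b := by rw [he']; simp [Function.comp]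
    have he'b : e' b = e a := by rw [he']; simp [Function.comp]
    have he : e = e' ∘ Equiv.swap a b := by
      rw [he']; funext j; simp [Function.comp]
    have hXa : spanBefore R M e a = spanBefore R M e b ⊔ Submodule.span R {e b} := by
      rw [← hab, spanBefore_succ]
    have hXa' : spanBefore R M e' a = spanBefore R M e b ⊔ Submodule.span R {e a} := by
      rw [← hab, spanBefore_succ, hsw b (by omega), he'b]
    by_cases h : s k ∈ G (R := R) s k ⊔ Submodule.span R (Set.range e)
    · obtain ⟨p, α, hp1, hp2, hα, hep, hred⟩ := exists_data s hs hnk e hadm h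
      by_cases hpb : p = b
      · -- first position is `b`
        subst hpb
        by_cases hin : s k ∈ G (R := R) s k ⊔ spanBefore R M e' a
        · -- both vanish
          have hz : phi (R := R) s (n + 1) k e = 0 := by
            refine phi_eq_zero_of_mem s hs (n + 1) k hnk e hadm a ?_
            have hp1' : s k ∈ G (R := R) s k ⊔ spanBefore R M e' ((p : ℕ) + 1) := by
              rw [hab]; exact hin
            have hp2' : s k ∉ G (R := R) s k ⊔ spanBefore R M e' p := by
              rw [hsw p (by omega)]; exact hp2
            obtain ⟨β, hβ⟩ := exists_coef e' hadm' p (s k) hp1' hp2'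
            rw [he'b, hsw p (by omega)] at hβ
            rw [hab] at hp1
            refine mem_of_coef_mem _ (s k) (e a) β hp1 ?_
            exact mem_sup_spanBefore_mono e (by omega) hβ
          have hz' : phi (R := R) s (n + 1) k e' = 0 := by
            refine phi_eq_zero_of_mem s hs (n + 1) k hnk e' hadm' a ?_
            rw [he'a]
            refine mem_of_coef_mem _ (s k) (e p) α hin ?_
            have h1 : G (R := R) s k ⊔ spanBefore R M e p ≤
                G (R := R) s k ⊔ spanBefore R M e' a := by
              rw [← hsw p (by omega)]
              exact sup_le_sup_left (spanBefore_mono _ (by omega)) _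
            exact h1 hα
          rw [hz, hz', add_zero]
        · exact phi_swap_case1 s e e' hadm a p hab he' hp1 hp2 hin
      · by_cases hpa : p = a
        · subst hpa
          by_cases hin : s k ∈ G (R := R) s k ⊔ spanBefore R M e' p
          · -- symmetric to case 1
            rw [add_comm]
            refine phi_swap_case1 s e' e hadm' p b hab he (by rw [hab]; exact hin) ?_ hp2
            rw [hsw b (by omega)]
            intro hmem
            exact hp2 (mem_sup_spanBefore_mono e (by omega) hmem)
          · -- both have first position `a`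
            have hα2 := hα
            rw [hXa, ← sup_assoc, Submodule.mem_sup] at hα2
            obtain ⟨x, hx, z, hz, hsum⟩ := hα2
            rw [Submodule.mem_span_singleton] at hz
            obtain ⟨γ₀, rfl⟩ := hz
            have hγu : IsUnit γ₀ := by
              by_contra hnu
              have hmem : γ₀ ∈ maximalIdeal R := (IsLocalRing.mem_maximalIdeal γ₀).mpr hnu
              apply hin
              rw [hXa', ← sup_assoc]
              have h1 : s k - (α : R) • e p ∈ G (R := R) s k ⊔ spanBefore R M e b := by
                rw [← hsum]
                exact Submodule.add_mem _ hx (hadm b γ₀ hmem)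
              have h2 : s k = (s k - (α : R) • e p) + (α : R) • e p := by abel
              rw [h2]
              exact Submodule.add_mem _ (Submodule.mem_sup_left h1)
                (Submodule.mem_sup_right (Submodule.smul_mem _ _ (Submodule.subset_span rfl)))
            obtain ⟨γ, rfl⟩ := hγu
            have hp1' : s k ∈ G (R := R) s k ⊔ spanBefore R M e' ((p : ℕ) + 1) := by
              rw [hsw _ (by omega)]; exact hp1
            have hγ' : s k - (γ : R) • e' p ∈ G (R := R) s k ⊔ spanBefore R M e' p := by
              rw [he'a, hXa', ← sup_assoc]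
              have h2 : s k - (γ : R) • e b = x + (α : R) • e p := by
                have h3 : (γ : R) • e b = s k - (α : R) • e p - x := by rw [← hsum]; abel
                rw [h3]; abel
              rw [h2]
              exact Submodule.add_mem _ (Submodule.mem_sup_left hx)
                (Submodule.mem_sup_right (Submodule.smul_mem _ _ (Submodule.subset_span rfl)))
            have hep' : e' p ∈ G (R := R) s (k + 1) ⊔ spanBefore R M e' p := by
              rw [G_succ]
              exact entry_mem_of_coef e' p (s k) γ hγ'
            have hred' : RelAdm (G (R := R) s (k + 1)) (e' ∘ p.succAbove) :=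
              relAdm_succAbove e' p (G_le_succ s k) hadm' hep'
            obtain ⟨b', hb'⟩ := Fin.exists_succAbove_eq (Ne.symm hne)
            have hb'val : (b' : ℕ) = (b : ℕ) := by
              have := congrArg Fin.val hb'
              rw [succAbove_val] at this
              split_ifs at this with h1
              · exact this
              · omega
            -- relation (b) between the reduced tuples
            have hrel := phi_smul s hs n (k + 1) (by omega) (e' ∘ p.succAbove) (e ∘ p.succAbove)
              hred' hred b' (-(α⁻¹ * γ)) ?_ ?_
            · rw [phi_succ_of s k e p (α : R) hp1 hp2 hα,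
                phi_succ_of s k e' p (γ : R) hp1' hin hγ', hrel]
              have hγ0 : residue R (γ : R) ≠ 0 := by
                rw [Ne, residue_eq_zero_iff]
                exact fun hmem => (IsLocalRing.mem_maximalIdeal _).1 hmem γ.isUnit
              have hα0 : residue R (α : R) ≠ 0 := by
                rw [Ne, residue_eq_zero_iff]
                exact fun hmem => (IsLocalRing.mem_maximalIdeal _).1 hmem α.isUnit
              have hαinv : residue R ((α⁻¹ : Rˣ) : R) = (residue R (α : R))⁻¹ := by
                apply eq_inv_of_mul_eq_one_left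
                rw [← map_mul, Units.inv_mul, map_one]
              rw [Units.val_neg, Units.val_mul, map_neg, map_mul, hαinv]
              field_simp
              ring
            · intro j hj
              simp only [Function.comp]
              rw [he']
              simp only [Function.comp]
              rw [Equiv.swap_apply_of_ne_of_ne (Fin.succAbove_ne p j)]
              intro h'
              exact hj (Fin.succAbove_right_injective (h'.trans hb'.symm))
            · simp only [Function.comp]
              rw [hb', he'b]
              have h1 : e p - ((-(α⁻¹ * γ) : Rˣ) : R) • e b =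
                  ((α⁻¹ : Rˣ) : R) • (s k - x) := by
                have h3 : (γ : R) • e b = s k - (α : R) • e p - x := by rw [← hsum]; abel
                rw [Units.val_neg, Units.val_mul, neg_smul, sub_neg_eq_add, mul_smul, h3,
                  smul_sub, smul_sub, smul_sub, smul_smul, Units.inv_mul, one_smul]
                abel
              rw [h1]
              apply Submodule.smul_mem
              apply Submodule.sub_mem
              · exact Submodule.mem_sup_left (mem_G_succ s k)
              · have h4 : spanBefore R M (e' ∘ p.succAbove) b' = spanBefore R M e b := by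
                  rw [spanBefore_succAbove_of_le e' p b' (by omega), hb'val, hsw b (by omega)]
                rw [h4]
                exact mem_sup_of_le_left (G_le_succ s k) hx
        · -- the first position is neither `a` nor `b`
          have hpa' : (p : ℕ) ≠ (a : ℕ) := fun h' => hpa (Fin.ext h')
          have hpb' : (p : ℕ) ≠ (b : ℕ) := fun h' => hpb (Fin.ext h')
          have hpe : e' p = e p := by
            rw [he']
            simp only [Function.comp]
            rw [Equiv.swap_apply_of_ne_of_ne hpa hpb]
          obtain ⟨a', ha'⟩ := Fin.exists_succAbove_eq (Ne.symm hpa)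
          obtain ⟨b', hb'⟩ := Fin.exists_succAbove_eq (Ne.symm hpb)
          have hab' : (b' : ℕ) + 1 = (a' : ℕ) := by
            have h1 := congrArg Fin.val ha'
            have h2 := congrArg Fin.val hb'
            rw [succAbove_val] at h1 h2
            split_ifs at h1 h2 <;> omega
          have hp1' : s k ∈ G (R := R) s k ⊔ spanBefore R M e' ((p : ℕ) + 1) := by
            rw [hsw _ (by omega)]; exact hp1
          have hp2' : s k ∉ G (R := R) s k ⊔ spanBefore R M e' p := by
            rw [hsw _ hpa']; exact hp2
          have hα' : s k - (α : R) • e' p ∈ G (R := R) s k ⊔ spanBefore R M e' p := by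
            rw [hsw _ hpa', hpe]; exact hα
          have hep' : e' p ∈ G (R := R) s (k + 1) ⊔ spanBefore R M e' p := by
            rw [hsw _ hpa', hpe]; exact hep
          have hred' : RelAdm (G (R := R) s (k + 1)) (e' ∘ p.succAbove) :=
            relAdm_succAbove e' p (G_le_succ s k) hadm' hep'
          have hredeq : e' ∘ p.succAbove = (e ∘ p.succAbove) ∘ Equiv.swap a' b' := by
            rw [he']; exact comp_swap_comp_succAbove e p a b a' b' ha' hb'
          have hc' : ∀ r ∈ maximalIdeal R, r • (e ∘ p.succAbove) a' ∈
              G (R := R) s (k + 1) ⊔ spanBefore R M (e ∘ p.succAbove) b' := by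
            intro r hr
            simp only [Function.comp]
            rw [ha']
            have h1 := sup_spanBefore_succAbove_le e p (G_le_succ s k) hep b'
            rw [hb'] at h1
            exact h1 (hc r hr)
          have hih := ih (k + 1) (by omega) (e ∘ p.succAbove) (e' ∘ p.succAbove) hred hred'
            a' b' hab' hc' hredeq
          rw [phi_succ_of s k e p (α : R) hp1 hp2 hα, phi_succ_of s k e' p (α : R) hp1' hp2' hα',
            ← mul_add, hih, mul_zero]
    · have h' : s k ∉ G (R := R) s k ⊔ Submodule.span R (Set.range e') := by
        rw [he', range_swap]; exact h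
      rw [phi_succ_none s k e h, phi_succ_none s k e' h', add_zero]

end Groth.Agent.Lib.Helper21.CycNZ
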