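import Groth.Prelude.Def_CycDet
import Mathlib
import Groth.Agent.Lib.Helper21.CycNZD

/-!
# Non-vanishing of `phi` and of the symbol of a generating admissible tuple
-/

set_option autoImplicit false
set_option linter.unusedSectionVars false
universe u v

namespace Groth.Agent.Lib.Helper21.CycNZ

open CycDet IsLocalRing Groth.Agent.Lib.Helper29.CycDetLib

variable {R : Type u} [CommRing R] [IsLocalRing R] {M : Type v} [AddCommGroup M] [Module R M]

theorem phi_ne_zero (s : ℕ → M) {l : ℕ} (hs : Good (R := R) s l) :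
    ∀ (n k : ℕ), n + k ≤ l → ∀ (e : Fin n → M), RelAdm (G (R := R) s k) e →
      G (R := R) s k ⊔ Submodule.span R (Set.range e) = ⊤ → phi (R := R) s n k e ≠ 0 := by
  intro n
  induction n with
  | zero => intro k _ e _ _; rw [phi_zero]; exact one_ne_zero
  | succ n ih =>
    intro k hnk e hadm htop
    have h : s k ∈ G (R := R) s k ⊔ Submodule.span R (Set.range e) := by
      rw [htop]; exact Submodule.mem_top
    obtain ⟨p, α, hp1, hp2, hα, hep, hred⟩ := exists_data s hs hnk e hadm h
    rw [phi_succ_of s k e p (α : R) hp1 hp2 hα]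
    have hα0 : residue R (α : R) ≠ 0 := by
      rw [Ne, residue_eq_zero_iff]
      exact fun hmem => (IsLocalRing.mem_maximalIdeal _).1 hmem α.isUnit
    have htop' : G (R := R) s (k + 1) ⊔ Submodule.span R (Set.range (e ∘ p.succAbove)) = ⊤ := by
      rw [eq_top_iff, ← htop]
      exact sup_span_range_le_succAbove e p (G_le_succ s k) hep
    exact mul_ne_zero (mul_ne_zero (pow_ne_zero _ (neg_ne_zero.2 one_ne_zero)) (inv_ne_zero hα0))
      (ih (k + 1) (by omega) _ hred htop')

/-- One more generator which is killed by the maximal ideal modulo `N` adds at most one to the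
length. -/
lemma length_sup_span_le (N : Submodule R M) (x : M)
    (hx : ∀ r ∈ maximalIdeal R, r • x ∈ N) :
    Module.length R ↥(N ⊔ Submodule.span R {x}) ≤ Module.length R ↥N + 1 := by
  have hle : N ≤ N ⊔ Submodule.span R {x} := le_sup_left
  have hxmem : x ∈ N ⊔ Submodule.span R {x} :=
    Submodule.mem_sup_right (Submodule.subset_span rfl)
  let f : ↥N →ₗ[R] ↥(N ⊔ Submodule.span R {x}) := Submodule.inclusion hle
  have h1 := Module.length_eq_add_of_exact f (LinearMap.range f).mkQ
    (Submodule.inclusion_injective hle) (Submodule.mkQ_surjective _)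
    (LinearMap.exact_map_mkQ_range f)
  rw [h1]
  gcongr
  -- the quotient is a quotient of the residue field
  let φ : R →ₗ[R] (↥(N ⊔ Submodule.span R {x}) ⧸ LinearMap.range f) :=
    LinearMap.toSpanSingleton R _ ((LinearMap.range f).mkQ ⟨x, hxmem⟩)
  have hker : maximalIdeal R ≤ LinearMap.ker φ := by
    intro r hr
    rw [LinearMap.mem_ker]
    change r • (LinearMap.range f).mkQ ⟨x, hxmem⟩ = 0
    rw [← map_smul, Submodule.mkQ_apply, Submodule.Quotient.mk_eq_zero]
    exact ⟨⟨r • x, hx r hr⟩, rfl⟩
  let ψ : (R ⧸ maximalIdeal R) →ₗ[R] (↥(N ⊔ Submodule.span R {x}) ⧸ LinearMap.range f) :=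
    Submodule.liftQ (maximalIdeal R) φ hker
  have hsurj : Function.Surjective ψ := by
    intro w
    obtain ⟨⟨y, hy⟩, rfl⟩ := Submodule.Quotient.mk_surjective _ w
    obtain ⟨n₀, hn₀, z, hz, hsum⟩ := Submodule.mem_sup.1 hy
    obtain ⟨r, rfl⟩ := Submodule.mem_span_singleton.1 hz
    refine ⟨Submodule.Quotient.mk r, ?_⟩
    change φ r = _
    change r • (LinearMap.range f).mkQ ⟨x, hxmem⟩ = _
    rw [← map_smul, Submodule.mkQ_apply, Submodule.Quotient.eq]
    refine ⟨⟨-n₀, N.neg_mem hn₀⟩, ?_⟩
    apply Subtype.ext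
    change -n₀ = r • x - y
    rw [← hsum]
    abel
  have h2 := Module.length_le_of_surjective ψ hsurj
  have h3 : Module.length R (R ⧸ maximalIdeal R) = 1 := by
    rw [Module.length_eq_one_iff, isSimpleModule_iff_isCoatom]
    exact Ideal.isMaximal_def.1 inferInstance
  rwa [h3] at h2

/-- A generating admissible tuple of length `length M` is strict. -/
theorem strict_of_span_eq_top (hM : IsFiniteLength R M) {l : ℕ}
    (hl : l = (Module.length R M).toNat) (e : Fin l → M) (hadm : IsAdmissible R M e)
    (he : Submodule.span R (Set.range e) = ⊤) (a : Fin l) : e a ∉ spanBefore R M e a := by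
  intro ha
  have key : ∀ i : ℕ, i ≤ l →
      Module.length R ↥(spanBefore R M e i) + (if (a : ℕ) < i then 1 else 0) ≤ (i : ℕ∞) := by
    intro i
    induction i with
    | zero =>
      intro _
      rw [spanBefore_zero, if_neg (by omega), add_zero]
      simp
    | succ i ih =>
      intro hi
      have hil : i < l := by omega
      have ih' := ih (by omega)
      by_cases hia : i = (a : ℕ)
      · have h1 : spanBefore R M e (i + 1) = spanBefore R M e i := by
          have h2 := spanBefore_succ (R := R) e a
          rw [← hia] at h2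
          rw [h2]
          apply sup_eq_left.2
          rw [Submodule.span_le]
          rintro _ rfl
          rw [hia]; exact ha
        rw [h1, if_pos (by omega)]
        rw [if_neg (by omega), add_zero] at ih'
        push_cast
        gcongr
      · have h2 := spanBefore_succ (R := R) e ⟨i, hil⟩
        have h3 := length_sup_span_le (spanBefore R M e i) (e ⟨i, hil⟩) (hadm ⟨i, hil⟩)
        have h4 : Module.length R ↥(spanBefore R M e (i + 1)) ≤
            Module.length R ↥(spanBefore R M e i) + 1 := by
          have h5 : spanBefore R M e (i + 1) =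
              spanBefore R M e i ⊔ Submodule.span R {e ⟨i, hil⟩} := h2
          rw [h5]; exact h3
        have h6 : (if (a : ℕ) < i + 1 then (1 : ℕ∞) else 0) = if (a : ℕ) < i then 1 else 0 := by
          by_cases h7 : (a : ℕ) < i
          · rw [if_pos h7, if_pos (by omega)]
          · rw [if_neg h7, if_neg (by omega)]
        rw [h6]
        push_cast
        calc Module.length R ↥(spanBefore R M e (i + 1)) + (if (a : ℕ) < i then 1 else 0)
            ≤ (Module.length R ↥(spanBefore R M e i) + 1) + (if (a : ℕ) < i then 1 else 0) := by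
              gcongr
          _ = (Module.length R ↥(spanBefore R M e i) + (if (a : ℕ) < i then 1 else 0)) + 1 := by
              ring
          _ ≤ (i : ℕ∞) + 1 := by gcongr
  have h1 := key l le_rfl
  rw [spanBefore_ge e le_rfl, he, if_pos a.2, Module.length_top] at h1
  have hfin : Module.length R M ≠ ⊤ := Module.length_ne_top_iff.mpr hM
  have h3 : Module.length R M = (l : ℕ∞) := by
    rw [hl]; exact (ENat.natCast_toNat hfin).symm
  rw [h3] at h1
  have : l + 1 ≤ l := by exact_mod_cast h1
  omega

/-- The reference sequence attached to a tuple. -/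
noncomputable def refSeq {l : ℕ} (e : Fin l → M) : ℕ → M :=
  fun j => if h : j < l then e ⟨j, h⟩ else 0

lemma G_refSeq {l : ℕ} (e : Fin l → M) (k : ℕ) (hk : k ≤ l) :
    G (R := R) (refSeq e) k = spanBefore R M e k := by
  unfold G spanBefore
  congr 1
  ext x
  constructor
  · rintro ⟨j, hj, rfl⟩
    have hjl : j < l := lt_of_lt_of_le hj hk
    exact ⟨⟨j, hjl⟩, hj, by simp [refSeq, hjl]⟩
  · rintro ⟨j, hj, rfl⟩
    exact ⟨j, hj, by simp [refSeq]⟩

theorem main' (hM : IsFiniteLength R M) {l : ℕ} (hl : l = (Module.length R M).toNat)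
    (e : Adm R M l) (he : Submodule.span R (Set.range e.1) = ⊤) :
    (Submodule.Quotient.mk (sym R M e) : DetOfLen R M l) ≠ 0 := by
  classical
  have hstrict := strict_of_span_eq_top hM hl e.1 e.2 he
  have hs : Good (R := R) (refSeq e.1) l := by
    constructor
    · intro j hj r hr
      rw [G_refSeq e.1 j hj.le]
      have : refSeq e.1 j = e.1 ⟨j, hj⟩ := by simp [refSeq, hj]
      rw [this]
      exact e.2 ⟨j, hj⟩ r hr
    · intro j hj
      rw [G_refSeq e.1 j hj.le]
      have : refSeq e.1 j = e.1 ⟨j, hj⟩ := by simp [refSeq, hj]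
      rw [this]
      exact hstrict ⟨j, hj⟩
  have hG0 : G (R := R) (refSeq e.1) 0 = ⊥ := by
    rw [G_refSeq e.1 0 (Nat.zero_le _), spanBefore_zero]
  have hrel : ∀ t : Adm R M l, RelAdm (G (R := R) (refSeq e.1) 0) t.1 := by
    intro t i r hr
    exact Submodule.mem_sup_right (t.2 i r hr)
  let Φ : Free R M l →ₗ[ResidueField R] ResidueField R :=
    Finsupp.linearCombination (ResidueField R)
      (fun t : Adm R M l => phi (R := R) (refSeq e.1) l 0 t.1)
  have hΦ : ∀ t : Adm R M l, Φ (sym R M t) = phi (R := R) (refSeq e.1) l 0 t.1 := by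
    intro t
    simp [Φ, sym]
  have hkill : Submodule.span (ResidueField R) (relSet R M l) ≤ LinearMap.ker Φ := by
    rw [Submodule.span_le]
    rintro x ((⟨t, a, ha, rfl⟩ | ⟨t, t', a, c, hagree, ha, rfl⟩) | ⟨t, t', a, b, hab, hc, ht', rfl⟩)
    · rw [SetLike.mem_coe, LinearMap.mem_ker, hΦ]
      exact phi_eq_zero_of_mem _ hs l 0 (by omega) t.1 (hrel t) a (Submodule.mem_sup_right ha)
    · rw [SetLike.mem_coe, LinearMap.mem_ker, map_sub, map_smul, hΦ, hΦ, smul_eq_mul, sub_eq_zero]
      exact phi_smul _ hs l 0 (by omega) t.1 t'.1 (hrel t) (hrel t') a c hagree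
        (Submodule.mem_sup_right ha)
    · rw [SetLike.mem_coe, LinearMap.mem_ker, map_add, hΦ, hΦ]
      exact phi_swap _ hs l 0 (by omega) t.1 t'.1 (hrel t) (hrel t') a b hab
        (fun r hr => Submodule.mem_sup_right (hc r hr)) ht'
  intro h0
  have h1 : sym R M e ∈ Submodule.span (ResidueField R) (relSet R M l) :=
    (Submodule.Quotient.mk_eq_zero _).1 h0
  have h2 : Φ (sym R M e) = 0 := LinearMap.mem_ker.1 (hkill h1)
  rw [hΦ] at h2
  refine phi_ne_zero _ hs l 0 (by omega) e.1 (hrel e) ?_ h2
  rw [he, sup_top_eq]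

theorem main (hM : IsFiniteLength R M) (e : Adm R M (Module.length R M).toNat)
    (he : Submodule.span R (Set.range e.1) = ⊤) : symbol R M e ≠ 0 :=
  main' hM rfl e he

end Groth.Agent.Lib.Helper21.CycNZ
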