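import Groth.Prelude.Def_CycDet
import Mathlib
import Groth.Agent.Lib.Helper21.CycNZE

/-!
# Existence of generating admissible tuples for finite length modules
-/

set_option autoImplicit false
set_option linter.unusedSectionVars false
universe u v

namespace Groth.Agent.Lib.Helper21.CycMul

open CycDet IsLocalRing Groth.Agent.Lib.Helper29.CycDetLib Groth.Agent.Lib.Helper21.CycNZ

variable {R : Type u} [CommRing R] [IsLocalRing R]

/-- a simple quotient is killed by the maximal ideal -/
lemma smul_mem_of_simple_quotient {M : Type v} [AddCommGroup M] [Module R M] (N : Submodule R M)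
    [hs : IsSimpleModule R (M ⧸ N)] (r : R) (hr : r ∈ maximalIdeal R) (x : M) : r • x ∈ N := by
  obtain ⟨I, hI, ⟨eq⟩⟩ := isSimpleModule_iff_quot_maximal.1 hs
  have hIm : I = maximalIdeal R := IsLocalRing.eq_maximalIdeal hI
  subst hIm
  rw [← Submodule.Quotient.mk_eq_zero, Submodule.Quotient.mk_smul]
  apply eq.injective
  rw [map_smul, map_zero]
  obtain ⟨y, hy⟩ := Submodule.Quotient.mk_surjective _ (eq (Submodule.Quotient.mk x))
  rw [← hy, ← Submodule.Quotient.mk_smul, Submodule.Quotient.mk_eq_zero, smul_eq_mul]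
  exact Ideal.mul_mem_right _ _ hr

theorem exists_gen {M : Type v} [AddCommGroup M] [Module R M] (hM : IsFiniteLength R M) :
    ∃ (l : ℕ) (e : Fin l → M), IsAdmissible R M e ∧ Submodule.span R (Set.range e) = ⊤ ∧
      (l : ℕ∞) = Module.length R M := by
  induction hM with
  | of_subsingleton =>
    refine ⟨0, Fin.elim0, fun i => i.elim0, Subsingleton.elim _ _, ?_⟩
    rw [Module.length_eq_zero]; rfl
  | @of_simple_quotient M _ _ N hs hN ih =>
    obtain ⟨l, e₀, hadm, hspan, hlen⟩ := ih
    have hNtop : N ≠ ⊤ := by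
      have := (isSimpleModule_iff_isCoatom.1 hs).1
      exact this
    obtain ⟨x, -, hxN⟩ := SetLike.exists_of_lt (lt_top_iff_ne_top.2 hNtop)
    let e : Fin (l + 1) → M := fun i => if h : (i : ℕ) < l then (e₀ ⟨i, h⟩ : M) else x
    have hsb : ∀ i : ℕ, i ≤ l →
        spanBefore R M e i = (spanBefore R N e₀ i).map N.subtype := by
      intro i hi
      unfold spanBefore
      rw [Submodule.map_span]
      congr 1
      ext y
      constructor
      · rintro ⟨j, hj, rfl⟩
        have hjl : (j : ℕ) < l := lt_of_lt_of_le hj hi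
        refine ⟨e₀ ⟨j, hjl⟩, ⟨⟨j, hjl⟩, hj, rfl⟩, ?_⟩
        simp [e, hjl]
      · rintro ⟨_, ⟨j, hj, rfl⟩, rfl⟩
        refine ⟨⟨j, by omega⟩, hj, ?_⟩
        simp [e]
    have hsbl : spanBefore R M e l = N := by
      rw [hsb l le_rfl, spanBefore_ge e₀ le_rfl, hspan, Submodule.map_top, Submodule.range_subtype]
    refine ⟨l + 1, e, ?_, ?_, ?_⟩
    · intro i r hr
      by_cases hil : (i : ℕ) < l
      · rw [hsb i hil.le]
        have h1 := hadm ⟨i, hil⟩ r hr
        refine ⟨r • e₀ ⟨i, hil⟩, h1, ?_⟩
        simp [e, hil]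
      · have hi : (i : ℕ) = l := by have := i.2; omega
        rw [hi, hsbl]
        exact smul_mem_of_simple_quotient N r hr _
    · rw [← spanBefore_ge e le_rfl]
      have h1 := spanBefore_succ (R := R) e ⟨l, Nat.lt_succ_self l⟩
      have h2 : e ⟨l, Nat.lt_succ_self l⟩ = x := by simp [e]
      rw [h2] at h1
      change spanBefore R M e (l + 1) = _ at h1
      rw [h1, hsbl]
      have hco := isSimpleModule_iff_isCoatom.1 hs
      apply hco.2
      refine lt_of_le_of_ne le_sup_left ?_
      intro heq
      apply hxN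
      rw [heq]
      exact Submodule.mem_sup_right (Submodule.subset_span rfl)
    · have h1 := Module.length_eq_add_of_exact N.subtype N.mkQ (Submodule.injective_subtype N)
        (Submodule.mkQ_surjective N) (LinearMap.exact_subtype_mkQ N)
      rw [h1, Module.length_eq_one_iff.2 hs, ← hlen]
      push_cast
      rfl

/-- Generating admissible tuple of the exact length. -/
theorem exists_gen' {M : Type v} [AddCommGroup M] [Module R M] (hM : IsFiniteLength R M) :
    ∃ e : Adm R M (Module.length R M).toNat, Submodule.span R (Set.range e.1) = ⊤ := by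
  obtain ⟨l, e, hadm, hspan, hlen⟩ := exists_gen hM
  have hl : l = (Module.length R M).toNat := by rw [← hlen]; rfl
  subst hl
  exact ⟨⟨e, hadm⟩, hspan⟩

end Groth.Agent.Lib.Helper21.CycMul
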