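import Groth.Prelude.Def_CycDet
import Mathlib
import Groth.Agent.Lib.Helper21.CycMulA

/-!
# Transfer of `phi` along a linear map whose kernel is contained in the flag
-/

set_option autoImplicit false
set_option linter.unusedSectionVars false
universe u v w

namespace Groth.Agent.Lib.Helper21.CycMul

open CycDet IsLocalRing Groth.Agent.Lib.Helper29.CycDetLib Groth.Agent.Lib.Helper21.CycNZ

variable {R : Type u} [CommRing R] [IsLocalRing R]
  {L : Type v} [AddCommGroup L] [Module R L] {M : Type w} [AddCommGroup M] [Module R M]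

lemma spanBefore_comp (g : L →ₗ[R] M) {n : ℕ} (u : Fin n → L) (i : ℕ) :
    spanBefore R M (g ∘ u) i = (spanBefore R L u i).map g := by
  unfold spanBefore
  rw [Submodule.map_span, Set.image_image]
  rfl

lemma mem_sup_spanBefore_comap_iff (g : L →ₗ[R] M) (B : Submodule R M) {n : ℕ} (u : Fin n → L)
    (i : ℕ) (x : L) :
    x ∈ B.comap g ⊔ spanBefore R L u i ↔ g x ∈ B ⊔ spanBefore R M (g ∘ u) i := by
  rw [spanBefore_comp]
  constructor
  · intro hx
    obtain ⟨a, ha, y, hy, rfl⟩ := Submodule.mem_sup.1 hx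
    rw [map_add]
    exact Submodule.add_mem _ (Submodule.mem_sup_left ha)
      (Submodule.mem_sup_right (Submodule.mem_map_of_mem hy))
  · intro hx
    obtain ⟨b, hb, z, hz, hsum⟩ := Submodule.mem_sup.1 hx
    obtain ⟨y, hy, rfl⟩ := Submodule.mem_map.1 hz
    have h1 : x = (x - y) + y := by abel
    rw [h1]
    refine Submodule.add_mem _ (Submodule.mem_sup_left ?_) (Submodule.mem_sup_right hy)
    rw [Submodule.mem_comap, map_sub, ← hsum, add_sub_cancel_right]
    exact hb

lemma relAdm_comp (g : L →ₗ[R] M) (B : Submodule R M) {n : ℕ} (u : Fin n → L)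
    (h : RelAdm (B.comap g) u) : RelAdm B (g ∘ u) := by
  intro i r hr
  have := (mem_sup_spanBefore_comap_iff g B u i _).1 (h i r hr)
  rwa [map_smul] at this

/-- Transfer of `phi` along `g`. -/
theorem phi_comp (g : L →ₗ[R] M) (sL : ℕ → L) (sM : ℕ → M) (c lL : ℕ)
    (hs : Good (R := R) sL lL)
    (hg : ∀ j, g (sL (c + j)) = sM j)
    (hG : ∀ j, G (R := R) sL (c + j) = (G (R := R) sM j).comap g) :
    ∀ (n j : ℕ), n + (c + j) ≤ lL → ∀ u : Fin n → L, RelAdm (G (R := R) sL (c + j)) u →
      phi (R := R) sL n (c + j) u = phi (R := R) sM n j (g ∘ u) := by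
  intro n
  induction n with
  | zero => intro j _ u _; rw [phi_zero, phi_zero]
  | succ n ih =>
    intro j hnj u hadm
    by_cases h : sL (c + j) ∈ G (R := R) sL (c + j) ⊔ Submodule.span R (Set.range u)
    · obtain ⟨p, α, hp1, hp2, hα, hep, hred⟩ := exists_data sL hs hnj u hadm h
      have hp1' : sM j ∈ G (R := R) sM j ⊔ spanBefore R M (g ∘ u) ((p : ℕ) + 1) := by
        rw [← hg j, ← mem_sup_spanBefore_comap_iff, ← hG]; exact hp1
      have hp2' : sM j ∉ G (R := R) sM j ⊔ spanBefore R M (g ∘ u) p := by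
        rw [← hg j, ← mem_sup_spanBefore_comap_iff, ← hG]; exact hp2
      have hα' : sM j - (α : R) • (g ∘ u) p ∈ G (R := R) sM j ⊔ spanBefore R M (g ∘ u) p := by
        have h1 : sM j - (α : R) • (g ∘ u) p = g (sL (c + j) - (α : R) • u p) := by
          rw [map_sub, map_smul, hg j]; rfl
        rw [h1, ← mem_sup_spanBefore_comap_iff, ← hG]; exact hα
      rw [phi_succ_of sL (c + j) u p (α : R) hp1 hp2 hα,
        phi_succ_of sM j (g ∘ u) p (α : R) hp1' hp2' hα']
      have h2 := ih (j + 1) (by omega) (u ∘ p.succAbove) hred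
      rw [show c + (j + 1) = c + j + 1 from rfl] at h2
      rw [h2]
      rfl
    · have h' : sM j ∉ G (R := R) sM j ⊔ Submodule.span R (Set.range (g ∘ u)) := by
        rw [← spanBefore_ge (g ∘ u) le_rfl, ← hg j, ← mem_sup_spanBefore_comap_iff, ← hG,
          spanBefore_ge u le_rfl]
        exact h
      rw [phi_succ_none sL (c + j) u h, phi_succ_none sM j (g ∘ u) h']

end Groth.Agent.Lib.Helper21.CycMul
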