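import Groth.Prelude.Def_CycDet
import Mathlib
import Groth.Agent.Lib.Helper21.CycMulB

/-!
# `phi` of a concatenated tuple: the head block
-/

set_option autoImplicit false
set_option linter.unusedSectionVars false
universe u v w

namespace Groth.Agent.Lib.Helper21.CycMul

open CycDet IsLocalRing Groth.Agent.Lib.Helper29.CycDetLib Groth.Agent.Lib.Helper21.CycNZ

variable {R : Type u} [CommRing R] [IsLocalRing R]
  {K : Type v} [AddCommGroup K] [Module R K] {L : Type w} [AddCommGroup L] [Module R L]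

lemma mem_map_iff_of_injective (f : K →ₗ[R] L) (hf : Function.Injective f) (S : Submodule R K)
    (x : K) : f x ∈ S.map f ↔ x ∈ S := by
  constructor
  · rintro ⟨y, hy, hxy⟩
    rwa [← hf hxy]
  · exact fun h => Submodule.mem_map_of_mem h

lemma spanBefore_head (f : K →ₗ[R] L) {n N : ℕ} (e : Fin n → K) (w : Fin N → L) (hnN : n ≤ N)
    (hhead : ∀ (i : Fin N) (h : (i : ℕ) < n), w i = f (e ⟨i, h⟩)) (i : ℕ) (hi : i ≤ n) :
    spanBefore R L w i = (spanBefore R K e i).map f := by
  unfold spanBefore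
  rw [Submodule.map_span]
  congr 1
  ext y
  constructor
  · rintro ⟨j, hj, rfl⟩
    have hjn : (j : ℕ) < n := lt_of_lt_of_le hj hi
    exact ⟨e ⟨j, hjn⟩, ⟨⟨j, hjn⟩, hj, rfl⟩, (hhead j hjn).symm⟩
  · rintro ⟨_, ⟨j, hj, rfl⟩, rfl⟩
    refine ⟨⟨j, by omega⟩, hj, ?_⟩
    exact hhead ⟨j, by omega⟩ j.2

lemma G_map (f : K →ₗ[R] L) (sK : ℕ → K) (sL : ℕ → L) (k : ℕ)
    (h : ∀ j < k, sL j = f (sK j)) : G (R := R) sL k = (G (R := R) sK k).map f := by
  unfold G
  rw [Submodule.map_span]
  congr 1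
  ext y
  constructor
  · rintro ⟨j, hj, rfl⟩
    exact ⟨sK j, ⟨j, hj, rfl⟩, (h j hj).symm⟩
  · rintro ⟨_, ⟨j, hj, rfl⟩, rfl⟩
    exact ⟨j, hj, h j hj⟩

/-- The head block of a concatenated tuple. -/
theorem phi_head (f : K →ₗ[R] L) (hf : Function.Injective f) (sK : ℕ → K) (sL : ℕ → L) (lK : ℕ)
    (hs : Good (R := R) sK lK) (hsf : ∀ j < lK, sL j = f (sK j)) {m : ℕ} (u : Fin m → L) :
    ∀ (n k N c : ℕ), n + k ≤ lK → N = n + m → c = k + n → ∀ (e : Fin n → K) (w : Fin N → L),
      (∀ (i : Fin N) (h : (i : ℕ) < n), w i = f (e ⟨i, h⟩)) →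
      (∀ (j : Fin m) (h : n + (j : ℕ) < N), w ⟨n + j, h⟩ = u j) →
      RelAdm (G (R := R) sK k) e →
      G (R := R) sK k ⊔ Submodule.span R (Set.range e) = ⊤ →
      phi (R := R) sL N k w = phi (R := R) sK n k e * phi (R := R) sL m c u := by
  intro n
  induction n with
  | zero =>
    intro k N c _ hN hc e w _ htail _ _
    have hNm : N = m := by omega
    subst hNm
    have hck : c = k := by omega
    subst hck
    have hwu : w = u := by
      funext j
      have := htail j (by omega)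
      have h2 : (⟨0 + (j : ℕ), by omega⟩ : Fin N) = j := Fin.ext (by simp)
      rw [h2] at this
      exact this
    rw [hwu, phi_zero, one_mul]
  | succ n ih =>
    intro k N c hnk hN hc e w hhead htail hadm htop
    obtain ⟨N', rfl⟩ : ∃ N', N = N' + 1 := ⟨n + m, by omega⟩
    have hN' : N' = n + m := by omega
    have h : sK k ∈ G (R := R) sK k ⊔ Submodule.span R (Set.range e) := by
      rw [htop]; exact Submodule.mem_top
    obtain ⟨p, α, hp1, hp2, hα, hep, hred⟩ := exists_data sK hs (by omega) e hadm h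
    have hpN : (p : ℕ) < N' + 1 := by have := p.2; omega
    have hGk : G (R := R) sL k = (G (R := R) sK k).map f :=
      G_map f sK sL k (fun j hj => hsf j (by omega))
    have hsk : sL k = f (sK k) := hsf k (by omega)
    have hX : ∀ i : ℕ, i ≤ n + 1 → ∀ x : K,
        f x ∈ G (R := R) sL k ⊔ spanBefore R L w i ↔ x ∈ G (R := R) sK k ⊔ spanBefore R K e i := by
      intro i hi x
      rw [hGk, spanBefore_head f e w (by omega) hhead i hi, ← Submodule.map_sup,
        mem_map_iff_of_injective f hf]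
    have hwp : w ⟨p, hpN⟩ = f (e p) := hhead ⟨p, hpN⟩ p.2
    have hp1' : sL k ∈ G (R := R) sL k ⊔
        spanBefore R L w (((⟨p, hpN⟩ : Fin (N' + 1)) : ℕ) + 1) := by
      rw [hsk]; exact (hX _ (by have := p.2; show (p : ℕ) + 1 ≤ n + 1; omega) _).2 hp1
    have hp2' : sL k ∉ G (R := R) sL k ⊔ spanBefore R L w ((⟨p, hpN⟩ : Fin (N' + 1)) : ℕ) := by
      rw [hsk]
      exact fun h' => hp2 ((hX _ (by have := p.2; show (p : ℕ) ≤ n + 1; omega) _).1 h')
    have hα' : sL k - (α : R) • w ⟨p, hpN⟩ ∈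
        G (R := R) sL k ⊔ spanBefore R L w ((⟨p, hpN⟩ : Fin (N' + 1)) : ℕ) := by
      rw [hsk, hwp, ← map_smul, ← map_sub]
      exact (hX _ (by have := p.2; show (p : ℕ) ≤ n + 1; omega) _).2 hα
    have htop' : G (R := R) sK (k + 1) ⊔ Submodule.span R (Set.range (e ∘ p.succAbove)) = ⊤ := by
      rw [eq_top_iff, ← htop]
      exact sup_span_range_le_succAbove e p (G_le_succ sK k) hep
    have hih := ih (k + 1) N' c (by omega) hN' (by omega) (e ∘ p.succAbove)
      (w ∘ (⟨p, hpN⟩ : Fin (N' + 1)).succAbove) ?_ ?_ hred htop'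
    · rw [phi_succ_of sL k w ⟨p, hpN⟩ (α : R) hp1' hp2' hα',
        phi_succ_of sK k e p (α : R) hp1 hp2 hα, hih]
      ring
    · intro i hi
      simp only [Function.comp]
      have hval : (((⟨p, hpN⟩ : Fin (N' + 1)).succAbove i : Fin (N' + 1)) : ℕ) =
          ((p.succAbove ⟨i, hi⟩ : Fin (n + 1)) : ℕ) := by
        rw [succAbove_val, succAbove_val]
      have hlt : (((⟨p, hpN⟩ : Fin (N' + 1)).succAbove i : Fin (N' + 1)) : ℕ) < n + 1 := by
        rw [hval]; exact (p.succAbove ⟨i, hi⟩).2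
      rw [hhead _ hlt]
      congr 2
      exact Fin.ext hval
    · intro j hj
      simp only [Function.comp]
      have hval : (((⟨p, hpN⟩ : Fin (N' + 1)).succAbove ⟨n + j, hj⟩ : Fin (N' + 1)) : ℕ) =
          n + 1 + (j : ℕ) := by
        rw [succAbove_val, if_neg (by have := p.2; simp; omega)]
        simp; omega
      have h1 := htail j (by omega)
      rw [← h1]
      congr 1
      exact Fin.ext hval

end Groth.Agent.Lib.Helper21.CycMul
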