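import Groth.Prelude.Def_CycDet
import Mathlib
import Groth.Agent.Lib.Helper21.CycMulC

/-!
# Multiplicativity of `det_κ` in short exact sequences
-/

set_option autoImplicit false
set_option linter.unusedSectionVars false
universe u v w

namespace Groth.Agent.Lib.Helper21.CycMul

open CycDet IsLocalRing Groth.Agent.Lib.Helper29.CycDetLib Groth.Agent.Lib.Helper21.CycNZ
open TensorProduct

variable {R : Type u} [CommRing R] [IsLocalRing R]

section General

variable {X : Type v} [AddCommGroup X] [Module R X]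

lemma G_zero (s : ℕ → X) : G (R := R) s 0 = ⊥ := by
  unfold G
  have : (Set.Iio 0 : Set ℕ) = ∅ := by ext; simp
  rw [this, Set.image_empty, Submodule.span_empty]

lemma refSeq_of_lt {l : ℕ} (e : Fin l → X) (j : ℕ) (hj : j < l) : refSeq e j = e ⟨j, hj⟩ := by
  simp [refSeq, hj]

lemma refSeq_of_ge {l : ℕ} (e : Fin l → X) (j : ℕ) (hj : l ≤ j) : refSeq e j = 0 := by
  simp [refSeq, Nat.not_lt.2 hj]

lemma good_refSeq (hX : IsFiniteLength R X) {l : ℕ} (hl : l = (Module.length R X).toNat)
    (e : Adm R X l) (he : Submodule.span R (Set.range e.1) = ⊤) :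
    Good (R := R) (refSeq e.1) l := by
  have hstrict := strict_of_span_eq_top hX hl e.1 e.2 he
  constructor
  · intro j hj r hr
    rw [G_refSeq e.1 j hj.le, refSeq_of_lt e.1 j hj]
    exact e.2 ⟨j, hj⟩ r hr
  · intro j hj
    rw [G_refSeq e.1 j hj.le, refSeq_of_lt e.1 j hj]
    exact hstrict ⟨j, hj⟩

lemma relAdm_bot {l : ℕ} (s : ℕ → X) (t : Adm R X l) : RelAdm (G (R := R) s 0) t.1 :=
  fun i r hr => Submodule.mem_sup_right (t.2 i r hr)

/-- The functional on `DetOfLen` attached to a good reference sequence. -/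
theorem exists_detFun (s : ℕ → X) {l : ℕ} (hs : Good (R := R) s l) :
    ∃ Ψ : DetOfLen R X l →ₗ[ResidueField R] ResidueField R,
      ∀ t : Adm R X l, Ψ (cls t) = phi (R := R) s l 0 t.1 := by
  classical
  let Φ : Free R X l →ₗ[ResidueField R] ResidueField R :=
    Finsupp.linearCombination (ResidueField R) (fun t : Adm R X l => phi (R := R) s l 0 t.1)
  have hΦ : ∀ t : Adm R X l, Φ (sym R X t) = phi (R := R) s l 0 t.1 := by
    intro t
    simp [Φ, sym]
  have hkill : Submodule.span (ResidueField R) (relSet R X l) ≤ LinearMap.ker Φ := by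
    rw [Submodule.span_le]
    rintro x ((⟨t, a, ha, rfl⟩ | ⟨t, t', a, c, hagree, ha, rfl⟩) | ⟨t, t', a, b, hab, hc, ht', rfl⟩)
    · rw [SetLike.mem_coe, LinearMap.mem_ker, hΦ]
      exact phi_eq_zero_of_mem _ hs l 0 (by omega) t.1 (relAdm_bot s t) a
        (Submodule.mem_sup_right ha)
    · rw [SetLike.mem_coe, LinearMap.mem_ker, map_sub, map_smul, hΦ, hΦ, smul_eq_mul, sub_eq_zero]
      exact phi_smul _ hs l 0 (by omega) t.1 t'.1 (relAdm_bot s t) (relAdm_bot s t') a c hagree
        (Submodule.mem_sup_right ha)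
    · rw [SetLike.mem_coe, LinearMap.mem_ker, map_add, hΦ, hΦ]
      exact phi_swap _ hs l 0 (by omega) t.1 t'.1 (relAdm_bot s t) (relAdm_bot s t') a b hab
        (fun r hr => Submodule.mem_sup_right (hc r hr)) ht'
  refine ⟨Submodule.liftQ _ Φ hkill, fun t => ?_⟩
  change Submodule.liftQ _ Φ hkill (Submodule.Quotient.mk (sym R X t)) = _
  rw [Submodule.liftQ_apply, hΦ]

lemma bijective_of_rank_le_one {V : Type*} [AddCommGroup V] [Module (ResidueField R) V]
    (hV : Module.rank (ResidueField R) V ≤ 1) (Ψ : V →ₗ[ResidueField R] ResidueField R) (v₁ : V)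
    (h : Ψ v₁ ≠ 0) : Function.Bijective Ψ := by
  obtain ⟨v₀, hv₀⟩ := rank_le_one_iff.1 hV
  have h0 : Ψ v₀ ≠ 0 := by
    obtain ⟨r₁, hr₁⟩ := hv₀ v₁
    intro h'
    apply h
    rw [← hr₁, map_smul, h', smul_zero]
  constructor
  · rw [injective_iff_map_eq_zero]
    intro x hx
    obtain ⟨r, rfl⟩ := hv₀ x
    rw [map_smul, smul_eq_mul] at hx
    rcases mul_eq_zero.1 hx with h1 | h1
    · rw [h1, zero_smul]
    · exact absurd h1 h0
  · intro y
    refine ⟨(y / Ψ v₁) • v₁, ?_⟩
    rw [map_smul, smul_eq_mul, div_mul_cancel₀ _ h]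

lemma comap_sup_span_singleton {L : Type v} {M : Type w} [AddCommGroup L] [Module R L]
    [AddCommGroup M] [Module R M] (g : L →ₗ[R] M) (B : Submodule R M) (x : L) :
    (B ⊔ Submodule.span R {g x}).comap g = B.comap g ⊔ Submodule.span R {x} := by
  apply le_antisymm
  · intro y hy
    rw [Submodule.mem_comap] at hy
    obtain ⟨b, hb, z, hz, hsum⟩ := Submodule.mem_sup.1 hy
    obtain ⟨r, rfl⟩ := Submodule.mem_span_singleton.1 hz
    have h1 : y = (y - r • x) + r • x := by abel
    rw [h1]
    refine Submodule.add_mem _ (Submodule.mem_sup_left ?_)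
      (Submodule.mem_sup_right (Submodule.smul_mem _ _ (Submodule.subset_span rfl)))
    rw [Submodule.mem_comap, map_sub, map_smul, ← hsum, add_sub_cancel_right]
    exact hb
  · apply sup_le
    · exact Submodule.comap_mono le_sup_left
    · rw [Submodule.span_le]
      rintro _ rfl
      exact Submodule.mem_sup_right (Submodule.subset_span rfl)

end General

end Groth.Agent.Lib.Helper21.CycMul
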