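import Groth.Prelude.Def_CycDet
import Mathlib
import Groth.Agent.Lib.Helper21.CycMulD

/-!
# Multiplicativity of `det_κ` in short exact sequences: assembly
-/

set_option autoImplicit false
set_option linter.unusedSectionVars false
universe u

namespace Groth.Agent.Lib.Helper21.CycMul

open CycDet IsLocalRing Groth.Agent.Lib.Helper29.CycDetLib Groth.Agent.Lib.Helper21.CycNZ
open TensorProduct

variable {R : Type u} [CommRing R] [IsLocalRing R]
  {K L M : Type u} [AddCommGroup K] [Module R K] [AddCommGroup L] [Module R L]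
  [AddCommGroup M] [Module R M]

/-- The reference sequence on the middle term. -/
noncomputable def seqL (f : K →ₗ[R] L) {lK lM : ℕ} (eK : Fin lK → K) (t : Fin lM → L) : ℕ → L :=
  fun i => if h : i < lK then f (eK ⟨i, h⟩) else refSeq t (i - lK)

lemma seqL_head (f : K →ₗ[R] L) {lK lM : ℕ} (eK : Fin lK → K) (t : Fin lM → L) (i : ℕ)
    (hi : i < lK) : seqL f eK t i = f (refSeq eK i) := by
  simp [seqL, refSeq, hi]

lemma seqL_tail (f : K →ₗ[R] L) {lK lM : ℕ} (eK : Fin lK → K) (t : Fin lM → L) (j : ℕ) :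
    seqL f eK t (lK + j) = refSeq t j := by
  simp [seqL]

lemma spanBefore_restrict {X : Type u} [AddCommGroup X] [Module R X] (s : ℕ → X) (l k : ℕ)
    (hk : k ≤ l) : spanBefore R X (fun i : Fin l => s i) k = G (R := R) s k := by
  unfold G spanBefore
  congr 1
  ext x
  constructor
  · rintro ⟨j, hj, rfl⟩
    exact ⟨j, hj, rfl⟩
  · rintro ⟨j, hj, rfl⟩
    exact ⟨⟨j, lt_of_lt_of_le hj hk⟩, hj, rfl⟩

theorem gamma_exists (hK : IsFiniteLength R K) (hM : IsFiniteLength R M) (f : K →ₗ[R] L)
    (g : L →ₗ[R] M) (hf : Function.Injective f) (hg : Function.Surjective g)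
    (hfg : LinearMap.range f = LinearMap.ker g) {lK lM lL : ℕ}
    (hlK : lK = (Module.length R K).toNat) (hlM : lM = (Module.length R M).toNat)
    (hlL : lL = (Module.length R L).toNat) (hlen : lK + lM = lL) :
    ∃ γ : (DetOfLen R K lK ⊗[ResidueField R] DetOfLen R M lM) ≃ₗ[ResidueField R] DetOfLen R L lL,
      ∀ (eK : Adm R K lK) (eM : Adm R M lM) (eL : Adm R L lL), cls eK ≠ 0 →
        (∀ i : Fin lK, eL.1 (Fin.cast hlen (Fin.castAdd lM i)) = f (eK.1 i)) →
        (∀ j : Fin lM, g (eL.1 (Fin.cast hlen (Fin.natAdd lK j))) = eM.1 j) →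
        γ (cls eK ⊗ₜ cls eM) = cls eL := by
  classical
  -- finite length of `L`
  have hL : IsFiniteLength R L := by
    rw [isFiniteLength_iff_isNoetherian_isArtinian] at hK hM ⊢
    have := hK.1; have := hK.2; have := hM.1; have := hM.2
    exact ⟨isNoetherian_of_range_eq_ker f g hfg, isArtinian_of_range_eq_ker f g hfg⟩
  -- reference tuples
  obtain ⟨eK₀, heK₀⟩ : ∃ e : Adm R K lK, Submodule.span R (Set.range e.1) = ⊤ := by
    subst hlK; exact exists_gen' hK
  obtain ⟨eM₀, heM₀⟩ : ∃ e : Adm R M lM, Submodule.span R (Set.range e.1) = ⊤ := by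
    subst hlM; exact exists_gen' hM
  choose t ht using fun j : Fin lM => hg (eM₀.1 j)
  set sK : ℕ → K := refSeq eK₀.1 with hsKdef
  set sM : ℕ → M := refSeq eM₀.1 with hsMdef
  set sL : ℕ → L := seqL f eK₀.1 t with hsLdef
  have hsK : Good (R := R) sK lK := good_refSeq hK hlK eK₀ heK₀
  have hsM : Good (R := R) sM lM := good_refSeq hM hlM eM₀ heM₀
  have hsf : ∀ j < lK, sL j = f (sK j) := fun j hj => seqL_head f eK₀.1 t j hj
  have hg' : ∀ j, g (sL (lK + j)) = sM j := by
    intro j
    rw [hsLdef, seqL_tail]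
    by_cases hj : j < lM
    · rw [refSeq_of_lt t j hj, hsMdef, refSeq_of_lt eM₀.1 j hj, ht]
    · rw [refSeq_of_ge t j (by omega), hsMdef, refSeq_of_ge eM₀.1 j (by omega), map_zero]
  have hGKtop : G (R := R) sK lK = ⊤ := by
    rw [hsKdef, G_refSeq eK₀.1 lK le_rfl, spanBefore_ge eK₀.1 le_rfl, heK₀]
  have hGMtop : G (R := R) sM lM = ⊤ := by
    rw [hsMdef, G_refSeq eM₀.1 lM le_rfl, spanBefore_ge eM₀.1 le_rfl, heM₀]
  have hGLK : G (R := R) sL lK = LinearMap.range f := by
    rw [G_map f sK sL lK hsf, hGKtop, Submodule.map_top]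
  have hGL : ∀ j, G (R := R) sL (lK + j) = (G (R := R) sM j).comap g := by
    intro j
    induction j with
    | zero =>
      rw [Nat.add_zero, hGLK, G_zero, Submodule.comap_bot, hfg]
    | succ j ih =>
      rw [show lK + (j + 1) = lK + j + 1 from rfl, G_succ, G_succ, ih, ← hg' j,
        comap_sup_span_singleton]
  have hsL : Good (R := R) sL lL := by
    constructor
    · intro j hj r hr
      by_cases hjK : j < lK
      · rw [G_map f sK sL j (fun i hi => hsf i (by omega)), hsf j hjK, ← map_smul]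
        exact Submodule.mem_map_of_mem (hsK.adm j hjK r hr)
      · obtain ⟨j', rfl⟩ : ∃ j', j = lK + j' := ⟨j - lK, by omega⟩
        rw [hGL j', Submodule.mem_comap, map_smul, hg' j']
        exact hsM.adm j' (by omega) r hr
    · intro j hj
      by_cases hjK : j < lK
      · rw [G_map f sK sL j (fun i hi => hsf i (by omega)), hsf j hjK,
          mem_map_iff_of_injective f hf]
        exact hsK.strict j hjK
      · obtain ⟨j', rfl⟩ : ∃ j', j = lK + j' := ⟨j - lK, by omega⟩
        rw [hGL j', Submodule.mem_comap, hg' j']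
        exact hsM.strict j' (by omega)
  -- the functionals
  obtain ⟨ΨK, hΨK⟩ := exists_detFun sK hsK
  obtain ⟨ΨM, hΨM⟩ := exists_detFun sM hsM
  obtain ⟨ΨL, hΨL⟩ := exists_detFun sL hsL
  have hrK : Module.rank (ResidueField R) (DetOfLen R K lK) ≤ 1 := by
    subst hlK; exact rank_le_one hK
  have hrM : Module.rank (ResidueField R) (DetOfLen R M lM) ≤ 1 := by
    subst hlM; exact rank_le_one hM
  have hrL : Module.rank (ResidueField R) (DetOfLen R L lL) ≤ 1 := by
    subst hlL; exact rank_le_one hL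
  have hbK : Function.Bijective ΨK := by
    refine bijective_of_rank_le_one hrK ΨK (cls eK₀) ?_
    rw [hΨK]
    exact phi_ne_zero sK hsK lK 0 (by omega) eK₀.1 (relAdm_bot sK eK₀)
      (by rw [heK₀, sup_top_eq])
  have hbM : Function.Bijective ΨM := by
    refine bijective_of_rank_le_one hrM ΨM (cls eM₀) ?_
    rw [hΨM]
    exact phi_ne_zero sM hsM lM 0 (by omega) eM₀.1 (relAdm_bot sM eM₀)
      (by rw [heM₀, sup_top_eq])
  have hbL : Function.Bijective ΨL := by
    have hadmL : IsAdmissible R L (fun i : Fin lL => sL i) := by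
      intro i r hr
      rw [spanBefore_restrict sL lL i i.2.le]
      exact hsL.adm i i.2 r hr
    have hgenL : Submodule.span R (Set.range (fun i : Fin lL => sL i)) = ⊤ := by
      rw [← spanBefore_ge (fun i : Fin lL => sL i) le_rfl, spanBefore_restrict sL lL lL le_rfl,
        ← hlen, hGL lM, hGMtop, Submodule.comap_top]
    refine bijective_of_rank_le_one hrL ΨL (cls ⟨fun i : Fin lL => sL i, hadmL⟩) ?_
    rw [hΨL]
    exact phi_ne_zero sL hsL lL 0 (by omega) _ (relAdm_bot sL ⟨_, hadmL⟩)
      (by rw [hgenL, sup_top_eq])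
  let EK : DetOfLen R K lK ≃ₗ[ResidueField R] ResidueField R := LinearEquiv.ofBijective ΨK hbK
  let EM : DetOfLen R M lM ≃ₗ[ResidueField R] ResidueField R := LinearEquiv.ofBijective ΨM hbM
  let EL : DetOfLen R L lL ≃ₗ[ResidueField R] ResidueField R := LinearEquiv.ofBijective ΨL hbL
  refine ⟨(TensorProduct.congr EK EM).trans
    ((TensorProduct.lid (ResidueField R) (ResidueField R)).trans EL.symm), ?_⟩
  intro eK eM eL hne hhead htail
  -- `eK` generates
  have hstrictK : ∀ a : Fin lK, eK.1 a ∉ spanBefore R K eK.1 a := by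
    intro a ha
    exact hne (rel_a eK a ha)
  have hgenK : Submodule.span R (Set.range eK.1) = ⊤ := span_eq_top_of_strict hK hlK eK.1 hstrictK
  let u : Fin lM → L := fun j => eL.1 (Fin.cast hlen (Fin.natAdd lK j))
  have hhead' : ∀ (i : Fin lL) (h : (i : ℕ) < lK), eL.1 i = f (eK.1 ⟨i, h⟩) := by
    intro i h
    rw [← hhead ⟨i, h⟩]
    congr 1
  have htail' : ∀ (j : Fin lM) (h : lK + (j : ℕ) < lL), eL.1 ⟨lK + j, h⟩ = u j := by
    intro j h
    rfl
  have step1 := phi_head f hf sK sL lK hsK hsf u lK 0 lL lK (by omega) hlen.symm (by omega)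
    eK.1 eL.1 hhead' htail' (relAdm_bot sK eK) (by rw [G_zero, bot_sup_eq]; exact hgenK)
  have hreladm : RelAdm (G (R := R) sL (lK + 0)) u := by
    intro j r hr
    have h1 := eL.2 (Fin.cast hlen (Fin.natAdd lK j)) r hr
    have h2 : spanBefore R L eL.1 ((Fin.cast hlen (Fin.natAdd lK j) : Fin lL) : ℕ) ≤
        G (R := R) sL (lK + 0) ⊔ spanBefore R L u j := by
      unfold spanBefore
      rw [Submodule.span_le]
      rintro _ ⟨i, hi, rfl⟩
      have hi' : (i : ℕ) < lK + (j : ℕ) := by simpa using hi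
      by_cases hiK : (i : ℕ) < lK
      · rw [hhead' i hiK, Nat.add_zero, hGLK]
        exact Submodule.mem_sup_left (LinearMap.mem_range_self f _)
      · have hj' : (i : ℕ) - lK < lM := by have := i.2; omega
        have h3 : eL.1 i = u ⟨(i : ℕ) - lK, hj'⟩ := by
          change eL.1 i = eL.1 _
          refine congrArg eL.1 (Fin.ext ?_)
          simp; omega
        rw [h3]
        refine Submodule.mem_sup_right (Submodule.subset_span ⟨⟨(i : ℕ) - lK, hj'⟩, ?_, rfl⟩)
        change (i : ℕ) - lK < (j : ℕ)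
        omega
    exact h2 h1
  have step2 := phi_comp g sL sM lK lL hsL hg' hGL lM 0 (by omega) u hreladm
  have hgu : g ∘ u = eM.1 := funext htail
  rw [hgu] at step2
  have key : ΨL (cls eL) = ΨK (cls eK) * ΨM (cls eM) := by
    rw [hΨL, hΨK, hΨM, step1, ← step2]
    rfl
  apply EL.injective
  change EL (EL.symm _) = ΨL (cls eL)
  rw [LinearEquiv.apply_symm_apply, key]
  change (TensorProduct.lid (ResidueField R) (ResidueField R))
    ((TensorProduct.congr EK EM) (cls eK ⊗ₜ[ResidueField R] cls eM)) = _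
  rw [TensorProduct.congr_tmul, TensorProduct.lid_tmul, smul_eq_mul]
  rfl

end Groth.Agent.Lib.Helper21.CycMul
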