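import Mathlib

/-!
# Unramified extensions of DVRs with prescribed residue field (part A)

Polynomial lemmas: separable perturbation of a monic polynomial, and roots with prescribed residue
in a valuation ring of a separably closed field.
-/

set_option autoImplicit false

namespace Groth.Agent.Lib.Helper21.DvrExt

open Polynomial IsLocalRing

/-- A monic polynomial `g₀` over a field can be made separable by adding `ε X + π ^ (j+1)` with
`ε ∈ {0, π}`, provided the powers of `π` are pairwise distinct. -/
theorem exists_separable_perturb {F : Type*} [Field F] (g₀ : F[X]) (π : F) (hπ0 : π ≠ 0)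
    (hπ : Function.Injective (fun j : ℕ => π ^ (j + 1))) :
    ∃ (ε : F) (j : ℕ), (ε = 0 ∨ ε = π) ∧ (g₀ + C ε * X + C (π ^ (j + 1))).Separable := by
  classical
  let Ω := AlgebraicClosure F
  obtain ⟨ε, hε, hd⟩ : ∃ ε : F, (ε = 0 ∨ ε = π) ∧ derivative (g₀ + C ε * X) ≠ 0 := by
    by_cases h : derivative g₀ = 0
    · refine ⟨π, Or.inr rfl, ?_⟩
      rw [derivative_add, h, zero_add, derivative_C_mul, derivative_X, mul_one]
      exact fun h' => hπ0 (C_eq_zero.mp h')
    · refine ⟨0, Or.inl rfl, ?_⟩
      simpa using h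
  set g₁ := g₀ + C ε * X with hg₁
  let B : Finset Ω := ((derivative g₁).aroots Ω).toFinset.image (fun ρ => - aeval ρ g₁)
  have hinj : Function.Injective (fun j : ℕ => algebraMap F Ω (π ^ (j + 1))) :=
    (algebraMap F Ω).injective.comp hπ
  obtain ⟨a, ⟨j, rfl⟩, haB⟩ := (Set.infinite_range_of_injective hinj).exists_notMem_finset B
  refine ⟨ε, j, hε, ?_⟩
  rw [separable_def]
  refine (isCoprime_iff_aeval_ne_zero_of_isAlgClosed F (AlgebraicClosure F) _ _).2 ?_
  intro a
  by_contra hcon
  push Not at hcon
  obtain ⟨h1, h2⟩ := hcon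
  have hder : derivative (g₁ + C (π ^ (j + 1))) = derivative g₁ := by
    rw [derivative_add, derivative_C, add_zero]
  rw [hder] at h2
  have hmem : a ∈ (derivative g₁).aroots Ω := (mem_aroots).2 ⟨hd, h2⟩
  apply haB
  rw [Finset.mem_image]
  refine ⟨a, Multiset.mem_toFinset.2 hmem, ?_⟩
  rw [map_add, aeval_C] at h1
  exact (eq_neg_of_add_eq_zero_right h1).symm

/-- In a valuation ring of a separably closed field, a root of the reduction of a monic polynomial
with separable generic fibre lifts to a root. -/
theorem exists_root_residue {F : Type*} [Field F] [IsSepClosed F] (V : ValuationSubring F)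
    (g : (↥V)[X]) (hm : g.Monic) (hsep : (g.map (algebraMap V F)).Separable)
    (α : ResidueField V) (hα : eval α (g.map (residue V)) = 0) :
    ∃ β : V, eval β g = 0 ∧ residue V β = α := by
  classical
  set gF := g.map (algebraMap V F) with hgF
  have hsplit : gF.Splits := IsSepClosed.splits_of_separable gF hsep
  have hmF : gF.Monic := hm.map _
  obtain ⟨a, rfl⟩ := residue_surjective α
  -- all roots lie in `V`
  have hroot_mem : ∀ ρ ∈ gF.roots, ∃ b : V, (b : F) = ρ := by
    intro ρ hρ
    have hint : IsIntegral V ρ := by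
      refine ⟨g, hm, ?_⟩
      rw [← eval_map]
      exact (mem_roots hmF.ne_zero).1 hρ
    obtain ⟨b, hb⟩ := IsIntegrallyClosed.algebraMap_eq_of_integral hint
    exact ⟨b, hb⟩
  have heval : eval (a : F) gF = ((eval a g : V) : F) := by
    rw [hgF, eval_map]
    exact (hom_eval₂ g (RingHom.id V) (algebraMap V F) a).symm ▸ by simp [eval₂_eq_eval_map]
  have hlt : V.valuation (eval (a : F) gF) < 1 := by
    rw [heval]
    have : eval a g ∈ maximalIdeal V := by
      rw [← residue_eq_zero_iff, ← eval₂_at_apply, ← eval_map]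
      exact hα
    exact (V.valuation_lt_one_iff _).1 this
  rw [hsplit.eval_eq_prod_roots_of_monic hmF, map_multiset_prod, Multiset.map_map] at hlt
  obtain ⟨ρ, hρ, hρlt⟩ : ∃ ρ ∈ gF.roots, V.valuation ((a : F) - ρ) < 1 := by
    by_contra hcon
    push Not at hcon
    have hall : ∀ x ∈ (gF.roots.map (⇑V.valuation ∘ fun x => (a : F) - x)), x = 1 := by
      intro x hx
      obtain ⟨ρ, hρ, rfl⟩ := Multiset.mem_map.1 hx
      obtain ⟨b, hb⟩ := hroot_mem ρ hρ
      have hle : V.valuation ((a : F) - ρ) ≤ 1 := by
        rw [← hb]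
        exact (V.valuation_le_one_iff _).2 (V.sub_mem a.2 b.2)
      exact le_antisymm hle (hcon ρ hρ)
    rw [Multiset.prod_eq_one hall] at hlt
    exact lt_irrefl _ hlt
  obtain ⟨b, hb⟩ := hroot_mem ρ hρ
  refine ⟨b, ?_, ?_⟩
  · have h0 : eval ρ gF = 0 := (mem_roots hmF.ne_zero).1 hρ
    rw [← hb, hgF, eval_map] at h0
    have h1 : ((eval b g : V) : F) = 0 := by
      rw [← h0]
      simpa [eval₂_eq_eval_map] using (hom_eval₂ g (RingHom.id V) (algebraMap V F) b)
    exact_mod_cast h1
  · have hmem : a - b ∈ maximalIdeal V := by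
      rw [V.valuation_lt_one_iff]
      simpa [hb] using hρlt
    have := (residue_eq_zero_iff _).2 hmem
    rw [map_sub, sub_eq_zero] at this
    exact this.symm

end Groth.Agent.Lib.Helper21.DvrExt
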