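import Groth.Agent.Lib.Helper21.DvrExtA

/-!
# Unramified extensions of DVRs with prescribed residue field (part B)

`Good` subrings of a valuation ring: local subrings with maximal ideal generated by `π`,
dominated by the valuation ring, with residue field inside a given subfield.
-/

set_option autoImplicit false

namespace Groth.Agent.Lib.Helper21.DvrExt

open IsLocalRing

variable {F : Type*} [Field F] (V : ValuationSubring F) {k' : Type*} [Field k']
  (ι : k' →+* ResidueField V) (π : F)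

/-- The good subrings `O` of the valuation ring `V` containing the base subring `B`. -/
structure Good (B : Subring F) (O : Subring F) : Prop where
  le : O ≤ V.toSubring
  base : B ≤ O
  inv_mem : ∀ x ∈ O, V.valuation x = 1 → x⁻¹ ∈ O
  dvd : ∀ x ∈ O, V.valuation x < 1 → ∃ y ∈ O, x = π * y
  res : ∀ x : V, (x : F) ∈ O → residue V x ∈ ι.range

namespace Good

variable {V ι π} {B O : Subring F} (h : Good V ι π B O)

include h

theorem val_le_one {x : F} (hx : x ∈ O) : V.valuation x ≤ 1 :=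
  (V.valuation_le_one_iff x).2 (h.le hx)

theorem isUnit_iff (x : O) : IsUnit x ↔ V.valuation (x : F) = 1 := by
  constructor
  · rintro ⟨u, rfl⟩
    have h1 : V.valuation ((u : O) : F) * V.valuation (((u⁻¹ : Oˣ) : O) : F) = 1 := by
      rw [← map_mul, ← Subring.coe_mul, Units.mul_inv, Subring.coe_one, map_one]
    have h2 := h.val_le_one (u : O).2
    have h3 := h.val_le_one ((u⁻¹ : Oˣ) : O).2
    by_contra hne
    have hlt : V.valuation ((u : O) : F) < 1 := lt_of_le_of_ne h2 hne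
    have : V.valuation ((u : O) : F) * V.valuation (((u⁻¹ : Oˣ) : O) : F) < 1 := by
      calc _ ≤ V.valuation ((u : O) : F) * 1 := mul_le_mul_right h3 _
        _ = V.valuation ((u : O) : F) := mul_one _
        _ < 1 := hlt
    rw [h1] at this
    exact lt_irrefl _ this
  · intro hx
    have hinv := h.inv_mem x x.2 hx
    have hx0 : (x : F) ≠ 0 := by
      intro h0
      rw [h0, map_zero] at hx
      exact zero_ne_one hx
    refine isUnit_iff_exists_inv.2 ⟨⟨(x : F)⁻¹, hinv⟩, ?_⟩
    apply Subtype.ext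
    simp [mul_inv_cancel₀ hx0]

theorem not_isUnit_iff (x : O) : ¬ IsUnit x ↔ V.valuation (x : F) < 1 := by
  rw [h.isUnit_iff]
  constructor
  · intro hne
    exact lt_of_le_of_ne (h.val_le_one x.2) hne
  · intro hlt
    exact ne_of_lt hlt

theorem isLocalRing : IsLocalRing O := by
  refine IsLocalRing.of_nonunits_add ?_
  intro a b ha hb
  rw [mem_nonunits_iff, h.not_isUnit_iff] at ha hb ⊢
  rw [Subring.coe_add]
  exact lt_of_le_of_lt (V.valuation.map_add _ _) (max_lt ha hb)

theorem mem_maximalIdeal_iff (x : O) :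
    haveI := h.isLocalRing
    x ∈ maximalIdeal O ↔ V.valuation (x : F) < 1 := by
  have := h.isLocalRing
  rw [mem_maximalIdeal, mem_nonunits_iff, h.not_isUnit_iff]

theorem maximalIdeal_eq (hπO : π ∈ O) (hπ : V.valuation π < 1) :
    haveI := h.isLocalRing
    maximalIdeal O = Ideal.span {(⟨π, hπO⟩ : O)} := by
  have := h.isLocalRing
  apply le_antisymm
  · intro x hx
    rw [h.mem_maximalIdeal_iff] at hx
    obtain ⟨y, hy, hxy⟩ := h.dvd x x.2 hx
    rw [Ideal.mem_span_singleton']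
    exact ⟨⟨y, hy⟩, Subtype.ext (by simp [hxy, mul_comm])⟩
  · rw [Ideal.span_le, Set.singleton_subset_iff, SetLike.mem_coe, h.mem_maximalIdeal_iff]
    exact hπ

theorem isLocalHom_inclusion : IsLocalHom (Subring.inclusion h.le) := by
  constructor
  intro x hx
  rw [h.isUnit_iff]
  have := (V.valuation_eq_one_iff (Subring.inclusion h.le x)).1 hx
  exact this

theorem irreducible (hπO : π ∈ O) (hπ : V.valuation π < 1) (hπ0 : π ≠ 0) :
    Irreducible (⟨π, hπO⟩ : O) := by
  rw [irreducible_iff]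
  refine ⟨(h.not_isUnit_iff _).2 hπ, ?_⟩
  intro a b hab
  by_contra hcon
  push Not at hcon
  obtain ⟨ha, hb⟩ := hcon
  rw [h.not_isUnit_iff] at ha hb
  obtain ⟨a', ha', haa⟩ := h.dvd a a.2 ha
  obtain ⟨b', hb', hbb⟩ := h.dvd b b.2 hb
  have h1 : π = (a : F) * (b : F) := by
    have := congrArg (Subtype.val) hab
    simpa using this
  rw [haa, hbb] at h1
  have h2 : (1 : F) = π * (a' * b') := by
    have : π * 1 = π * (π * (a' * b')) := by rw [mul_one]; nth_rewrite 1 [h1]; ring
    exact mul_left_cancel₀ hπ0 this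
  have h3 : V.valuation (π * (a' * b')) < 1 := by
    rw [map_mul]
    calc _ ≤ V.valuation π * 1 :=
          mul_le_mul_right (h.val_le_one (O.mul_mem ha' hb')) _
      _ = V.valuation π := mul_one _
      _ < 1 := hπ
  rw [← h2, map_one] at h3
  exact lt_irrefl _ h3

theorem exists_eq_pow_mul (hπ0 : π ≠ 0) :
    ∀ (m : ℕ) (x : F), x ∈ O → (∃ y ∈ O, x * y = π ^ m) →
      ∃ (n : ℕ) (u : F) (hu : u ∈ O), IsUnit (⟨u, hu⟩ : O) ∧ x = π ^ n * u := by
  intro m
  induction m with
  | zero =>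
    rintro x hx ⟨y, hy, hxy⟩
    refine ⟨0, x, hx, ?_, by simp⟩
    rw [pow_zero] at hxy
    exact isUnit_iff_exists_inv.2 ⟨⟨y, hy⟩, Subtype.ext hxy⟩
  | succ m ih =>
    rintro x hx ⟨y, hy, hxy⟩
    by_cases hv : V.valuation x = 1
    · exact ⟨0, x, hx, (h.isUnit_iff ⟨x, hx⟩).2 hv, by simp⟩
    · have hlt : V.valuation x < 1 := lt_of_le_of_ne (h.val_le_one hx) hv
      obtain ⟨x', hx', rfl⟩ := h.dvd x hx hlt
      have h1 : x' * y = π ^ m := by
        have : π * (x' * y) = π * π ^ m := by rw [← pow_succ', ← hxy]; ring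
        exact mul_left_cancel₀ hπ0 this
      obtain ⟨n, u, hu, hunit, rfl⟩ := ih x' hx' ⟨y, hy, h1⟩
      exact ⟨n + 1, u, hu, hunit, by ring⟩

theorem isDiscreteValuationRing (hπO : π ∈ O) (hπ : V.valuation π < 1) (hπ0 : π ≠ 0)
    (hdvd : ∀ x ∈ O, x ≠ 0 → ∃ m : ℕ, ∃ y ∈ O, x * y = π ^ m) :
    IsDiscreteValuationRing O := by
  refine IsDiscreteValuationRing.ofHasUnitMulPowIrreducibleFactorization
    ⟨⟨π, hπO⟩, h.irreducible hπO hπ hπ0, ?_⟩
  intro x hx0
  have hx0' : (x : F) ≠ 0 := fun h0 => hx0 (Subtype.ext h0)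
  obtain ⟨m, y, hy, hxy⟩ := hdvd x x.2 hx0'
  obtain ⟨n, u, hu, hunit, hxu⟩ := h.exists_eq_pow_mul hπ0 m x x.2 ⟨y, hy, hxy⟩
  refine ⟨n, ?_⟩
  obtain ⟨w, hw⟩ := hunit
  refine ⟨w, ?_⟩
  apply Subtype.ext
  rw [hw]
  simp [hxu]

end Good

end Groth.Agent.Lib.Helper21.DvrExt
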