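import Groth.Agent.Lib.Helper21.DvrExtB

/-!
# Unramified extensions of DVRs with prescribed residue field (part C)

Localization of a subring of a valued field at the elements of valuation one, and the criterion
for it to be a good subring.
-/

set_option autoImplicit false

namespace Groth.Agent.Lib.Helper21.DvrExt

open IsLocalRing Polynomial

variable {F : Type*} [Field F] (V : ValuationSubring F)

/-- The localization of a subring at its elements of valuation one. -/
def locSub (A : Subring F) : Subring F where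
  carrier := {x | ∃ a ∈ A, ∃ s ∈ A, V.valuation s = 1 ∧ x = a / s}
  mul_mem' := by
    rintro x y ⟨a, ha, s, hs, hvs, rfl⟩ ⟨b, hb, t, ht, hvt, rfl⟩
    exact ⟨a * b, A.mul_mem ha hb, s * t, A.mul_mem hs ht, by rw [map_mul, hvs, hvt, one_mul],
      by rw [div_mul_div_comm]⟩
  one_mem' := ⟨1, A.one_mem, 1, A.one_mem, map_one _, by simp⟩
  add_mem' := by
    rintro x y ⟨a, ha, s, hs, hvs, rfl⟩ ⟨b, hb, t, ht, hvt, rfl⟩
    have hs0 : s ≠ 0 := by rintro rfl; simp at hvs
    have ht0 : t ≠ 0 := by rintro rfl; simp at hvt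
    exact ⟨a * t + s * b, A.add_mem (A.mul_mem ha ht) (A.mul_mem hs hb), s * t, A.mul_mem hs ht,
      by rw [map_mul, hvs, hvt, one_mul], div_add_div a b hs0 ht0⟩
  zero_mem' := ⟨0, A.zero_mem, 1, A.one_mem, map_one _, by simp⟩
  neg_mem' := by
    rintro x ⟨a, ha, s, hs, hvs, rfl⟩
    exact ⟨-a, A.neg_mem ha, s, hs, hvs, by rw [neg_div]⟩

theorem mem_locSub {A : Subring F} {x : F} :
    x ∈ locSub V A ↔ ∃ a ∈ A, ∃ s ∈ A, V.valuation s = 1 ∧ x = a / s := Iff.rfl

theorem le_locSub (A : Subring F) : A ≤ locSub V A := fun x hx =>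
  ⟨x, hx, 1, A.one_mem, map_one _, by simp⟩

variable {V} {k' : Type*} [Field k'] {ι : k' →+* ResidueField V} {π : F}

theorem good_locSub {B A : Subring F} (hAV : A ≤ V.toSubring) (hBA : B ≤ A)
    (hdvdA : ∀ x ∈ A, V.valuation x < 1 → ∃ y ∈ A, x = π * y)
    (hresA : ∀ x : V, (x : F) ∈ A → residue V x ∈ ι.range) :
    Good V ι π B (locSub V A) where
  le := by
    rintro x ⟨a, ha, s, hs, hvs, rfl⟩
    show a / s ∈ V
    rw [← V.valuation_le_one_iff, map_div₀, hvs, div_one, V.valuation_le_one_iff]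
    exact hAV ha
  base := hBA.trans (le_locSub V A)
  inv_mem := by
    rintro x ⟨a, ha, s, hs, hvs, rfl⟩ hv
    rw [map_div₀, hvs, div_one] at hv
    exact ⟨s, hs, a, ha, hv, by rw [inv_div]⟩
  dvd := by
    rintro x ⟨a, ha, s, hs, hvs, rfl⟩ hv
    rw [map_div₀, hvs, div_one] at hv
    obtain ⟨a', ha', rfl⟩ := hdvdA a ha hv
    exact ⟨a' / s, ⟨a', ha', s, hs, hvs, rfl⟩, by rw [mul_div_assoc]⟩
  res := by
    rintro x ⟨a, ha, s, hs, hvs, hx⟩
    have hs0 : s ≠ 0 := by rintro rfl; simp at hvs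
    let a' : V := ⟨a, hAV ha⟩
    let s' : V := ⟨s, hAV hs⟩
    have hunit : IsUnit s' := (V.valuation_eq_one_iff s').2 hvs
    have hxs : x * s' = a' := by
      apply Subtype.ext
      show (x : F) * s = a
      rw [hx, div_mul_cancel₀ _ hs0]
    have hrs : IsUnit (residue V s') := hunit.map _
    have h1 : residue V x = residue V a' * (residue V s')⁻¹ := by
      rw [← hxs, map_mul, mul_assoc, mul_inv_cancel₀ hrs.ne_zero, mul_one]
    rw [h1]
    obtain ⟨u, hu⟩ := hresA a' ha
    obtain ⟨w, hw⟩ := hresA s' hs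
    exact ⟨u * w⁻¹, by rw [map_mul, map_inv₀, hu, hw]⟩

end Groth.Agent.Lib.Helper21.DvrExt
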