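import Groth.Agent.Lib.Helper21.DvrExtC

/-!
# Unramified extensions of DVRs with prescribed residue field (part D)

The extension step: a good subring whose residue field misses an algebraic element of the target
residue field is not maximal.
-/

set_option autoImplicit false

namespace Groth.Agent.Lib.Helper21.DvrExt

open IsLocalRing Polynomial

variable {F : Type*} [Field F] [IsSepClosed F] {V : ValuationSubring F} {k' : Type*} [Field k']
  {ι : k' →+* ResidueField V} {π : F} {B O : Subring F}

omit [IsSepClosed F] in
theorem pow_succ_injective (hπ : V.valuation π < 1) (hπ0 : π ≠ 0) :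
    Function.Injective (fun j : ℕ => π ^ (j + 1)) := by
  have hpos : 0 < V.valuation π := by
    rw [Valuation.pos_iff]; exact hπ0
  have hanti : StrictAnti (fun j : ℕ => V.valuation π ^ j) := pow_right_strictAnti₀ hpos hπ
  intro i j hij
  have h1 : V.valuation π ^ (i + 1) = V.valuation π ^ (j + 1) := by
    rw [← map_pow, ← map_pow]; exact congrArg _ hij
  have := hanti.injective h1
  omega

/-- An element of valuation `< 1` of the subring generated over a good subring `O` by a root of a
monic polynomial whose reduction is the minimal polynomial of the residue is divisible by `π`. -/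
theorem Good.exists_lt (h : Good V ι π B O) (hπO : π ∈ O) (hπ : V.valuation π < 1) (hπ0 : π ≠ 0)
    (t : k') (ht : ∀ x : V, (x : F) ∈ O → residue V x ≠ ι t)
    (halg : ∃ f : (↥O)[X], f.Monic ∧
      eval₂ ((residue V).comp (Subring.inclusion h.le)) (ι t) f = 0) :
    ∃ O' : Subring F, Good V ι π B O' ∧ O < O' := by
  classical
  have := h.isLocalRing
  have := h.isLocalHom_inclusion
  let incl : O →+* V := Subring.inclusion h.le
  let ψ : ResidueField O →+* ResidueField V := ResidueField.map incl
  let _ : Algebra (ResidueField O) (ResidueField V) := ψ.toAlgebra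
  have hψ : ∀ a : O, ψ (residue O a) = residue V (incl a) := fun a => ResidueField.map_residue incl a
  have hcomp : ψ.comp (residue O) = (residue V).comp incl := RingHom.ext hψ
  set α := ι t with hα
  let πO : O := ⟨π, hπO⟩
  have hπres : residue O πO = 0 := by
    rw [residue_eq_zero_iff, h.mem_maximalIdeal_iff]; exact hπ
  -- `α` is integral over the residue field of `O`
  have hint : IsIntegral (ResidueField O) α := by
    obtain ⟨f, hf, hf0⟩ := halg
    refine ⟨f.map (residue O), hf.map _, ?_⟩
    rw [eval₂_map]
    show eval₂ (ψ.comp (residue O)) α f = 0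
    rw [hcomp]; exact hf0
  set gbar := minpoly (ResidueField O) α with hgbar
  have hgbar_monic : gbar.Monic := minpoly.monic hint
  have hαrange : α ∉ (algebraMap (ResidueField O) (ResidueField V)).range := by
    rintro ⟨y, hy⟩
    obtain ⟨a, rfl⟩ := residue_surjective y
    exact ht (incl a) a.2 ((hψ a).symm.trans hy)
  have htwo : 2 ≤ gbar.natDegree := (minpoly.two_le_natDegree_iff hint).2 hαrange
  -- lift the minimal polynomial
  obtain ⟨g₀, hg₀map, hg₀deg, hg₀monic⟩ := lifts_and_natDegree_eq_and_monic
    (f := residue O) (p := gbar)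
    ((mem_lifts _).2 (map_surjective _ residue_surjective gbar)) hgbar_monic
  -- perturb
  obtain ⟨ε, j, hε, hsep⟩ := exists_separable_perturb (g₀.map O.subtype) π hπ0
    (pow_succ_injective hπ hπ0)
  obtain ⟨εO, hεO, hεres⟩ : ∃ e : O, (e : F) = ε ∧ residue O e = 0 := by
    rcases hε with rfl | rfl
    · exact ⟨0, rfl, map_zero _⟩
    · exact ⟨πO, rfl, hπres⟩
  set g : (↥O)[X] := g₀ + (C εO * X + C (πO ^ (j + 1))) with hg
  have hg_monic : g.Monic := by
    apply hg₀monic.add_of_left
    rw [degree_eq_natDegree hg₀monic.ne_zero, hg₀deg]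
    refine lt_of_le_of_lt (degree_add_le _ _) (max_lt ?_ ?_)
    · refine lt_of_le_of_lt (degree_C_mul_X_le _) ?_
      exact_mod_cast (by omega : 1 < gbar.natDegree)
    · refine lt_of_le_of_lt degree_C_le ?_
      exact_mod_cast (by omega : 0 < gbar.natDegree)
  have hg_map : g.map (residue O) = gbar := by
    rw [hg, Polynomial.map_add, Polynomial.map_add, Polynomial.map_mul, map_C, map_C, map_X,
      hg₀map, hεres, map_pow, hπres]
    simp
  have hg_sep : (g.map O.subtype).Separable := by
    have : g.map O.subtype = g₀.map O.subtype + C ε * X + C (π ^ (j + 1)) := by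
      rw [hg, Polynomial.map_add, Polynomial.map_add, Polynomial.map_mul, map_C, map_C, map_X,
        map_pow, ← add_assoc]
      simp [hεO, πO]
    rw [this]; exact hsep
  -- the root
  obtain ⟨β, hβroot, hβres⟩ := exists_root_residue V (g.map incl) (hg_monic.map _)
    (by rw [Polynomial.map_map]; exact hg_sep) α (by
      rw [Polynomial.map_map, ← hcomp, ← Polynomial.map_map, hg_map, eval_map]
      exact minpoly.aeval _ _)
  let ev : (↥O)[X] →+* V := eval₂RingHom incl β
  have hev_g : ev g = 0 := by
    show eval₂ incl β g = 0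
    rw [← eval_map]; exact hβroot
  have hev_res : ∀ q : (↥O)[X], residue V (ev q) = eval₂ (algebraMap _ _) α (q.map (residue O)) := by
    intro q
    rw [eval₂_map]
    show residue V (eval₂ incl β q) = eval₂ (ψ.comp (residue O)) α q
    rw [hcomp, hom_eval₂, hβres]
  let A : Subring F := (V.subtype.comp ev).range
  have hOA : O ≤ A := by
    intro a ha
    refine ⟨C ⟨a, ha⟩, ?_⟩
    show ((eval₂ incl β (C ⟨a, ha⟩) : V) : F) = a
    rw [eval₂_C]; rfl
  have hAV : A ≤ V.toSubring := by
    rintro x ⟨q, rfl⟩
    exact (ev q).2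
  have hβA : (β : F) ∈ A := by
    refine ⟨X, ?_⟩
    show ((eval₂ incl β X : V) : F) = β
    rw [eval₂_X]
  have hresA : ∀ x : V, (x : F) ∈ A → residue V x ∈ ι.range := by
    rintro x ⟨q, hq⟩
    have hx : x = ev q := Subtype.ext hq.symm
    have hαmem : α ∈ ι.range := ⟨t, rfl⟩
    rw [hx, hev_res, eval₂_eq_sum_range]
    refine Subring.sum_mem _ fun i _ => Subring.mul_mem _ ?_ (Subring.pow_mem _ hαmem _)
    rw [coeff_map]
    show ψ (residue O (q.coeff i)) ∈ ι.range
    rw [hψ]
    exact h.res _ (q.coeff i).2
  have hdvdA : ∀ x ∈ A, V.valuation x < 1 → ∃ y ∈ A, x = π * y := by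
    rintro x ⟨q, rfl⟩ hv
    set r := q %ₘ g with hr
    have hqr : ev q = ev r := by
      conv_lhs => rw [← modByMonic_add_div q g]
      rw [map_add, map_mul, hev_g, zero_mul, add_zero]
    have hres0 : residue V (ev r) = 0 := by
      rw [residue_eq_zero_iff, V.valuation_lt_one_iff, ← hqr]
      exact hv
    have hrbar : r.map (residue O) = 0 := by
      by_contra hne
      have h1 := minpoly.degree_le_of_ne_zero (ResidueField O) α hne (by
        rw [aeval_def, ← hev_res]; exact hres0)
      have h2 : (r.map (residue O)).degree < gbar.degree := by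
        calc (r.map (residue O)).degree ≤ r.degree := degree_map_le
          _ < g.degree := degree_modByMonic_lt q hg_monic
          _ = gbar.degree := by rw [← hg_map, hg_monic.degree_map]
      exact absurd h1 (not_le.2 h2)
    have hcoeff : ∀ i, πO ∣ r.coeff i := by
      intro i
      have : residue O (r.coeff i) = 0 := by
        rw [← coeff_map, hrbar, coeff_zero]
      rw [residue_eq_zero_iff, h.maximalIdeal_eq hπO hπ, Ideal.mem_span_singleton] at this
      exact this
    obtain ⟨r', hr'⟩ := (C_dvd_iff_dvd_coeff πO r).2 hcoeff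
    refine ⟨V.subtype (ev r'), ⟨r', rfl⟩, ?_⟩
    show ((ev q : V) : F) = π * ((ev r' : V) : F)
    rw [hqr, hr', map_mul]
    have : ev (C πO) = incl πO := eval₂_C _ _
    rw [this]
    rfl
  refine ⟨locSub V A, good_locSub hAV (h.base.trans hOA) hdvdA hresA, ?_⟩
  rw [SetLike.lt_iff_le_and_exists]
  refine ⟨hOA.trans (le_locSub V A), β, le_locSub V A hβA, ?_⟩
  intro hβO
  exact ht β hβO hβres

end Groth.Agent.Lib.Helper21.DvrExt
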