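import Groth.Agent.Lib.Helper21.DvrExtD

/-!
# Unramified extensions of DVRs with prescribed residue field (part E)

Zorn's lemma for good subrings, and the residue field of a nontrivial valuation ring of a
separably closed field is algebraically closed.
-/

set_option autoImplicit false

namespace Groth.Agent.Lib.Helper21.DvrExt

open IsLocalRing Polynomial

section Zorn

variable {F : Type*} [Field F] {V : ValuationSubring F} {k' : Type*} [Field k']
  {ι : k' →+* ResidueField V} {π : F} {B : Subring F}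

theorem good_sSup (c : Set (Subring F)) (hc : ∀ O ∈ c, Good V ι π B O)
    (hchain : IsChain (· ≤ ·) c) (hne : c.Nonempty) : Good V ι π B (sSup c) := by
  have hmem : ∀ {x : F}, x ∈ sSup c ↔ ∃ s ∈ c, x ∈ s :=
    Subring.mem_sSup_of_directedOn hne hchain.directedOn
  refine ⟨?_, ?_, ?_, ?_, ?_⟩
  · intro x hx
    obtain ⟨s, hs, hxs⟩ := hmem.1 hx
    exact (hc s hs).le hxs
  · obtain ⟨y, hy⟩ := hne
    exact (hc y hy).base.trans (le_sSup hy)
  · intro x hx hv
    obtain ⟨s, hs, hxs⟩ := hmem.1 hx
    exact hmem.2 ⟨s, hs, (hc s hs).inv_mem x hxs hv⟩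
  · intro x hx hv
    obtain ⟨s, hs, hxs⟩ := hmem.1 hx
    obtain ⟨y, hy, hxy⟩ := (hc s hs).dvd x hxs hv
    exact ⟨y, hmem.2 ⟨s, hs, hy⟩, hxy⟩
  · intro x hx
    obtain ⟨s, hs, hxs⟩ := hmem.1 hx
    exact (hc s hs).res x hxs

theorem exists_maximal_good (O₀ : Subring F) (h₀ : Good V ι π B O₀) :
    ∃ O : Subring F, Good V ι π B O ∧ ∀ O' : Subring F, Good V ι π B O' → O ≤ O' → O' ≤ O := by
  obtain ⟨m, -, hm⟩ := zorn_le_nonempty₀ {O : Subring F | Good V ι π B O}
    (fun c hcs hc y hy => ⟨sSup c, good_sSup c hcs hc ⟨y, hy⟩, fun z hz => le_sSup hz⟩) O₀ h₀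
  exact ⟨m, hm.prop, fun O' hO' hle => hm.le_of_ge hO' hle⟩

end Zorn

/-- Lifting a monic polynomial of degree `≥ 2` to a monic polynomial with the same reduction
and separable image in a field. -/
theorem exists_monic_separable_lift {R F κ : Type*} [CommRing R] [Field F] [CommRing κ]
    (i : R →+* F) (ρ : R →+* κ) (πR : R) (hρ : ρ πR = 0) (hπ0 : i πR ≠ 0)
    (hinj : Function.Injective (fun j : ℕ => (i πR) ^ (j + 1)))
    (g₀ : R[X]) (hm : g₀.Monic) (hdeg : 2 ≤ g₀.natDegree) :
    ∃ g : R[X], g.Monic ∧ g.map ρ = g₀.map ρ ∧ (g.map i).Separable := by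
  have : Nontrivial R := i.domain_nontrivial
  obtain ⟨ε, j, hε, hsep⟩ := exists_separable_perturb (g₀.map i) (i πR) hπ0 hinj
  obtain ⟨εR, hεR, hεres⟩ : ∃ e : R, i e = ε ∧ ρ e = 0 := by
    rcases hε with rfl | rfl
    · exact ⟨0, map_zero _, map_zero _⟩
    · exact ⟨πR, rfl, hρ⟩
  refine ⟨g₀ + (C εR * X + C (πR ^ (j + 1))), ?_, ?_, ?_⟩
  · apply hm.add_of_left
    rw [degree_eq_natDegree hm.ne_zero]
    refine lt_of_le_of_lt (degree_add_le _ _) (max_lt ?_ ?_)
    · refine lt_of_le_of_lt (degree_C_mul_X_le _) ?_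
      exact_mod_cast (by omega : 1 < g₀.natDegree)
    · refine lt_of_le_of_lt degree_C_le ?_
      exact_mod_cast (by omega : 0 < g₀.natDegree)
  · rw [Polynomial.map_add, Polynomial.map_add, Polynomial.map_mul, map_C, map_C, map_X,
      hεres, map_pow, hρ]
    simp
  · have : (g₀ + (C εR * X + C (πR ^ (j + 1)))).map i =
        g₀.map i + C ε * X + C ((i πR) ^ (j + 1)) := by
      rw [Polynomial.map_add, Polynomial.map_add, Polynomial.map_mul, map_C, map_C, map_X,
        map_pow, ← add_assoc, hεR]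
    rw [this]; exact hsep

/-- The residue field of a nontrivial valuation ring of a separably closed field is algebraically
closed. -/
theorem isAlgClosed_residueField {F : Type*} [Field F] [IsSepClosed F] (V : ValuationSubring F)
    (π : F) (hπ : V.valuation π < 1) (hπ0 : π ≠ 0) : IsAlgClosed (ResidueField V) := by
  refine IsAlgClosed.of_exists_root _ fun p hm hirr => ?_
  have hpos : 0 < p.natDegree := hirr.natDegree_pos
  rcases (Nat.succ_le_of_lt hpos).eq_or_lt with h1 | h2
  · have : p.degree = 1 := by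
      rw [degree_eq_natDegree hm.ne_zero, ← h1]; rfl
    exact exists_root_of_degree_eq_one this
  · have hπV : π ∈ V := (V.valuation_le_one_iff π).1 hπ.le
    let πV : V := ⟨π, hπV⟩
    have hπres : residue V πV = 0 := by
      rw [residue_eq_zero_iff, V.valuation_lt_one_iff]; exact hπ
    obtain ⟨p₀, hp₀map, hp₀deg, hp₀monic⟩ := lifts_and_natDegree_eq_and_monic
      (f := residue V) (p := p)
      ((mem_lifts _).2 (map_surjective _ residue_surjective p)) hm
    obtain ⟨g, hgm, hgmap, hgsep⟩ := exists_monic_separable_lift (algebraMap V F) (residue V) πV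
      hπres hπ0 (pow_succ_injective hπ hπ0) p₀ hp₀monic (by rw [hp₀deg]; exact h2)
    have hnat : g.natDegree = p.natDegree := by
      rw [← hgm.natDegree_map (residue V), hgmap, hp₀map]
    have hdeg : (g.map (algebraMap V F)).degree ≠ 0 := by
      rw [degree_eq_natDegree (hgm.map _).ne_zero, hgm.natDegree_map, hnat]
      exact_mod_cast (by omega : p.natDegree ≠ 0)
    obtain ⟨ρ, hρ⟩ := IsSepClosed.exists_root _ hdeg hgsep
    have hint : IsIntegral V ρ := ⟨g, hgm, by rw [← eval_map]; exact hρ⟩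
    obtain ⟨b, hb⟩ := IsIntegrallyClosed.algebraMap_eq_of_integral hint
    refine ⟨residue V b, ?_⟩
    rw [← hp₀map, ← hgmap, eval_map, eval₂_at_apply]
    have h0 : eval b g = 0 := by
      have h1 : algebraMap V F (eval b g) = 0 := by
        rw [← hb, IsRoot.def, eval_map, eval₂_at_apply] at hρ
        exact hρ
      exact (map_eq_zero_iff (algebraMap V F) (IsFractionRing.injective V F)).1 h1
    rw [h0, map_zero]

end Groth.Agent.Lib.Helper21.DvrExt
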