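import Groth.Agent.Lib.Helper21.DvrExtE

/-!
# Unramified extensions of DVRs with prescribed residue field (part F)

The core existence theorem inside a separably closed field.
-/

set_option autoImplicit false

namespace Groth.Agent.Lib.Helper21.DvrExt

open IsLocalRing Polynomial

universe u

theorem eval₂_mem_subring {R F : Type*} [CommRing R] [Field F] (f : R →+* F) (O : Subring F)
    (hO : ∀ a, f a ∈ O) {x : F} (hx : x ∈ O) (q : R[X]) : eval₂ f x q ∈ O := by
  rw [eval₂_eq_sum_range]
  exact Subring.sum_mem _ fun i _ => Subring.mul_mem _ (hO _) (Subring.pow_mem _ hx _)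

theorem main_core (OK : Type u) [CommRing OK] [IsDomain OK] [IsDiscreteValuationRing OK]
    (F : Type u) [Field F] [IsSepClosed F] (f : OK →+* F) (hf : Function.Injective f)
    (halgF : ∀ x : F, x ≠ 0 → ∃ q : OK[X], q.coeff 0 ≠ 0 ∧ eval₂ f x q = 0)
    (k' : Type u) [Field k'] [Algebra (ResidueField OK) k']
    [Algebra.IsAlgebraic (ResidueField OK) k'] :
    ∃ (O : Subring F) (hO : ∀ a, f a ∈ O) (_ : IsDiscreteValuationRing O),
      IsLocalHom (f.codRestrict O hO) ∧
      Ideal.map (f.codRestrict O hO) (maximalIdeal OK) = maximalIdeal O ∧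
      ∃ e : ResidueField O ≃+* k', ∀ a : OK,
        e (residue O (f.codRestrict O hO a)) = algebraMap (ResidueField OK) k' (residue OK a) := by
  classical
  obtain ⟨V, hV, hloc⟩ := IsLocalRing.exists_factor_valuationRing f
  let fV : OK →+* V := f.codRestrict V.toSubring hV
  have hlocV : IsLocalHom fV := hloc
  obtain ⟨ϖ, hϖ⟩ := IsDiscreteValuationRing.exists_irreducible OK
  set π := f ϖ with hπdef
  have hπ0 : π ≠ 0 := (map_ne_zero_iff f hf).2 hϖ.ne_zero
  have hπ : V.valuation π < 1 := by
    have : fV ϖ ∈ maximalIdeal V := by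
      rw [mem_maximalIdeal, mem_nonunits_iff]
      intro hu
      exact hϖ.not_isUnit (isUnit_of_map_unit fV ϖ hu)
    exact (V.valuation_lt_one_iff _).1 this
  have hunitV : ∀ a : OK, V.valuation (f a) = 1 → IsUnit a := by
    intro a hv
    exact isUnit_of_map_unit fV a ((V.valuation_eq_one_iff (fV a)).2 hv)
  have : IsAlgClosed (ResidueField V) := isAlgClosed_residueField V π hπ hπ0
  let _ : Algebra (ResidueField OK) (ResidueField V) := (ResidueField.map fV).toAlgebra
  let ι₀ : k' →ₐ[ResidueField OK] ResidueField V := IsAlgClosed.lift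
  let ι : k' →+* ResidueField V := ι₀.toRingHom
  have hιres : ∀ a : OK, residue V (fV a) = ι (algebraMap (ResidueField OK) k' (residue OK a)) := by
    intro a
    have h1 : ι (algebraMap (ResidueField OK) k' (residue OK a)) =
        algebraMap (ResidueField OK) (ResidueField V) (residue OK a) := ι₀.commutes _
    rw [h1]
    exact (ResidueField.map_residue fV a).symm
  let B : Subring F := f.range
  have hB : Good V ι π B B := by
    refine ⟨?_, le_rfl, ?_, ?_, ?_⟩
    · rintro _ ⟨a, rfl⟩
      exact hV a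
    · rintro _ ⟨a, rfl⟩ hv
      obtain ⟨u, rfl⟩ := hunitV a hv
      exact ⟨((u⁻¹ : OKˣ) : OK), map_units_inv f u⟩
    · rintro _ ⟨a, rfl⟩ hv
      have ha : a ∈ maximalIdeal OK := by
        rw [mem_maximalIdeal, mem_nonunits_iff]
        intro hu
        have : IsUnit (fV a) := hu.map fV
        rw [V.valuation_eq_one_iff] at this
        exact absurd this (ne_of_lt hv)
      rw [hϖ.maximalIdeal_eq, Ideal.mem_span_singleton] at ha
      obtain ⟨b, rfl⟩ := ha
      exact ⟨f b, ⟨b, rfl⟩, map_mul f ϖ b⟩
    · rintro x ⟨a, ha⟩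
      have hx : x = fV a := Subtype.ext ha.symm
      rw [hx, hιres]
      exact ⟨_, rfl⟩
  obtain ⟨O, hO, hmax⟩ := exists_maximal_good B hB
  have hfO : ∀ a, f a ∈ O := fun a => hO.base ⟨a, rfl⟩
  have hπO : π ∈ O := hfO ϖ
  let φ : OK →+* O := f.codRestrict O hfO
  let incl : O →+* V := Subring.inclusion hO.le
  have hinclφ : ∀ a, incl (φ a) = fV a := fun a => rfl
  -- surjectivity on residue fields
  have hsurj : ∀ t : k', ∃ x : V, (x : F) ∈ O ∧ residue V x = ι t := by
    intro t
    by_contra hcon
    push Not at hcon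
    have hint : IsIntegral (ResidueField OK) t := (Algebra.IsAlgebraic.isAlgebraic t).isIntegral
    obtain ⟨f₁, hf₁map, -, hf₁monic⟩ := lifts_and_natDegree_eq_and_monic
      (f := residue OK) (p := minpoly (ResidueField OK) t)
      ((mem_lifts _).2 (map_surjective _ residue_surjective _)) (minpoly.monic hint)
    have halg : ∃ q : (↥O)[X], q.Monic ∧
        eval₂ ((residue V).comp (Subring.inclusion hO.le)) (ι t) q = 0 := by
      refine ⟨f₁.map φ, hf₁monic.map _, ?_⟩
      rw [eval₂_map]
      have hcomp : ((residue V).comp (Subring.inclusion hO.le)).comp φ =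
          (algebraMap (ResidueField OK) (ResidueField V)).comp (residue OK) := by
        ext a
        exact (ResidueField.map_residue fV a).symm
      rw [hcomp, ← eval₂_map, hf₁map]
      show aeval (ι₀ t) (minpoly (ResidueField OK) t) = 0
      rw [aeval_algHom_apply, minpoly.aeval, map_zero]
    obtain ⟨O', hO', hlt⟩ := hO.exists_lt hπO hπ hπ0 t hcon halg
    exact absurd (hmax O' hO' hlt.le) (not_le_of_gt hlt)
  -- DVR
  have hdvd : ∀ x ∈ O, x ≠ 0 → ∃ m : ℕ, ∃ y ∈ O, x * y = π ^ m := by
    intro x hx hx0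
    obtain ⟨q, hq0, hq⟩ := halgF x hx0
    rw [← divX_mul_X_add q, eval₂_add, eval₂_mul, eval₂_X, eval₂_C] at hq
    obtain ⟨m, u, hu⟩ := IsDiscreteValuationRing.eq_unit_mul_pow_irreducible hq0 hϖ
    refine ⟨m, -(eval₂ f x (divX q)) * f ((u⁻¹ : OKˣ) : OK),
      O.mul_mem (O.neg_mem (eval₂_mem_subring f O hfO hx _)) (hfO _), ?_⟩
    have h1 : x * -(eval₂ f x (divX q)) = f (q.coeff 0) := by
      linear_combination (-1 : F) * hq
    rw [← mul_assoc, h1, hu, map_mul, map_pow, mul_right_comm, ← map_mul, Units.mul_inv, map_one,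
      one_mul]
  have hdvr : IsDiscreteValuationRing O := hO.isDiscreteValuationRing hπO hπ hπ0 hdvd
  refine ⟨O, hfO, hdvr, ?_, ?_, ?_⟩
  · constructor
    intro a ha
    exact hunitV a ((hO.isUnit_iff _).1 ha)
  · rw [hϖ.maximalIdeal_eq, Ideal.map_span, Set.image_singleton]
    exact (hO.maximalIdeal_eq hπO hπ).symm
  · have hlocincl : IsLocalHom incl := hO.isLocalHom_inclusion
    let ψ : ResidueField O →+* ResidueField V := ResidueField.map incl
    have hψrange : ∀ y, ψ y ∈ ι.range := by
      intro y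
      obtain ⟨a, rfl⟩ := residue_surjective y
      rw [ResidueField.map_residue]
      exact hO.res _ a.2
    let ψr : ResidueField O →+* ι.range := ψ.codRestrict ι.range hψrange
    let ιe : k' ≃+* ι.range :=
      RingEquiv.ofBijective ι.rangeRestrict ⟨ι.rangeRestrict.injective, ι.rangeRestrict_surjective⟩
    let e₀ : ResidueField O →+* k' := (ιe.symm : ι.range →+* k').comp ψr
    have hιe₀ : ∀ y, ι (e₀ y) = ψ y := by
      intro y
      exact congrArg Subtype.val (ιe.apply_symm_apply (ψr y))
    have hbij : Function.Bijective e₀ := by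
      refine ⟨e₀.injective, ?_⟩
      intro t
      obtain ⟨x, hxO, hx⟩ := hsurj t
      refine ⟨residue O ⟨x, hxO⟩, ?_⟩
      apply ι.injective
      rw [hιe₀, ResidueField.map_residue]
      exact hx
    refine ⟨RingEquiv.ofBijective e₀ hbij, ?_⟩
    intro a
    apply ι.injective
    show ι (e₀ _) = _
    rw [hιe₀, ResidueField.map_residue, ← hιres]
    rfl

end Groth.Agent.Lib.Helper21.DvrExt
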