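import Groth.Agent.Lib.Helper29.FreeIso2
import Groth.Agent.Lib.Helper17.StalkExact

/-!
# Generating sections from an epimorphism out of a free module

* `EpiGen.locally_in_range_of_epi`: an epimorphism of `O_Y`-modules is locally surjective on sections.
* `EpiGen.exists_gen_of_epi`: an epimorphism `O_U^n ⟶ F|_U` gives `n` sections over `U` generating `F` locally.
* `EpiGen.good_of_gen`: on `Spec R`, for `F = M~`: over every `D(a) ≤ U` the module `M_a` is generated by `n` elements.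
-/

set_option autoImplicit false
universe u
open CategoryTheory CategoryTheory.Limits AlgebraicGeometry TopologicalSpace Opposite

namespace Groth.Agent.Lib.Helper21.EpiGen

open Groth.Agent.Lib.Helper28.QCohLoc Groth.Agent.Lib.Helper28.TwistGen
  Groth.Agent.Lib.Helper29.FreeIso Groth.Agent.Lib.Helper17.StalkExact

variable {Y : Scheme.{u}}

/-- an epimorphism of modules is locally surjective on sections -/
theorem locally_in_range_of_epi {G F : Y.Modules} (p : G ⟶ F) [Epi p] (U : Y.Opens) (x : Γ(F, U))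
    (pt : Y) (hpt : pt ∈ U) :
    ∃ (V : Y.Opens) (hV : V ≤ U), pt ∈ V ∧ ∃ y : Γ(G, V), p.app V y = res F hV x := by
  obtain ⟨g, hg⟩ := stalkHom_surjective_of_epi p pt (F.presheaf.germ U pt hpt x)
  obtain ⟨V0, hptV0, y0, rfl⟩ := TopCat.Presheaf.exists_germ_eq G.presheaf g
  rw [stalkHom_germ] at hg
  obtain ⟨W, hptW, i1, i2, heq⟩ := TopCat.Presheaf.germ_eq F.presheaf pt hptV0 hpt _ _ hg
  refine ⟨W, i2.le, hptW, res G i1.le y0, ?_⟩
  rw [app_res]
  exact heq

variable {r : ℕ} (G : Y.Modules)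

/-- the images of the standard basis under a morphism `O^r ⟶ G` -/
noncomputable def stdSec (f : B Y r ⟶ G) : Fin r → Γ(G, ⊤) :=
  fun j => f.app ⊤ ((biproduct.ι (fun _ : Fin r => Coh.structureModule Y) j).app ⊤
    (show Γ(Coh.structureModule Y, ⊤) from (1 : Γ(Y, ⊤))))

theorem hom_eq_ψ' (f : B Y r ⟶ G) : f = ψ G (stdSec G f) := by
  apply biproduct.hom_ext'
  intro j
  unfold ψ
  rw [biproduct.ι_desc]
  apply hom_ext_unit
  rw [ofSection_app_one, res_self]
  rfl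

/-- an epimorphism `O^r ⟶ G`: the images of the basis generate `G` locally -/
theorem stdSec_gen_of_epi (f : B Y r ⟶ G) [Epi f] (W : Y.Opens) (t : Γ(G, W)) (pt : Y) (hpt : pt ∈ W) :
    ∃ (W₁ : Y.Opens) (hW₁ : W₁ ≤ W), pt ∈ W₁ ∧ ∃ c : Fin r → Γ(Y, W₁),
      res G hW₁ t = ∑ j : Fin r, c j • res G (le_top : W₁ ≤ ⊤) (stdSec G f j) := by
  obtain ⟨W₁, hW₁, hpt₁, z, hz⟩ := locally_in_range_of_epi f W t pt hpt
  refine ⟨W₁, hW₁, hpt₁, fun j => (show Γ(Y, W₁) from
    (biproduct.π (fun _ : Fin r => Coh.structureModule Y) j).app W₁ z), ?_⟩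
  rw [← hz, ← ψ_app, ← hom_eq_ψ']

variable {X : Scheme.{u}}

/-- **Generators from an epimorphism**: an epimorphism `O_U^n ⟶ F|_U` gives `n` sections of `F` over `U`
generating `F` locally on `U`. -/
theorem exists_gen_of_epi (F : X.Modules) (U : X.Opens) (n : ℕ)
    (φ : FlatMod.freeMod (↑U) n ⟶ F.restrict U.ι) [Epi φ] :
    ∃ τ : Fin n → Γ(F, U), ∀ (T : X.Opens) (hT : T ≤ U) (t : Γ(F, T)) (pt : X), pt ∈ T →
      ∃ (T₁ : X.Opens) (h1 : T₁ ≤ T), pt ∈ T₁ ∧ ∃ c : Fin n → Γ(X, T₁),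
        res F h1 t = ∑ j, c j • res F (h1.trans hT) (τ j) := by
  let f : B (↑U) n ⟶ F.restrict U.ι := (biproduct.isoCoproduct _).hom ≫ φ
  haveI : Epi f := epi_comp _ _
  let ε : Fin n → Γ(F, U.ι ''ᵁ ⊤) := stdSec (F.restrict U.ι) f
  refine ⟨fun j => res F (le_ι_image_top U) (ε j), ?_⟩
  intro T hT t pt hpt
  have hT' : U.ι ''ᵁ (U.ι ⁻¹ᵁ T) ≤ T := image_preimage_le U T
  obtain ⟨W₁, hW₁, hpt₁, c, hc⟩ := stdSec_gen_of_epi (F.restrict U.ι) f (U.ι ⁻¹ᵁ T)
    (show Γ(F, U.ι ''ᵁ (U.ι ⁻¹ᵁ T)) from res F hT' t) ⟨pt, hT hpt⟩ hpt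
  have hle : U.ι ''ᵁ W₁ ≤ U.ι ''ᵁ (U.ι ⁻¹ᵁ T) := (U.ι.image_le_image_iff _ _).2 hW₁
  refine ⟨U.ι ''ᵁ W₁, hle.trans hT', ⟨⟨pt, hT hpt⟩, hpt₁, rfl⟩,
    fun j => (show Γ(X, U.ι ''ᵁ W₁) from c j), ?_⟩
  rw [res_restrict_eq, res_res] at hc
  refine hc.trans (Finset.sum_congr rfl fun j _ => ?_)
  rw [restrict_smul_eq]
  congr 1
  rw [res_restrict_eq, res_res]

section spec

variable {R : CommRingCat.{u}} (M : ModuleCat.{u} R)

/-- `toOpen` as a plain linear map into sections of the tilde module -/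
noncomputable def toΓ (U : (Spec R).Opens) : M →ₗ[R] Γ(tilde M, U) := (tilde.toOpen M U).hom

theorem res_toΓ {U V : (Spec R).Opens} (h : V ≤ U) (x : M) :
    res (tilde M) h (toΓ M U x) = toΓ M V x := rfl

instance (f : R) : IsLocalizedModule.Away f (toΓ M (PrimeSpectrum.basicOpen f)) :=
  inferInstanceAs (IsLocalizedModule.Away f (tilde.toOpen M (PrimeSpectrum.basicOpen f)).hom)

theorem res_smul_R {U V : (Spec R).Opens} (h : V ≤ U) (r : R) (x : Γ(tilde M, U)) :
    res (tilde M) h (r • x) = r • res (tilde M) h x :=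
  Scheme.Modules.map_smul_Spec (M := tilde M) (homOfLE h).op r x

/-- sections over `D(b)` which, up to a factor outside `p`, come from the submodule `N` -/
noncomputable def nearSub (N : Submodule R M) (b : R) (p : PrimeSpectrum R) :
    Submodule R Γ(tilde M, PrimeSpectrum.basicOpen b) where
  carrier := {y | ∃ g : R, g ∉ p.asIdeal ∧ g • y ∈ Submodule.map (toΓ M (PrimeSpectrum.basicOpen b)) N}
  zero_mem' := ⟨1, fun h => p.2.ne_top ((Ideal.eq_top_iff_one _).2 h), by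
    rw [smul_zero]; exact Submodule.zero_mem _⟩
  add_mem' := by
    rintro y z ⟨g, hg, hy⟩ ⟨g', hg', hz⟩
    refine ⟨g * g', fun h => (p.2.mem_or_mem h).elim hg hg', ?_⟩
    rw [smul_add]
    refine Submodule.add_mem _ ?_ ?_
    · rw [mul_comm, mul_smul]; exact Submodule.smul_mem _ _ hy
    · rw [mul_smul]; exact Submodule.smul_mem _ _ hz
  smul_mem' := by
    rintro c y ⟨g, hg, hy⟩
    refine ⟨g, hg, ?_⟩
    rw [smul_comm]
    exact Submodule.smul_mem _ _ hy

theorem good_of_gen (n : ℕ) (U : (Spec R).Opens) (τ : Fin n → Γ(tilde M, U))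
    (hτ : ∀ (T : (Spec R).Opens) (hT : T ≤ U) (t : Γ(tilde M, T)) (pt : Spec R), pt ∈ T →
      ∃ (T₁ : (Spec R).Opens) (h1 : T₁ ≤ T), pt ∈ T₁ ∧ ∃ c : Fin n → Γ(Spec R, T₁),
        res (tilde M) h1 t = ∑ j, c j • res (tilde M) (h1.trans hT) (τ j))
    (a : R) (ha : PrimeSpectrum.basicOpen a ≤ U) :
    ∃ s : Fin n → M, ∀ x : M, ∃ e : ℕ, a ^ e • x ∈ Submodule.span R (Set.range s) := by
  -- write the restrictions of `τ j` to `D(a)` as fractions
  have hfrac : ∀ j, ∃ (m : M) (e : ℕ), a ^ e • res (tilde M) ha (τ j) =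
      toΓ M (PrimeSpectrum.basicOpen a) m := by
    intro j
    obtain ⟨⟨m, ⟨_, e, rfl⟩⟩, hm⟩ := IsLocalizedModule.surj (Submonoid.powers a)
      (toΓ M (PrimeSpectrum.basicOpen a)) (res (tilde M) ha (τ j))
    exact ⟨m, e, hm⟩
  choose m e hme using hfrac
  refine ⟨m, fun x => ?_⟩
  set N : Submodule R M := Submodule.span R (Set.range m) with hN
  -- it suffices to show `a ∈ radical (N : x)`
  suffices h : a ∈ (N.colon {x}).radical by
    obtain ⟨k, hk⟩ := h
    exact ⟨k, Submodule.mem_colon_singleton.1 hk⟩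
  rw [Ideal.radical_eq_sInf, Ideal.mem_sInf]
  rintro P ⟨hP, hPprime⟩
  by_contra haP
  let p : PrimeSpectrum R := ⟨P, hPprime⟩
  have hpa : p ∈ PrimeSpectrum.basicOpen a := haP
  obtain ⟨T₁, h1, hpT₁, c, hc⟩ := hτ (PrimeSpectrum.basicOpen a) ha
    (toΓ M (PrimeSpectrum.basicOpen a) x) p hpa
  -- shrink to a principal open `D(b)`
  obtain ⟨_, ⟨_, ⟨b, rfl⟩, rfl⟩, hpb, hbT : PrimeSpectrum.basicOpen b ≤ T₁⟩ :=
    PrimeSpectrum.isBasis_basic_opens.exists_subset_of_mem_open hpT₁ T₁.2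
  have hbp : b ∉ P := hpb
  have hc' := congrArg (res (tilde M) hbT) hc
  rw [res_res, res_toΓ, res_sum_smul] at hc'
  -- every summand lies in `nearSub`
  have hmem : toΓ M (PrimeSpectrum.basicOpen b) x ∈ nearSub M N b p := by
    rw [hc']
    refine Submodule.sum_mem _ fun j _ => ?_
    obtain ⟨⟨r, ⟨_, f, rfl⟩⟩, hr⟩ := IsLocalization.surj (Submonoid.powers b) (resO hbT (c j))
    refine ⟨b ^ f * a ^ e j, fun h => (hPprime.mem_or_mem h).elim
      (fun h => hbp (hPprime.mem_of_pow_mem _ h)) (fun h => haP (hPprime.mem_of_pow_mem _ h)), ?_⟩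
    have h2 : res (tilde M) hbT (res (tilde M) (h1.trans ha) (τ j)) =
        res (tilde M) (hbT.trans h1) (res (tilde M) ha (τ j)) := by
      rw [res_res, res_res]
    have h3 : a ^ e j • res (tilde M) (hbT.trans h1) (res (tilde M) ha (τ j)) =
        toΓ M (PrimeSpectrum.basicOpen b) (m j) := by
      rw [← res_smul_R M (hbT.trans h1) (a ^ e j) (res (tilde M) ha (τ j)), hme j]
      exact res_toΓ M _ _
    have hr' : b ^ f • resO hbT (c j) = algebraMap R Γ(Spec R, PrimeSpectrum.basicOpen b) r := by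
      rw [Algebra.smul_def, mul_comm]; exact hr
    have h4 : (b ^ f * a ^ e j) • (resO hbT (c j) • res (tilde M) hbT (res (tilde M) (h1.trans ha) (τ j))) =
        toΓ M (PrimeSpectrum.basicOpen b) (r • m j) := by
      rw [h2, mul_smul, smul_comm (a ^ e j) (resO hbT (c j)), h3, ← smul_assoc, hr', algebraMap_smul,
        map_smul]
    show (b ^ f * a ^ e j) • (resO hbT (c j) • res (tilde M) hbT (res (tilde M) (h1.trans ha) (τ j))) ∈ _
    rw [h4]
    exact Submodule.mem_map_of_mem (Submodule.smul_mem _ _ (Submodule.subset_span ⟨j, rfl⟩))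
  obtain ⟨g, hg, y, hy, hyg⟩ := hmem
  have h0 : toΓ M (PrimeSpectrum.basicOpen b) (g • x - y) = 0 := by
    rw [map_sub, map_smul, hyg, sub_self]
  obtain ⟨⟨_, k, rfl⟩, hk⟩ := (IsLocalizedModule.eq_zero_iff (Submonoid.powers b)
    (toΓ M (PrimeSpectrum.basicOpen b))).1 h0
  have hk' : b ^ k • (g • x - y) = 0 := hk
  rw [smul_sub, sub_eq_zero] at hk'
  have hin : b ^ k * g ∈ N.colon {x} := by
    rw [Submodule.mem_colon_singleton, mul_smul, hk']
    exact Submodule.smul_mem _ _ hy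
  exact (hPprime.mem_or_mem (hP hin)).elim (fun h => hbp (hPprime.mem_of_pow_mem _ h)) hg

end spec

end Groth.Agent.Lib.Helper21.EpiGen
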