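import Mathlib

/-!
# Localization of the evaluation map into the double dual (helper21).
-/

namespace Groth.Agent.Lib.Helper21.EvalLoc

open Module

universe u

section

variable {R : Type u} [CommRing R] [IsNoetherianRing R]
variable (M : Type u) [AddCommGroup M] [Module R M] [Module.Finite R M]
variable (p : Ideal R) [p.IsPrime]

/-- `M* → (M_p)*`. -/
noncomputable def D1 : Dual R M →ₗ[R] Dual (Localization.AtPrime p) (LocalizedModule p.primeCompl M) :=
  IsLocalizedModule.mapExtendScalars p.primeCompl (LocalizedModule.mkLinearMap p.primeCompl M)
    (Algebra.linearMap R (Localization.AtPrime p)) (Localization.AtPrime p)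

instance : IsLocalizedModule p.primeCompl (D1 M p) := by
  haveI : Module.FinitePresentation R M := Module.finitePresentation_of_finite R M
  unfold D1
  infer_instance

theorem D1_apply (f : Dual R M) (m : M) :
    D1 M p f (LocalizedModule.mkLinearMap p.primeCompl M m) =
      algebraMap R (Localization.AtPrime p) (f m) := by
  unfold D1
  rw [IsLocalizedModule.mapExtendScalars_apply_apply, IsLocalizedModule.map_apply]
  rfl

theorem finite_dual : Module.Finite R (Dual R M) := by
  obtain ⟨n, g, hg⟩ := Module.Finite.exists_fin' R M
  have hinj : Function.Injective (LinearMap.lcomp R R g) :=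
    LinearMap.lcomp_injective_of_surjective g hg
  haveI : IsNoetherian R ((Fin n → R) →ₗ[R] R) := isNoetherian_of_isNoetherianRing_of_finite R _
  exact Module.Finite.of_injective (LinearMap.lcomp R R g) hinj

/-- `M** → (M_p)**`. -/
noncomputable def D2 : Dual R (Dual R M) →ₗ[R]
    Dual (Localization.AtPrime p) (Dual (Localization.AtPrime p) (LocalizedModule p.primeCompl M)) :=
  IsLocalizedModule.mapExtendScalars p.primeCompl (D1 M p)
    (Algebra.linearMap R (Localization.AtPrime p)) (Localization.AtPrime p)

instance : IsLocalizedModule p.primeCompl (D2 M p) := by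
  haveI : Module.Finite R (Dual R M) := finite_dual M
  haveI : Module.FinitePresentation R (Dual R M) := Module.finitePresentation_of_finite R _
  unfold D2
  infer_instance

theorem D2_apply (ξ : Dual R (Dual R M)) (f : Dual R M) :
    D2 M p ξ (D1 M p f) = algebraMap R (Localization.AtPrime p) (ξ f) := by
  unfold D2
  rw [IsLocalizedModule.mapExtendScalars_apply_apply, IsLocalizedModule.map_apply]
  rfl

/-- the evaluation map of `M_p` is the localization of the evaluation map of `M`. -/
theorem eval_comp :
    (Dual.eval (Localization.AtPrime p) (LocalizedModule p.primeCompl M)).restrictScalars R ∘ₗ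
      LocalizedModule.mkLinearMap p.primeCompl M = D2 M p ∘ₗ Dual.eval R M := by
  ext m : 1
  apply LinearMap.restrictScalars_injective R
  apply IsLocalizedModule.linearMap_ext p.primeCompl (D1 M p) (Algebra.linearMap R (Localization.AtPrime p))
  ext f
  simp only [LinearMap.coe_comp, LinearMap.coe_restrictScalars, Function.comp_apply,
    Dual.eval_apply]
  rw [D2_apply, D1_apply]
  rfl

theorem map_eval :
    IsLocalizedModule.map p.primeCompl (LocalizedModule.mkLinearMap p.primeCompl M) (D2 M p)
      (Dual.eval R M) =
    (Dual.eval (Localization.AtPrime p) (LocalizedModule p.primeCompl M)).restrictScalars R := by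
  apply IsLocalizedModule.linearMap_ext p.primeCompl (LocalizedModule.mkLinearMap p.primeCompl M)
    (D2 M p)
  rw [IsLocalizedModule.map_comp, eval_comp]

theorem bijective_eval_localization_iff :
    Function.Bijective (IsLocalizedModule.map p.primeCompl
      (LocalizedModule.mkLinearMap p.primeCompl M) (D2 M p) (Dual.eval R M)) ↔
    Module.IsReflexive (Localization.AtPrime p) (LocalizedModule p.primeCompl M) := by
  rw [map_eval]
  exact ⟨fun h => ⟨h⟩, fun h => h.bijective_dual_eval'⟩

theorem isReflexive_localization [Module.IsReflexive R M] :
    Module.IsReflexive (Localization.AtPrime p) (LocalizedModule p.primeCompl M) := by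
  rw [← bijective_eval_localization_iff]
  have hb := Module.bijective_dual_eval R M
  exact ⟨IsLocalizedModule.map_injective _ _ _ _ hb.1, IsLocalizedModule.map_surjective _ _ _ _ hb.2⟩

end

theorem isReflexive_of_localization_maximal {R : Type u} [CommRing R] [IsNoetherianRing R]
    (M : Type u) [AddCommGroup M] [Module R M] [Module.Finite R M]
    (h : ∀ (m : Ideal R) (_ : m.IsMaximal),
      Module.IsReflexive (Localization.AtPrime m) (LocalizedModule m.primeCompl M)) :
    Module.IsReflexive R M := by
  constructor
  apply bijective_of_isLocalized_maximal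
    (fun P _ => LocalizedModule P.primeCompl M)
    (fun P _ => LocalizedModule.mkLinearMap P.primeCompl M)
    (fun P _ => Dual (Localization.AtPrime P)
      (Dual (Localization.AtPrime P) (LocalizedModule P.primeCompl M)))
    (fun P _ => D2 M P) (Dual.eval R M)
  intro P hP
  rw [bijective_eval_localization_iff]
  exact h P hP

end Groth.Agent.Lib.Helper21.EvalLoc
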