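import Mathlib

/-!
# Finite free resolutions: localization and the depth-zero local case

* `HasFFR A e χ M` : `M` has a finite free resolution with `e` steps and Euler characteristic `χ`.
* `hasFFR_localize` : `HasFFR` passes to localizations.
* `free_of_hasFFR` : over a local ring whose maximal ideal kills a nonzero element (depth zero),
  a module with a finite free resolution is free of rank `χ`.
* `hasFFR_of_matrices` : from a matrix resolution to `HasFFR`.
-/

set_option autoImplicit false
universe u

namespace Helper21.FFR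

open IsLocalRing TensorProduct

/-- `HasFFR A e χ M`: `M` has a finite free resolution with `e` steps and Euler
characteristic `χ`. -/
def HasFFR (A : Type u) [CommRing A] :
    ℕ → ∀ (_ : ℤ) (M : Type u) [AddCommGroup M] [Module A M], Prop
  | 0 => fun χ M _ _ => Module.Free A M ∧ Module.Finite A M ∧ (Module.finrank A M : ℤ) = χ
  | (e + 1) => fun χ M _ _ =>
      ∃ (F : Type u) (_ : AddCommGroup F) (_ : Module A F) (_ : Module.Free A F)
        (_ : Module.Finite A F) (f : F →ₗ[A] M), Function.Surjective f ∧
        HasFFR A e ((Module.finrank A F : ℤ) - χ) (LinearMap.ker f)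

lemma HasFFR.of_eq {A : Type u} [CommRing A] {F : Type u} [AddCommGroup F] [Module A F]
    {K K' : Submodule A F} (h : K = K') {e : ℕ} {χ : ℤ} (hK : HasFFR A e χ K) :
    HasFFR A e χ K' := by
  subst h; exact hK

section depth0

variable {A : Type u} [CommRing A] [IsLocalRing A]

lemma one_tmul_eq_zero_iff {F : Type u} [AddCommGroup F] [Module A F] (w : F) :
    (1 : ResidueField A) ⊗ₜ[A] w = 0 ↔ w ∈ (maximalIdeal A) • (⊤ : Submodule A F) := by
  have h1 : TensorProduct.quotTensorEquivQuotSMul F (maximalIdeal A)
      ((1 : ResidueField A) ⊗ₜ[A] w) = Submodule.Quotient.mk w := by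
    have := TensorProduct.quotTensorEquivQuotSMul_mk_tmul (M := F) (maximalIdeal A) 1 w
    rw [map_one, one_smul] at this
    exact this
  constructor
  · intro h
    have h2 := congrArg (TensorProduct.quotTensorEquivQuotSMul F (maximalIdeal A)) h
    have h3 : (Submodule.Quotient.mk w : F ⧸ (maximalIdeal A • (⊤ : Submodule A F))) = 0 :=
      h1.symm.trans (h2.trans (map_zero _))
    exact (Submodule.Quotient.mk_eq_zero _).mp h3
  · intro h
    apply (TensorProduct.quotTensorEquivQuotSMul F (maximalIdeal A)).injective
    exact h1.trans (((Submodule.Quotient.mk_eq_zero _).mpr h).trans (map_zero _).symm)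

lemma lTensor_injective_of_depth_zero (y : A) (hy0 : y ≠ 0)
    (hy : ∀ t ∈ maximalIdeal A, t * y = 0)
    {K F : Type u} [AddCommGroup K] [Module A K] [AddCommGroup F] [Module A F] [Module.Free A K]
    (ι : K →ₗ[A] F) (hι : Function.Injective ι) :
    Function.Injective (ι.lTensor (ResidueField A)) := by
  rw [injective_iff_map_eq_zero]
  intro u hu
  obtain ⟨v, rfl⟩ := TensorProduct.mk_surjective A K (ResidueField A)
    Ideal.Quotient.mk_surjective u
  simp only [TensorProduct.mk_apply, LinearMap.lTensor_tmul] at hu ⊢
  rw [one_tmul_eq_zero_iff] at hu ⊢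
  have h1 : y • ι v = 0 := by
    refine Submodule.smul_induction_on hu ?_ ?_
    · intro t ht w _
      rw [smul_smul, mul_comm, hy t ht, zero_smul]
    · intro a b ha hb
      rw [smul_add, ha, hb, add_zero]
  have h2 : y • v = 0 := hι (by rw [map_smul, h1, map_zero])
  let b := Module.Free.chooseBasis A K
  have h3 : ∀ i, b.repr v i ∈ maximalIdeal A := by
    intro i
    by_contra hni
    have hunit : IsUnit (b.repr v i) := by
      rwa [mem_maximalIdeal, mem_nonunits_iff, not_not] at hni
    have h4 : y * b.repr v i = 0 := by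
      have := congrArg (fun w => b.repr w i) h2
      simpa using this
    exact hy0 (hunit.mul_left_eq_zero.mp h4)
  rw [← b.linearCombination_repr v, Finsupp.linearCombination_apply]
  refine Submodule.sum_mem _ fun i _ => ?_
  exact Submodule.smul_mem_smul (h3 i) Submodule.mem_top

/-- Over a local ring of depth zero, a module with a finite free resolution is free. -/
theorem free_of_hasFFR (y : A) (hy0 : y ≠ 0) (hy : ∀ t ∈ maximalIdeal A, t * y = 0) :
    ∀ (e : ℕ) (χ : ℤ) (M : Type u) [AddCommGroup M] [Module A M], HasFFR A e χ M →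
      Module.Free A M ∧ Module.Finite A M ∧ (Module.finrank A M : ℤ) = χ := by
  intro e
  induction e with
  | zero => intro χ M _ _ h; exact h
  | succ e ih =>
    intro χ M _ _ h
    obtain ⟨F, _, _, _, _, f, hf, hK⟩ := h
    obtain ⟨hKfree, hKfin, hKrank⟩ := ih _ _ hK
    have hinj := lTensor_injective_of_depth_zero y hy0 hy (LinearMap.ker f).subtype
      (Submodule.injective_subtype _)
    have hex : Function.Exact (LinearMap.ker f).subtype f := LinearMap.exact_subtype_ker_map f
    have hMfree : Module.Free A M :=
      Module.free_of_lTensor_residueField_injective _ f hf hex hinj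
    have hMfin : Module.Finite A M := Module.Finite.of_surjective f hf
    refine ⟨hMfree, hMfin, ?_⟩
    obtain ⟨s, hs⟩ := Module.projective_lifting_property f LinearMap.id hf
    have e' : F ≃ₗ[A] (LinearMap.ker f) × M :=
      ((hex.splitSurjectiveEquiv (Submodule.injective_subtype _)) ⟨s, hs⟩).1
    have := e'.finrank_eq
    rw [Module.finrank_prod] at this
    omega

end depth0

section loc

variable {R : Type u} [CommRing R] (S : Submonoid R) [Nontrivial (Localization S)]

theorem hasFFR_localize : ∀ (e : ℕ) (χ : ℤ) (M : Type u) [AddCommGroup M] [Module R M]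
    (M' : Type u) [AddCommGroup M'] [Module R M'] [Module (Localization S) M']
    [IsScalarTower R (Localization S) M'] (g : M →ₗ[R] M') [IsLocalizedModule S g],
    HasFFR R e χ M → HasFFR (Localization S) e χ M' := by
  intro e
  induction e with
  | zero =>
    intro χ M _ _ M' _ _ _ _ g _ h
    obtain ⟨h1, h2, h3⟩ := h
    refine ⟨Module.free_of_isLocalizedModule S g, Module.Finite.of_isLocalizedModule S g, ?_⟩
    rw [Module.finrank_of_isLocalizedModule_of_free (Localization S) S g, h3]
  | succ e ih =>
    intro χ M _ _ M' _ _ _ _ g _ h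
    obtain ⟨F, _, _, _, _, f, hf, hK⟩ := h
    let gF := LocalizedModule.mkLinearMap S F
    let f' : LocalizedModule S F →ₗ[Localization S] M' :=
      (IsLocalizedModule.map S gF g f).extendScalarsOfIsLocalization S (Localization S)
    refine ⟨LocalizedModule S F, inferInstance, inferInstance,
      Module.free_of_isLocalizedModule S gF, inferInstance, f', ?_, ?_⟩
    · exact IsLocalizedModule.map_surjective S gF g f hf
    · have hrank : Module.finrank (Localization S) (LocalizedModule S F) = Module.finrank R F :=
        Module.finrank_of_isLocalizedModule_of_free (Localization S) S gF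
      rw [hrank]
      have := ih _ (LinearMap.ker f) ((LinearMap.ker f).localized' (Localization S) S gF)
        ((LinearMap.ker f).toLocalized' (Localization S) S gF) hK
      exact HasFFR.of_eq (LinearMap.localized'_ker_eq_ker_localizedMap (Localization S) S gF g f)
        this

end loc

section matrices

variable {R : Type u} [CommRing R] [Nontrivial R]

theorem hasFFR_of_matrices (n : ℕ → ℕ)
    (A : (i : ℕ) → Matrix (Fin (n i)) (Fin (n (i + 1))) R) (e : ℕ)
    (hA : ∀ i, i + 2 ≤ e →
      LinearMap.ker (A i).mulVecLin = LinearMap.range (A (i + 1)).mulVecLin)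
    (hlast : LinearMap.ker (A (e - 1)).mulVecLin = ⊥) :
    ∀ d i, i + 1 + d = e → ∃ χ : ℤ, HasFFR R d χ (LinearMap.range (A i).mulVecLin) := by
  intro d
  induction d with
  | zero =>
    intro i hi
    have hi' : e - 1 = i := by omega
    rw [hi'] at hlast
    have hinj : Function.Injective (A i).mulVecLin := LinearMap.ker_eq_bot.mp hlast
    let eqv := LinearEquiv.ofInjective (A i).mulVecLin hinj
    refine ⟨n (i + 1), Module.Free.of_equiv eqv, Module.Finite.equiv eqv, ?_⟩
    rw [← eqv.finrank_eq]
    simp
  | succ d ih =>
    intro i hi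
    obtain ⟨χ', h'⟩ := ih (i + 1) (by omega)
    refine ⟨(n (i + 1) : ℤ) - χ', (Fin (n (i + 1)) → R), inferInstance, inferInstance,
      inferInstance, inferInstance, (A i).mulVecLin.rangeRestrict,
      LinearMap.surjective_rangeRestrict _, ?_⟩
    have hker : LinearMap.range (A (i + 1)).mulVecLin =
        LinearMap.ker (A i).mulVecLin.rangeRestrict := by
      rw [LinearMap.ker_rangeRestrict, hA i (by omega)]
    have hχ : ((Module.finrank R (Fin (n (i + 1)) → R) : ℤ) - ((n (i + 1) : ℤ) - χ')) = χ' := by
      rw [Module.finrank_fin_fun]; ring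
    rw [hχ]
    exact HasFFR.of_eq hker h'

/-- An ideal with a finite free resolution by matrices has `HasFFR`. -/
theorem hasFFR_range_of_matrices (e : ℕ) (he : 1 ≤ e) (n : ℕ → ℕ)
    (A : (i : ℕ) → Matrix (Fin (n i)) (Fin (n (i + 1))) R)
    (π : (Fin (n 0) → R) →ₗ[R] R)
    (h0 : LinearMap.ker π = LinearMap.range (A 0).mulVecLin)
    (hA : ∀ i, i + 2 ≤ e →
      LinearMap.ker (A i).mulVecLin = LinearMap.range (A (i + 1)).mulVecLin)
    (hlast : LinearMap.ker (A (e - 1)).mulVecLin = ⊥) :
    ∃ χ : ℤ, HasFFR R e χ (LinearMap.range π) := by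
  obtain ⟨d, rfl⟩ : ∃ d, e = d + 1 := ⟨e - 1, by omega⟩
  obtain ⟨χ', h'⟩ := hasFFR_of_matrices n A (d + 1) hA hlast d 0 (by omega)
  refine ⟨(n 0 : ℤ) - χ', (Fin (n 0) → R), inferInstance, inferInstance,
    inferInstance, inferInstance, π.rangeRestrict, LinearMap.surjective_rangeRestrict _, ?_⟩
  have hker : LinearMap.range (A 0).mulVecLin = LinearMap.ker π.rangeRestrict := by
    rw [LinearMap.ker_rangeRestrict, h0]
  have hχ : ((Module.finrank R (Fin (n 0) → R) : ℤ) - ((n 0 : ℤ) - χ')) = χ' := by
    rw [Module.finrank_fin_fun]; ring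
  rw [hχ]
  exact HasFFR.of_eq hker h'

end matrices

end Helper21.FFR
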