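import Groth.Agent.Lib.Helper7.FPKerScheme
import Groth.Agent.Lib.Helper17.ModPullback
import Groth.Agent.Lib.Helper17.FinTypeConv
import Groth.Agent.Lib.Helper28.FinType
import Groth.Agent.Lib.Helper29.FPDict
import Mathlib

/-!
# helper21 — FPQuot1: permanence of finite presentation for modules on schemes

* `isFP_pullback`: the pullback of a finitely presented module is finitely presented;
* `isFP_of_isFiniteType`: on a locally Noetherian scheme a quasi-coherent module of finite type is finitely
  presented;
* `isFP_cokernel`: the cokernel of a morphism from a quasi-coherent module of finite type to a finitely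
  presented module is finitely presented.
-/

set_option backward.isDefEq.respectTransparency.types false
set_option linter.style.haveILetI false
set_option autoImplicit false
universe u
open CategoryTheory CategoryTheory.Limits AlgebraicGeometry Opposite TopologicalSpace TensorProduct

namespace Groth.Agent.Lib.Helper21.FPQuot

open Groth.Agent.Lib.Helper29.FPDict Groth.Agent.Lib.Helper17.CohKer Groth.Agent.Lib.Helper7.FPKer
open Groth.Agent.Lib.Helper17.ModPullback

variable {X Y : Scheme.{u}}

/-- the pullback of a finitely presented module is finitely presented -/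
theorem isFP_pullback (f : X ⟶ Y) (G : Y.Modules)
    [SheafOfModules.IsFinitePresentation.{u} (R := Y.ringCatSheaf) G] :
    SheafOfModules.IsFinitePresentation.{u} (R := X.ringCatSheaf)
      ((Scheme.Modules.pullback f).obj G) := by
  haveI : G.IsQuasicoherent := isQuasicoherent_of_isFinitePresentation G
  let ι := {p : X.Opens × Y.Opens // IsAffineOpen p.1 ∧ IsAffineOpen p.2 ∧ p.1 ≤ f ⁻¹ᵁ p.2}
  refine isFinitePresentation_of_fp_cover _ (fun i : ι => i.1.1) ?_ (fun i => i.2.1) (fun i => ?_)
  · refine IsOpenCover.mk (eq_top_iff.mpr fun x _ => ?_)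
    obtain ⟨U, V, hU, hV, hxU, hUV⟩ := exists_affine_pair f x
    exact Opens.mem_iSup.mpr ⟨⟨(U, V), hU, hV, hUV⟩, hxU⟩
  · letI := (f.appLE i.1.2 i.1.1 i.2.2.2).hom.toAlgebra
    obtain ⟨e⟩ := nonempty_linearEquiv_pullback_sections f G i.2.1 i.2.2.1 i.2.2.2
    haveI : Module.FinitePresentation Γ(Y, i.1.2) Γ(G, i.1.2) := fp_of_isAffineOpen G i.2.2.1
    exact Module.FinitePresentation.of_equiv e.symm

/-- on a locally Noetherian scheme a quasi-coherent module of finite type is finitely presented -/
theorem isFP_of_isFiniteType [IsLocallyNoetherian X] (F : X.Modules) [F.IsQuasicoherent]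
    [SheafOfModules.IsFiniteType.{u} (R := X.ringCatSheaf) F] :
    SheafOfModules.IsFinitePresentation.{u} (R := X.ringCatSheaf) F := by
  refine (isFinitePresentation_iff F).2 ⟨inferInstance, fun U hU => ?_⟩
  haveI : IsNoetherianRing Γ(X, U) := IsLocallyNoetherian.component_noetherian ⟨U, hU⟩
  haveI : Module.Finite Γ(X, U) Γ(F, U) :=
    Groth.Agent.Lib.Helper28.FinType.finite_of_isAffineOpen F hU
  exact Module.finitePresentation_of_finite _ _

/-- the cokernel of a morphism from a quasi-coherent module of finite type to a finitely presented module is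
finitely presented -/
theorem isFP_cokernel {A G : X.Modules} (ψ : A ⟶ G) [A.IsQuasicoherent]
    [SheafOfModules.IsFiniteType.{u} (R := X.ringCatSheaf) A]
    [SheafOfModules.IsFinitePresentation.{u} (R := X.ringCatSheaf) G] :
    SheafOfModules.IsFinitePresentation.{u} (R := X.ringCatSheaf) (cokernel ψ) := by
  haveI : G.IsQuasicoherent := isQuasicoherent_of_isFinitePresentation G
  haveI hC : (cokernel ψ).IsQuasicoherent := isQuasicoherent_cokernel ψ
  haveI hK : (kernel (cokernel.π ψ)).IsQuasicoherent := isQuasicoherent_kernel (cokernel.π ψ)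
  have hepi : Epi (Abelian.factorThruImage ψ) := inferInstance
  have hKft0 : SheafOfModules.IsFiniteType.{u} (R := X.ringCatSheaf) (Abelian.image ψ) :=
    @isFiniteType_of_epi _ _ _ (Abelian.factorThruImage ψ) hepi _
  haveI hKft : SheafOfModules.IsFiniteType.{u} (R := X.ringCatSheaf)
      (kernel (cokernel.π ψ) : X.Modules) := hKft0
  refine (isFinitePresentation_iff (cokernel ψ)).2 ⟨hC, fun U hU => ?_⟩
  haveI : Module.FinitePresentation Γ(X, U) Γ(G, U) := fp_of_isAffineOpen G hU
  have hsurj : Function.Surjective (appLinear (cokernel.π ψ) U) :=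
    app_surjective_of_epi (cokernel.π ψ) hU
  haveI : Module.Finite Γ(X, U) Γ(kernel (cokernel.π ψ), U) :=
    Groth.Agent.Lib.Helper28.FinType.finite_of_isAffineOpen (kernel (cokernel.π ψ)) hU
  haveI : Module.Finite Γ(X, U) (LinearMap.ker (appLinear (cokernel.π ψ) U)) :=
    Module.Finite.equiv (kernelSectionsEquiv (cokernel.π ψ) U)
  exact Module.finitePresentation_of_surjective (appLinear (cokernel.π ψ) U) hsurj
    (Module.Finite.iff_fg.1 inferInstance)

end Groth.Agent.Lib.Helper21.FPQuot
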