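import Groth.Agent.Lib.Helper17.QCAlgGen
import Groth.Agent.Lib.Helper8.SheafModGroth
import Groth.Agent.Lib.Helper28.QCohGen
import Groth.Agent.Lib.Helper26.CohFive
import Groth.Agent.Lib.lead.SheafModRestrict
import Mathlib

set_option backward.isDefEq.respectTransparency.types false
set_option linter.style.haveILetI false
set_option autoImplicit false
universe u
open CategoryTheory CategoryTheory.Limits AlgebraicGeometry Opposite TopologicalSpace

namespace Groth.Agent.Lib.Helper21.QCohColim

open Groth.Agent.Lib.Helper17.CohKer Groth.Agent.Lib.Helper17.QCAlgGen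
open Groth.Agent.Lib.Helper26.CohFive Groth.Agent.Lib.Helper28.QCohLoc

variable {X : Scheme.{u}}

/-- the image of a morphism from a coherent module to a quasi-coherent module is coherent -/
theorem isCoh_image {M N : X.Modules} (f : M ⟶ N) (hM : Coh.IsCoh M) [N.IsQuasicoherent] :
    Coh.IsCoh (Limits.image f) := by
  obtain ⟨h1, h2⟩ := hM
  haveI : M.IsQuasicoherent := h1
  haveI := h2
  haveI : (cokernel f).IsQuasicoherent := isQuasicoherent_cokernel f
  have hq : (Abelian.image f).IsQuasicoherent := isQuasicoherent_kernel _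
  refine ⟨(SheafOfModules.isQuasicoherent X.ringCatSheaf).prop_of_iso (Abelian.imageIsoImage f) hq, ?_⟩
  exact isFiniteType_of_epi (factorThruImage f)

/-- the supremum of two coherent subobjects of a quasi-coherent module is coherent -/
theorem isCoh_sup {N : X.Modules} [N.IsQuasicoherent] (a b : Subobject N)
    (ha : Coh.IsCoh (a : X.Modules)) (hb : Coh.IsCoh (b : X.Modules)) :
    Coh.IsCoh ((a ⊔ b : Subobject N) : X.Modules) := by
  haveI : (a : X.Modules).IsQuasicoherent := ha.1
  haveI : (b : X.Modules).IsQuasicoherent := hb.1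
  haveI := ha.2
  haveI := hb.2
  let f : (a : X.Modules) ⊞ (b : X.Modules) ⟶ N := biprod.desc a.arrow b.arrow
  have hAB : Coh.IsCoh ((a : X.Modules) ⊞ (b : X.Modules)) :=
    ⟨inferInstance, isFiniteType_biprod _ _⟩
  have hE : Coh.IsCoh (Limits.image f) := isCoh_image f hAB
  have hle1 : a ≤ Subobject.mk (Limits.image.ι f) :=
    Subobject.le_mk_of_comm (biprod.inl ≫ factorThruImage f) (by
      rw [Category.assoc, image.fac]; exact biprod.inl_desc _ _)
  have hle2 : b ≤ Subobject.mk (Limits.image.ι f) :=
    Subobject.le_mk_of_comm (biprod.inr ≫ factorThruImage f) (by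
      rw [Category.assoc, image.fac]; exact biprod.inr_desc _ _)
  let F' : MonoFactorisation f :=
    { I := ((a ⊔ b : Subobject N) : X.Modules)
      m := (a ⊔ b).arrow
      e := biprod.desc (Subobject.ofLE a (a ⊔ b) le_sup_left) (Subobject.ofLE b (a ⊔ b) le_sup_right)
      fac := by
        apply biprod.hom_ext'
        · rw [biprod.inl_desc_assoc, Subobject.ofLE_arrow]; exact (biprod.inl_desc _ _).symm
        · rw [biprod.inr_desc_assoc, Subobject.ofLE_arrow]; exact (biprod.inr_desc _ _).symm }
  have hle3 : Subobject.mk (Limits.image.ι f) ≤ a ⊔ b :=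
    Subobject.mk_le_of_comm (image.lift F') (image.lift_fac F')
  have heq : Subobject.mk (Limits.image.ι f) = a ⊔ b := le_antisymm hle3 (sup_le hle1 hle2)
  exact isCoh_of_iso ((Subobject.underlyingIso (Limits.image.ι f)).symm ≪≫ Subobject.isoOfEq _ _ heq) hE

section colim

variable [CompactSpace X] [QuasiSeparatedSpace X] (N : X.Modules) [N.IsQuasicoherent]

/-- local sections over affine opens -/
abbrev Pt : Type u := Σ U : X.affineOpens, Γ(N, U.1)

theorem exists_sub (p : Pt N) : ∃ (G : X.Modules) (i : G ⟶ N), Mono i ∧ Coh.IsCoh G ∧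
    ∃ g : Γ(G, p.1.1), i.app p.1.1 g = p.2 := by
  obtain ⟨G', i', hm, hq, hft, hg⟩ := exists_sub_through N p.1.2 PUnit.{u+1} (fun _ => p.2)
  exact ⟨G', i', hm, ⟨hq, hft⟩, hg PUnit.unit⟩

/-- a chosen coherent submodule through a local section -/
noncomputable def subG (p : Pt N) : X.Modules := (exists_sub N p).choose

/-- its inclusion -/
noncomputable def subι (p : Pt N) : subG N p ⟶ N := (exists_sub N p).choose_spec.choose

instance (p : Pt N) : Mono (subι N p) := (exists_sub N p).choose_spec.choose_spec.1

theorem isCoh_subG (p : Pt N) : Coh.IsCoh (subG N p) := (exists_sub N p).choose_spec.choose_spec.2.1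

theorem exists_subι_eq (p : Pt N) : ∃ g : Γ(subG N p, p.1.1), (subι N p).app p.1.1 g = p.2 :=
  (exists_sub N p).choose_spec.choose_spec.2.2

/-- the corresponding subobject -/
noncomputable def sub (p : Pt N) : Subobject N := Subobject.mk (subι N p)

/-- the sum of the chosen coherent submodules through finitely many local sections -/
noncomputable def A (σ : Finset (Pt N)) : Subobject N := σ.sup (sub N)

theorem A_mono : Monotone (A N) := fun _ _ h => Finset.sup_mono h

theorem isCoh_A (σ : Finset (Pt N)) : Coh.IsCoh ((A N σ : Subobject N) : X.Modules) := by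
  classical
  induction σ using Finset.induction_on with
  | empty =>
    have h : A N ∅ = ⊥ := Finset.sup_empty
    rw [h]
    exact isCoh_of_isZero _ (IsZero.of_iso (isZero_zero _) Subobject.botCoeIsoZero)
  | insert p σ hp ih =>
    have h : A N (insert p σ) = sub N p ⊔ A N σ := Finset.sup_insert
    rw [h]
    exact isCoh_sup _ _ (isCoh_of_iso (Subobject.underlyingIso (subι N p)).symm (isCoh_subG N p)) ih

/-- the directed system of coherent submodules, as a functor to `MonoOver N` -/
noncomputable def F : Finset (Pt N) ⥤ MonoOver N := (A_mono N).functor ⋙ Subobject.representative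

/-- the directed system of coherent submodules -/
noncomputable abbrev D : Finset (Pt N) ⥤ X.Modules := F N ⋙ MonoOver.forget N ⋙ Over.forget N

theorem isCoh_D (σ : Finset (Pt N)) : Coh.IsCoh ((D N).obj σ) := isCoh_A N σ

/-- the cocone with vertex `N` -/
noncomputable def cocone : Cocone (D N) where
  pt := N
  ι :=
    { app := fun σ => ((F N).obj σ).obj.hom
      naturality := fun σ τ a => by
        simp only [Functor.const_obj_obj, Functor.const_obj_map, Category.comp_id]
        exact MonoOver.w ((F N).map a) }

/-- the comparison morphism from the colimit -/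
noncomputable def desc : colimit (D N) ⟶ N := colimit.desc (D N) (cocone N)

theorem ι_desc (σ : Finset (Pt N)) : colimit.ι (D N) σ ≫ desc N = ((F N).obj σ).obj.hom :=
  colimit.ι_desc _ _

instance mono_desc : Mono (desc N) := by
  haveI : IsGrothendieckAbelian.{u} X.Modules :=
    Groth.Agent.Lib.Helper8.SheafModGroth.main (Opens.grothendieckTopology X) X.ringCatSheaf
  exact IsGrothendieckAbelian.mono_of_isColimit_monoOver (F N) (colimit.isColimit _) (desc N)
    (ι_desc N)

theorem sub_le_A (p : Pt N) : sub N p ≤ A N {p} := by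
  rw [A, Finset.sup_singleton]

instance epi_desc : Epi (desc N) := by
  refine epi_of_locally_in_range _ ?_
  intro U x pt hpt
  obtain ⟨V, hV, hptV, hVU⟩ := exists_isAffineOpen_mem_and_subset (X := X) (x := pt) (U := U) hpt
  let p : Pt N := ⟨⟨V, hV⟩, res N hVU x⟩
  obtain ⟨g, hg⟩ := exists_subι_eq N p
  let k : subG N p ⟶ colimit (D N) :=
    (Subobject.underlyingIso (subι N p)).inv ≫ Subobject.ofLE (sub N p) (A N {p}) (sub_le_A N p) ≫
      colimit.ι (D N) {p}
  have h2 : colimit.ι (D N) {p} ≫ desc N = (A N {p}).arrow := ι_desc N {p}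
  have h3 : Subobject.ofLE (sub N p) (A N {p}) (sub_le_A N p) ≫ (A N {p}).arrow = (sub N p).arrow :=
    Subobject.ofLE_arrow _
  have h4 : (Subobject.underlyingIso (subι N p)).inv ≫ (sub N p).arrow = subι N p :=
    Subobject.underlyingIso_arrow _
  have hk : k ≫ desc N = subι N p := by
    have e1 : k ≫ desc N = (Subobject.underlyingIso (subι N p)).inv ≫
        (Subobject.ofLE (sub N p) (A N {p}) (sub_le_A N p) ≫ (colimit.ι (D N) {p} ≫ desc N)) := by
      simp only [k, Category.assoc]
    rw [e1]
    exact ((congrArg (fun t => (Subobject.underlyingIso (subι N p)).inv ≫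
      (Subobject.ofLE (sub N p) (A N {p}) (sub_le_A N p) ≫ t)) h2).trans
      (congrArg (fun t => (Subobject.underlyingIso (subι N p)).inv ≫ t) h3)).trans h4
  refine ⟨V, hVU, hptV, k.app V g, ?_⟩
  have h1 : (desc N).app V (k.app V g) = (k ≫ desc N).app V g := rfl
  rw [h1, hk]
  exact hg

instance isIso_desc : IsIso (desc N) := isIso_of_mono_of_epi _

/-- `N` is the colimit of the directed system of coherent submodules -/
noncomputable def isColimit : IsColimit (cocone N) :=
  haveI : IsIso ((colimit.isColimit (D N)).desc (cocone N)) := isIso_desc N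
  IsColimit.ofPointIso (colimit.isColimit (D N))

/-- **A quasi-coherent module on a qcqs scheme is a directed colimit of coherent (finite type
quasi-coherent) submodules.** -/
theorem exists_isColimit_isCoh :
    ∃ (I : Type u) (_ : Preorder I) (_ : IsDirected I (· ≤ ·)) (_ : Nonempty I)
      (D : I ⥤ X.Modules) (c : Cocone D), Nonempty (IsColimit c) ∧ c.pt = N ∧
        ∀ i, Coh.IsCoh (D.obj i) :=
  ⟨Finset (Pt N), inferInstance, inferInstance, inferInstance, D N, cocone N, ⟨isColimit N⟩, rfl,
    isCoh_D N⟩

end colim

end Groth.Agent.Lib.Helper21.QCohColim
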