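import Groth.Agent.Lib.Helper21.FPQuot1
import Groth.Agent.Lib.Helper21.QCohColim
import Groth.Agent.Lib.lead.NaAbs
import Groth.Agent.Lib.Helper28.QCohPush
import Groth.Agent.Lib.Helper28.ModIsoCover
import Mathlib

/-!
# helper21 — FPQuot2: a quasi-coherent module of finite type on a qcqs scheme is a quotient of a finitely
presented module

By absolute Noetherian approximation there is an affine morphism `k : X ⟶ X₀` to a Noetherian scheme. The
module `k_* F` is the directed union of its coherent submodules; one of them, `G₀`, contains generators of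
`Γ(F, k⁻¹U)` for `U` in a finite affine cover of `X₀`, and then the adjoint map `k^* G₀ ⟶ F` is an epimorphism
from a finitely presented module.
-/

set_option backward.isDefEq.respectTransparency.types false
set_option linter.style.haveILetI false
set_option autoImplicit false
universe u
open CategoryTheory CategoryTheory.Limits AlgebraicGeometry Opposite TopologicalSpace

noncomputable section

namespace Groth.Agent.Lib.Helper21.FPQuot

open Groth.Agent.Lib.Helper28.QCohLoc Groth.Agent.Lib.Helper21.QCohColim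
open Groth.Agent.Lib.lead.NaMain Groth.Agent.Lib.Helper7.FPKer

/-- **a qcqs scheme admits an affine morphism to a Noetherian scheme** (absolute Noetherian approximation) -/
theorem exists_affine_noeth (X : Scheme.{u}) [CompactSpace X] [QuasiSeparatedSpace X] :
    ∃ (X₀ : Scheme.{u}) (k : X ⟶ X₀), IsAffineHom k ∧ IsNoetherian X₀ := by
  obtain ⟨I, _, _, _, D, c, hc, haff, hft, ⟨e⟩⟩ := exists_approx X
  let i₀ : Iᵒᵖ := op (Classical.arbitrary I)
  haveI : IsCofiltered Iᵒᵖ := inferInstance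
  haveI : ∀ {i j : Iᵒᵖ} (f : i ⟶ j), IsAffineHom (D.map f) := fun f => haff _ _ f
  haveI : IsAffineHom (c.π.app i₀) := isAffineHom_π_app D c hc i₀
  exact ⟨D.obj i₀, e.inv ≫ c.π.app i₀, inferInstance, isNoetherian_of_ftz (hft i₀)⟩

variable {X X₀ : Scheme.{u}} (k : X ⟶ X₀) (M : X.Modules)

/-- `k_* M` -/
abbrev PM : X₀.Modules := (Scheme.Modules.pushforward k).obj M

/-- sections of `k_* M` as sections of `M` -/
def toM (U : X₀.Opens) : Γ(PM k M, U) →+ Γ(M, k ⁻¹ᵁ U) := AddMonoidHom.id _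

/-- sections of `M` as sections of `k_* M` -/
def ofM (U : X₀.Opens) : Γ(M, k ⁻¹ᵁ U) →+ Γ(PM k M, U) := AddMonoidHom.id _

@[simp] theorem toM_ofM (U : X₀.Opens) (y : Γ(M, k ⁻¹ᵁ U)) : toM k M U (ofM k M U y) = y := rfl

/-- a coherent submodule of `k_* M` through generators of the sections of `M` over the preimages of the members
of a finite affine cover -/
theorem exists_coh_through [IsAffineHom k] [CompactSpace X₀] [QuasiSeparatedSpace X₀]
    [M.IsQuasicoherent] [SheafOfModules.IsFiniteType.{u} (R := X.ringCatSheaf) M] :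
    ∃ (G : X₀.Modules) (i : G ⟶ PM k M), Mono i ∧ Coh.IsCoh G ∧
      ∃ 𝒰 : Set X₀.affineOpens, (∀ x : X₀, ∃ U ∈ 𝒰, x ∈ U.1) ∧
        ∀ U ∈ 𝒰, ∃ s : Set Γ(M, k ⁻¹ᵁ U.1), Submodule.span Γ(X, k ⁻¹ᵁ U.1) s = ⊤ ∧
          ∀ m ∈ s, ∃ g : Γ(G, U.1), toM k M U.1 (i.app U.1 g) = m := by
  classical
  haveI : (PM k M).IsQuasicoherent := isQuasicoherent_pushforward k M
  obtain ⟨𝒰, h𝒰fin, h𝒰⟩ := isCompact_iff_finite_and_eq_biUnion_affineOpens.mp
    (show IsCompact (X := X₀) ((⊤ : X₀.Opens) : Set X₀) from isCompact_univ)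
  have hfin : ∀ U : X₀.affineOpens, Module.Finite Γ(X, k ⁻¹ᵁ U.1) Γ(M, k ⁻¹ᵁ U.1) := fun U =>
    Groth.Agent.Lib.Helper28.FinType.finite_of_isAffineOpen M (U.2.preimage k)
  choose gens hgens using fun U : X₀.affineOpens => (hfin U).fg_top
  let σ : Finset (Pt (PM k M)) := h𝒰fin.toFinset.biUnion fun U =>
    (gens U).image fun m => (⟨U, ofM k M U.1 m⟩ : Pt (PM k M))
  let i : ((QCohColim.A (PM k M) σ : Subobject (PM k M)) : X₀.Modules) ⟶ PM k M :=
    (QCohColim.A (PM k M) σ).arrow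
  refine ⟨_, i, inferInstance, isCoh_A (PM k M) σ, 𝒰, ?_, ?_⟩
  · intro x
    have hx : x ∈ ⨆ i ∈ 𝒰, (i : X₀.Opens) := by rw [← h𝒰]; trivial
    obtain ⟨U₀, hxU₀⟩ := Opens.mem_iSup.mp hx
    obtain ⟨hU₀, hxU₀⟩ := Opens.mem_iSup.mp hxU₀
    exact ⟨U₀, hU₀, hxU₀⟩
  · intro U hU
    refine ⟨(gens U : Set Γ(M, k ⁻¹ᵁ U.1)), hgens U, ?_⟩
    intro m hm
    let p : Pt (PM k M) := ⟨U, ofM k M U.1 m⟩
    have hp : p ∈ σ := by
      refine Finset.mem_biUnion.mpr ⟨U, h𝒰fin.mem_toFinset.mpr hU, ?_⟩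
      exact Finset.mem_image.mpr ⟨m, hm, rfl⟩
    obtain ⟨g₀, hg₀⟩ := exists_subι_eq (PM k M) p
    have hle : sub (PM k M) p ≤ QCohColim.A (PM k M) σ := Finset.le_sup hp
    let j : subG (PM k M) p ⟶ ((QCohColim.A (PM k M) σ : Subobject (PM k M)) : X₀.Modules) :=
      (Subobject.underlyingIso (subι (PM k M) p)).inv ≫ Subobject.ofLE _ _ hle
    have hj : j ≫ i = subι (PM k M) p := by
      have h3 : Subobject.ofLE (sub (PM k M) p) (QCohColim.A (PM k M) σ) hle ≫ i =
          (sub (PM k M) p).arrow := Subobject.ofLE_arrow _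
      have h4 : (Subobject.underlyingIso (subι (PM k M) p)).inv ≫ (sub (PM k M) p).arrow =
          subι (PM k M) p := Subobject.underlyingIso_arrow _
      rw [← h4, ← h3, Category.assoc]
      rfl
    refine ⟨j.app U.1 g₀, ?_⟩
    have h5 : i.app U.1 (j.app U.1 g₀) = (j ≫ i).app U.1 g₀ := rfl
    rw [h5, hj, hg₀]
    rfl

variable {k M}

/-- sections of the adjoint of a morphism `G ⟶ k_* M` -/
theorem adjunct_app {G : X₀.Modules} (i : G ⟶ PM k M) (U : X₀.Opens) (g : Γ(G, U)) :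
    (((Scheme.Modules.pullbackPushforwardAdjunction k).homEquiv G M).symm i).app (k ⁻¹ᵁ U)
      (toM k _ U (((Scheme.Modules.pullbackPushforwardAdjunction k).unit.app G).app U g)) =
      toM k M U (i.app U g) := by
  have h1 : (Scheme.Modules.pullbackPushforwardAdjunction k).unit.app G ≫
      (Scheme.Modules.pushforward k).map
        (((Scheme.Modules.pullbackPushforwardAdjunction k).homEquiv G M).symm i) = i := by
    exact (Adjunction.homEquiv_unit _ _ _ _).symm.trans (Equiv.apply_symm_apply _ _)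
  exact congrArg (fun ψ => toM k M U ((Scheme.Modules.Hom.app ψ U) g)) h1

/-- **a quasi-coherent module of finite type on a quasi-compact quasi-separated scheme is a quotient of a
finitely presented module** -/
theorem exists_fp_epi {X : Scheme.{u}} [CompactSpace X] [QuasiSeparatedSpace X] (F : X.Modules)
    [F.IsQuasicoherent] [SheafOfModules.IsFiniteType.{u} (R := X.ringCatSheaf) F] :
    ∃ (G : X.Modules) (p : G ⟶ F),
      SheafOfModules.IsFinitePresentation.{u} (R := X.ringCatSheaf) G ∧ Epi p := by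
  obtain ⟨X₀, k, hk, hN⟩ := exists_affine_noeth X
  haveI := hk
  haveI := hN
  obtain ⟨G₀, i, -, hG₀, 𝒰, hcov, hgen⟩ := exists_coh_through k F
  haveI : G₀.IsQuasicoherent := hG₀.1
  haveI : SheafOfModules.IsFiniteType.{u} (R := X₀.ringCatSheaf) G₀ := hG₀.2
  haveI : SheafOfModules.IsFinitePresentation.{u} (R := X₀.ringCatSheaf) G₀ := isFP_of_isFiniteType G₀
  let φ : (Scheme.Modules.pullback k).obj G₀ ⟶ F :=
    ((Scheme.Modules.pullbackPushforwardAdjunction k).homEquiv G₀ F).symm i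
  refine ⟨(Scheme.Modules.pullback k).obj G₀, φ, isFP_pullback k G₀, ?_⟩
  refine epi_of_affine_cover φ (fun U : 𝒰 => k ⁻¹ᵁ U.1.1) (fun U => U.1.2.preimage k) ?_
    (fun U => isLocOn_of_isQuasicoherent F (U.1.2.preimage k)) ?_
  · intro x
    obtain ⟨U, hU, hx⟩ := hcov (k x)
    exact ⟨⟨U, hU⟩, hx⟩
  · intro U m
    obtain ⟨s, hs, hsg⟩ := hgen U.1 U.2
    have hm : m ∈ Submodule.span Γ(X, k ⁻¹ᵁ U.1.1) s := by rw [hs]; trivial
    have hle : Submodule.span Γ(X, k ⁻¹ᵁ U.1.1) s ≤ LinearMap.range (appLinear φ (k ⁻¹ᵁ U.1.1)) := by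
      refine Submodule.span_le.mpr ?_
      intro m' hm'
      obtain ⟨g, hg⟩ := hsg m' hm'
      exact ⟨_, (adjunct_app i U.1.1 g).trans hg⟩
    exact hle hm

end Groth.Agent.Lib.Helper21.FPQuot
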