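import Groth.Agent.Lib.Helper21.FPQuot2
import Mathlib

/-!
# helper21 — FPQuot3: a quasi-coherent module of finite type on a qcqs scheme is a directed colimit of finitely
presented modules with surjective transition maps

Write `F = G / K` with `G` finitely presented (`FPQuot2`), write `K` as the directed union of its quasi-coherent
submodules of finite type `K_σ` (`QCohColim`), and take the system `G / K_σ`.
-/

set_option backward.isDefEq.respectTransparency.types false
set_option linter.style.haveILetI false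
set_option autoImplicit false
universe u v w
open CategoryTheory CategoryTheory.Limits AlgebraicGeometry Opposite TopologicalSpace

noncomputable section

namespace Groth.Agent.Lib.Helper21.FPQuot

section Abstract

variable {C : Type w} [Category.{v} C] [Abelian C] {K G F : C} (κ : K ⟶ G) (p : G ⟶ F)
  {J : Type u} [Preorder J] (A : J →o Subobject K)

/-- the composite `A j ⟶ K ⟶ G` -/
def aMap (j : J) : ((A j : Subobject K) : C) ⟶ G := (A j).arrow ≫ κ

theorem ofLE_aMap {i j : J} (h : i ≤ j) :
    Subobject.ofLE (A i) (A j) (A.monotone h) ≫ aMap κ A j = aMap κ A i := by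
  unfold aMap
  rw [← Category.assoc, Subobject.ofLE_arrow]

/-- the system of quotients `G / A j` -/
def Dfun : J ⥤ C where
  obj j := cokernel (aMap κ A j)
  map {i j} h := cokernel.desc (aMap κ A i) (cokernel.π (aMap κ A j)) (by
    rw [← ofLE_aMap κ A (leOfHom h), Category.assoc, cokernel.condition, comp_zero])
  map_id j := by
    apply coequalizer.hom_ext
    simp
  map_comp f g := by
    apply coequalizer.hom_ext
    simp

/-- the projection `G ⟶ G / A j` -/
def πD (j : J) : G ⟶ (Dfun κ A).obj j := cokernel.π (aMap κ A j)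

instance epi_πD (j : J) : Epi (πD κ A j) := coequalizer.π_epi

theorem aMap_πD (j : J) : aMap κ A j ≫ πD κ A j = 0 := cokernel.condition _

theorem πD_map {i j : J} (h : i ⟶ j) : πD κ A i ≫ (Dfun κ A).map h = πD κ A j :=
  cokernel.π_desc _ _ _

theorem epi_Dfun_map {i j : J} (h : i ⟶ j) : Epi ((Dfun κ A).map h) := by
  haveI : Epi (πD κ A i ≫ (Dfun κ A).map h) := by
    rw [πD_map]
    infer_instance
  exact epi_of_epi (πD κ A i) _

variable (w : κ ≫ p = 0)

/-- the cocone to `F` -/
def Dι : Dfun κ A ⟶ (Functor.const J).obj F where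
  app j := cokernel.desc (aMap κ A j) p (by unfold aMap; rw [Category.assoc, w, comp_zero])
  naturality i j h := by
    apply coequalizer.hom_ext
    simp [Dfun]

theorem πD_Dι (j : J) : πD κ A j ≫ (Dι κ p A w).app j = p :=
  cokernel.π_desc _ _ _

/-- if `K ⟶ G ⟶ F ⟶ 0` is exact and the `A j` are a directed family of subobjects of `K` which is jointly
epimorphic, then `F` is the colimit of the `G / A j` -/
theorem nonempty_isColimit_D [Nonempty J] [IsDirected J (· ≤ ·)] [Epi p]
    (hex : ∀ {T : C} (c : G ⟶ T), κ ≫ c = 0 → ∃ d : F ⟶ T, p ≫ d = c)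
    (hjoint : ∀ {T : C} (g : K ⟶ T), (∀ j, (A j).arrow ≫ g = 0) → g = 0) :
    Nonempty (IsColimit (Cocone.mk F (Dι κ p A w))) := by
  refine ⟨IsColimit.ofExistsUnique fun s => ?_⟩
  obtain ⟨j₀⟩ := ‹Nonempty J›
  let c : G ⟶ s.pt := πD κ A j₀ ≫ s.ι.app j₀
  have e1 : ∀ {i k : J} (h : i ≤ k), πD κ A i ≫ s.ι.app i = πD κ A k ≫ s.ι.app k := by
    intro i k h
    have h1 : (Dfun κ A).map (homOfLE h) ≫ s.ι.app k = s.ι.app i := s.w (homOfLE h)
    rw [← h1, ← Category.assoc, πD_map]
  have hc : ∀ j, πD κ A j ≫ s.ι.app j = c := by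
    intro j
    obtain ⟨k, hjk, hj₀k⟩ := exists_ge_ge j j₀
    rw [e1 hjk, ← e1 hj₀k]
  have hκ : κ ≫ c = 0 := by
    apply hjoint
    intro j
    have h2 : (A j).arrow ≫ κ ≫ πD κ A j ≫ s.ι.app j = (aMap κ A j ≫ πD κ A j) ≫ s.ι.app j := by
      unfold aMap
      simp only [Category.assoc]
    rw [← hc j, h2, aMap_πD, zero_comp]
  obtain ⟨d, hd⟩ := hex c hκ
  refine ⟨d, ?_, ?_⟩
  · intro j
    change (Dι κ p A w).app j ≫ d = s.ι.app j
    rw [← cancel_epi (πD κ A j), ← Category.assoc, πD_Dι, hd, hc]
  · intro m hm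
    change F ⟶ s.pt at m
    have h1 : (Dι κ p A w).app j₀ ≫ m = s.ι.app j₀ := hm j₀
    rw [← cancel_epi p, hd]
    calc p ≫ m = πD κ A j₀ ≫ (Dι κ p A w).app j₀ ≫ m := by
          rw [← Category.assoc, πD_Dι]
      _ = c := by rw [h1]

end Abstract

open Groth.Agent.Lib.Helper21.QCohColim Groth.Agent.Lib.Helper17.CohKer
open Groth.Agent.Lib.Helper29.FPDict

/-- **On a quasi-compact quasi-separated scheme, a quasi-coherent module of finite type is a directed colimit of
finitely presented modules with surjective transition maps.** -/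
theorem exists_directed_colimit_fp {X : Scheme.{u}} [CompactSpace X] [QuasiSeparatedSpace X]
    (F : X.Modules) [F.IsQuasicoherent] [SheafOfModules.IsFiniteType.{u} (R := X.ringCatSheaf) F] :
    ∃ (J : Type u) (_ : PartialOrder J) (_ : IsDirected J (· ≤ ·)) (_ : Nonempty J)
      (D : J ⥤ X.Modules) (ι : D ⟶ (Functor.const J).obj F),
      Nonempty (IsColimit (Cocone.mk F ι)) ∧
      (∀ j, SheafOfModules.IsFinitePresentation.{u} (R := X.ringCatSheaf) (D.obj j)) ∧
      ∀ (j j' : J) (h : j ⟶ j'), Epi (D.map h) := by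
  classical
  obtain ⟨G, p, hG, hp⟩ := exists_fp_epi F
  haveI := hG
  haveI := hp
  haveI : G.IsQuasicoherent := isQuasicoherent_of_isFinitePresentation G
  let K : X.Modules := kernel p
  let κ : K ⟶ G := kernel.ι p
  haveI : K.IsQuasicoherent := isQuasicoherent_kernel p
  let A : Finset (Pt K) →o Subobject K := ⟨QCohColim.A K, A_mono K⟩
  refine ⟨Finset (Pt K), inferInstance, inferInstance, inferInstance, Dfun κ A,
    Dι κ p A (kernel.condition p), ?_, ?_, ?_⟩
  · refine nonempty_isColimit_D κ p A _
      (fun c hc => ⟨Abelian.epiDesc p c hc, Abelian.comp_epiDesc p c hc⟩) (fun g hg => ?_)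
    refine (QCohColim.isColimit K).hom_ext fun σ => ?_
    exact (hg σ).trans comp_zero.symm
  · intro σ
    have hA := isCoh_A K σ
    haveI := hA.1
    haveI := hA.2
    exact isFP_cokernel (aMap κ A σ)
  · intro j j' h
    exact epi_Dfun_map κ A h

end Groth.Agent.Lib.Helper21.FPQuot
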