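import Groth.Agent.Lib.Helper21.FPQuot3
import Groth.Agent.Lib.Helper29.FPAlg
import Mathlib

/-!
# helper21 — FPQuot4: a quasi-coherent module of finite type which is finitely presented over a quasi-compact open
is a quotient of a finitely presented module by a surjection which is an isomorphism over that open
-/

set_option backward.isDefEq.respectTransparency.types false
set_option linter.style.haveILetI false
set_option autoImplicit false
universe u
open CategoryTheory CategoryTheory.Limits AlgebraicGeometry Opposite TopologicalSpace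

namespace Groth.Agent.Lib.Helper21.FPQuot

open Groth.Agent.Lib.Helper21.QCohColim Groth.Agent.Lib.Helper17.CohKer
open Groth.Agent.Lib.Helper29.FPDict Groth.Agent.Lib.Helper29.FPAlg Groth.Agent.Lib.Helper7.FPKer
open Groth.Agent.Lib.Helper28.QCohLoc

/-- sections over (the image of) an affine open of `U` of a module whose restriction to `U` is finitely presented
are finitely presented -/
theorem fp_sections_of_restrict {X : Scheme.{u}} (F : X.Modules) (U : X.Opens)
    [SheafOfModules.IsFinitePresentation.{u} (R := (U : Scheme.{u}).ringCatSheaf) (F.restrict U.ι)]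
    {V : (U : Scheme.{u}).Opens} (hV : IsAffineOpen V) :
    Module.FinitePresentation Γ(X, U.ι ''ᵁ V) Γ(F, U.ι ''ᵁ V) := by
  have h : Module.FinitePresentation Γ((U : Scheme.{u}), V) Γ(F.restrict U.ι, V) :=
    fp_of_isAffineOpen (F.restrict U.ι) hV
  exact fp_of_semilinear_bij (R := Γ((U : Scheme.{u}), V)) (S := Γ(X, U.ι ''ᵁ V))
    (M := Γ(F.restrict U.ι, V)) (N := Γ(F, U.ι ''ᵁ V))
    (U.ι.appIso V).symm.commRingCatIsoToRingEquiv id (fun _ _ => rfl) (fun _ _ => rfl)
    Function.bijective_id h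

/-- **On a quasi-compact quasi-separated scheme, a quasi-coherent module of finite type which is of finite
presentation over a quasi-compact open `U` is the quotient of a module of finite presentation by a surjection
which is an isomorphism over `U`.** -/
theorem exists_fp_epi_iso_on_open {X : Scheme.{u}} [CompactSpace X] [QuasiSeparatedSpace X]
    (F : X.Modules) [F.IsQuasicoherent] [SheafOfModules.IsFiniteType.{u} (R := X.ringCatSheaf) F]
    (U : X.Opens) (hU : IsCompact (U : Set X))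
    [SheafOfModules.IsFinitePresentation.{u} (R := (U : Scheme.{u}).ringCatSheaf) (F.restrict U.ι)] :
    ∃ (G : X.Modules) (φ : G ⟶ F),
      SheafOfModules.IsFinitePresentation.{u} (R := X.ringCatSheaf) G ∧ Epi φ ∧
      IsIso ((Scheme.Modules.restrictFunctor U.ι).map φ) := by
  classical
  obtain ⟨G₀, p, hG₀, hp⟩ := exists_fp_epi F
  haveI := hG₀
  haveI := hp
  haveI : G₀.IsQuasicoherent := isQuasicoherent_of_isFinitePresentation G₀
  let K : X.Modules := kernel p
  let κ : K ⟶ G₀ := kernel.ι p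
  haveI : K.IsQuasicoherent := isQuasicoherent_kernel p
  let A : Finset (Pt K) →o Subobject K := ⟨QCohColim.A K, A_mono K⟩
  haveI : CompactSpace (U : Scheme.{u}) := isCompact_iff_compactSpace.mp hU
  obtain ⟨𝒱, h𝒱fin, h𝒱⟩ := isCompact_iff_finite_and_eq_biUnion_affineOpens.mp
    (show IsCompact (X := (U : Scheme.{u})) ((⊤ : (U : Scheme.{u}).Opens) : Set (U : Scheme.{u}))
      from isCompact_univ)
  have hW : ∀ V : (U : Scheme.{u}).affineOpens, IsAffineOpen (U.ι ''ᵁ V.1) := fun V =>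
    V.2.image_of_isOpenImmersion U.ι
  have hfin : ∀ V : (U : Scheme.{u}).affineOpens,
      Module.Finite Γ(X, U.ι ''ᵁ V.1) Γ(K, U.ι ''ᵁ V.1) := by
    intro V
    haveI := fp_sections_of_restrict F U V.2
    haveI : Module.FinitePresentation Γ(X, U.ι ''ᵁ V.1) Γ(G₀, U.ι ''ᵁ V.1) :=
      fp_of_isAffineOpen G₀ (hW V)
    have hfg : (LinearMap.ker (appLinear p (U.ι ''ᵁ V.1))).FG :=
      Module.FinitePresentation.fg_ker (appLinear p (U.ι ''ᵁ V.1)) (app_surjective_of_epi p (hW V))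
    haveI : Module.Finite Γ(X, U.ι ''ᵁ V.1) (LinearMap.ker (appLinear p (U.ι ''ᵁ V.1))) :=
      Module.Finite.iff_fg.2 hfg
    exact Module.Finite.equiv (kernelSectionsEquiv p (U.ι ''ᵁ V.1)).symm
  choose gens hgens using fun V : (U : Scheme.{u}).affineOpens => (hfin V).fg_top
  let σ : Finset (Pt K) := h𝒱fin.toFinset.biUnion fun V =>
    (gens V).image fun m => (⟨⟨U.ι ''ᵁ V.1, hW V⟩, m⟩ : Pt K)
  let i : ((QCohColim.A K σ : Subobject K) : X.Modules) ⟶ K := (QCohColim.A K σ).arrow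
  -- the chosen submodule of finite type contains all sections of `K` over the members of the cover
  have hsurjA : ∀ V ∈ 𝒱, Function.Surjective (i.app (U.ι ''ᵁ V.1)) := by
    intro V hV m
    have hmem : ∀ m' ∈ (gens V : Set Γ(K, U.ι ''ᵁ V.1)),
        m' ∈ LinearMap.range (appLinear i (U.ι ''ᵁ V.1)) := by
      intro m' hm'
      let pt : Pt K := ⟨⟨U.ι ''ᵁ V.1, hW V⟩, m'⟩
      have hp : pt ∈ σ := by
        refine Finset.mem_biUnion.mpr ⟨V, h𝒱fin.mem_toFinset.mpr hV, ?_⟩
        exact Finset.mem_image.mpr ⟨m', hm', rfl⟩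
      obtain ⟨g₀, hg₀⟩ := exists_subι_eq K pt
      have hle : sub K pt ≤ QCohColim.A K σ := Finset.le_sup hp
      let j : subG K pt ⟶ ((QCohColim.A K σ : Subobject K) : X.Modules) :=
        (Subobject.underlyingIso (subι K pt)).inv ≫ Subobject.ofLE _ _ hle
      have hj : j ≫ i = subι K pt := by
        have h3 : Subobject.ofLE (sub K pt) (QCohColim.A K σ) hle ≫ i = (sub K pt).arrow :=
          Subobject.ofLE_arrow _
        have h4 : (Subobject.underlyingIso (subι K pt)).inv ≫ (sub K pt).arrow = subι K pt :=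
          Subobject.underlyingIso_arrow _
        rw [← h4, ← h3, Category.assoc]
        rfl
      refine ⟨j.app (U.ι ''ᵁ V.1) g₀, ?_⟩
      have h5 : i.app (U.ι ''ᵁ V.1) (j.app (U.ι ''ᵁ V.1) g₀) = (j ≫ i).app (U.ι ''ᵁ V.1) g₀ := rfl
      change i.app (U.ι ''ᵁ V.1) (j.app (U.ι ''ᵁ V.1) g₀) = m'
      rw [h5, hj]
      exact hg₀
    have hm : m ∈ Submodule.span Γ(X, U.ι ''ᵁ V.1) (gens V : Set Γ(K, U.ι ''ᵁ V.1)) := by
      rw [hgens V]; trivial
    exact (Submodule.span_le.mpr hmem) hm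
  have hA := isCoh_A K σ
  haveI := hA.1
  haveI := hA.2
  haveI hD : SheafOfModules.IsFinitePresentation.{u} (R := X.ringCatSheaf) ((Dfun κ A).obj σ) :=
    isFP_cokernel (aMap κ A σ)
  haveI : ((Dfun κ A).obj σ).IsQuasicoherent := isQuasicoherent_of_isFinitePresentation _
  let φ : (Dfun κ A).obj σ ⟶ F := (Dι κ p A (kernel.condition p)).app σ
  have hπφ : πD κ A σ ≫ φ = p := πD_Dι κ p A (kernel.condition p) σ
  haveI hφ : Epi φ := by
    haveI : Epi (πD κ A σ ≫ φ) := by rw [hπφ]; infer_instance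
    exact epi_of_epi (πD κ A σ) φ
  refine ⟨(Dfun κ A).obj σ, φ, hD, hφ, ?_⟩
  haveI : (((Dfun κ A).obj σ).restrict U.ι).IsQuasicoherent := inferInstance
  haveI : (F.restrict U.ι).IsQuasicoherent := inferInstance
  refine isIso_of_affine_cover ((Scheme.Modules.restrictFunctor U.ι).map φ)
    (fun V : 𝒱 => V.1.1) (fun V => V.1.2) ?_
    (fun V => isLocOn_of_isQuasicoherent (((Dfun κ A).obj σ).restrict U.ι) V.1.2)
    (fun V => isLocOn_of_isQuasicoherent (F.restrict U.ι) V.1.2) ?_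
  · intro x
    have hx : x ∈ ⨆ i ∈ 𝒱, (i : (U : Scheme.{u}).Opens) := by rw [← h𝒱]; trivial
    obtain ⟨V₀, hxV₀⟩ := Opens.mem_iSup.mp hx
    obtain ⟨hV₀, hxV₀⟩ := Opens.mem_iSup.mp hxV₀
    exact ⟨⟨V₀, hV₀⟩, hxV₀⟩
  · intro V
    change Function.Bijective (φ.app (U.ι ''ᵁ V.1.1))
    have hsp : Function.Surjective (p.app (U.ι ''ᵁ V.1.1)) := app_surjective_of_epi p (hW V.1)
    have hsπ : Function.Surjective ((πD κ A σ).app (U.ι ''ᵁ V.1.1)) :=
      app_surjective_of_epi (πD κ A σ) (hW V.1)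
    have hcomp : ∀ y : Γ(G₀, U.ι ''ᵁ V.1.1),
        φ.app (U.ι ''ᵁ V.1.1) ((πD κ A σ).app (U.ι ''ᵁ V.1.1) y) = p.app (U.ι ''ᵁ V.1.1) y := by
      intro y
      exact congrArg (fun ψ => (Scheme.Modules.Hom.app ψ (U.ι ''ᵁ V.1.1)) y) hπφ
    refine ⟨?_, ?_⟩
    · have key : ∀ x : Γ((Dfun κ A).obj σ, U.ι ''ᵁ V.1.1), φ.app (U.ι ''ᵁ V.1.1) x = 0 → x = 0 := by
        intro x hx
        obtain ⟨y, rfl⟩ := hsπ x
        rw [hcomp] at hx
        obtain ⟨k, hk⟩ := exists_kernel_app_eq p (U.ι ''ᵁ V.1.1) y hx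
        obtain ⟨a, ha⟩ := hsurjA V.1 V.2 k
        have h0 : aMap κ A σ ≫ πD κ A σ = 0 := aMap_πD κ A σ
        have h1 := congrArg (fun ψ => (Scheme.Modules.Hom.app ψ (U.ι ''ᵁ V.1.1)) a) h0
        have h2 : (πD κ A σ).app (U.ι ''ᵁ V.1.1) (κ.app (U.ι ''ᵁ V.1.1) (i.app (U.ι ''ᵁ V.1.1) a)) = 0 :=
          h1
        rw [ha, hk] at h2
        exact h2
      intro x x' hxx'
      have h0 : φ.app (U.ι ''ᵁ V.1.1) (x - x') = 0 := by
        rw [map_sub, hxx', sub_self]
      exact sub_eq_zero.1 (key _ h0)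
    · intro z
      obtain ⟨y, hy⟩ := hsp z
      exact ⟨(πD κ A σ).app (U.ι ''ᵁ V.1.1) y, (hcomp y).trans hy⟩

end Groth.Agent.Lib.Helper21.FPQuot
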