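import Groth.Agent.Lib.Helper21.FPQuot3
import Mathlib

/-!
# helper21 — FPQuot5: a two-level directed system of quotients (abstract part)

Let `Gf : S ⥤ C` be a directed system in an abelian category with compatible maps `gf s : Gf s ⟶ F`, and for each
`s` a directed family `A s τ` (`τ : T s`) of subobjects of `ker (gf s)`. On the set of pairs `(s, τ)` we put the
preorder `(s, τ) ≤ (s', τ')` iff `s ≤ s'` and `Gf s ⟶ Gf s'` maps `A s τ` into `A s' τ'`; the quotients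
`Gf s / A s τ` form a functor on it, whose colimit is `F` provided `F = colim_s Gf s / ker (gf s)` and each `ker (gf s)`
is the union of the `A s τ`.
-/

set_option backward.isDefEq.respectTransparency.types false
set_option linter.style.haveILetI false
set_option autoImplicit false
universe u v w
open CategoryTheory CategoryTheory.Limits

noncomputable section

namespace Groth.Agent.Lib.Helper21.FPQuot

section Abstract2

variable {C : Type w} [Category.{v} C] [Abelian C] {F : C}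
  {S : Type u} [Preorder S] (Gf : S ⥤ C) (gf : ∀ s, Gf.obj s ⟶ F)
  (T : S → Type u) [∀ s, Preorder (T s)]
  (A : ∀ s, T s →o Subobject (kernel (gf s)))

variable {T}

/-- the index set of pairs -/
structure Idx {S : Type u} [Preorder S] {Gf : S ⥤ C} {gf : ∀ s, Gf.obj s ⟶ F} {T : S → Type u}
    [∀ s, Preorder (T s)] (A : ∀ s, T s →o Subobject (kernel (gf s))) : Type u where
  /-- first index -/
  s : S
  /-- second index -/
  τ : T s

/-- `A s τ ⟶ Gf s` -/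
abbrev aM (a : Idx A) : ((A a.1 a.2 : Subobject (kernel (gf a.1))) : C) ⟶ Gf.obj a.1 :=
  aMap (kernel.ι (gf a.1)) (A a.1) a.2

/-- the quotient `Gf s / A s τ` -/
abbrev Dob (a : Idx A) : C := (Dfun (kernel.ι (gf a.1)) (A a.1)).obj a.2

/-- `Gf s ⟶ Gf s / A s τ` -/
abbrev πM (a : Idx A) : Gf.obj a.1 ⟶ Dob Gf gf A a := πD (kernel.ι (gf a.1)) (A a.1) a.2

theorem aM_πM (a : Idx A) : aM Gf gf A a ≫ πM Gf gf A a = 0 := aMap_πD _ _ _

/-- the order relation on pairs -/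
def Le2 (a b : Idx A) : Prop :=
  ∃ h : a.1 ≤ b.1, aM Gf gf A a ≫ Gf.map (homOfLE h) ≫ πM Gf gf A b = 0

/-- the induced map on quotients -/
def tr {a b : Idx A} (h : Le2 Gf gf A a b) : Dob Gf gf A a ⟶ Dob Gf gf A b :=
  cokernel.desc (aM Gf gf A a) (Gf.map (homOfLE h.fst) ≫ πM Gf gf A b) h.snd

theorem πM_tr {a b : Idx A} (h : Le2 Gf gf A a b) :
    πM Gf gf A a ≫ tr Gf gf A h = Gf.map (homOfLE h.fst) ≫ πM Gf gf A b :=
  cokernel.π_desc _ _ _

theorem le2_refl (a : Idx A) : Le2 Gf gf A a a := by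
  refine ⟨le_refl _, ?_⟩
  have h1 : Gf.map (homOfLE (le_refl a.1)) = 𝟙 _ := Gf.map_id _
  rw [h1, Category.id_comp, aM_πM]

theorem le2_trans {a b c : Idx A} (h1 : Le2 Gf gf A a b) (h2 : Le2 Gf gf A b c) :
    Le2 Gf gf A a c := by
  refine ⟨h1.fst.trans h2.fst, ?_⟩
  have e1 : Gf.map (homOfLE (h1.fst.trans h2.fst)) =
      Gf.map (homOfLE h1.fst) ≫ Gf.map (homOfLE h2.fst) := by
    rw [← Gf.map_comp]; rfl
  rw [e1, Category.assoc, ← πM_tr Gf gf A h2, ← Category.assoc (Gf.map _), ← Category.assoc,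
    ← Category.assoc, Category.assoc (aM Gf gf A a), h1.snd, zero_comp]

instance : Preorder (Idx A) where
  le := Le2 Gf gf A
  le_refl := le2_refl Gf gf A
  le_trans _ _ _ := le2_trans Gf gf A

theorem le2_def {a b : Idx A} (h : a ≤ b) : Le2 Gf gf A a b := h

/-- the functor of quotients `Gf s / A s τ` -/
def D2 : Idx A ⥤ C where
  obj a := Dob Gf gf A a
  map {a b} h := tr Gf gf A (le2_def Gf gf A (leOfHom h))
  map_id a := by
    apply coequalizer.hom_ext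
    change πM Gf gf A a ≫ tr Gf gf A _ = πM Gf gf A a ≫ 𝟙 _
    rw [πM_tr, Category.comp_id]
    have h1 : Gf.map (homOfLE (le_refl a.1)) = 𝟙 _ := Gf.map_id _
    exact (congrArg (fun t => t ≫ πM Gf gf A a) h1).trans (Category.id_comp _)
  map_comp {a b c} f g := by
    apply coequalizer.hom_ext
    change πM Gf gf A a ≫ tr Gf gf A _ = πM Gf gf A a ≫ tr Gf gf A _ ≫ tr Gf gf A _
    rw [πM_tr, ← Category.assoc, πM_tr, Category.assoc, πM_tr, ← Category.assoc, ← Gf.map_comp]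
    rfl

/-- `Gf s ⟶ Gf s / A s τ`, with target written as a value of `D2` -/
def π2 (a : Idx A) : Gf.obj a.1 ⟶ (D2 Gf gf A).obj a := πM Gf gf A a

instance epi_π2 (a : Idx A) : Epi (π2 Gf gf A a) := epi_πD _ _ _

theorem aM_π2 (a : Idx A) : aM Gf gf A a ≫ π2 Gf gf A a = 0 := aMap_πD _ _ _

theorem π2_map {a b : Idx A} (h : a ⟶ b) :
    π2 Gf gf A a ≫ (D2 Gf gf A).map h =
      Gf.map (homOfLE (le2_def Gf gf A (leOfHom h)).fst) ≫ π2 Gf gf A b :=
  πM_tr Gf gf A (le2_def Gf gf A (leOfHom h))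

variable (hgf : ∀ {s s' : S} (h : s ⟶ s'), Gf.map h ≫ gf s' = gf s)

/-- the cocone leg `Gf s / A s τ ⟶ F` -/
def ι2 (a : Idx A) : (D2 Gf gf A).obj a ⟶ F :=
  (Dι (kernel.ι (gf a.1)) (gf a.1) (A a.1) (kernel.condition _)).app a.2

theorem π2_ι2 (a : Idx A) : π2 Gf gf A a ≫ ι2 Gf gf A a = gf a.1 := πD_Dι _ _ _ _ _

include hgf in
theorem D2_map_ι2 {a b : Idx A} (h : a ⟶ b) : (D2 Gf gf A).map h ≫ ι2 Gf gf A b = ι2 Gf gf A a := by
  rw [← cancel_epi (π2 Gf gf A a), ← Category.assoc, π2_map, Category.assoc, π2_ι2, π2_ι2, hgf]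

/-- the cocone with vertex `F` -/
def cocone2 : Cocone (D2 Gf gf A) where
  pt := F
  ι :=
    { app := fun a => ι2 Gf gf A a
      naturality := fun a b h => by
        simp only [Functor.const_obj_obj, Functor.const_obj_map, Category.comp_id]
        exact D2_map_ι2 Gf gf A hgf h }

/-- monotonicity in the second variable -/
theorem le2_of_le {s : S} {τ τ' : T s} (h : τ ≤ τ') :
    (⟨s, τ⟩ : Idx A) ≤ (⟨s, τ'⟩ : Idx A) := by
  refine ⟨le_refl _, ?_⟩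
  have h1 : Gf.map (homOfLE (le_refl s)) = 𝟙 _ := Gf.map_id _
  have h2 : aM Gf gf A ⟨s, τ⟩ = Subobject.ofLE _ _ ((A s).monotone h) ≫ aM Gf gf A ⟨s, τ'⟩ :=
    (ofLE_aMap (kernel.ι (gf s)) (A s) h).symm
  change aM Gf gf A ⟨s, τ⟩ ≫ Gf.map (homOfLE (le_refl s)) ≫ πM Gf gf A ⟨s, τ'⟩ = 0
  rw [h1, Category.id_comp, h2, Category.assoc, aM_πM, comp_zero]

/-- enlarging the target index -/
theorem le2_of_le_right {a : Idx A} {s : S} {τ τ' : T s} (h : τ ≤ τ') (h1 : a ≤ (⟨s, τ⟩ : Idx A)) :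
    a ≤ (⟨s, τ'⟩ : Idx A) :=
  le_trans h1 (le2_of_le Gf gf A h)

section directed

variable [IsDirected S (· ≤ ·)] [∀ s, IsDirected (T s) (· ≤ ·)]
  (hcpt : ∀ {s s' : S} (h : s ≤ s') (τ : T s), ∃ τ' : T s', (⟨s, τ⟩ : Idx A) ≤ (⟨s', τ'⟩ : Idx A))

include hcpt in
theorem isDirected_idx : IsDirected (Idx A) (· ≤ ·) := by
  refine ⟨fun a b => ?_⟩
  obtain ⟨s, hs1, hs2⟩ := exists_ge_ge a.1 b.1
  obtain ⟨τ1, h1⟩ := hcpt hs1 a.2
  obtain ⟨τ2, h2⟩ := hcpt hs2 b.2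
  obtain ⟨τ, ht1, ht2⟩ := exists_ge_ge τ1 τ2
  exact ⟨⟨s, τ⟩, le2_of_le_right Gf gf A ht1 h1, le2_of_le_right Gf gf A ht2 h2⟩

variable [∀ s, Nonempty (T s)]
  (hjoint : ∀ (s : S) {T' : C} (g : kernel (gf s) ⟶ T'), (∀ τ, (A s τ).arrow ≫ g = 0) → g = 0)
  (hex : ∀ {T' : C} (c : ∀ s, Gf.obj s ⟶ T'), (∀ {s s' : S} (h : s ⟶ s'), Gf.map h ≫ c s' = c s) →
    (∀ s, kernel.ι (gf s) ≫ c s = 0) → ∃ d : F ⟶ T', ∀ s, gf s ≫ d = c s)
  (huniq : ∀ {T' : C} (m m' : F ⟶ T'), (∀ s, gf s ≫ m = gf s ≫ m') → m = m')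

include hcpt hjoint hex huniq in
/-- `F` is the colimit of the quotients `Gf s / A s τ` -/
theorem nonempty_isColimit_cocone2 : Nonempty (IsColimit (cocone2 Gf gf A hgf)) := by
  refine ⟨IsColimit.ofExistsUnique fun c => ?_⟩
  -- the induced maps `Gf s ⟶ c.pt`
  have e1 : ∀ {a b : Idx A} (h : a ≤ b),
      π2 Gf gf A a ≫ c.ι.app a =
        Gf.map (homOfLE (le2_def Gf gf A h).fst) ≫ π2 Gf gf A b ≫ c.ι.app b := by
    intro a b h
    have h1 : (D2 Gf gf A).map (homOfLE h) ≫ c.ι.app b = c.ι.app a := c.w (homOfLE h)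
    have h2 := π2_map Gf gf A (homOfLE h)
    rw [← h1, ← Category.assoc, h2, Category.assoc]
  have e2 : ∀ (s : S) {τ τ' : T s} (h : τ ≤ τ'),
      π2 Gf gf A ⟨s, τ⟩ ≫ c.ι.app ⟨s, τ⟩ = π2 Gf gf A ⟨s, τ'⟩ ≫ c.ι.app ⟨s, τ'⟩ := by
    intro s τ τ' h
    have h1 := e1 (le2_of_le Gf gf A h)
    have h2 : Gf.map (homOfLE (le2_def Gf gf A (le2_of_le Gf gf A h)).fst) = 𝟙 _ := Gf.map_id _
    rw [h1, h2, Category.id_comp]
  let cs : ∀ s, Gf.obj s ⟶ c.pt := fun s =>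
    π2 Gf gf A ⟨s, Classical.arbitrary (T s)⟩ ≫ c.ι.app ⟨s, Classical.arbitrary (T s)⟩
  have hcs : ∀ (a : Idx A), π2 Gf gf A a ≫ c.ι.app a = cs a.1 := by
    rintro ⟨s, τ⟩
    obtain ⟨τ', h1, h2⟩ := exists_ge_ge τ (Classical.arbitrary (T s))
    change _ = π2 Gf gf A ⟨s, Classical.arbitrary (T s)⟩ ≫ c.ι.app ⟨s, Classical.arbitrary (T s)⟩
    rw [e2 s h1, ← e2 s h2]
  have hnat : ∀ {s s' : S} (h : s ⟶ s'), Gf.map h ≫ cs s' = cs s := by
    intro s s' h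
    obtain ⟨τ', hτ'⟩ := hcpt (leOfHom h) (Classical.arbitrary (T s))
    have h1 := e1 hτ'
    rw [hcs ⟨s', τ'⟩] at h1
    exact h1.symm
  have hker : ∀ s, kernel.ι (gf s) ≫ cs s = 0 := by
    intro s
    apply hjoint s
    intro τ
    have h1 : (A s τ).arrow ≫ kernel.ι (gf s) ≫ cs s =
        (aM Gf gf A ⟨s, τ⟩ ≫ π2 Gf gf A ⟨s, τ⟩) ≫ c.ι.app ⟨s, τ⟩ := by
      rw [← hcs ⟨s, τ⟩]
      simp only [aMap, Category.assoc]
    rw [h1, aM_π2, zero_comp]
  obtain ⟨d, hd⟩ := hex cs hnat hker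
  refine ⟨d, ?_, ?_⟩
  · intro a
    change ι2 Gf gf A a ≫ d = c.ι.app a
    rw [← cancel_epi (π2 Gf gf A a), ← Category.assoc, π2_ι2, hd, hcs]
  · intro m hm
    change F ⟶ c.pt at m
    apply huniq
    intro s
    have h1 : ι2 Gf gf A ⟨s, Classical.arbitrary (T s)⟩ ≫ m = c.ι.app ⟨s, Classical.arbitrary (T s)⟩ :=
      hm ⟨s, Classical.arbitrary (T s)⟩
    rw [hd s]
    calc gf s ≫ m = π2 Gf gf A ⟨s, Classical.arbitrary (T s)⟩ ≫
          ι2 Gf gf A ⟨s, Classical.arbitrary (T s)⟩ ≫ m := by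
          rw [← Category.assoc, π2_ι2]
      _ = cs s := by rw [h1]

end directed

end Abstract2

end Groth.Agent.Lib.Helper21.FPQuot
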