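import Groth.Agent.Lib.Helper21.FPQuot4
import Groth.Agent.Lib.Helper16.QCohSigma
import Mathlib

/-!
# helper21 — FPQuot6: finite coproducts of finitely presented modules, and compactness of modules of finite type

* `isFP_sigma_finite`: a finite coproduct of finitely presented modules is finitely presented;
* `exists_A_app_eq`: the chosen submodule `A K τ` of finite type contains the local sections in `τ`;
* `exists_comp_cokernel_π_eq_zero`: a morphism from a quasi-coherent module of finite type to a quasi-coherent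
  module `K` on a qcqs scheme factors through one of the submodules `A K τ`;
* `eq_zero_of_affine_cover`: a morphism from a quasi-coherent module which vanishes on the sections over the
  members of an affine open cover is zero.
-/

set_option backward.isDefEq.respectTransparency.types false
set_option linter.style.haveILetI false
set_option autoImplicit false
universe u
open CategoryTheory CategoryTheory.Limits AlgebraicGeometry Opposite TopologicalSpace

namespace Groth.Agent.Lib.Helper21.FPQuot

open Groth.Agent.Lib.Helper21.QCohColim Groth.Agent.Lib.Helper17.CohKer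
open Groth.Agent.Lib.Helper29.FPDict Groth.Agent.Lib.Helper7.FPKer
open Groth.Agent.Lib.Helper28.QCohLoc

variable {X : Scheme.{u}}

/-- evaluation of morphisms of modules at a section, as an additive map -/
noncomputable def evalAt {M N : X.Modules} (U : X.Opens) (z : Γ(M, U)) : (M ⟶ N) →+ Γ(N, U) where
  toFun φ := φ.app U z
  map_zero' := rfl
  map_add' _ _ := rfl

/-- a finite coproduct of finitely presented modules is finitely presented -/
theorem isFP_sigma_finite {ι : Type u} [Finite ι] (G : ι → X.Modules)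
    (hG : ∀ i, SheafOfModules.IsFinitePresentation.{u} (R := X.ringCatSheaf) (G i)) :
    SheafOfModules.IsFinitePresentation.{u} (R := X.ringCatSheaf) (∐ G) := by
  classical
  cases nonempty_fintype ι
  haveI : ∀ i, (G i).IsQuasicoherent := fun i => by
    haveI := hG i
    exact isQuasicoherent_of_isFinitePresentation (G i)
  haveI : (∐ G).IsQuasicoherent := Groth.Agent.Lib.Helper16.QCohSigma.isQuasicoherent_sigma G
  refine (isFinitePresentation_iff (∐ G)).2 ⟨inferInstance, fun U hU => ?_⟩
  haveI : ∀ i, Module.FinitePresentation Γ(X, U) Γ(G i, U) := fun i => by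
    haveI := hG i
    exact fp_of_isAffineOpen (G i) hU
  have hid : ∑ i, Sigma.π G i ≫ Sigma.ι G i = 𝟙 (∐ G) := by
    apply Sigma.hom_ext
    intro j
    rw [Preadditive.comp_sum, Category.comp_id, Finset.sum_eq_single j]
    · rw [Sigma.ι_π_eq_id_assoc]
    · intro i _ hij
      rw [← Category.assoc, Sigma.ι_π_of_ne G (Ne.symm hij), zero_comp]
    · intro h
      exact absurd (Finset.mem_univ j) h
  let Φ : (∀ i, Γ(G i, U)) →ₗ[Γ(X, U)] Γ(∐ G, U) :=
    ∑ i, (appLinear (Sigma.ι G i) U).comp (LinearMap.proj i)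
  have hΦ : ∀ m, Φ m = ∑ i, (Sigma.ι G i).app U (m i) := by
    intro m
    simp only [Φ, LinearMap.sum_apply, LinearMap.comp_apply, LinearMap.proj_apply, appLinear_apply]
  have hπ : ∀ (m : ∀ i, Γ(G i, U)) (j : ι), (Sigma.π G j).app U (Φ m) = m j := by
    intro m j
    rw [hΦ, map_sum, Finset.sum_eq_single j]
    · have h1 : Sigma.ι G j ≫ Sigma.π G j = 𝟙 _ := Sigma.ι_π_eq_id G j
      exact congrArg (fun ψ => (Scheme.Modules.Hom.app ψ U) (m j)) h1
    · intro i _ hij
      have h1 : Sigma.ι G i ≫ Sigma.π G j = 0 := Sigma.ι_π_of_ne G hij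
      exact congrArg (fun ψ => (Scheme.Modules.Hom.app ψ U) (m i)) h1
    · intro h
      exact absurd (Finset.mem_univ j) h
  have hbij : Function.Bijective Φ := by
    constructor
    · intro m m' h
      funext j
      rw [← hπ m j, ← hπ m' j, h]
    · intro z
      refine ⟨fun i => (Sigma.π G i).app U z, ?_⟩
      rw [hΦ]
      have h1 := congrArg (evalAt (N := ∐ G) U z) hid
      rw [map_sum] at h1
      exact h1
  exact Module.FinitePresentation.of_equiv (LinearEquiv.ofBijective Φ hbij)

variable [CompactSpace X] [QuasiSeparatedSpace X]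

/-- the chosen submodule `A K τ` contains the local sections in `τ` -/
theorem exists_A_app_eq (K : X.Modules) [K.IsQuasicoherent] (τ : Finset (Pt K)) (pt : Pt K) (hpt : pt ∈ τ) :
    ∃ a : Γ(((QCohColim.A K τ : Subobject K) : X.Modules), pt.1.1),
      (QCohColim.A K τ).arrow.app pt.1.1 a = pt.2 := by
  obtain ⟨g₀, hg₀⟩ := exists_subι_eq K pt
  have hle : sub K pt ≤ QCohColim.A K τ := Finset.le_sup hpt
  let i : ((QCohColim.A K τ : Subobject K) : X.Modules) ⟶ K := (QCohColim.A K τ).arrow
  let j : subG K pt ⟶ ((QCohColim.A K τ : Subobject K) : X.Modules) :=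
    (Subobject.underlyingIso (subι K pt)).inv ≫ Subobject.ofLE _ _ hle
  have hj : j ≫ i = subι K pt := by
    have h3 : Subobject.ofLE (sub K pt) (QCohColim.A K τ) hle ≫ i = (sub K pt).arrow :=
      Subobject.ofLE_arrow _
    have h4 : (Subobject.underlyingIso (subι K pt)).inv ≫ (sub K pt).arrow = subι K pt :=
      Subobject.underlyingIso_arrow _
    rw [← h4, ← h3, Category.assoc]
    rfl
  refine ⟨j.app pt.1.1 g₀, ?_⟩
  have h5 : i.app pt.1.1 (j.app pt.1.1 g₀) = (j ≫ i).app pt.1.1 g₀ := rfl
  change i.app pt.1.1 (j.app pt.1.1 g₀) = pt.2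
  rw [h5, hj]
  exact hg₀

omit [CompactSpace X] [QuasiSeparatedSpace X] in
/-- a morphism from a quasi-coherent module which vanishes on the sections over the members of an affine open
cover is zero -/
theorem eq_zero_of_affine_cover {B C : X.Modules} [B.IsQuasicoherent] (f : B ⟶ C) {ι : Type*}
    (W : ι → X.Opens) (hW : ∀ i, IsAffineOpen (W i)) (hcov : ∀ x : X, ∃ i, x ∈ W i)
    (h : ∀ i (y : Γ(B, W i)), f.app (W i) y = 0) : f = 0 := by
  haveI : Epi (kernel.ι f) := by
    refine epi_of_affine_cover (kernel.ι f) W hW hcov (fun i => isLocOn_of_isQuasicoherent B (hW i)) ?_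
    intro i y
    obtain ⟨k, hk⟩ := exists_kernel_app_eq f (W i) y (h i y)
    exact ⟨k, hk⟩
  exact zero_of_epi_comp (kernel.ι f) (kernel.condition f)

/-- **compactness of modules of finite type**: a morphism from a quasi-coherent module of finite type to a
quasi-coherent module `K` factors through one of the chosen submodules `A K τ` of finite type -/
theorem exists_comp_cokernel_π_eq_zero (K : X.Modules) [K.IsQuasicoherent] (B : X.Modules)
    [B.IsQuasicoherent] [SheafOfModules.IsFiniteType.{u} (R := X.ringCatSheaf) B] (b : B ⟶ K) :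
    ∃ τ : Finset (Pt K), b ≫ cokernel.π (QCohColim.A K τ).arrow = 0 := by
  classical
  obtain ⟨𝒰, h𝒰fin, h𝒰⟩ := isCompact_iff_finite_and_eq_biUnion_affineOpens.mp
    (show IsCompact (X := X) ((⊤ : X.Opens) : Set X) from isCompact_univ)
  have hfin : ∀ W : X.affineOpens, Module.Finite Γ(X, W.1) Γ(B, W.1) := fun W =>
    Groth.Agent.Lib.Helper28.FinType.finite_of_isAffineOpen B W.2
  choose gens hgens using fun W : X.affineOpens => (hfin W).fg_top
  let τ : Finset (Pt K) := h𝒰fin.toFinset.biUnion fun W =>
    (gens W).image fun m => (⟨W, b.app W.1 m⟩ : Pt K)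
  refine ⟨τ, ?_⟩
  refine eq_zero_of_affine_cover _ (fun W : 𝒰 => W.1.1) (fun W => W.1.2) ?_ ?_
  · intro x
    have hx : x ∈ ⨆ i ∈ 𝒰, (i : X.Opens) := by rw [← h𝒰]; trivial
    obtain ⟨W₀, hxW₀⟩ := Opens.mem_iSup.mp hx
    obtain ⟨hW₀, hxW₀⟩ := Opens.mem_iSup.mp hxW₀
    exact ⟨⟨W₀, hW₀⟩, hxW₀⟩
  · intro W y
    have hmem : ∀ m ∈ (gens W.1 : Set Γ(B, W.1.1)),
        m ∈ LinearMap.ker (appLinear (b ≫ cokernel.π (QCohColim.A K τ).arrow) W.1.1) := by
      intro m hm
      let pt : Pt K := ⟨W.1, b.app W.1.1 m⟩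
      have hp : pt ∈ τ := by
        refine Finset.mem_biUnion.mpr ⟨W.1, h𝒰fin.mem_toFinset.mpr W.2, ?_⟩
        exact Finset.mem_image.mpr ⟨m, hm, rfl⟩
      obtain ⟨a, ha⟩ := exists_A_app_eq K τ pt hp
      have h0 : (QCohColim.A K τ).arrow ≫ cokernel.π (QCohColim.A K τ).arrow = 0 :=
        cokernel.condition _
      have h1 := congrArg (fun ψ => (Scheme.Modules.Hom.app ψ W.1.1) a) h0
      have h2 : (cokernel.π (QCohColim.A K τ).arrow).app W.1.1
          ((QCohColim.A K τ).arrow.app W.1.1 a) = 0 := h1
      rw [ha] at h2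
      exact h2
    have hy : y ∈ Submodule.span Γ(X, W.1.1) (gens W.1 : Set Γ(B, W.1.1)) := by
      rw [hgens W.1]; trivial
    exact (Submodule.span_le.mpr hmem) hy

end Groth.Agent.Lib.Helper21.FPQuot
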