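import Groth.Agent.Lib.Helper21.FPQuot5
import Groth.Agent.Lib.Helper21.FPQuot6
import Mathlib

/-!
# helper21 — FPQuot7: a quasi-coherent module on a qcqs scheme is a filtered colimit of finitely presented modules
-/

set_option backward.isDefEq.respectTransparency.types false
set_option linter.style.haveILetI false
set_option autoImplicit false
universe u v w
open CategoryTheory CategoryTheory.Limits

noncomputable section

namespace Groth.Agent.Lib.Helper21.FPQuot

section AbstractCoim

attribute [local instance] IsFiltered.isConnected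

variable {C : Type w} [Category.{v} C] [Abelian C] [IsGrothendieckAbelian.{u} C]
  {S : Type u} [Preorder S] [IsDirected S (· ≤ ·)] [Nonempty S] {F : C}
  (Gf : S ⥤ C) (gf : ∀ s, Gf.obj s ⟶ F) (hgf : ∀ {s s' : S} (h : s ⟶ s'), Gf.map h ≫ gf s' = gf s)

/-- the system of coimages of the `gf s` -/
def coimF : S ⥤ C where
  obj s := Abelian.coimage (gf s)
  map {s s'} h := cokernel.desc (kernel.ι (gf s)) (Gf.map h ≫ Abelian.coimage.π (gf s')) (by
    rw [← cancel_mono (Abelian.factorThruCoimage (gf s'))]
    simp only [Category.assoc, Abelian.coimage.fac, zero_comp]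
    rw [hgf, kernel.condition])
  map_id s := by
    apply coequalizer.hom_ext
    simp
  map_comp f g := by
    apply coequalizer.hom_ext
    simp

/-- the projection to the coimage -/
def pc (s : S) : Gf.obj s ⟶ (coimF Gf gf hgf).obj s := Abelian.coimage.π (gf s)

instance (s : S) : Epi (pc Gf gf hgf s) := coequalizer.π_epi

/-- the inclusion of the coimage -/
def mc (s : S) : (coimF Gf gf hgf).obj s ⟶ F := Abelian.factorThruCoimage (gf s)

instance (s : S) : Mono (mc Gf gf hgf s) := inferInstanceAs (Mono (Abelian.factorThruCoimage (gf s)))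

theorem pc_mc (s : S) : pc Gf gf hgf s ≫ mc Gf gf hgf s = gf s := Abelian.coimage.fac _

theorem pc_map {s s' : S} (h : s ⟶ s') :
    pc Gf gf hgf s ≫ (coimF Gf gf hgf).map h = Gf.map h ≫ pc Gf gf hgf s' :=
  cokernel.π_desc _ _ _

theorem map_mc {s s' : S} (h : s ⟶ s') :
    (coimF Gf gf hgf).map h ≫ mc Gf gf hgf s' = mc Gf gf hgf s := by
  rw [← cancel_epi (pc Gf gf hgf s), ← Category.assoc, pc_map, Category.assoc, pc_mc, pc_mc, hgf]

/-- the cocone of coimages with vertex `F` -/
def coimCocone : Cocone (coimF Gf gf hgf) where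
  pt := F
  ι :=
    { app := fun s => mc Gf gf hgf s
      naturality := fun s s' h => by
        simp only [Functor.const_obj_obj, Functor.const_obj_map, Category.comp_id]
        exact map_mc Gf gf hgf h }

/-- the comparison map from the colimit of the coimages -/
def coimDesc : colimit (coimF Gf gf hgf) ⟶ F := colimit.desc _ (coimCocone Gf gf hgf)

theorem ι_coimDesc (s : S) : colimit.ι (coimF Gf gf hgf) s ≫ coimDesc Gf gf hgf = mc Gf gf hgf s :=
  colimit.ι_desc _ _

instance mono_coimDesc : Mono (coimDesc Gf gf hgf) := by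
  let α : coimF Gf gf hgf ⟶ (Functor.const S).obj F :=
    { app := fun s => mc Gf gf hgf s
      naturality := fun s s' h => by
        simp only [Functor.const_obj_obj, Functor.const_obj_map, Category.comp_id]
        exact map_mc Gf gf hgf h }
  haveI : ∀ s, Mono (α.app s) := fun s => inferInstanceAs (Mono (mc Gf gf hgf s))
  haveI := NatTrans.mono_of_mono_app α
  exact colim.map_mono' α (colimit.isColimit _) (isColimitConstCocone S F) (coimDesc Gf gf hgf)
    (fun s => (ι_coimDesc Gf gf hgf s).trans (Category.comp_id _).symm)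

/-- if the comparison map is an epimorphism then `F` is the colimit of the coimages -/
def isColimitCoimCocone [Epi (coimDesc Gf gf hgf)] : IsColimit (coimCocone Gf gf hgf) :=
  haveI : IsIso ((colimit.isColimit (coimF Gf gf hgf)).desc (coimCocone Gf gf hgf)) :=
    isIso_of_mono_of_epi (coimDesc Gf gf hgf)
  IsColimit.ofPointIso (colimit.isColimit (coimF Gf gf hgf))

theorem exists_desc_of_epi [Epi (coimDesc Gf gf hgf)] {T' : C} (c : ∀ s, Gf.obj s ⟶ T')
    (hnat : ∀ {s s' : S} (h : s ⟶ s'), Gf.map h ≫ c s' = c s)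
    (hker : ∀ s, kernel.ι (gf s) ≫ c s = 0) : ∃ d : F ⟶ T', ∀ s, gf s ≫ d = c s := by
  let ds : ∀ s, (coimF Gf gf hgf).obj s ⟶ T' := fun s => cokernel.desc (kernel.ι (gf s)) (c s) (hker s)
  have hds : ∀ s, pc Gf gf hgf s ≫ ds s = c s := fun s => cokernel.π_desc _ _ _
  let cc : Cocone (coimF Gf gf hgf) :=
    { pt := T'
      ι :=
        { app := ds
          naturality := fun s s' h => by
            simp only [Functor.const_obj_obj, Functor.const_obj_map, Category.comp_id]
            rw [← cancel_epi (pc Gf gf hgf s), ← Category.assoc, pc_map, Category.assoc, hds, hds,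
              hnat] } }
  refine ⟨(isColimitCoimCocone Gf gf hgf).desc cc, fun s => ?_⟩
  have h1 : mc Gf gf hgf s ≫ (isColimitCoimCocone Gf gf hgf).desc cc = ds s :=
    (isColimitCoimCocone Gf gf hgf).fac cc s
  rw [← pc_mc Gf gf hgf s, Category.assoc, h1, hds]

theorem eq_of_epi [Epi (coimDesc Gf gf hgf)] {T' : C} (m m' : F ⟶ T')
    (h : ∀ s, gf s ≫ m = gf s ≫ m') : m = m' := by
  refine (isColimitCoimCocone Gf gf hgf).hom_ext fun s => ?_
  change mc Gf gf hgf s ≫ m = mc Gf gf hgf s ≫ m'
  rw [← cancel_epi (pc Gf gf hgf s), ← Category.assoc, ← Category.assoc, pc_mc]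
  exact h s

end AbstractCoim

end Groth.Agent.Lib.Helper21.FPQuot
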