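import Groth.Agent.Lib.Helper21.FPQuot7
import Mathlib

/-!
# helper21 — FPQuot8: a quasi-coherent module on a qcqs scheme is a filtered colimit of finitely presented modules
(concrete part)

For every local section `pt = (U, x)` of `F` over an affine open choose a finitely presented `G pt` with a map
`g pt : G pt ⟶ F` whose image contains `x`. The finite coproducts `Gf s = ∐_{pt ∈ s} G pt` form a directed system
with `F = colim_s Gf s / ker`, and each kernel is the directed union of its submodules of finite type; `FPQuot5`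
then gives the directed system of the finitely presented quotients `Gf s / A s τ`, with colimit `F`.
-/

set_option backward.isDefEq.respectTransparency.types false
set_option linter.style.haveILetI false
set_option autoImplicit false
universe u
open CategoryTheory CategoryTheory.Limits AlgebraicGeometry Opposite TopologicalSpace

noncomputable section

namespace Groth.Agent.Lib.Helper21.FPQuot

open Groth.Agent.Lib.Helper21.QCohColim Groth.Agent.Lib.Helper17.CohKer
open Groth.Agent.Lib.Helper29.FPDict Groth.Agent.Lib.Helper7.FPKer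
open Groth.Agent.Lib.Helper28.QCohLoc CoproductsFromFiniteFiltered

section Concrete

variable {X : Scheme.{u}} [CompactSpace X] [QuasiSeparatedSpace X] {F : X.Modules} [F.IsQuasicoherent]
  (G : Pt F → X.Modules) (g : ∀ pt, G pt ⟶ F)

/-- finite coproducts of the `G pt` -/
def GS : Finset (Discrete (Pt F)) ⥤ X.Modules := liftToFinsetObj (Discrete.functor G)

/-- the inclusion of a summand -/
def inS (s : Finset (Discrete (Pt F))) (x : s) : G x.1.as ⟶ (GS G).obj s :=
  Sigma.ι (fun y : s => (Discrete.functor G).obj y) x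

theorem inS_map {s s' : Finset (Discrete (Pt F))} (h : s ⟶ s') (x : s) :
    inS G s x ≫ (GS G).map h = inS G s' ⟨x.1, (leOfHom h) x.2⟩ :=
  Sigma.ι_desc _ _

theorem GS_hom_ext {s : Finset (Discrete (Pt F))} {T : X.Modules} (a b : (GS G).obj s ⟶ T)
    (h : ∀ x : s, inS G s x ≫ a = inS G s x ≫ b) : a = b :=
  Sigma.hom_ext _ _ h

/-- the induced map to `F` -/
def gS (s : Finset (Discrete (Pt F))) : (GS G).obj s ⟶ F :=
  Sigma.desc fun x : s => g x.1.as

theorem inS_gS (s : Finset (Discrete (Pt F))) (x : s) : inS G s x ≫ gS G g s = g x.1.as :=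
  Sigma.ι_desc _ _

theorem GS_map_gS {s s' : Finset (Discrete (Pt F))} (h : s ⟶ s') :
    (GS G).map h ≫ gS G g s' = gS G g s := by
  apply GS_hom_ext
  intro x
  rw [← Category.assoc, inS_map, inS_gS, inS_gS]

variable (hG : ∀ pt, SheafOfModules.IsFinitePresentation.{u} (R := X.ringCatSheaf) (G pt))

include hG in
theorem isFP_GS (s : Finset (Discrete (Pt F))) :
    SheafOfModules.IsFinitePresentation.{u} (R := X.ringCatSheaf) ((GS G).obj s) :=
  isFP_sigma_finite (fun x : s => G x.1.as) (fun x => hG x.1.as)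

include hG in
theorem isQC_GS (s : Finset (Discrete (Pt F))) : ((GS G).obj s).IsQuasicoherent := by
  haveI := isFP_GS G hG s
  exact isQuasicoherent_of_isFinitePresentation _

include hG in
theorem isQC_kernel (s : Finset (Discrete (Pt F))) :
    (kernel (gS G g s) : X.Modules).IsQuasicoherent := by
  haveI := isQC_GS G hG s
  exact isQuasicoherent_kernel (gS G g s)

/-- the directed family of submodules of finite type of the kernels -/
def AS (s : Finset (Discrete (Pt F))) :
    Finset (Pt (kernel (gS G g s) : X.Modules)) →o Subobject (kernel (gS G g s)) :=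
  haveI := isQC_kernel G g hG s
  ⟨QCohColim.A (kernel (gS G g s)), A_mono _⟩

theorem isCoh_AS (s : Finset (Discrete (Pt F))) (τ : Finset (Pt (kernel (gS G g s) : X.Modules))) :
    Coh.IsCoh ((AS G g hG s τ : Subobject (kernel (gS G g s))) : X.Modules) :=
  haveI := isQC_kernel G g hG s
  isCoh_A (kernel (gS G g s)) τ

theorem hjoint_AS (s : Finset (Discrete (Pt F))) {T' : X.Modules} (f : kernel (gS G g s) ⟶ T')
    (h : ∀ τ, (AS G g hG s τ).arrow ≫ f = 0) : f = 0 := by
  haveI := isQC_kernel G g hG s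
  refine (QCohColim.isColimit (kernel (gS G g s))).hom_ext fun τ => ?_
  exact (h τ).trans comp_zero.symm

open scoped Classical in
theorem hcpt_AS {s s' : Finset (Discrete (Pt F))} (h : s ≤ s')
    (τ : Finset (Pt (kernel (gS G g s) : X.Modules))) :
    ∃ τ' : Finset (Pt (kernel (gS G g s') : X.Modules)),
      (⟨s, τ⟩ : Idx (Gf := GS G) (gf := gS G g) (AS G g hG)) ≤ ⟨s', τ'⟩ := by
  haveI := isQC_kernel G g hG s
  haveI := isQC_kernel G g hG s'
  have hc := isCoh_AS G g hG s τ
  haveI := hc.1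
  haveI := hc.2
  -- the induced map to the kernel at `s'`
  let b : ((AS G g hG s τ : Subobject (kernel (gS G g s))) : X.Modules) ⟶ kernel (gS G g s') :=
    kernel.lift (gS G g s') ((AS G g hG s τ).arrow ≫ kernel.ι (gS G g s) ≫ (GS G).map (homOfLE h)) (by
      rw [Category.assoc, Category.assoc, GS_map_gS, kernel.condition, comp_zero])
  have hb : b ≫ kernel.ι (gS G g s') =
      (AS G g hG s τ).arrow ≫ kernel.ι (gS G g s) ≫ (GS G).map (homOfLE h) := kernel.lift_ι _ _ _
  obtain ⟨τ', hτ'⟩ := exists_comp_cokernel_π_eq_zero (kernel (gS G g s')) _ b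
  refine ⟨τ', h, ?_⟩
  -- `b` factors through `A τ'`
  obtain ⟨b'', hb''⟩ : ∃ b'' : ((AS G g hG s τ : Subobject (kernel (gS G g s))) : X.Modules) ⟶
      ((QCohColim.A (kernel (gS G g s')) τ' : Subobject (kernel (gS G g s'))) : X.Modules),
      b'' ≫ (QCohColim.A (kernel (gS G g s')) τ').arrow = b :=
    ⟨Abelian.monoLift (QCohColim.A (kernel (gS G g s')) τ').arrow b hτ', Abelian.monoLift_comp _ _ _⟩
  let b' : ((AS G g hG s τ : Subobject (kernel (gS G g s))) : X.Modules) ⟶
      ((AS G g hG s' τ' : Subobject (kernel (gS G g s'))) : X.Modules) := b''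
  have hb' : b' ≫ (AS G g hG s' τ').arrow = b := hb''
  have h1 : aM (GS G) (gS G g) (AS G g hG) ⟨s, τ⟩ ≫ (GS G).map (homOfLE h) =
      b' ≫ aM (GS G) (gS G g) (AS G g hG) ⟨s', τ'⟩ := by
    change ((AS G g hG s τ).arrow ≫ kernel.ι (gS G g s)) ≫ (GS G).map (homOfLE h) =
      b' ≫ ((AS G g hG s' τ').arrow ≫ kernel.ι (gS G g s'))
    rw [← Category.assoc b', hb', hb, Category.assoc]
  have h2 : aM (GS G) (gS G g) (AS G g hG) ⟨s', τ'⟩ ≫ πM (GS G) (gS G g) (AS G g hG) ⟨s', τ'⟩ = 0 :=
    aM_πM _ _ _ _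
  change aM (GS G) (gS G g) (AS G g hG) ⟨s, τ⟩ ≫ (GS G).map (homOfLE h) ≫
    πM (GS G) (gS G g) (AS G g hG) ⟨s', τ'⟩ = 0
  calc aM (GS G) (gS G g) (AS G g hG) ⟨s, τ⟩ ≫ (GS G).map (homOfLE h) ≫
        πM (GS G) (gS G g) (AS G g hG) ⟨s', τ'⟩
      = (aM (GS G) (gS G g) (AS G g hG) ⟨s, τ⟩ ≫ (GS G).map (homOfLE h)) ≫
        πM (GS G) (gS G g) (AS G g hG) ⟨s', τ'⟩ := (Category.assoc _ _ _).symm
    _ = (b' ≫ aM (GS G) (gS G g) (AS G g hG) ⟨s', τ'⟩) ≫
        πM (GS G) (gS G g) (AS G g hG) ⟨s', τ'⟩ := by rw [h1]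
    _ = b' ≫ (aM (GS G) (gS G g) (AS G g hG) ⟨s', τ'⟩ ≫
        πM (GS G) (gS G g) (AS G g hG) ⟨s', τ'⟩) := Category.assoc _ _ _
    _ = 0 := by rw [h2, comp_zero]

variable (hloc : ∀ pt : Pt F, ∃ y : Γ(G pt, pt.1.1), (g pt).app pt.1.1 y = pt.2)

include hloc in
theorem epi_coimDesc_GS :
    haveI : IsGrothendieckAbelian.{u} X.Modules :=
      Groth.Agent.Lib.Helper8.SheafModGroth.main (Opens.grothendieckTopology X) X.ringCatSheaf
    Epi (coimDesc (GS G) (gS G g) (GS_map_gS G g)) := by
  haveI : IsGrothendieckAbelian.{u} X.Modules :=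
    Groth.Agent.Lib.Helper8.SheafModGroth.main (Opens.grothendieckTopology X) X.ringCatSheaf
  refine epi_of_locally_in_range _ ?_
  intro U x pt hpt
  obtain ⟨V, hV, hptV, hVU⟩ := exists_isAffineOpen_mem_and_subset (X := X) (x := pt) (U := U) hpt
  let p : Pt F := ⟨⟨V, hV⟩, res F hVU x⟩
  obtain ⟨y, hy⟩ := hloc p
  let s : Finset (Discrete (Pt F)) := {⟨p⟩}
  let xs : s := ⟨⟨p⟩, Finset.mem_singleton_self _⟩
  let k : G p ⟶ colimit (coimF (GS G) (gS G g) (GS_map_gS G g)) :=
    inS G s xs ≫ pc (GS G) (gS G g) (GS_map_gS G g) s ≫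
      colimit.ι (coimF (GS G) (gS G g) (GS_map_gS G g)) s
  have hk : k ≫ coimDesc (GS G) (gS G g) (GS_map_gS G g) = g p := by
    simp only [k, Category.assoc]
    rw [ι_coimDesc, pc_mc]
    exact inS_gS G g s xs
  refine ⟨V, hVU, hptV, k.app V y, ?_⟩
  have h1 : (coimDesc (GS G) (gS G g) (GS_map_gS G g)).app V (k.app V y) =
      (k ≫ coimDesc (GS G) (gS G g) (GS_map_gS G g)).app V y := rfl
  rw [h1, hk]
  exact hy

end Concrete

open scoped Classical in
/-- **On a quasi-compact quasi-separated scheme every quasi-coherent module is a filtered colimit of finitely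
presented modules.** -/
theorem exists_filtered_colimit_fp {X : Scheme.{u}} [CompactSpace X] [QuasiSeparatedSpace X]
    (F : X.Modules) [F.IsQuasicoherent] :
    ∃ (I : Type u) (_ : SmallCategory I) (_ : IsFiltered I) (D : I ⥤ X.Modules) (c : Cocone D)
      (_ : IsColimit c),
      (∀ i, SheafOfModules.IsFinitePresentation.{u} (R := X.ringCatSheaf) (D.obj i)) ∧ c.pt = F := by
  haveI : IsGrothendieckAbelian.{u} X.Modules :=
    Groth.Agent.Lib.Helper8.SheafModGroth.main (Opens.grothendieckTopology X) X.ringCatSheaf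
  -- for every local section choose a finitely presented module mapping to `F` with that section in its image
  have h : ∀ pt : Pt F, ∃ (G : X.Modules) (g : G ⟶ F),
      SheafOfModules.IsFinitePresentation.{u} (R := X.ringCatSheaf) G ∧
      ∃ y : Γ(G, pt.1.1), g.app pt.1.1 y = pt.2 := by
    intro pt
    have hc := isCoh_subG F pt
    haveI := hc.1
    haveI := hc.2
    obtain ⟨G, q, hG, hq⟩ := exists_fp_epi (subG F pt)
    haveI := hG
    haveI := hq
    haveI : G.IsQuasicoherent := isQuasicoherent_of_isFinitePresentation G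
    obtain ⟨g₀, hg₀⟩ := exists_subι_eq F pt
    obtain ⟨y, hy⟩ := app_surjective_of_epi q pt.1.2 g₀
    refine ⟨G, q ≫ subι F pt, hG, y, ?_⟩
    change (subι F pt).app pt.1.1 (q.app pt.1.1 y) = pt.2
    rw [hy, hg₀]
  choose G g hG hloc using h
  haveI : Epi (coimDesc (GS G) (gS G g) (GS_map_gS G g)) := epi_coimDesc_GS G g hloc
  haveI hdir : IsDirected (Idx (AS G g hG)) (· ≤ ·) :=
    isDirected_idx (GS G) (gS G g) (AS G g hG) (fun h τ => hcpt_AS G g hG h τ)
  haveI : Nonempty (Idx (AS G g hG)) := ⟨⟨∅, ∅⟩⟩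
  obtain ⟨hc⟩ := nonempty_isColimit_cocone2 (GS G) (gS G g) (AS G g hG) (GS_map_gS G g)
    (fun h τ => hcpt_AS G g hG h τ) (fun s => hjoint_AS G g hG s)
    (fun c hnat hker => exists_desc_of_epi (GS G) (gS G g) (GS_map_gS G g) c hnat hker)
    (fun m m' h => eq_of_epi (GS G) (gS G g) (GS_map_gS G g) m m' h)
  refine ⟨Idx (AS G g hG), inferInstance, inferInstance, D2 (GS G) (gS G g) (AS G g hG),
    cocone2 (GS G) (gS G g) (AS G g hG) (GS_map_gS G g), hc, ?_, rfl⟩
  intro a
  have hA := isCoh_AS G g hG a.1 a.2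
  haveI := hA.1
  haveI := hA.2
  haveI := isFP_GS G hG a.1
  exact isFP_cokernel (aM (GS G) (gS G g) (AS G g hG) a)

end Groth.Agent.Lib.Helper21.FPQuot
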