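import Mathlib
import Groth.Agent.Lib.Helper21.FibreBCAlg

set_option autoImplicit false
universe u

namespace Groth.Agent.Lib.Helper21.RdBC

open Groth.Agent.Lib.Helper21 Groth.Agent.Lib.Helper21.CMKit Groth.Agent.Lib.Helper21.CMFibKit
open Groth.Agent.Lib.Helper21.FlatLocal
open TensorProduct IsLocalRing Module

section Field

variable (k k' S S' : Type u) [Field k] [Field k'] [CommRing S] [CommRing S']
  [Algebra k k'] [Algebra k S] [Algebra k' S'] [Algebra S S'] [Algebra k S']
  [IsScalarTower k k' S'] [IsScalarTower k S S'] [Algebra.IsPushout k k' S S']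

include k k' in
theorem flat_pushout : Module.Flat S S' := by
  have h : Algebra.IsPushout k S k' S' := Algebra.IsPushout.symm inferInstance
  exact Module.Flat.isBaseChange k S k' S' h.out

include k k' in
theorem isNoetherianRing_pushout [Algebra.FiniteType k S] : IsNoetherianRing S' := by
  haveI : Algebra.FiniteType k' S' := by
    have e := Algebra.IsPushout.equiv k k' S S'
    exact Algebra.FiniteType.equiv (inferInstance : Algebra.FiniteType k' (k' ⊗[k] S)) e
  exact Algebra.FiniteType.isNoetherianRing k' S'

include k k' in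
/-- the fibre rings of `S → S'` are Cohen–Macaulay. -/
theorem isCM_fiber_pushout [Algebra.FiniteType k S] (P : Ideal S) [P.IsPrime] :
    LocCoh.IsCohenMacaulayRing (P.Fiber S') := by
  haveI : IsNoetherianRing S' := isNoetherianRing_pushout k k' S S'
  haveI := isNoetherianRing_fiber (R := S) (S := S') P
  haveI : Algebra.EssFiniteType k P.ResidueField := Algebra.EssFiniteType.comp k S _
  have h1 : LocCoh.IsCohenMacaulayRing (P.ResidueField ⊗[k] k') :=
    Groth.Agent.S2614.isCM_tensor_of_essFiniteType k k' P.ResidueField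
  haveI : IsNoetherianRing (P.ResidueField ⊗[k] k') := by haveI := h1; infer_instance
  let e₁ : P.ResidueField ⊗[S] S' ≃ₐ[S] S' ⊗[S] P.ResidueField :=
    Algebra.TensorProduct.comm S P.ResidueField S'
  let e₂ : S' ⊗[S] P.ResidueField ≃ₐ[k'] k' ⊗[k] P.ResidueField :=
    Algebra.IsPushout.cancelBaseChangeAlg k k' S S' P.ResidueField
  let e₃ : k' ⊗[k] P.ResidueField ≃ₐ[k] P.ResidueField ⊗[k] k' :=
    Algebra.TensorProduct.comm k k' P.ResidueField
  exact isCM_of_ringEquiv ((e₁.toRingEquiv.trans e₂.toRingEquiv).trans e₃.toRingEquiv).symm h1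


include k k' in
theorem isCM_fibLocMod_pushout [Algebra.FiniteType k S] (Q' : Ideal S') [Q'.IsPrime] :
    LocCoh.IsCohenMacaulayModule (Localization.AtPrime Q') (EGA4.FibLocMod S S' Q' S') := by
  haveI : IsNoetherianRing S' := isNoetherianRing_pushout k k' S S'
  obtain ⟨𝔔, h𝔔, hr⟩ := exists_fiber_prime (Q'.under S) Q' rfl
  have h := isCM_fiber_pushout k k' S S' (Q'.under S)
  exact (isCM_fiber_loc_iff (Q'.under S) 𝔔 Q' hr).1 (h.isCohenMacaulayLocalRing_localization 𝔔)

include k k' in
/-- **field-level base change**: depth and dimension jump by the same amount. -/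
theorem field_bc [Algebra.FiniteType k S] (E : Type u) [AddCommGroup E] [Module S E]
    [Module.Finite S E] (Q' : Ideal S') [Q'.IsPrime] :
    ∃ c : ℕ∞,
      LocCoh.depth (Localization.AtPrime Q') (LocalizedModule Q'.primeCompl (S' ⊗[S] E)) =
        LocCoh.depth (Localization.AtPrime (Q'.under S))
          (LocalizedModule (Q'.under S).primeCompl E) + c ∧
      ringKrullDim (Localization.AtPrime Q') =
        ringKrullDim (Localization.AtPrime (Q'.under S)) + ((c : ℕ∞) : WithBot ℕ∞) := by
  haveI : IsNoetherianRing S := Algebra.FiniteType.isNoetherianRing k S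
  haveI : IsNoetherianRing S' := isNoetherianRing_pushout k k' S S'
  haveI : Module.Flat S S' := flat_pushout k k' S S'
  haveI hlo : Q'.LiesOver (Q'.under S) := ⟨rfl⟩
  refine ⟨LocCoh.depth (Localization.AtPrime Q') (EGA4.FibLocMod S S' Q' S'), ?_, ?_⟩
  · exact depth_loc_tensor (Q'.under S) Q' S' E
  · have hs := supportDim_loc_flat (A := S) Q' S'
    have hcm := isCM_fibLocMod_pushout k k' S S' Q'
    unfold LocCoh.IsCohenMacaulayModule at hcm
    rw [supportDim_eq_of_equiv (localizedSelfEquiv Q'),
      supportDim_eq_of_equiv (localizedSelfEquiv (Q'.under S)),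
      supportDim_self_eq_ringKrullDim, supportDim_self_eq_ringKrullDim, hcm] at hs
    exact hs

end Field

end Groth.Agent.Lib.Helper21.RdBC
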