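import Mathlib
import Groth.Agent.Lib.Helper21.RdBC1
import Groth.Agent.Lib.Helper21.MCopT

set_option autoImplicit false
universe u

namespace Groth.Agent.Lib.Helper21.RdBC

open Groth.Agent.Lib.Helper21 Groth.Agent.Lib.Helper21.FlatLocal Groth.Agent.Lib.Helper21.MCop
open TensorProduct IsLocalRing Module Algebra.TensorProduct

section StageI

variable {A B : Type u} [CommRing A] [CommRing B] [Algebra A B] (p : Ideal A) [p.IsPrime]
variable (Q : Ideal (p.Fiber B)) [Q.IsPrime]

/-- compatibility of Mathlib's isomorphism `(κ(p) ⊗ B)_Q ≃ B_r / p B_r` with the maps from `B`. -/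
theorem localizationAlgEquivQuotient_algebraMap
    [Algebra (Localization.AtPrime p) (Localization.AtPrime (Q.comap (includeRight : B →ₐ[A] p.Fiber B)))]
    [Localization.AtPrime.IsLiesOverAlgebra p (Q.comap (includeRight : B →ₐ[A] p.Fiber B))] (b : B) :
    Ideal.Fiber.localizationAlgEquivQuotient p Q
        (algebraMap (p.Fiber B) (Localization.AtPrime Q) (1 ⊗ₜ b)) =
      Ideal.Quotient.mk _
        (algebraMap B (Localization.AtPrime (Q.comap (includeRight : B →ₐ[A] p.Fiber B))) b) := by
  letI : Algebra B (p.Fiber B) := rightAlgebra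
  have h1 : (1 : p.ResidueField) ⊗ₜ[A] b = algebraMap B (p.Fiber B) b := rfl
  simp only [Ideal.Fiber.localizationAlgEquivQuotient, Ideal.Fiber.algEquivAux₂]
  simp only [AlgEquiv.trans_apply, AlgEquiv.extendScalarsOfIsLocalization_apply]
  rw [h1]
  simp
  rw [← IsScalarTower.algebraMap_apply B _ (Localization.AtPrime _),
    IsScalarTower.algebraMap_apply B (B ⧸ Ideal.map (algebraMap A B) p) (Localization.AtPrime _)]
  simp only [IsLocalization.map_eq]
  rfl


attribute [local instance] Algebra.TensorProduct.rightAlgebra

/-- the map `B_r → (κ(p) ⊗ B)_Q` is surjective with kernel `p B_r`. -/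
theorem stageI_ring (r : Ideal B) [r.IsPrime] [hQr : Q.LiesOver r] [hrp : r.LiesOver p] :
    Function.Surjective (Localization.localRingHom r Q (algebraMap B (p.Fiber B)) (Q.over_def r)) ∧
      RingHom.ker (Localization.localRingHom r Q (algebraMap B (p.Fiber B)) (Q.over_def r)) =
        p.map (algebraMap A (Localization.AtPrime r)) := by
  have hr : r = Q.comap (includeRight : B →ₐ[A] p.Fiber B) := hQr.over
  subst hr
  set r := Q.comap (includeRight : B →ₐ[A] p.Fiber B) with hr
  letI := Localization.AtPrime.algebraOfLiesOver p r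
  let ε := Ideal.Fiber.localizationAlgEquivQuotient p Q
  set ν := Localization.localRingHom r Q (algebraMap B (p.Fiber B)) (Q.over_def r) with hνdef
  have hcomp : ε.toRingEquiv.toRingHom.comp ν =
      Ideal.Quotient.mk (p.map (algebraMap A (Localization.AtPrime r))) := by
    apply IsLocalization.ringHom_ext r.primeCompl
    ext b
    show ε (ν (algebraMap B (Localization.AtPrime r) b)) = _
    have h1 : ν (algebraMap B (Localization.AtPrime r) b) =
        algebraMap (p.Fiber B) (Localization.AtPrime Q) (1 ⊗ₜ b) := by
      rw [hνdef, Localization.localRingHom_to_map]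
      rfl
    rw [h1]
    exact localizationAlgEquivQuotient_algebraMap p Q b
  have hν : ∀ x, ν x = ε.symm (Ideal.Quotient.mk _ x) := by
    intro x
    have := congrArg (fun f => f x) hcomp
    simp only [RingHom.comp_apply] at this
    rw [← this]
    exact (ε.symm_apply_apply _).symm
  constructor
  · intro y
    obtain ⟨x, hx⟩ := Ideal.Quotient.mk_surjective (ε y)
    refine ⟨x, ?_⟩
    rw [hν, hx, ε.symm_apply_apply]
  · ext x
    rw [RingHom.mem_ker, hν, map_eq_zero_iff _ ε.symm.injective, Ideal.Quotient.eq_zero_iff_mem]


variable (N : Type u) [AddCommGroup N] [Module B N]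

set_option maxHeartbeats 1600000 in
set_option synthInstance.maxHeartbeats 200000 in
/-- **Stage I**: the fibre module `N_r / p N_r` is the localization at `Q` of `κ(p) ⊗ N`. -/
theorem stageI (r : Ideal B) [r.IsPrime] [hQr : Q.LiesOver r] [hrp : r.LiesOver p] :
    SemiEquiv (Localization.AtPrime r) (EGA4.FibLocMod A B r N) (Localization.AtPrime Q)
      (LocalizedModule Q.primeCompl (p.Fiber B ⊗[B] N)) := by
  obtain ⟨hs, hk⟩ := stageI_ring p Q r
  set ν := Localization.localRingHom r Q (algebraMap B (p.Fiber B)) (Q.over_def r) with hνdef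
  letI algν : Algebra (Localization.AtPrime r) (Localization.AtPrime Q) := ν.toAlgebra
  haveI tw : IsScalarTower B (Localization.AtPrime r) (Localization.AtPrime Q) :=
    IsScalarTower.of_algebraMap_eq fun b => by
      show _ = ν (algebraMap B (Localization.AtPrime r) b)
      rw [hνdef, Localization.localRingHom_to_map]
      exact IsScalarTower.algebraMap_apply B (p.Fiber B) (Localization.AtPrime Q) b
  have h1 := semiEquiv_quot_tensor (Localization.AtPrime r) (Localization.AtPrime Q)
    (LocalizedModule r.primeCompl N) hs
  have hp : r.comap (algebraMap A B) = p := (Ideal.over_def r p).symm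
  have hk' : RingHom.ker (algebraMap (Localization.AtPrime r) (Localization.AtPrime Q)) =
      (r.comap (algebraMap A B)).map (algebraMap A (Localization.AtPrime r)) := by
    rw [hp]; exact hk
  have h0 : SemiEquiv (Localization.AtPrime r) (EGA4.FibLocMod A B r N) (Localization.AtPrime r)
      (LocalizedModule r.primeCompl N ⧸
        (RingHom.ker (algebraMap (Localization.AtPrime r) (Localization.AtPrime Q)) •
          (⊤ : Submodule (Localization.AtPrime r) (LocalizedModule r.primeCompl N)))) :=
    SemiEquiv.of_linearEquiv (Submodule.quotEquivOfEq _ _ (by rw [hk']))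
  refine (h0.trans h1).trans (SemiEquiv.of_linearEquiv ?_)
  -- both sides are the base change of `N` along `B → (κ(p) ⊗ B)_Q`
  have b1 : IsBaseChange (Localization.AtPrime r) (LocalizedModule.mkLinearMap r.primeCompl N) :=
    IsLocalizedModule.isBaseChange r.primeCompl (Localization.AtPrime r) _
  have b2 : IsBaseChange (Localization.AtPrime Q)
      (TensorProduct.mk (Localization.AtPrime r) (Localization.AtPrime Q)
        (LocalizedModule r.primeCompl N) 1) :=
    TensorProduct.isBaseChange (Localization.AtPrime r) (LocalizedModule r.primeCompl N)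
      (Localization.AtPrime Q)
  have b12 := b1.comp b2
  have c1 : IsBaseChange (p.Fiber B) (TensorProduct.mk B (p.Fiber B) N 1) :=
    TensorProduct.isBaseChange B N (p.Fiber B)
  have c2 : IsBaseChange (Localization.AtPrime Q)
      (LocalizedModule.mkLinearMap Q.primeCompl (p.Fiber B ⊗[B] N)) :=
    IsLocalizedModule.isBaseChange Q.primeCompl (Localization.AtPrime Q) _
  have c12 := c1.comp c2
  exact b12.equiv.symm ≪≫ₗ c12.equiv


/-- **Stage I, dimensions**. -/
theorem stageI_dim (r : Ideal B) [r.IsPrime] [hQr : Q.LiesOver r] [hrp : r.LiesOver p] :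
    ringKrullDim (EGA4.FibLocRing A B r) = ringKrullDim (Localization.AtPrime Q) := by
  have hr : r = Q.comap (includeRight : B →ₐ[A] p.Fiber B) := hQr.over
  subst hr
  set r := Q.comap (includeRight : B →ₐ[A] p.Fiber B) with hr
  letI := Localization.AtPrime.algebraOfLiesOver p r
  let ε := Ideal.Fiber.localizationAlgEquivQuotient p Q
  have hp : r.comap (algebraMap A B) = p := (Ideal.over_def r p).symm
  have e2 : EGA4.FibLocRing A B r ≃+* (Localization.AtPrime r ⧸
      p.map (algebraMap A (Localization.AtPrime r))) :=
    Ideal.quotEquivOfEq (by rw [hp])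
  rw [ringKrullDim_eq_of_ringEquiv e2, ← ringKrullDim_eq_of_ringEquiv ε.toRingEquiv]

end StageI

end Groth.Agent.Lib.Helper21.RdBC
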