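import Mathlib
import Groth.Agent.Lib.Helper21.RdBC2
import Groth.Agent.Lib.Helper21.DepthKit12
import Groth.Agent.Lib.Helper21.FlatLocal14

/-!
# Depth of a fibre stalk along an ideal from the depths of all fibre stalks

If all fibre stalks `X_r / p X_r` at primes `r ⊇ J` have depth `≥ n`, then the fibre stalk at any
prime `q` has depth `≥ n` along `J`.
-/

set_option autoImplicit false
set_option linter.unusedSectionVars false
universe u

namespace Groth.Agent.Lib.Helper21.FibGen

open Groth.Agent.Lib.Helper21 Groth.Agent.Lib.Helper21.FlatLocal Groth.Agent.Lib.Helper21.MCop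
open Groth.Agent.Lib.Helper21.RdBC Groth.Agent.Lib.Helper21.DepthKit
open TensorProduct IsLocalRing Module Algebra.TensorProduct

section Semi
variable {R S : Type u} [CommRing R] [CommRing S]
variable {X Y : Type u} [AddCommGroup X] [Module R X] [AddCommGroup Y] [Module S Y]

theorem idealDepth_eq_of_semilinear (φ : R →+* S) (hφ : Function.Surjective φ) (e : X ≃+ Y)
    (he : ∀ (a : R) (x : X), e (a • x) = φ a • e x) (I : Ideal R) :
    LocCoh.idealDepth I X = LocCoh.idealDepth (I.map φ) Y := by
  letI : Algebra R S := φ.toAlgebra
  letI : Module R Y := Module.compHom Y φ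
  haveI : IsScalarTower R S Y := IsScalarTower.of_algebraMap_smul (fun _ _ => rfl)
  let e' : X ≃ₗ[R] Y := { e with map_smul' := he }
  rw [idealDepth_congr I e']
  exact idealDepth_map_of_surjective Y hφ I

end Semi

section Loc
variable {R : Type u} [CommRing R] (T : Submonoid R) (I : Ideal R)
  (M : Type u) [AddCommGroup M] [Module R M]

theorem map_smul_top_localizedModule_eq_top (h : I • (⊤ : Submodule R M) = ⊤) :
    (I.map (algebraMap R (Localization T))) •
      (⊤ : Submodule (Localization T) (LocalizedModule T M)) = ⊤ := by
  rw [eq_top_iff]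
  have key : ∀ m : M, LocalizedModule.mkLinearMap T M m ∈
      (I.map (algebraMap R (Localization T))) •
        (⊤ : Submodule (Localization T) (LocalizedModule T M)) := by
    intro m
    have hm : m ∈ I • (⊤ : Submodule R M) := by rw [h]; trivial
    refine Submodule.smul_induction_on hm ?_ ?_
    · intro a ha m' _
      rw [map_smul, ← algebraMap_smul (Localization T) a]
      exact Submodule.smul_mem_smul (Ideal.mem_map_of_mem _ ha) Submodule.mem_top
    · intro x y hx hy
      rw [map_add]
      exact Submodule.add_mem _ hx hy
  intro x _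
  induction x using LocalizedModule.induction_on with
  | h m s =>
    have : LocalizedModule.mk m s = (Localization.mk 1 s : Localization T) •
        LocalizedModule.mkLinearMap T M m := by
      rw [LocalizedModule.mkLinearMap_apply, LocalizedModule.mk_smul_mk, one_smul, mul_one]
    rw [this]
    exact Submodule.smul_mem _ _ (key m)

/-- localization does not decrease the ideal depth. -/
theorem idealDepth_le_localization :
    LocCoh.idealDepth I M ≤
      LocCoh.idealDepth (I.map (algebraMap R (Localization T))) (LocalizedModule T M) := by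
  classical
  by_cases h : I • (⊤ : Submodule R M) = ⊤
  · have h' := map_smul_top_localizedModule_eq_top T I M h
    rw [LocCoh.idealDepth, LocCoh.idealDepth, if_pos h, if_pos h']
  · rw [LocCoh.idealDepth, if_neg h]
    refine iSup₂_le fun rs hrs => ?_
    have h1 : RingTheory.Sequence.IsWeaklyRegular (LocalizedModule T M)
        (rs.map (algebraMap R (Localization T))) :=
      hrs.1.of_isLocalizedModule (Localization T) T (LocalizedModule.mkLinearMap T M)
    have h2 : ∀ r ∈ rs.map (algebraMap R (Localization T)),
        r ∈ I.map (algebraMap R (Localization T)) := by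
      intro r hr
      obtain ⟨a, ha, rfl⟩ := List.mem_map.1 hr
      exact Ideal.mem_map_of_mem _ (hrs.2 a ha)
    have h3 := length_le_idealDepth (I.map (algebraMap R (Localization T))) _ h1 h2
    rwa [List.length_map] at h3

end Loc

section StageI'

variable {A B : Type u} [CommRing A] [CommRing B] [Algebra A B] (p : Ideal A) [p.IsPrime]
variable (Q : Ideal (p.Fiber B)) [Q.IsPrime]
variable (N : Type u) [AddCommGroup N] [Module B N]

attribute [local instance] Algebra.TensorProduct.rightAlgebra

set_option maxHeartbeats 1600000 in
set_option synthInstance.maxHeartbeats 200000 in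
/-- **Stage I with the ring map made explicit**. -/
theorem stageI' (r : Ideal B) [r.IsPrime] [hQr : Q.LiesOver r] [hrp : r.LiesOver p] :
    ∃ e : EGA4.FibLocMod A B r N ≃+ LocalizedModule Q.primeCompl (p.Fiber B ⊗[B] N),
      ∀ (a : Localization.AtPrime r) (x : EGA4.FibLocMod A B r N),
        e (a • x) =
          Localization.localRingHom r Q (algebraMap B (p.Fiber B)) (Q.over_def r) a • e x := by
  obtain ⟨hs, hk⟩ := stageI_ring p Q r
  set ν := Localization.localRingHom r Q (algebraMap B (p.Fiber B)) (Q.over_def r) with hνdef
  letI algν : Algebra (Localization.AtPrime r) (Localization.AtPrime Q) := ν.toAlgebra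
  haveI tw : IsScalarTower B (Localization.AtPrime r) (Localization.AtPrime Q) :=
    IsScalarTower.of_algebraMap_eq fun b => by
      show _ = ν (algebraMap B (Localization.AtPrime r) b)
      rw [hνdef, Localization.localRingHom_to_map]
      exact IsScalarTower.algebraMap_apply B (p.Fiber B) (Localization.AtPrime Q) b
  obtain ⟨e1, he1⟩ := exists_quot_tensor_semilinear (Localization.AtPrime r) (Localization.AtPrime Q)
    (LocalizedModule r.primeCompl N) hs
  have hp : r.comap (algebraMap A B) = p := (Ideal.over_def r p).symm
  have hk' : RingHom.ker (algebraMap (Localization.AtPrime r) (Localization.AtPrime Q)) =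
      (r.comap (algebraMap A B)).map (algebraMap A (Localization.AtPrime r)) := by
    rw [hp]; exact hk
  let e0 : EGA4.FibLocMod A B r N ≃ₗ[Localization.AtPrime r]
      (LocalizedModule r.primeCompl N ⧸
        (RingHom.ker (algebraMap (Localization.AtPrime r) (Localization.AtPrime Q)) •
          (⊤ : Submodule (Localization.AtPrime r) (LocalizedModule r.primeCompl N)))) :=
    Submodule.quotEquivOfEq _ _ (by rw [hk'])
  -- both sides are the base change of `N` along `B → (κ(p) ⊗ B)_Q`
  have b1 : IsBaseChange (Localization.AtPrime r) (LocalizedModule.mkLinearMap r.primeCompl N) :=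
    IsLocalizedModule.isBaseChange r.primeCompl (Localization.AtPrime r) _
  have b2 : IsBaseChange (Localization.AtPrime Q)
      (TensorProduct.mk (Localization.AtPrime r) (Localization.AtPrime Q)
        (LocalizedModule r.primeCompl N) 1) :=
    TensorProduct.isBaseChange (Localization.AtPrime r) (LocalizedModule r.primeCompl N)
      (Localization.AtPrime Q)
  have b12 := b1.comp b2
  have c1 : IsBaseChange (p.Fiber B) (TensorProduct.mk B (p.Fiber B) N 1) :=
    TensorProduct.isBaseChange B N (p.Fiber B)
  have c2 : IsBaseChange (Localization.AtPrime Q)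
      (LocalizedModule.mkLinearMap Q.primeCompl (p.Fiber B ⊗[B] N)) :=
    IsLocalizedModule.isBaseChange Q.primeCompl (Localization.AtPrime Q) _
  have c12 := c1.comp c2
  let e2 : (Localization.AtPrime Q) ⊗[Localization.AtPrime r] (LocalizedModule r.primeCompl N)
      ≃ₗ[Localization.AtPrime Q] LocalizedModule Q.primeCompl (p.Fiber B ⊗[B] N) :=
    b12.equiv.symm ≪≫ₗ c12.equiv
  refine ⟨e0.toAddEquiv.trans (e1.trans e2.toAddEquiv), fun a x => ?_⟩
  show e2 (e1 (e0 (a • x))) = ν a • e2 (e1 (e0 x))
  rw [map_smul, he1, map_smul]
  rfl

end StageI'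

section Gen

variable (A B : Type u) [CommRing A] [CommRing B] [IsNoetherianRing B] [Algebra A B]
  (J : Ideal B) (X : Type u) [AddCommGroup X] [Module B X] [Module.Finite B X]

attribute [local instance] Algebra.TensorProduct.rightAlgebra

set_option maxHeartbeats 1600000 in
set_option synthInstance.maxHeartbeats 200000 in
/-- if all fibre stalks of `X` at primes containing `J` have depth `≥ n`, then every fibre stalk has
depth `≥ n` along `J`. -/
theorem le_idealDepth_fibLocMod_of_forall (n : ℕ∞)
    (h : ∀ r : PrimeSpectrum B, J ≤ r.asIdeal →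
      n ≤ LocCoh.idealDepth (r.asIdeal.map (algebraMap B (EGA4.FibLocRing A B r.asIdeal)))
        (EGA4.FibLocMod A B r.asIdeal X))
    (q : Ideal B) [q.IsPrime] :
    n ≤ LocCoh.idealDepth (J.map (algebraMap B (EGA4.FibLocRing A B q)))
      (EGA4.FibLocMod A B q X) := by
  set p := q.under A with hp
  haveI h2 : q.LiesOver p := ⟨rfl⟩
  obtain ⟨Q, hQprime, hQ⟩ := exists_fiber_prime p q rfl
  haveI := hQprime
  haveI h5 : Q.LiesOver q := ⟨hQ⟩
  haveI : IsNoetherianRing (p.Fiber B) := isNoetherianRing_fiber (S := B) p
  obtain ⟨e, he⟩ := stageI' p Q X q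
  have hs := (stageI_ring p Q q).1
  -- step 1: pass from the fibre local ring to `B_q`
  have e1 : LocCoh.idealDepth (J.map (algebraMap B (EGA4.FibLocRing A B q)))
      (EGA4.FibLocMod A B q X) =
      LocCoh.idealDepth (J.map (algebraMap B (Localization.AtPrime q))) (EGA4.FibLocMod A B q X) := by
    rw [IsScalarTower.algebraMap_eq B (Localization.AtPrime q) (EGA4.FibLocRing A B q),
      ← Ideal.map_map]
    exact (idealDepth_map_of_surjective (R := Localization.AtPrime q)
      (S := EGA4.FibLocRing A B q) (EGA4.FibLocMod A B q X) Ideal.Quotient.mk_surjective _).symm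
  -- step 2: pass to the localization of the fibre ring
  have e2 := idealDepth_eq_of_semilinear (R := Localization.AtPrime q)
    (S := Localization.AtPrime Q) (X := EGA4.FibLocMod A B q X)
    (Y := LocalizedModule Q.primeCompl (p.Fiber B ⊗[B] X))
    (Localization.localRingHom q Q (algebraMap B (p.Fiber B)) (Q.over_def q)) hs e he
    (J.map (algebraMap B (Localization.AtPrime q)))
  have e3 : (J.map (algebraMap B (Localization.AtPrime q))).map
      (Localization.localRingHom q Q (algebraMap B (p.Fiber B)) (Q.over_def q)) =
      (J.map (algebraMap B (p.Fiber B))).map (algebraMap (p.Fiber B) (Localization.AtPrime Q)) := by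
    rw [Ideal.map_map, Ideal.map_map]
    congr 1
    ext b
    simp only [RingHom.comp_apply]
    rw [Localization.localRingHom_to_map]
  rw [e1, e2, e3]
  -- step 3: localization does not decrease depth
  refine le_trans ?_ (idealDepth_le_localization Q.primeCompl (J.map (algebraMap B (p.Fiber B)))
    (p.Fiber B ⊗[B] X))
  -- step 4: depth along `J S` is the infimum of the local depths
  haveI : Module.Finite (p.Fiber B) (p.Fiber B ⊗[B] X) := inferInstance
  rw [idealDepth_eq_iInf_depth_localization]
  refine le_iInf₂ fun Q'' hQ'' => ?_
  set r : Ideal B := Q''.asIdeal.comap (includeRight : B →ₐ[A] p.Fiber B) with hr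
  haveI : r.IsPrime := Ideal.comap_isPrime _ _
  haveI h6 : Q''.asIdeal.LiesOver r := ⟨rfl⟩
  haveI h7 : r.LiesOver p := comap_includeRight_liesOver p Q''.asIdeal
  have hJr : J ≤ r := by
    intro x hx
    exact hQ'' (Ideal.mem_map_of_mem _ hx)
  have h8 := h ⟨r, inferInstance⟩ hJr
  rw [idealDepth_fibLocMod] at h8
  rw [← (stageI p Q''.asIdeal X r).depth_eq]
  exact h8

end Gen

end Groth.Agent.Lib.Helper21.FibGen
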