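import Groth.Agent.Lib.Helper21.FibVan9
import Groth.Agent.Lib.Helper4.LinLeray
import Mathlib

set_option backward.isDefEq.respectTransparency.types false
set_option linter.style.haveILetI false
set_option autoImplicit false
universe u
open CategoryTheory CategoryTheory.Limits AlgebraicGeometry Opposite TopologicalSpace Abelian

noncomputable section

namespace Groth.Agent.Lib.Helper21.FibVan

open Groth.Agent.Lib.Helper4

/-- **finiteness of the top cohomology over an enriched-good affine base** -/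
theorem finite_HH_of_egood {X S : Scheme.{u}} (f : X ⟶ S) [IsAffine S] (d : ℕ) (h : EGood d f)
    [X.Over (Spec (CommRingCat.of Γ(S, ⊤)))]
    (hf : (X ↘ Spec (CommRingCat.of Γ(S, ⊤))) = f ≫ S.isoSpec.hom)
    (M : X.Modules) (hM : Coh.IsCoh M) : Module.Finite Γ(S, ⊤) (Coh.HH X M d) := by
  obtain ⟨X₀, S₀, X₁, f₀, g, p₁, p₂, c, hpb, hc, hcp, h1, h2, h3, h4⟩ := h
  haveI := hc
  haveI := h1
  haveI := h2
  haveI := h3
  letI : X₀.Over (Spec (CommRingCat.of Γ(S₀, ⊤))) := ⟨f₀ ≫ S₀.isoSpec.hom⟩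
  haveI : IsProper (X₀ ↘ Spec (CommRingCat.of Γ(S₀, ⊤))) :=
    inferInstanceAs (IsProper (f₀ ≫ S₀.isoSpec.hom))
  haveI : IsNoetherianRing Γ(S₀, ⊤) :=
    IsLocallyNoetherian.component_noetherian ⟨⊤, isAffineOpen_top S₀⟩
  haveI : IsAffineHom g := inferInstance
  haveI : IsAffineHom p₁ := MorphismProperty.of_isPullback hpb.flip inferInstance
  haveI : IsAffineHom (c ≫ p₁) := inferInstance
  have hgen : Gen (c ≫ p₁) (c ≫ p₂).appTop.hom := gen_of_isPullback hpb c
  have htg : ∀ a, Coh.toGlobal (X ↘ Spec (CommRingCat.of Γ(S, ⊤))) a = f.appTop.hom a := by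
    intro a
    rw [hf]
    exact LinLeray.toGlobal_overΓ f a
  have htg₀ : ∀ t, Coh.toGlobal (X₀ ↘ Spec (CommRingCat.of Γ(S₀, ⊤))) t = f₀.appTop.hom t :=
    LinLeray.toGlobal_overΓ f₀
  refine finite_HH_of_gen (c ≫ p₁) g.appTop.hom ?_ ?_ d ?_ M hM
  · intro t
    rw [htg₀, htg]
    have hw : (c ≫ p₁) ≫ f₀ = f ≫ g := by
      rw [Category.assoc, hpb.w, ← Category.assoc, hcp]
    have hw' := congrArg (fun φ => (Scheme.Hom.appTop φ).hom t) hw
    simpa [Scheme.Hom.comp_appTop] using hw'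
  · have he : Coh.toGlobal (X ↘ Spec (CommRingCat.of Γ(S, ⊤))) = (c ≫ p₂).appTop.hom := by
      ext a
      rw [htg, hcp]
      rfl
    rw [he]
    exact hgen
  · intro K hK
    haveI := hK
    exact Good.subsingleton_HH (d := d)
      ⟨X₀, S₀, f₀, 𝟙 X₀, h1, h2, h3, h4, inferInstance⟩ K (d + 1) (Nat.lt_succ_self d)

end Groth.Agent.Lib.Helper21.FibVan
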