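import Groth.Agent.Lib.Helper13.NaProper
import Groth.Agent.S7395
import Mathlib

set_option backward.isDefEq.respectTransparency.types false
set_option linter.style.haveILetI false
set_option autoImplicit false
universe u
open CategoryTheory CategoryTheory.Limits AlgebraicGeometry Opposite TopologicalSpace

namespace Groth.Agent.Lib.Helper21.FibVan

open Groth.Agent.Lib.Helper13.NaClosed Groth.Agent.Lib.Helper13.NaProper
  Groth.Agent.Lib.Helper13.NaOver Scheme

section sep

variable {X Y : Scheme.{u}} (ι : X ⟶ Y) [IsClosedImmersion ι] [CompactSpace Y]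
  [QuasiSeparatedSpace Y]

/-- a point outside a closed subscheme of a qcqs scheme lies outside some finitely presented closed
subscheme containing it -/
theorem exists_idx_notMem_support (z : Y) (hz : z ∉ Set.range ι) :
    ∃ J : Idx ι, z ∉ J.ideal.support := by
  have hsupp : (ι.ker.support : Set Y) = Set.range ι := by
    rw [Scheme.Hom.support_ker]
    exact ι.isClosedEmbedding.isClosed_range.closure_eq
  obtain ⟨U, hU, hzU, -⟩ := exists_isAffineOpen_mem_and_subset (X := Y) (x := z) (U := ⊤) trivial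
  have hz' : z ∉ ι.ker.support := fun h => hz (hsupp ▸ h)
  rw [IdealSheafData.mem_support_iff_of_mem (U := ⟨U, hU⟩) hzU, Scheme.mem_zeroLocus_iff] at hz'
  push Not at hz'
  obtain ⟨t, ht, hzt⟩ := hz'
  obtain ⟨J, hJle, hJfp, htJ⟩ := exists_fp_ideal ι ⟨U, hU⟩ t ht
  refine ⟨⟨J, hJle, hJfp⟩, fun hzJ => ?_⟩
  rw [IdealSheafData.mem_support_iff_of_mem (U := ⟨U, hU⟩) hzU, Scheme.mem_zeroLocus_iff] at hzJ
  exact hzJ t htJ hzt

/-- the fibre over `s` of a finite type morphism is a Noetherian space -/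
theorem noetherianSpace_preimage_singleton {S : Scheme.{u}} (g : Y ⟶ S) [LocallyOfFiniteType g]
    [QuasiCompact g] (s : S) : NoetherianSpace (g ⁻¹' {s}) := by
  haveI : LocallyOfFiniteType (g.fiberToSpecResidueField s) :=
    MorphismProperty.pullback_snd _ _ inferInstance
  haveI : QuasiCompact (g.fiberToSpecResidueField s) :=
    MorphismProperty.pullback_snd _ _ inferInstance
  haveI : IsLocallyNoetherian (g.fiber s) :=
    LocallyOfFiniteType.isLocallyNoetherian (g.fiberToSpecResidueField s)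
  haveI : CompactSpace (g.fiber s) :=
    QuasiCompact.compactSpace_of_compactSpace (g.fiberToSpecResidueField s)
  haveI : IsNoetherian (g.fiber s) := {}
  exact (noetherianSpace_iff_of_homeomorph (g.fiberHomeo s)).mp inferInstance

/-- the fibres over `s` of the finitely presented closed subschemes containing `X` stabilise to the
fibre of `X` -/
theorem exists_idx_fibre_subset {S : Scheme.{u}} (g : Y ⟶ S) [LocallyOfFiniteType g]
    [QuasiCompact g] (s : S) :
    ∃ J₁ : Idx ι, ∀ J : Idx ι, J₁ ≤ J →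
      (J.ideal.support : Set Y) ∩ g ⁻¹' {s} ⊆ Set.range ι := by
  haveI : NoetherianSpace (g ⁻¹' {s}) := noetherianSpace_preimage_singleton g s
  let C : Idx ι → Closeds (g ⁻¹' {s}) := fun J =>
    ⟨Subtype.val ⁻¹' (J.ideal.support : Set Y),
      (J.ideal.support.isClosed).preimage continuous_subtype_val⟩
  obtain ⟨J₁, hmin⟩ : ∃ J₁, ∀ J, ¬ C J < C J₁ := by
    obtain ⟨_, ⟨J₁, rfl⟩, h⟩ := WellFounded.has_min
      (wellFounded_lt : WellFounded ((· < ·) : Closeds (g ⁻¹' {s}) → _ → Prop)) (Set.range C)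
      ⟨_, ⟨Idx.bot ι, rfl⟩⟩
    exact ⟨J₁, fun J hJ => h _ ⟨J, rfl⟩ hJ⟩
  have hanti : ∀ {J J' : Idx ι}, J ≤ J' → (J'.ideal.support : Set Y) ⊆ J.ideal.support :=
    fun h => IdealSheafData.support_antitone h
  refine ⟨J₁, fun J hJ z hz => ?_⟩
  obtain ⟨hzJ, hzs⟩ := hz
  by_contra hzι
  obtain ⟨J₂, hJ₂⟩ := exists_idx_notMem_support ι z hzι
  obtain ⟨J₃, h13, h23⟩ := exists_ge_ge J₁ J₂
  have hle : C J₃ ≤ C J₁ := fun w hw => hanti h13 hw
  have hne : C J₃ ≠ C J₁ := by
    intro heq
    have hz1 : (⟨z, hzs⟩ : g ⁻¹' {s}) ∈ C J₁ := hanti hJ hzJ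
    rw [← heq] at hz1
    exact hJ₂ (hanti h23 hz1)
  exact hmin J₃ (lt_of_le_of_ne hle hne)

end sep

/-- **closed approximation at a point**: a proper scheme over a qcqs base is a closed subscheme of a
proper finitely presented one with the same fibre (as a set) over a given point -/
theorem exists_fp_closed_approx {X S : Scheme.{u}} (f : X ⟶ S) [IsProper f] [CompactSpace S]
    [QuasiSeparatedSpace S] (s : S) :
    ∃ (X' : Scheme.{u}) (q : X ⟶ X') (f' : X' ⟶ S), IsClosedImmersion q ∧ q ≫ f' = f ∧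
      IsProper f' ∧ LocallyOfFinitePresentation f' ∧ f' ⁻¹' {s} ⊆ Set.range q := by
  obtain ⟨Y, g, j, hg1, hg2, hg3, hj, hjg⟩ := Groth.Agent.S7395.result f
  haveI : CompactSpace Y := QuasiCompact.compactSpace_of_compactSpace g
  haveI : QuasiSeparatedSpace Y := quasiSeparatedSpace_of_quasiSeparated g
  haveI : IsProper (j ≫ g) := by rw [hjg]; infer_instance
  have hs : ∀ J : (Idx j)ᵒᵖ, IsClosedImmersion ((clStr j).app J) := fun J =>
    inferInstanceAs (IsClosedImmersion J.unop.ideal.subschemeι)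
  have htr : ∀ (i k : (Idx j)ᵒᵖ) (a : i ⟶ k), IsClosedImmersion ((clDiag j).map a) := by
    intro i k a
    have := hs k
    have h : IsClosedImmersion ((clDiag j).map a ≫ (clStr j).app k) := by
      have h2 := (clStr j).naturality a
      simp only [Functor.const_obj_obj, Functor.const_obj_map, Category.comp_id] at h2
      rw [h2]; exact hs i
    exact IsClosedImmersion.of_comp _ ((clStr j).app k)
  obtain ⟨i₀, hi₀⟩ := exists_proper_stage g j (clDiag j) (clStr j) (clπ j) (clIsLimit j)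
    (fun J => clπ_str j J) hs htr
  obtain ⟨J₁, hJ₁⟩ := exists_idx_fibre_subset j g s
  obtain ⟨J, h0, h1⟩ := exists_ge_ge i₀ J₁
  haveI := J.lfp
  let q : X ⟶ J.ideal.subscheme := IsClosedImmersion.lift J.ideal.subschemeι j J.le_ker
  have hfac : q ≫ J.ideal.subschemeι = j := IsClosedImmersion.lift_fac _ _ _
  have hprop : IsProper (J.ideal.subschemeι ≫ g) := hi₀ J h0
  refine ⟨J.ideal.subscheme, q, J.ideal.subschemeι ≫ g, ?_, ?_, hprop, inferInstance, ?_⟩
  · haveI h : IsClosedImmersion (q ≫ J.ideal.subschemeι) := by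
      rw [hfac]; infer_instance
    exact IsClosedImmersion.of_comp q J.ideal.subschemeι
  · rw [← Category.assoc, hfac, hjg]
  · intro x' hx'
    have hy : J.ideal.subschemeι x' ∈ (J.ideal.support : Set Y) ∩ g ⁻¹' {s} := by
      refine ⟨?_, hx'⟩
      rw [← IdealSheafData.range_subschemeι]
      exact ⟨x', rfl⟩
    obtain ⟨x, hx⟩ := hJ₁ J h1 hy
    refine ⟨x, ?_⟩
    apply J.ideal.subschemeι.isClosedEmbedding.injective
    have h2 : (q ≫ J.ideal.subschemeι) x = j x := by rw [hfac]
    exact h2.trans hx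

/-- a surjection on the fibre over `s` bounds the dimension of the fibre -/
theorem dim_fiber_le_of_range {X X' S : Scheme.{u}} (q : X ⟶ X') [IsClosedImmersion q]
    (f' : X' ⟶ S) (s : S) (h : f' ⁻¹' {s} ⊆ Set.range q) :
    topologicalKrullDim ↥(f'.fiber s) ≤ topologicalKrullDim ↥((q ≫ f').fiber s) := by
  let e₁ := f'.fiberHomeo s
  let e₂ := (q ≫ f').fiberHomeo s
  have himg : q '' ((q ≫ f') ⁻¹' {s}) = f' ⁻¹' {s} := by
    ext y
    constructor
    · rintro ⟨x, hx, rfl⟩
      exact hx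
    · intro hy
      obtain ⟨x, rfl⟩ := h hy
      exact ⟨x, hy, rfl⟩
  let e₃ : ((q ≫ f') ⁻¹' {s}) ≃ₜ (f' ⁻¹' {s}) :=
    (q.isClosedEmbedding.isEmbedding.homeomorphImage _).trans (Homeomorph.setCongr himg)
  exact (IsHomeomorph.topologicalKrullDim_eq _ ((e₂.trans e₃).trans e₁.symm).isHomeomorph).ge

end Groth.Agent.Lib.Helper21.FibVan
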