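import Groth.Agent.Lib.Helper21.FibVan1
import Groth.Agent.Lib.Helper21.FibVan2
import Groth.Agent.Lib.lead.HensKC
import Groth.Agent.Lib.lead.HensKD
import Groth.Agent.Lib.lead.FibreDimProper
import Groth.Agent.Lib.lead.FibreDimBC
import Mathlib

set_option backward.isDefEq.respectTransparency.types false
set_option linter.style.haveILetI false
set_option autoImplicit false
universe u
open CategoryTheory CategoryTheory.Limits AlgebraicGeometry Opposite TopologicalSpace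

namespace Groth.Agent.Lib.Helper21.FibVan

open Groth.Agent.Lib.lead.HensK Groth.Agent.Lib.lead

/-- restriction to an open of the base does not change the fibre dimension -/
theorem dim_fiber_morphismRestrict {X Y : Scheme.{u}} (f : X ⟶ Y) [LocallyOfFiniteType f]
    (V : Y.Opens) (y : V) :
    topologicalKrullDim ↥((f ∣_ V).fiber y) = topologicalKrullDim ↥(f.fiber (V.ι y)) :=
  FibreDimBC.S9777 f V.ι (f ∣_ V) (f ⁻¹ᵁ V).ι (isPullback_morphismRestrict f V).flip y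

/-- **fp case over `Spec A`**: Noetherian model and a neighbourhood where the model has small
fibres -/
theorem exists_good_nhd_spec (A : Type u) [CommRing A] {X : Scheme.{u}}
    (f : X ⟶ Spec (CommRingCat.of A)) [IsProper f] [LocallyOfFinitePresentation f]
    (s : Spec (CommRingCat.of A)) (d : ℕ) (hd : topologicalKrullDim ↥(f.fiber s) ≤ d) :
    ∃ W : (Spec (CommRingCat.of A)).Opens, s ∈ W ∧ IsAffineOpen W ∧ Good d ↑(f ⁻¹ᵁ W) := by
  let f₀ : X ⟶ (fgCone A).pt := f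
  haveI : IsProper f₀ := ‹IsProper f›
  haveI : LocallyOfFinitePresentation f₀ := ‹LocallyOfFinitePresentation f›
  obtain ⟨j, Y, h, g, hproper, hpb⟩ :=
    exists_proper_model (fgDiag A) (fgCone A) (fgIsLimit A) f₀
  change IsPullback g f h ((fgCone A).π.app j) at hpb
  haveI := hproper
  set π : Spec (CommRingCat.of A) ⟶ (fgDiag A).obj j := (fgCone A).π.app j with hπ
  haveI : IsLocallyNoetherian ((fgDiag A).obj j) := by
    rw [fgDiag_obj]; infer_instance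
  have hdt : topologicalKrullDim ↥(h.fiber (π s)) ≤ d := by
    rw [← FibreDimBC.S9777 h π f g hpb s]; exact hd
  have hopen := FibreDimProper.S0403 h (d : WithBot ℕ∞)
  obtain ⟨WT, hWT, hsWT, hWTU⟩ := exists_isAffineOpen_mem_and_subset
    (X := (fgDiag A).obj j) (x := π s) (U := ⟨_, hopen⟩) hdt
  haveI : IsAffineHom π := by rw [hπ, fgCone_π_app]; infer_instance
  refine ⟨π ⁻¹ᵁ WT, hsWT, hWT.preimage π, ?_⟩
  have heq : f ⁻¹ᵁ (π ⁻¹ᵁ WT) = g ⁻¹ᵁ (h ⁻¹ᵁ WT) := by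
    rw [← Scheme.Hom.comp_preimage, ← Scheme.Hom.comp_preimage, hpb.w]
  haveI : IsAffineHom g := MorphismProperty.of_isPullback hpb.flip inferInstance
  haveI : IsAffine ↑WT := hWT
  have hgood : Good d ↑(h ⁻¹ᵁ WT) := by
    refine ⟨↑(h ⁻¹ᵁ WT), ↑WT, h ∣_ WT, 𝟙 _, inferInstance, inferInstance, inferInstance, ?_,
      inferInstance⟩
    intro t
    rw [dim_fiber_morphismRestrict]
    exact hWTU t.2
  haveI : IsAffineHom (g ∣_ (h ⁻¹ᵁ WT)) :=
    IsZariskiLocalAtTarget.restrict (P := @IsAffineHom) inferInstance _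
  exact (hgood.of_isAffineHom (g ∣_ (h ⁻¹ᵁ WT))).of_isAffineHom (X.isoOfEq heq).hom

/-- **affine base** -/
theorem exists_good_nhd_affine {X S : Scheme.{u}} (f : X ⟶ S) [IsProper f] [IsAffine S] (s : S)
    (d : ℕ) (hd : topologicalKrullDim ↥(f.fiber s) ≤ d) :
    ∃ W : S.Opens, s ∈ W ∧ IsAffineOpen W ∧ Good d ↑(f ⁻¹ᵁ W) := by
  obtain ⟨X', q, f', hq, hqf, hprop, hfp, hrange⟩ := exists_fp_closed_approx f s
  have hd' : topologicalKrullDim ↥(f'.fiber s) ≤ d :=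
    (dim_fiber_le_of_range q f' s hrange).trans (by rw [hqf]; exact hd)
  let e := S.isoSpec
  let f'' : X' ⟶ Spec (CommRingCat.of Γ(S, ⊤)) := f' ≫ e.hom
  have hsq : IsPullback (𝟙 X') f'' f' e.inv :=
    IsPullback.of_horiz_isIso ⟨by simp [f'']⟩
  have hd'' : topologicalKrullDim ↥(f''.fiber (e.hom s)) ≤ d := by
    rw [FibreDimBC.S9777 f' e.inv f'' (𝟙 X') hsq (e.hom s)]
    have : e.inv (e.hom s) = s := by
      rw [← Scheme.Hom.comp_apply, e.hom_inv_id]; rfl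
    rw [this]; exact hd'
  obtain ⟨W'', hsW, hW''aff, hgood⟩ := exists_good_nhd_spec Γ(S, ⊤) f'' (e.hom s) d hd''
  refine ⟨e.hom ⁻¹ᵁ W'', hsW, hW''aff.preimage_of_isIso e.hom, ?_⟩
  have heq : f ⁻¹ᵁ (e.hom ⁻¹ᵁ W'') = q ⁻¹ᵁ (f'' ⁻¹ᵁ W'') := by
    rw [← hqf]; rfl
  haveI : IsAffineHom (q ∣_ (f'' ⁻¹ᵁ W'')) :=
    IsZariskiLocalAtTarget.restrict (P := @IsAffineHom) inferInstance _
  exact (hgood.of_isAffineHom (q ∣_ (f'' ⁻¹ᵁ W''))).of_isAffineHom (X.isoOfEq heq).hom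

/-- **general base**: a point over which the fibre of a proper morphism has dimension `≤ d` has an
affine open neighbourhood `V` such that `f⁻¹(V)` is good -/
theorem exists_good_nhd {X Y : Scheme.{u}} (f : X ⟶ Y) [IsProper f] (y : Y) (d : ℕ)
    (hd : topologicalKrullDim ↥(f.fiber y) ≤ d) :
    ∃ V : Y.Opens, y ∈ V ∧ IsAffineOpen V ∧ Good d ↑(f ⁻¹ᵁ V) := by
  obtain ⟨V₀, hV₀, hyV₀, -⟩ :=
    exists_isAffineOpen_mem_and_subset (X := Y) (x := y) (U := ⊤) trivial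
  haveI : IsAffine ↑V₀ := hV₀
  let y₀ : ↑V₀ := ⟨y, hyV₀⟩
  have hd₀ : topologicalKrullDim ↥((f ∣_ V₀).fiber y₀) ≤ d := by
    rw [dim_fiber_morphismRestrict]; exact hd
  obtain ⟨W, hyW, hW, hgood⟩ := exists_good_nhd_affine (f ∣_ V₀) y₀ d hd₀
  refine ⟨V₀.ι ''ᵁ W, ⟨y₀, hyW, rfl⟩, hW.image_of_isOpenImmersion V₀.ι, ?_⟩
  have heq : (f ⁻¹ᵁ V₀).ι ''ᵁ ((f ∣_ V₀) ⁻¹ᵁ W) = f ⁻¹ᵁ (V₀.ι ''ᵁ W) :=
    image_morphismRestrict_preimage f V₀ W
  let e : (↑((f ∣_ V₀) ⁻¹ᵁ W) : Scheme.{u}) ≅ ↑(f ⁻¹ᵁ (V₀.ι ''ᵁ W)) :=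
    (f ⁻¹ᵁ V₀).ι.isoImage _ ≪≫ X.isoOfEq heq
  exact hgood.of_isAffineHom e.inv

end Groth.Agent.Lib.Helper21.FibVan
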