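import Groth.Agent.Lib.Helper21.FibVan3
import Groth.Agent.Lib.Helper4.RpushZero
import Groth.Agent.Lib.Helper4.RpushStalk
import Mathlib

set_option backward.isDefEq.respectTransparency.types false
set_option linter.style.haveILetI false
set_option autoImplicit false
universe u
open CategoryTheory CategoryTheory.Limits AlgebraicGeometry Opposite TopologicalSpace

namespace Groth.Agent.Lib.Helper21.FibVan

open Groth.Agent.Lib.Helper2.RpushQC4

/-- vanishing of `R^i f_*` of quasi-coherent modules above `d` for a good source over an affine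
base -/
theorem isZero_RpushAb_of_good {X S : Scheme.{u}} (f : X ⟶ S) [IsAffine S] [QuasiCompact f]
    [QuasiSeparated f] {d : ℕ} (hX : Good d X) (M : X.Modules) [M.IsQuasicoherent] (i : ℕ)
    (hi : d < i) : IsZero ((Coh.RpushAb f i).obj (Coh.toAb M)) := by
  obtain ⟨e⟩ := Groth.Agent.S11319.result f M i
  have hz := Groth.Agent.Lib.Helper4.RpushZero.isZero_Rpush_of_isAffine f M i
    (hX.subsingleton_HH M i hi)
  exact ((SheafOfModules.toSheaf S.ringCatSheaf).map_isZero hz).of_iso e.symm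

/-- **S12458** -/
theorem exists_affine_nhd_vanishing {X Y : Scheme.{u}} (f : X ⟶ Y) [IsProper f]
    (y : Y) (d : ℕ) (hd : topologicalKrullDim ↥(f.fiber y) ≤ d) :
    ∃ V : Y.Opens, y ∈ V ∧ IsAffineOpen V ∧
      ∀ (M : (↑(f ⁻¹ᵁ V) : Scheme.{u}).Modules) (i : ℕ), Coh.IsQCoh M → d < i →
        Limits.IsZero ((Coh.RpushAb (f ∣_ V) i).obj (Coh.toAb M)) := by
  obtain ⟨V, hyV, hV, hgood⟩ := exists_good_nhd f y d hd
  refine ⟨V, hyV, hV, fun M i hM hi => ?_⟩
  haveI : IsAffine ↑V := hV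
  haveI : M.IsQuasicoherent := hM
  exact isZero_RpushAb_of_good (f ∣_ V) hgood M i hi

/-- **S7411** -/
theorem isZero_stalk_RpushAb {X Y : Scheme.{u}} (f : X ⟶ Y) [IsProper f]
    (y : Y) (d : ℕ) (hd : topologicalKrullDim ↥(f.fiber y) ≤ d) (M : X.Modules) [Coh.IsQCoh M]
    (i : ℕ) (hi : d < i) :
    Limits.IsZero (TopCat.Presheaf.stalk ((Coh.RpushAb f i).obj (Coh.toAb M)).obj y) := by
  obtain ⟨V, hyV, hV, hgood⟩ := exists_good_nhd f y d hd
  haveI : IsAffine ↑V := hV
  obtain ⟨e₁⟩ := Groth.Agent.S11319.result f M i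
  obtain ⟨e₂⟩ := Groth.Agent.Lib.Helper2.RpushQC6.nonempty_restrict_Rpush_iso f V M i
  haveI : (M.restrict (f ⁻¹ᵁ V).ι).IsQuasicoherent := inferInstance
  have h0 : IsZero ((Coh.Rpush (f ∣_ V) i).obj (M.restrict (f ⁻¹ᵁ V).ι)) :=
    Groth.Agent.Lib.Helper4.RpushZero.isZero_Rpush_of_isAffine (f ∣_ V) _ i
      (hgood.subsingleton_HH _ i hi)
  have h1 := Groth.Agent.Lib.Helper4.RpushStalk.isZero_stalk_of_isZero_restrict _ V y hyV
    (h0.of_iso e₂)
  exact h1.of_iso ((TopCat.Presheaf.stalkFunctor AddCommGrpCat.{u} y).mapIso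
    ((sheafToPresheaf _ _).mapIso e₁)).symm

end Groth.Agent.Lib.Helper21.FibVan
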