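import Groth.Agent.Lib.Helper21.FibVan2
import Groth.Agent.Lib.lead.FibreDimTarget
import Groth.Agent.Lib.lead.IrredFibresSub
import Mathlib

set_option backward.isDefEq.respectTransparency.types false
set_option linter.style.haveILetI false
set_option autoImplicit false
universe u
open CategoryTheory CategoryTheory.Limits AlgebraicGeometry Opposite TopologicalSpace Topology

namespace Groth.Agent.Lib.Helper21.FibVan

open Groth.Agent.Lib.Helper13.NaClosed Groth.Agent.Lib.lead Scheme

/-- the local dimension does not increase along an inducing map -/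
theorem localDim_le_of_isInducing {T' T : Type*} [TopologicalSpace T'] [TopologicalSpace T]
    (i : T' → T) (hi : IsInducing i) (x' : T') :
    FlatMor.localDim T' x' ≤ FlatMor.localDim T (i x') := by
  unfold FlatMor.localDim
  refine le_iInf fun U => ?_
  let U' : {U' : Opens T' // x' ∈ U'} := ⟨⟨i ⁻¹' U.1, U.1.2.preimage hi.continuous⟩, U.2⟩
  refine (iInf_le _ U').trans ?_
  exact (hi.restrictPreimage (U.1 : Set T)).topologicalKrullDim_le

/-- the local fibre dimension does not increase under restriction to a closed subscheme -/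
theorem fibreDimAt_comp_le {W' W S : Scheme.{u}} (c : W' ⟶ W) [IsClosedImmersion c] (φ : W ⟶ S)
    (w' : W') : FlatMor.fibreDimAt (c ≫ φ) w' ≤ FlatMor.fibreDimAt φ (c w') := by
  unfold FlatMor.fibreDimAt
  let s : S := (c ≫ φ) w'
  let i : (c ≫ φ).fiber s → φ.fiber s := fun w =>
    (φ.fiberHomeo s).symm (IrredFibresSub.fibreMap φ c s w)
  have hi : IsInducing i :=
    (φ.fiberHomeo s).symm.isInducing.comp (IrredFibresSub.fibreMap_isEmbedding φ c s).isInducing
  have hpt : i ((c ≫ φ).asFiber w') = φ.asFiber (c w') := by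
    change (φ.fiberHomeo s).symm (IrredFibresSub.fibreMap φ c s ((c ≫ φ).asFiber w')) = _
    have h1 : IrredFibresSub.fibreMap φ c s ((c ≫ φ).asFiber w') = ⟨c w', rfl⟩ := by
      apply Subtype.ext
      change c ((c ≫ φ).fiberι s ((c ≫ φ).asFiber w')) = c w'
      rw [Scheme.Hom.fiberι_asFiber]
    rw [h1]
    rfl
  have := localDim_le_of_isInducing i hi ((c ≫ φ).asFiber w')
  rw [hpt] at this
  exact this

section approx

variable {X S Z : Scheme.{u}} (f : X ⟶ S) (ι : Z ⟶ X) [IsClosedImmersion ι]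

/-- the lift of `ι` to a finitely presented closed subscheme containing it -/
noncomputable abbrev liftIdx (J : Idx ι) : Z ⟶ J.ideal.subscheme :=
  IsClosedImmersion.lift J.ideal.subschemeι ι J.le_ker

theorem liftIdx_fac (J : Idx ι) : liftIdx ι J ≫ J.ideal.subschemeι = ι :=
  IsClosedImmersion.lift_fac _ _ _

instance (J : Idx ι) : IsClosedImmersion (liftIdx ι J) := by
  haveI h : IsClosedImmersion (liftIdx ι J ≫ J.ideal.subschemeι) := by
    rw [liftIdx_fac]; infer_instance
  exact IsClosedImmersion.of_comp (liftIdx ι J) J.ideal.subschemeι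

theorem preimage_subset_range_liftIdx (J : Idx ι) (s : S)
    (h : (J.ideal.support : Set X) ∩ f ⁻¹' {s} ⊆ Set.range ι) :
    (J.ideal.subschemeι ≫ f) ⁻¹' {s} ⊆ Set.range (liftIdx ι J) := by
  intro x' hx'
  have hy : J.ideal.subschemeι x' ∈ (J.ideal.support : Set X) ∩ f ⁻¹' {s} := by
    refine ⟨?_, hx'⟩
    rw [← IdealSheafData.range_subschemeι]
    exact ⟨x', rfl⟩
  obtain ⟨x, hx⟩ := h hy
  refine ⟨x, ?_⟩
  apply J.ideal.subschemeι.isClosedEmbedding.injective
  have h2 : (liftIdx ι J ≫ J.ideal.subschemeι) x = ι x := by rw [liftIdx_fac]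
  exact h2.trans hx

/-- the locus in `X` where the fibres of the finitely presented closed subscheme `V(J)` have local
dimension `> d` -/
def badSet (J : Idx ι) (d : ℕ) : Set X :=
  J.ideal.subschemeι '' {z | ((d + 1 : ℕ) : WithBot ℕ∞) ≤
    FlatMor.fibreDimAt (J.ideal.subschemeι ≫ f) z}

theorem isClosed_badSet [LocallyOfFiniteType f] (J : Idx ι) (d : ℕ) : IsClosed (badSet f ι J d) := by
  haveI := J.lfp
  exact J.ideal.subschemeι.isClosedEmbedding.isClosedMap _
    (FibreDimTarget.isClosed_setOf_le_fibreDimAt (J.ideal.subschemeι ≫ f) (d + 1))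

theorem badSet_anti {J J' : Idx ι} (h : J ≤ J') (d : ℕ) : badSet f ι J' d ⊆ badSet f ι J d := by
  rintro _ ⟨z', hz', rfl⟩
  let c : J'.ideal.subscheme ⟶ J.ideal.subscheme := IdealSheafData.inclusion h
  have hc : c ≫ J.ideal.subschemeι = J'.ideal.subschemeι := IdealSheafData.inclusion_subschemeι h
  haveI : IsClosedImmersion c := by
    haveI h' : IsClosedImmersion (c ≫ J.ideal.subschemeι) := by rw [hc]; infer_instance
    exact IsClosedImmersion.of_comp c J.ideal.subschemeι
  refine ⟨c z', ?_, ?_⟩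
  · have h1 := fibreDimAt_comp_le c (J.ideal.subschemeι ≫ f) z'
    have h2 : c ≫ J.ideal.subschemeι ≫ f = J'.ideal.subschemeι ≫ f := by
      rw [← Category.assoc, hc]
    rw [h2] at h1
    exact le_trans hz' h1
  · change (c ≫ J.ideal.subschemeι) z' = _
    rw [hc]

end approx

/-- **S9216**: a closed subscheme of a finitely presented `S`-scheme all of whose fibres have
dimension `≤ d` lies in a finitely presented closed subscheme with the same property -/
theorem exists_fp_closed_fibre_dim_le {X S Z : Scheme.{u}} [CompactSpace S]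
    [QuasiSeparatedSpace S] (f : X ⟶ S) [LocallyOfFinitePresentation f] [QuasiCompact f]
    [QuasiSeparated f] (d : ℕ) (ι : Z ⟶ X) [IsClosedImmersion ι]
    (hZ : ∀ s : S, topologicalKrullDim ↥((ι ≫ f).fiber s) ≤ d) :
    ∃ (Z' : Scheme.{u}) (ι' : Z' ⟶ X) (k : Z ⟶ Z'), IsClosedImmersion ι' ∧
      LocallyOfFinitePresentation ι' ∧ k ≫ ι' = ι ∧
      ∀ s : S, topologicalKrullDim ↥((ι' ≫ f).fiber s) ≤ d := by
  haveI : CompactSpace X := QuasiCompact.compactSpace_of_compactSpace f
  haveI : QuasiSeparatedSpace X := quasiSeparatedSpace_of_quasiSeparated f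
  have hd1 : ((d + 1 : ℕ) : WithBot ℕ∞) = (d : WithBot ℕ∞) + 1 := by push_cast; rfl
  -- the bad loci have empty intersection
  have hinter : (Set.univ ∩ ⋂ J : Idx ι, badSet f ι J d) = ∅ := by
    rw [Set.univ_inter, Set.eq_empty_iff_forall_notMem]
    intro x hx
    obtain ⟨J₁, hJ₁⟩ := exists_idx_fibre_subset ι f (f x)
    have hx1 := Set.mem_iInter.mp hx J₁
    obtain ⟨z, hz, hzx⟩ := hx1
    haveI := J₁.lfp
    have hsub := preimage_subset_range_liftIdx f ι J₁ (f x) (hJ₁ J₁ le_rfl)
    have h1 := dim_fiber_le_of_range (liftIdx ι J₁) (J₁.ideal.subschemeι ≫ f) (f x) hsub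
    have h2 : liftIdx ι J₁ ≫ J₁.ideal.subschemeι ≫ f = ι ≫ f := by
      rw [← Category.assoc, liftIdx_fac]
    rw [h2] at h1
    have h3 : ((d + 1 : ℕ) : WithBot ℕ∞) ≤
        topologicalKrullDim ↥((J₁.ideal.subschemeι ≫ f).fiber (f x)) := by
      rw [FibreDimTarget.le_dim_fibre_iff]
      refine ⟨z, ?_, hz⟩
      change f (J₁.ideal.subschemeι z) = f x
      rw [hzx]
    have h4 := h3.trans (h1.trans (hZ (f x)))
    rw [hd1] at h4
    exact absurd h4 (not_le.mpr (ENat.WithBot.lt_add_one_iff.mpr le_rfl))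
  have hdir : Directed (· ⊇ ·) (fun J : Idx ι => badSet f ι J d) := by
    intro J J'
    obtain ⟨J'', h1, h2⟩ := exists_ge_ge J J'
    exact ⟨J'', badSet_anti f ι h1 d, badSet_anti f ι h2 d⟩
  obtain ⟨J, hJ⟩ := isCompact_univ.elim_directed_family_closed (fun J : Idx ι => badSet f ι J d)
    (fun J => isClosed_badSet f ι J d) hinter hdir
  rw [Set.univ_inter] at hJ
  haveI := J.lfp
  refine ⟨J.ideal.subscheme, J.ideal.subschemeι, liftIdx ι J, inferInstance, inferInstance,
    liftIdx_fac ι J, fun s => ?_⟩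
  by_contra hcon
  have h3 : ((d + 1 : ℕ) : WithBot ℕ∞) ≤
      topologicalKrullDim ↥((J.ideal.subschemeι ≫ f).fiber s) := by
    rw [hd1]
    by_contra h4
    rw [not_le, ENat.WithBot.lt_add_one_iff] at h4
    exact hcon h4
  rw [FibreDimTarget.le_dim_fibre_iff] at h3
  obtain ⟨z, -, hz⟩ := h3
  have : J.ideal.subschemeι z ∈ badSet f ι J d := ⟨z, hz, rfl⟩
  rw [hJ] at this
  exact this

end Groth.Agent.Lib.Helper21.FibVan
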