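import Groth.Agent.Lib.Helper21.FibVan3
import Mathlib

set_option backward.isDefEq.respectTransparency.types false
set_option linter.style.haveILetI false
set_option autoImplicit false
universe u
open CategoryTheory CategoryTheory.Limits AlgebraicGeometry Opposite TopologicalSpace

namespace Groth.Agent.Lib.Helper21.FibVan

open Groth.Agent.Lib.lead.HensK Groth.Agent.Lib.lead

/-- **enriched goodness** of a morphism `f : X ⟶ S`: `X` is a closed subscheme of the base change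
to `S` of a proper scheme `X₀` over a Noetherian affine scheme `S₀`, all of whose fibres have
dimension `≤ d`. -/
def EGood (d : ℕ) {X S : Scheme.{u}} (f : X ⟶ S) : Prop :=
  ∃ (X₀ S₀ X₁ : Scheme.{u}) (f₀ : X₀ ⟶ S₀) (g : S ⟶ S₀) (p₁ : X₁ ⟶ X₀) (p₂ : X₁ ⟶ S)
    (c : X ⟶ X₁), IsPullback p₁ p₂ f₀ g ∧ IsClosedImmersion c ∧ c ≫ p₂ = f ∧ IsProper f₀ ∧
      IsAffine S₀ ∧ IsLocallyNoetherian S₀ ∧ ∀ s : S₀, topologicalKrullDim ↥(f₀.fiber s) ≤ d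

theorem EGood.transfer {d : ℕ} {X X' S S' : Scheme.{u}} {f : X ⟶ S} {f' : X' ⟶ S'}
    (h : EGood d f') (q : X ⟶ X') [IsClosedImmersion q] (e : S ⟶ S') [IsIso e]
    (w : q ≫ f' = f ≫ e) : EGood d f := by
  obtain ⟨X₀, S₀, X₁, f₀, g, p₁, p₂, c, hpb, hc, hcp, h1, h2, h3, h4⟩ := h
  haveI := hc
  refine ⟨X₀, S₀, X₁, f₀, e ≫ g, p₁, p₂ ≫ inv e, q ≫ c, ?_, inferInstance, ?_, h1, h2, h3, h4⟩
  · have h0 : IsPullback (𝟙 X₁) (p₂ ≫ inv e) p₂ e := IsPullback.of_horiz_isIso ⟨by simp⟩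
    simpa using h0.paste_horiz hpb
  · rw [Category.assoc, ← Category.assoc c, hcp, ← Category.assoc, w, Category.assoc,
      IsIso.hom_inv_id, Category.comp_id]

/-- **fp case over `Spec A`** -/
theorem exists_egood_nhd_spec (A : Type u) [CommRing A] {X : Scheme.{u}}
    (f : X ⟶ Spec (CommRingCat.of A)) [IsProper f] [LocallyOfFinitePresentation f]
    (s : Spec (CommRingCat.of A)) (d : ℕ) (hd : topologicalKrullDim ↥(f.fiber s) ≤ d) :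
    ∃ W : (Spec (CommRingCat.of A)).Opens, s ∈ W ∧ IsAffineOpen W ∧ EGood d (f ∣_ W) := by
  let f₀ : X ⟶ (fgCone A).pt := f
  haveI : IsProper f₀ := ‹IsProper f›
  haveI : LocallyOfFinitePresentation f₀ := ‹LocallyOfFinitePresentation f›
  obtain ⟨j, Y, h, g, hproper, hpb⟩ :=
    exists_proper_model (fgDiag A) (fgCone A) (fgIsLimit A) f₀
  change IsPullback g f h ((fgCone A).π.app j) at hpb
  haveI := hproper
  set π : Spec (CommRingCat.of A) ⟶ (fgDiag A).obj j := (fgCone A).π.app j with hπ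
  haveI : IsLocallyNoetherian ((fgDiag A).obj j) := by
    rw [fgDiag_obj]; infer_instance
  have hdt : topologicalKrullDim ↥(h.fiber (π s)) ≤ d := by
    rw [← FibreDimBC.S9777 h π f g hpb s]; exact hd
  have hopen := FibreDimProper.S0403 h (d : WithBot ℕ∞)
  obtain ⟨WT, hWT, hsWT, hWTU⟩ := exists_isAffineOpen_mem_and_subset
    (X := (fgDiag A).obj j) (x := π s) (U := ⟨_, hopen⟩) hdt
  haveI : IsAffineHom π := by rw [hπ, fgCone_π_app]; infer_instance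
  refine ⟨π ⁻¹ᵁ WT, hsWT, hWT.preimage π, ?_⟩
  have heq : f ⁻¹ᵁ (π ⁻¹ᵁ WT) = g ⁻¹ᵁ (h ⁻¹ᵁ WT) := by
    rw [← Scheme.Hom.comp_preimage, ← Scheme.Hom.comp_preimage, hpb.w]
  have hUY : f ⁻¹ᵁ (π ⁻¹ᵁ WT) = g ⁻¹ᵁ (h ⁻¹ᵁ WT) ⊓ f ⁻¹ᵁ (π ⁻¹ᵁ WT) := by
    rw [← heq, inf_idem]
  have hpb' := Scheme.Hom.isPullback_resLE hpb (US := WT) (UT := π ⁻¹ᵁ WT) (UX := h ⁻¹ᵁ WT)
    le_rfl le_rfl hUY
  rw [Scheme.Hom.resLE_eq_morphismRestrict, Scheme.Hom.resLE_eq_morphismRestrict,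
    Scheme.Hom.resLE_eq_morphismRestrict] at hpb'
  haveI : IsAffine ↑WT := hWT
  refine ⟨↑(h ⁻¹ᵁ WT), ↑WT, _, h ∣_ WT, π ∣_ WT, _, f ∣_ (π ⁻¹ᵁ WT), 𝟙 _, hpb', inferInstance,
    Category.id_comp _, inferInstance, inferInstance, inferInstance, ?_⟩
  intro t
  rw [dim_fiber_morphismRestrict]
  exact hWTU t.2

/-- **affine base** -/
theorem exists_egood_nhd_affine {X S : Scheme.{u}} (f : X ⟶ S) [IsProper f] [IsAffine S] (s : S)
    (d : ℕ) (hd : topologicalKrullDim ↥(f.fiber s) ≤ d) :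
    ∃ W : S.Opens, s ∈ W ∧ IsAffineOpen W ∧ EGood d (f ∣_ W) := by
  obtain ⟨X', q, f', hq, hqf, hprop, hfp, hrange⟩ := exists_fp_closed_approx f s
  have hd' : topologicalKrullDim ↥(f'.fiber s) ≤ d :=
    (dim_fiber_le_of_range q f' s hrange).trans (by rw [hqf]; exact hd)
  subst hqf
  let e := S.isoSpec
  let f'' : X' ⟶ Spec (CommRingCat.of Γ(S, ⊤)) := f' ≫ e.hom
  have hsq : IsPullback (𝟙 X') f'' f' e.inv :=
    IsPullback.of_horiz_isIso ⟨by simp [f'']⟩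
  have hd'' : topologicalKrullDim ↥(f''.fiber (e.hom s)) ≤ d := by
    rw [FibreDimBC.S9777 f' e.inv f'' (𝟙 X') hsq (e.hom s)]
    have : e.inv (e.hom s) = s := by
      rw [← Scheme.Hom.comp_apply, e.hom_inv_id]; rfl
    rw [this]; exact hd'
  obtain ⟨W'', hsW, hW''aff, hgood⟩ := exists_egood_nhd_spec Γ(S, ⊤) f'' (e.hom s) d hd''
  refine ⟨e.hom ⁻¹ᵁ W'', hsW, hW''aff.preimage_of_isIso e.hom, ?_⟩
  haveI : IsClosedImmersion q := hq
  have hw : q ∣_ (f' ⁻¹ᵁ (e.hom ⁻¹ᵁ W'')) ≫ f'' ∣_ W'' =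
      (q ≫ f') ∣_ (e.hom ⁻¹ᵁ W'') ≫ e.hom ∣_ W'' := by
    rw [morphismRestrict_comp, morphismRestrict_comp]
    exact (Category.assoc _ _ _).symm
  have hci : IsClosedImmersion (q ∣_ (f' ⁻¹ᵁ (e.hom ⁻¹ᵁ W''))) :=
    IsZariskiLocalAtTarget.restrict (P := @IsClosedImmersion) hq _
  have hiso : IsIso (e.hom ∣_ W'') := inferInstance
  exact @EGood.transfer d _ _ _ _ _ _ hgood (q ∣_ (f' ⁻¹ᵁ (e.hom ⁻¹ᵁ W''))) hci (e.hom ∣_ W'') hiso hw

/-- **general base** -/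
theorem exists_egood_nhd {X Y : Scheme.{u}} (f : X ⟶ Y) [IsProper f] (y : Y) (d : ℕ)
    (hd : topologicalKrullDim ↥(f.fiber y) ≤ d) :
    ∃ V : Y.Opens, y ∈ V ∧ IsAffineOpen V ∧ EGood d (f ∣_ V) := by
  obtain ⟨V₀, hV₀, hyV₀, -⟩ :=
    exists_isAffineOpen_mem_and_subset (X := Y) (x := y) (U := ⊤) trivial
  haveI : IsAffine ↑V₀ := hV₀
  let y₀ : ↑V₀ := ⟨y, hyV₀⟩
  have hd₀ : topologicalKrullDim ↥((f ∣_ V₀).fiber y₀) ≤ d := by
    rw [dim_fiber_morphismRestrict]; exact hd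
  obtain ⟨W, hyW, hW, hgood⟩ := exists_egood_nhd_affine (f ∣_ V₀) y₀ d hd₀
  refine ⟨V₀.ι ''ᵁ W, ⟨y₀, hyW, rfl⟩, hW.image_of_isOpenImmersion V₀.ι, ?_⟩
  let e := morphismRestrictRestrict f V₀ W
  have hw : e.inv.left ≫ (f ∣_ V₀ ∣_ W) = (f ∣_ V₀.ι ''ᵁ W) ≫ e.inv.right := by
    simpa using e.inv.w
  haveI : IsIso e.inv.left := inferInstance
  haveI : IsIso e.inv.right := inferInstance
  exact hgood.transfer e.inv.left e.inv.right hw

end Groth.Agent.Lib.Helper21.FibVan
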