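import Groth.Agent.Lib.Helper21.FibVan6
import Groth.Agent.Lib.Helper2.HomExt2
import Mathlib

set_option backward.isDefEq.respectTransparency.types false
set_option linter.style.haveILetI false
set_option autoImplicit false
universe u
open CategoryTheory CategoryTheory.Limits AlgebraicGeometry Opposite TopologicalSpace TensorProduct

namespace Groth.Agent.Lib.Helper21.FibVan

open Groth.Agent.Lib.Helper2.HomExt Groth.Agent.Lib.Helper28.QCohLoc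

/-- every element of a pushout of commutative rings is a sum of products -/
theorem mem_closure_of_isPushout {R₀ R₁ R₂ B : CommRingCat.{u}} {φ₁ : R₀ ⟶ R₁} {φ₂ : R₀ ⟶ R₂}
    {v₁ : R₁ ⟶ B} {v₂ : R₂ ⟶ B} (h : IsPushout φ₁ φ₂ v₁ v₂) (c : B) :
    c ∈ AddSubgroup.closure (Set.range fun p : R₁ × R₂ => v₁.hom p.1 * v₂.hom p.2) := by
  letI : Algebra R₀ R₁ := φ₁.hom.toAlgebra
  letI : Algebra R₀ R₂ := φ₂.hom.toAlgebra
  have h' := CommRingCat.isPushout_tensorProduct R₀ R₁ R₂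
  have h'' : IsPushout φ₁ φ₂
      (CommRingCat.ofHom (S := R₁ ⊗[R₀] R₂) Algebra.TensorProduct.includeLeftRingHom)
      (CommRingCat.ofHom (S := R₁ ⊗[R₀] R₂) Algebra.TensorProduct.includeRight.toRingHom) := h'
  let e := h.isoIsPushout _ _ h''
  have he1 : ∀ b : R₁, e.inv.hom (b ⊗ₜ[R₀] (1 : R₂)) = v₁.hom b := fun b =>
    congrArg (fun φ => φ.hom b) (h.inl_isoIsPushout_inv _ _ h'')
  have he2 : ∀ a : R₂, e.inv.hom ((1 : R₁) ⊗ₜ[R₀] a) = v₂.hom a := fun a =>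
    congrArg (fun φ => φ.hom a) (h.inr_isoIsPushout_inv _ _ h'')
  have key : ∀ t : R₁ ⊗[R₀] R₂, e.inv.hom t ∈
      AddSubgroup.closure (Set.range fun p : R₁ × R₂ => v₁.hom p.1 * v₂.hom p.2) := by
    intro t
    induction t using TensorProduct.induction_on with
    | zero => rw [map_zero]; exact zero_mem _
    | tmul b a =>
      have : b ⊗ₜ[R₀] a = (b ⊗ₜ[R₀] (1 : R₂)) * ((1 : R₁) ⊗ₜ[R₀] a) := by
        rw [Algebra.TensorProduct.tmul_mul_tmul, mul_one, one_mul]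
      rw [this, map_mul, he1, he2]
      exact AddSubgroup.subset_closure ⟨(b, a), rfl⟩
    | add x y hx hy => rw [map_add]; exact add_mem hx hy
  have hc : e.inv.hom (e.hom.hom c) = c := congrArg (fun φ => φ.hom c) e.hom_inv_id
  rw [← hc]
  exact key _

variable {X X₀ : Scheme.{u}}

/-- the sections of `O_X` over preimages of affine opens of `X₀` are generated, as modules over
the sections of `O_{X₀}`, by (restrictions of) the image of `ι` -/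
def Gen {A : Type u} [CommRing A] (k : X ⟶ X₀) (ι : A →+* Γ(X, ⊤)) : Prop :=
  ∀ U₀ : X₀.Opens, IsAffineOpen U₀ → ∀ c : Γ(X, k ⁻¹ᵁ U₀),
    c ∈ AddSubgroup.closure (Set.range fun p : Γ(X₀, U₀) × A =>
      (k.app U₀).hom p.1 * gOn (ι p.2) (k ⁻¹ᵁ U₀))

theorem gen_of_isPullback {S S₀ X₁ : Scheme.{u}} [IsAffine S] [IsAffine S₀] {f₀ : X₀ ⟶ S₀}
    {g : S ⟶ S₀} {p₁ : X₁ ⟶ X₀} {p₂ : X₁ ⟶ S} (hpb : IsPullback p₁ p₂ f₀ g) (c : X ⟶ X₁)
    [IsClosedImmersion c] : Gen (c ≫ p₁) (c ≫ p₂).appTop.hom := by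
  intro U₀ hU₀ x
  have hUY : p₁ ⁻¹ᵁ U₀ = p₁ ⁻¹ᵁ U₀ ⊓ p₂ ⁻¹ᵁ ⊤ := by
    rw [Scheme.Hom.preimage_top, inf_top_eq]
  have hST : (⊤ : S.Opens) ≤ g ⁻¹ᵁ ⊤ := le_top
  have hSX : U₀ ≤ f₀ ⁻¹ᵁ ⊤ := le_top
  haveI := isIso_pushoutSection_of_isAffineOpen hpb hST hSX hUY (isAffineOpen_top _)
    (isAffineOpen_top _) hU₀
  have hp := (isIso_pushoutSection_iff hpb hST hSX hUY).mp inferInstance
  haveI : IsAffineHom g := inferInstance
  haveI : IsAffineHom p₁ := MorphismProperty.of_isPullback hpb.flip inferInstance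
  have hU₁ : IsAffineOpen (p₁ ⁻¹ᵁ U₀) := hU₀.preimage p₁
  obtain ⟨x₁, rfl⟩ := Scheme.Hom.app_surjective c (p₁ ⁻¹ᵁ U₀) hU₁ x
  have hx₁ := mem_closure_of_isPushout hp x₁
  induction hx₁ using AddSubgroup.closure_induction with
  | mem y hy =>
    obtain ⟨⟨b, a⟩, rfl⟩ := hy
    refine AddSubgroup.subset_closure ⟨(b, a), ?_⟩
    change ((c ≫ p₁).app U₀).hom b * gOn ((c ≫ p₂).appTop.hom a) ((c ≫ p₁) ⁻¹ᵁ U₀) =
      (c.app (p₁ ⁻¹ᵁ U₀)).hom ((p₁.appLE U₀ (p₁ ⁻¹ᵁ U₀) _).hom b * (p₂.appLE ⊤ (p₁ ⁻¹ᵁ U₀) _).hom a)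
    rw [map_mul]
    congr 1
    · rw [Scheme.Hom.comp_app, ← Scheme.Hom.app_eq_appLE]
      rfl
    · have h2 : p₂.appLE ⊤ (p₁ ⁻¹ᵁ U₀) le_top ≫ c.app (p₁ ⁻¹ᵁ U₀) =
          (c ≫ p₂).appLE ⊤ (c ⁻¹ᵁ (p₁ ⁻¹ᵁ U₀)) le_top := by
        rw [Scheme.Hom.app_eq_appLE, Scheme.Hom.appLE_comp_appLE]
      exact (congrArg (fun φ => φ.hom a) h2).symm
  | zero => rw [map_zero]; exact zero_mem _
  | add y z _ _ hy hz => rw [map_add]; exact add_mem hy hz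
  | neg y _ hy => rw [map_neg]; exact neg_mem hy

end Groth.Agent.Lib.Helper21.FibVan
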