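import Groth.Agent.Lib.Helper21.FibVan7
import Groth.Agent.Lib.Helper28.FinType
import Groth.Agent.Lib.Helper28.QCohPush
import Mathlib

set_option backward.isDefEq.respectTransparency.types false
set_option linter.style.haveILetI false
set_option autoImplicit false
universe u
open CategoryTheory CategoryTheory.Limits AlgebraicGeometry Opposite TopologicalSpace

noncomputable section

namespace Groth.Agent.Lib.Helper21.FibVan

open Groth.Agent.Lib.Helper2.HomExt Groth.Agent.Lib.Helper28.QCohLoc Groth.Agent.Lib.Helper21.QCohColim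

variable {X X₀ : Scheme.{u}} (k : X ⟶ X₀) {A : Type u} [CommRing A] (ι : A →+* Γ(X, ⊤))
variable (M : X.Modules)

/-- `k_* M` -/
abbrev PM : X₀.Modules := (Scheme.Modules.pushforward k).obj M

/-- sections of `k_* M` as sections of `M` -/
def toM (U : X₀.Opens) : Γ(PM k M, U) →+ Γ(M, k ⁻¹ᵁ U) := AddMonoidHom.id _

/-- sections of `M` as sections of `k_* M` -/
def ofM (U : X₀.Opens) : Γ(M, k ⁻¹ᵁ U) →+ Γ(PM k M, U) := AddMonoidHom.id _

@[simp] theorem toM_ofM (U : X₀.Opens) (y : Γ(M, k ⁻¹ᵁ U)) : toM k M U (ofM k M U y) = y := rfl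
@[simp] theorem ofM_toM (U : X₀.Opens) (y : Γ(PM k M, U)) : ofM k M U (toM k M U y) = y := rfl

theorem toM_injective (U : X₀.Opens) : Function.Injective (toM k M U) := fun _ _ h => h

theorem toM_smul (U : X₀.Opens) (b : Γ(X₀, U)) (y : Γ(PM k M, U)) :
    toM k M U (b • y : Γ(PM k M, U)) = ((k.app U).hom b • toM k M U y) :=
  rfl

/-- multiplication by `ι a` on `k_* M` -/
def φa (a : A) : PM k M ⟶ PM k M :=
  (Scheme.Modules.pushforward k).map (smulHom M (ι a))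

theorem toM_φa (a : A) (U : X₀.Opens) (y : Γ(PM k M, U)) :
    toM k M U ((φa k ι M a).app U y) = (gOn (ι a) (k ⁻¹ᵁ U) • toM k M U y : Γ(M, k ⁻¹ᵁ U)) :=
  smulHom_app M (ι a) (k ⁻¹ᵁ U) (toM k M U y)

variable {k ι M}

/-- the sum map `∐_{a ∈ A} G ⟶ k_* M`, `(g_a) ↦ ∑ a • i(g_a)` -/
abbrev sumMap {G : X₀.Modules} (i : G ⟶ PM k M) : (∐ fun _ : A => G) ⟶ PM k M :=
  Sigma.desc fun a : A => i ≫ φa k ι M a

theorem sumMap_ι_app {G : X₀.Modules} (i : G ⟶ PM k M) (a : A) (U : X₀.Opens) (g : Γ(G, U)) :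
    (sumMap (ι := ι) i).app U ((Sigma.ι (fun _ : A => G) a).app U g) =
      (φa k ι M a).app U (i.app U g) := by
  have h : Sigma.ι (fun _ : A => G) a ≫ sumMap (ι := ι) i = i ≫ φa k ι M a := Sigma.ι_desc _ _
  exact congrArg (fun ψ => (Scheme.Modules.Hom.app ψ U) g) h

/-- local generation: if generators of `Γ(M, k⁻¹U₀)` lie in the image of `G`, then all sections of
`k_* M` over `U₀` are in the range of the sum map -/
theorem mem_range_sumMap (hgen : Gen k ι) {G : X₀.Modules} (i : G ⟶ PM k M) {U₀ : X₀.Opens}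
    (hU₀ : IsAffineOpen U₀) (s : Set Γ(M, k ⁻¹ᵁ U₀))
    (hs : Submodule.span Γ(X, k ⁻¹ᵁ U₀) s = ⊤)
    (hsi : ∀ m ∈ s, ∃ g : Γ(G, U₀), toM k M U₀ (i.app U₀ g) = m) (m : Γ(PM k M, U₀)) :
    ∃ w : Γ(∐ fun _ : A => G, U₀), (sumMap (ι := ι) i).app U₀ w = m := by
  -- the range as an additive subgroup
  let R : AddSubgroup Γ(M, k ⁻¹ᵁ U₀) :=
    AddMonoidHom.range ((toM k M U₀).comp ((sumMap (ι := ι) i).app U₀).hom)
  have hR : ∀ (c : Γ(X, k ⁻¹ᵁ U₀)) (g : Γ(G, U₀)),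
      (c • toM k M U₀ (i.app U₀ g) : Γ(M, k ⁻¹ᵁ U₀)) ∈ R := by
    intro c
    have hc := hgen U₀ hU₀ c
    induction hc using AddSubgroup.closure_induction with
    | mem y hy =>
      obtain ⟨⟨b, a⟩, rfl⟩ := hy
      intro g
      refine ⟨(Sigma.ι (fun _ : A => G) a).app U₀ (b • g), ?_⟩
      change toM k M U₀ ((sumMap (ι := ι) i).app U₀
        ((Sigma.ι (fun _ : A => G) a).app U₀ (b • g))) = _
      rw [sumMap_ι_app, toM_φa, Scheme.Modules.Hom.app_smul, toM_smul, smul_smul, mul_comm]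
    | zero => intro g; rw [zero_smul]; exact zero_mem _
    | add y z _ _ hy hz => intro g; rw [add_smul]; exact add_mem (hy g) (hz g)
    | neg y _ hy => intro g; rw [neg_smul]; exact neg_mem (hy g)
  have key : ∀ m' : Γ(M, k ⁻¹ᵁ U₀), m' ∈ Submodule.span Γ(X, k ⁻¹ᵁ U₀) s →
      ∀ c : Γ(X, k ⁻¹ᵁ U₀), (c • m' : Γ(M, k ⁻¹ᵁ U₀)) ∈ R := by
    intro m' hm'
    induction hm' using Submodule.span_induction with
    | mem x hx =>
      obtain ⟨g, rfl⟩ := hsi x hx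
      intro c
      exact hR c g
    | zero => intro c; rw [smul_zero]; exact zero_mem _
    | add x y _ _ hx hy => intro c; rw [smul_add]; exact add_mem (hx c) (hy c)
    | smul r x _ hx => intro c; rw [smul_smul]; exact hx _
  have hm : toM k M U₀ m ∈ Submodule.span Γ(X, k ⁻¹ᵁ U₀) s := by
    rw [hs]; trivial
  have h1 := key _ hm 1
  rw [one_smul] at h1
  obtain ⟨w, hw⟩ := h1
  exact ⟨w, toM_injective k M U₀ hw⟩

/-- **generation by a coherent submodule**: if `M` is quasi-coherent of finite type on `X`,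
`k : X ⟶ X₀` is affine with `X₀` qcqs and the functions on `X` are generated by those of `X₀` and
the image of `ι`, then there is a coherent submodule `G ⊆ k_* M` with `A · G = k_* M`. -/
theorem exists_coh_gen [IsAffineHom k] [CompactSpace X₀] [QuasiSeparatedSpace X₀]
    (hgen : Gen k ι) (hM : Coh.IsCoh M) :
    ∃ (G : X₀.Modules) (i : G ⟶ PM k M), Mono i ∧ Coh.IsCoh G ∧ Epi (sumMap (ι := ι) i) := by
  classical
  haveI : M.IsQuasicoherent := hM.1
  haveI : SheafOfModules.IsFiniteType.{u} (R := X.ringCatSheaf) M := hM.2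
  haveI : (PM k M).IsQuasicoherent := isQuasicoherent_pushforward k M
  obtain ⟨𝒰, h𝒰fin, h𝒰⟩ := isCompact_iff_finite_and_eq_biUnion_affineOpens.mp
    (show IsCompact (X := X₀) ((⊤ : X₀.Opens) : Set X₀) from isCompact_univ)
  have hfin : ∀ U : X₀.affineOpens, Module.Finite Γ(X, k ⁻¹ᵁ U.1) Γ(M, k ⁻¹ᵁ U.1) := fun U =>
    Groth.Agent.Lib.Helper28.FinType.finite_of_isAffineOpen M (U.2.preimage k)
  choose gens hgens using fun U : X₀.affineOpens => (hfin U).fg_top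
  let σ : Finset (Pt (PM k M)) := h𝒰fin.toFinset.biUnion fun U =>
    (gens U).image fun m => (⟨U, ofM k M U.1 m⟩ : Pt (PM k M))
  let i : ((QCohColim.A (PM k M) σ : Subobject (PM k M)) : X₀.Modules) ⟶ PM k M :=
    (QCohColim.A (PM k M) σ).arrow
  refine ⟨_, i, inferInstance, isCoh_A (PM k M) σ, ?_⟩
  have hmem : ∀ U ∈ 𝒰, ∀ m ∈ (gens U : Set Γ(M, k ⁻¹ᵁ U.1)),
      ∃ g : Γ(((QCohColim.A (PM k M) σ : Subobject (PM k M)) : X₀.Modules), U.1),
        toM k M U.1 (i.app U.1 g) = m := by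
    intro U hU m hm
    let p : Pt (PM k M) := ⟨U, ofM k M U.1 m⟩
    have hp : p ∈ σ := by
      refine Finset.mem_biUnion.mpr ⟨U, h𝒰fin.mem_toFinset.mpr hU, ?_⟩
      exact Finset.mem_image.mpr ⟨m, hm, rfl⟩
    obtain ⟨g₀, hg₀⟩ := exists_subι_eq (PM k M) p
    have hle : sub (PM k M) p ≤ QCohColim.A (PM k M) σ := Finset.le_sup hp
    let j : subG (PM k M) p ⟶ ((QCohColim.A (PM k M) σ : Subobject (PM k M)) : X₀.Modules) :=
      (Subobject.underlyingIso (subι (PM k M) p)).inv ≫ Subobject.ofLE _ _ hle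
    have hj : j ≫ i = subι (PM k M) p := by
      have h3 : Subobject.ofLE (sub (PM k M) p) (QCohColim.A (PM k M) σ) hle ≫ i =
          (sub (PM k M) p).arrow := Subobject.ofLE_arrow _
      have h4 : (Subobject.underlyingIso (subι (PM k M) p)).inv ≫ (sub (PM k M) p).arrow =
          subι (PM k M) p := Subobject.underlyingIso_arrow _
      rw [← h4, ← h3, Category.assoc]
      rfl
    refine ⟨j.app U.1 g₀, ?_⟩
    have h5 : i.app U.1 (j.app U.1 g₀) = (j ≫ i).app U.1 g₀ := rfl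
    rw [h5, hj, hg₀]
    rfl
  refine Groth.Agent.Lib.Helper28.QCohLoc.epi_of_locally_in_range _ ?_
  intro U x pt hpt
  have hpt' : pt ∈ ⨆ i ∈ 𝒰, (i : X₀.Opens) := by rw [← h𝒰]; trivial
  obtain ⟨U₀, hptU₀⟩ := Opens.mem_iSup.mp hpt'
  obtain ⟨hU₀, hptU₀⟩ := Opens.mem_iSup.mp hptU₀
  obtain ⟨h, hVle, hptV⟩ := U₀.2.exists_basicOpen_le (V := U ⊓ U₀.1) ⟨pt, ⟨hpt, hptU₀⟩⟩ hptU₀
  have hVU : X₀.basicOpen h ≤ U := hVle.trans inf_le_left
  obtain ⟨n, m, hnm⟩ := exists_pow_smul_eq_res (PM k M) U₀.2 h (res (PM k M) hVU x)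
  obtain ⟨w, hw⟩ := mem_range_sumMap hgen i U₀.2 (gens U₀ : Set Γ(M, k ⁻¹ᵁ U₀.1)) (hgens U₀)
    (hmem U₀ hU₀) m
  have hu : IsUnit (X₀.presheaf.map (homOfLE (X₀.basicOpen_le h)).op (h ^ n)) := by
    rw [map_pow]
    exact (RingedSpace.isUnit_res_basicOpen X₀.toRingedSpace h).pow n
  obtain ⟨v, hv⟩ := hu
  refine ⟨X₀.basicOpen h, hVU, hptV, (↑v⁻¹ : Γ(X₀, X₀.basicOpen h)) •
    res _ (X₀.basicOpen_le h) w, ?_⟩
  rw [Scheme.Modules.Hom.app_smul, app_res, hw]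
  change (↑v⁻¹ : Γ(X₀, X₀.basicOpen h)) • (PM k M).presheaf.map (homOfLE (X₀.basicOpen_le h)).op m = _
  rw [← hnm, ← hv, smul_smul, Units.inv_mul, one_smul]

end Groth.Agent.Lib.Helper21.FibVan
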