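import Groth.Agent.Lib.Helper21.FibVan8
import Groth.Agent.Lib.Helper17.FlatBCH3
import Groth.Agent.Lib.Helper17.SigmaHH
import Groth.Agent.Lib.Helper16.QCohSigma
import Groth.Agent.Lib.Helper4.ProperFinal
import Groth.Agent.Lib.Helper2.HLesLin
import Mathlib

set_option backward.isDefEq.respectTransparency.types false
set_option linter.style.haveILetI false
set_option autoImplicit false
universe u
open CategoryTheory CategoryTheory.Limits AlgebraicGeometry Opposite TopologicalSpace Abelian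

noncomputable section

namespace Groth.Agent.Lib.Helper21.FibVan

open Groth.Agent.Lib.Helper2 Groth.Agent.Lib.Helper2.HomExt Groth.Agent.Lib.Helper28.QCohLoc
open Groth.Agent.Lib.Helper17.CohKer

/-- right exactness of `H^d` when `H^{d+1}` of the kernel vanishes -/
theorem surjective_HH_of_epi {X₀ : Scheme.{u}} {Q P : X₀.Modules} (p : Q ⟶ P) [Epi p] (d : ℕ)
    (hvan : Subsingleton (Coh.HH X₀ (kernel p) (d + 1))) (x : Coh.HH X₀ P d) :
    ∃ w : Coh.HH X₀ Q d, Sheaf.H.map ((SheafOfModules.toSheaf X₀.ringCatSheaf).map p) d w = x := by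
  let S : ShortComplex (SheafOfModules.{u} X₀.ringCatSheaf) :=
    ShortComplex.mk (kernel.ι p) p (kernel.condition p)
  have hS : S.ShortExact :=
    ShortComplex.ShortExact.mk' (ShortComplex.kernelSequence_exact p)
      (inferInstanceAs (Mono (kernel.ι p))) (inferInstanceAs (Epi p))
  exact HLes.exact₃ (HLesLin.shortExact_Sab S hS) d x (@Subsingleton.elim _ hvan _ _)

/-- naturality of the edge map in the module -/
theorem pushEdge_map {X X₀ : Scheme.{u}} (k : X ⟶ X₀) {N N' : X.Modules} (ψ : N ⟶ N') (p : ℕ)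
    (x : Coh.HH X₀ ((Scheme.Modules.pushforward k).obj N) p) :
    CohPull.pushEdge k N' p (Sheaf.H.map ((SheafOfModules.toSheaf X₀.ringCatSheaf).map
      ((Scheme.Modules.pushforward k).map ψ)) p x) =
      Sheaf.H.map ((SheafOfModules.toSheaf X.ringCatSheaf).map ψ) p (CohPull.pushEdge k N p x) := by
  rw [PushEdge1.pushEdge_eq, PushEdge1.pushEdge_eq]
  exact ExtEdge.edge_naturality (CohPull.inv k.base) (CohPull.oneTo k.base) (PushEdge1.a k N)
    (PushEdge1.a k N') _ _ (PushEdge1.a_naturality k ψ) p x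

open Groth.Agent.Lib.Helper17.FlatBCH1 Groth.Agent.Lib.Helper17.FlatBCH3 in
/-- **finiteness of the top cohomology** -/
theorem finite_HH_of_gen {X X₀ : Scheme.{u}} (k : X ⟶ X₀) [IsAffineHom k]
    {A T : Type u} [CommRing A] [CommRing T] [IsNoetherianRing T]
    [X.Over (Spec (CommRingCat.of A))] [X₀.Over (Spec (CommRingCat.of T))]
    [IsProper (X₀ ↘ Spec (CommRingCat.of T))] (γ : T →+* A)
    (hγ : ∀ t, k.appTop.hom (Coh.toGlobal (X₀ ↘ Spec (CommRingCat.of T)) t) =
      Coh.toGlobal (X ↘ Spec (CommRingCat.of A)) (γ t))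
    (hgen : Gen k (Coh.toGlobal (X ↘ Spec (CommRingCat.of A))))
    (d : ℕ) (hvan : ∀ K : X₀.Modules, K.IsQuasicoherent → Subsingleton (Coh.HH X₀ K (d + 1)))
    (M : X.Modules) (hM : Coh.IsCoh M) : Module.Finite A (Coh.HH X M d) := by
  classical
  haveI : M.IsQuasicoherent := hM.1
  haveI : CompactSpace X₀ :=
    QuasiCompact.compactSpace_of_compactSpace (X₀ ↘ Spec (CommRingCat.of T))
  haveI : QuasiSeparatedSpace X₀ :=
    quasiSeparatedSpace_of_quasiSeparated (X₀ ↘ Spec (CommRingCat.of T))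
  set ι : A →+* Γ(X, ⊤) := Coh.toGlobal (X ↘ Spec (CommRingCat.of A)) with hι
  obtain ⟨G, i, hi, hG, hepi⟩ := exists_coh_gen (k := k) (ι := ι) (M := M) hgen hM
  haveI := hi
  haveI := hepi
  haveI : G.IsQuasicoherent := hG.1
  haveI : (PM k M).IsQuasicoherent := isQuasicoherent_pushforward k M
  haveI : (∐ fun _ : A => G).IsQuasicoherent :=
    Groth.Agent.Lib.Helper16.QCohSigma.isQuasicoherent_sigma _
  have hK : (kernel (sumMap (ι := ι) i)).IsQuasicoherent := isQuasicoherent_kernel _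
  have hfinG : Module.Finite T (Coh.HH X₀ G d) :=
    Groth.Agent.Lib.Helper4.ProperFinal.finite_HH T X₀ G hG d
  obtain ⟨s, hs⟩ := hfinG.fg_top
  let pe := CohPull.pushEdge k M d
  have hpe : Function.Bijective pe := pushEdge_bijective_of_isAffineHom k M d
  let Θ : Coh.HH X₀ G d →+ Coh.HH X M d :=
    pe.comp (Sheaf.H.map ((SheafOfModules.toSheaf X₀.ringCatSheaf).map i) d)
  -- the action of `a : A`
  have hpe_a : ∀ (a : A) (x : Coh.HH X₀ (PM k M) d),
      pe (Sheaf.H.map ((SheafOfModules.toSheaf X₀.ringCatSheaf).map (φa k ι M a)) d x) =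
        a • pe x := by
    intro a x
    refine (pushEdge_map k (smulHom M (ι a)) d x).trans ?_
    rw [toSheaf_map_smulHom]
    rfl
  -- semilinearity of `Θ`
  have hΘsmul : ∀ (t : T) (y : Coh.HH X₀ G d), Θ (t • y) = γ t • Θ y := by
    intro t y
    have h1 : Sheaf.H.map ((SheafOfModules.toSheaf X₀.ringCatSheaf).map i) d (t • y) =
        t • Sheaf.H.map ((SheafOfModules.toSheaf X₀.ringCatSheaf).map i) d y :=
      (Canon.HHlin T i d).map_smul t y
    change pe (Sheaf.H.map ((SheafOfModules.toSheaf X₀.ringCatSheaf).map i) d (t • y)) = _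
    rw [h1]
    change pe (Sheaf.H.map (Coh.smulAb (PM k M)
      (Coh.toGlobal (X₀ ↘ Spec (CommRingCat.of T)) t)) d _) = _
    rw [smulAb_push]
    refine (pushEdge_smul k M _ d _).trans ?_
    rw [hγ t]
    rfl
  refine ⟨⟨s.image Θ, ?_⟩⟩
  rw [eq_top_iff]
  rintro z -
  obtain ⟨x, rfl⟩ := hpe.2 z
  obtain ⟨w, rfl⟩ := surjective_HH_of_epi (sumMap (ι := ι) i) d (hvan _ hK) x
  obtain ⟨σ, y, rfl⟩ := Groth.Agent.Lib.Helper17.SigmaHH.exists_finset_sum_HH X₀
    (fun _ : A => G) d w
  have e0 := (congrArg pe (map_sum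
    (Sheaf.H.map ((SheafOfModules.toSheaf X₀.ringCatSheaf).map (sumMap (ι := ι) i)) d)
    (fun a => Sheaf.H.map ((SheafOfModules.toSheaf X₀.ringCatSheaf).map
      (Sigma.ι (fun _ : A => G) a)) d (y a)) σ)).trans (map_sum pe _ σ)
  refine (congrArg (fun z => z ∈ Submodule.span A ((s.image Θ : Finset _) : Set (Coh.HH X M d)))
    e0).mpr ?_
  refine Submodule.sum_mem _ fun a _ => ?_
  have h2 : pe (Sheaf.H.map ((SheafOfModules.toSheaf X₀.ringCatSheaf).map (sumMap (ι := ι) i)) d
      (Sheaf.H.map ((SheafOfModules.toSheaf X₀.ringCatSheaf).map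
        (Sigma.ι (fun _ : A => G) a)) d (y a))) = a • Θ (y a) := by
    have h3 : Sigma.ι (fun _ : A => G) a ≫ sumMap (ι := ι) i = i ≫ φa k ι M a :=
      Sigma.ι_desc _ _
    have h4 : (SheafOfModules.toSheaf X₀.ringCatSheaf).map (Sigma.ι (fun _ : A => G) a) ≫
        (SheafOfModules.toSheaf X₀.ringCatSheaf).map (sumMap (ι := ι) i) =
        (SheafOfModules.toSheaf X₀.ringCatSheaf).map i ≫
          (SheafOfModules.toSheaf X₀.ringCatSheaf).map (φa k ι M a) :=
      ((SheafOfModules.toSheaf X₀.ringCatSheaf).map_comp _ _).symm.trans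
        ((congrArg (fun ψ => (SheafOfModules.toSheaf X₀.ringCatSheaf).map ψ) h3).trans
          ((SheafOfModules.toSheaf X₀.ringCatSheaf).map_comp _ _))
    have h5 := Sheaf.H.map_comp_apply (n := d)
      ((SheafOfModules.toSheaf X₀.ringCatSheaf).map (Sigma.ι (fun _ : A => G) a))
      ((SheafOfModules.toSheaf X₀.ringCatSheaf).map (sumMap (ι := ι) i)) (y a)
    have h6 := Sheaf.H.map_comp_apply (n := d)
      ((SheafOfModules.toSheaf X₀.ringCatSheaf).map i)
      ((SheafOfModules.toSheaf X₀.ringCatSheaf).map (φa k ι M a)) (y a)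
    exact (congrArg pe (h5.symm.trans ((congrArg (fun ψ => Sheaf.H.map ψ d (y a)) h4).trans h6))).trans
      (hpe_a a _)
  refine (congrArg (fun z => z ∈ Submodule.span A ((s.image Θ : Finset _) : Set (Coh.HH X M d)))
    h2).mpr ?_
  refine Submodule.smul_mem _ _ ?_
  have key : ∀ v : Coh.HH X₀ G d, v ∈ Submodule.span T (s : Set (Coh.HH X₀ G d)) →
      Θ v ∈ Submodule.span A ((s.image Θ : Finset _) : Set (Coh.HH X M d)) := by
    intro v hv
    induction hv using Submodule.span_induction with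
    | mem v hv =>
      refine Submodule.subset_span ?_
      rw [Finset.coe_image]
      exact Set.mem_image_of_mem _ hv
    | zero => rw [map_zero]; exact zero_mem _
    | add v v' _ _ hv hv' => rw [map_add]; exact add_mem hv hv'
    | smul t v _ hv => rw [hΘsmul]; exact Submodule.smul_mem _ _ hv
  exact key _ (by rw [hs]; trivial)

end Groth.Agent.Lib.Helper21.FibVan
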