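import Groth.Agent.Lib.Helper21.QCohCompact1
import Groth.Agent.Lib.Helper28.BiprodQC
import Groth.Agent.Lib.Helper25.QuotFactor
import Groth.Agent.Lib.Helper29.ThickVanish
import Mathlib

/-!
# helper21 — QCohCompact2: finitely presented modules are compact among quasi-coherent modules (qcqs schemes)

* `exists_hom_lift`: a morphism from a finitely presented module to a filtered colimit of quasi-coherent modules
  factors through a stage;
* `isFP_of_retract`: a retract of a finitely presented module is finitely presented.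
-/

set_option backward.isDefEq.respectTransparency.types false
set_option linter.style.haveILetI false
set_option autoImplicit false
universe u
open CategoryTheory CategoryTheory.Limits AlgebraicGeometry Opposite TopologicalSpace

namespace Groth.Agent.Lib.Helper21.QCohCompact

open Groth.Agent.Lib.Helper21.QCohColim Groth.Agent.Lib.Helper17.CohKer
open Groth.Agent.Lib.Helper21.FPQuot
open Groth.Agent.Lib.Helper29.FPDict Groth.Agent.Lib.Helper7.FPKer
open Groth.Agent.Lib.Helper28.QCohLoc Groth.Agent.Lib.Helper29.FilColimSec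

variable {X : Scheme.{u}}

section Biprod

variable {A B : X.Modules} (W : X.Opens) (x : Γ(A, W)) (y : Γ(B, W))

theorem fst_app_inl_add_inr :
    (biprod.fst : A ⊞ B ⟶ A).app W
      ((biprod.inl : A ⟶ A ⊞ B).app W x + (biprod.inr : B ⟶ A ⊞ B).app W y) = x := by
  rw [map_add]
  have h1 := congrArg (fun ψ => (Scheme.Modules.Hom.app ψ W) x) (biprod.inl_fst : (biprod.inl : A ⟶ A ⊞ B) ≫ _ = _)
  have h2 := congrArg (fun ψ => (Scheme.Modules.Hom.app ψ W) y) (biprod.inr_fst : (biprod.inr : B ⟶ A ⊞ B) ≫ _ = _)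
  have h1' : (biprod.fst : A ⊞ B ⟶ A).app W ((biprod.inl : A ⟶ A ⊞ B).app W x) = x := h1
  have h2' : (biprod.fst : A ⊞ B ⟶ A).app W ((biprod.inr : B ⟶ A ⊞ B).app W y) = 0 := h2
  rw [h1', h2', add_zero]

theorem snd_app_inl_add_inr :
    (biprod.snd : A ⊞ B ⟶ B).app W
      ((biprod.inl : A ⟶ A ⊞ B).app W x + (biprod.inr : B ⟶ A ⊞ B).app W y) = y := by
  rw [map_add]
  have h1 := congrArg (fun ψ => (Scheme.Modules.Hom.app ψ W) x) (biprod.inl_snd : (biprod.inl : A ⟶ A ⊞ B) ≫ _ = _)
  have h2 := congrArg (fun ψ => (Scheme.Modules.Hom.app ψ W) y) (biprod.inr_snd : (biprod.inr : B ⟶ A ⊞ B) ≫ _ = _)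
  have h1' : (biprod.snd : A ⊞ B ⟶ B).app W ((biprod.inl : A ⟶ A ⊞ B).app W x) = 0 := h1
  have h2' : (biprod.snd : A ⊞ B ⟶ B).app W ((biprod.inr : B ⟶ A ⊞ B).app W y) = y := h2
  rw [h1', h2', zero_add]

end Biprod

section Filtered

variable {J : Type u} [SmallCategory J] [IsFiltered J] {D : J ⥤ X.Modules} {c : Cocone D}
  (hc : IsColimit c)

include hc

open scoped Classical in
/-- **A morphism from a finitely presented module to a filtered colimit of quasi-coherent modules factors through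
a stage** (qcqs scheme). -/
theorem exists_hom_lift [CompactSpace X] [QuasiSeparatedSpace X] (hD : ∀ j, (D.obj j).IsQuasicoherent)
    (F : X.Modules) [SheafOfModules.IsFinitePresentation.{u} (R := X.ringCatSheaf) F] (f : F ⟶ c.pt) :
    ∃ (k : J) (g : F ⟶ D.obj k), g ≫ c.ι.app k = f := by
  haveI := hD
  haveI : c.pt.IsQuasicoherent := isQuasicoherent_of_isColimit hc hD
  haveI : F.IsQuasicoherent := isQuasicoherent_of_isFinitePresentation F
  haveI : SheafOfModules.IsFiniteType.{u} (R := X.ringCatSheaf) F := inferInstance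
  -- generating points of `F`, their images lifted to a common stage `j`
  obtain ⟨T, -, hTepi⟩ := exists_gen_points F
  let T₁ : Finset (Pt c.pt) := T.image fun p => (⟨p.1, f.app p.1.1 p.2⟩ : Pt c.pt)
  obtain ⟨j, hj⟩ := exists_lift_finset hc T₁
  let ιj : D.obj j ⟶ c.pt := c.ι.app j
  have hj' : ∀ p ∈ T, ∃ y : Γ(D.obj j, p.1.1), ιj.app p.1.1 y = f.app p.1.1 p.2 :=
    fun p hp => hj ⟨p.1, f.app p.1.1 p.2⟩ (Finset.mem_image.mpr ⟨p, hp, rfl⟩)
  -- the fibre product `P` of `f` and `c.ι.app j`, as a kernel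
  let φ : F ⊞ D.obj j ⟶ c.pt := biprod.fst ≫ f - biprod.snd ≫ ιj
  haveI : (F ⊞ D.obj j).IsQuasicoherent := isQuasicoherent_biprod
  haveI hPq : (kernel φ : X.Modules).IsQuasicoherent := isQuasicoherent_kernel φ
  have hk : ∀ p ∈ T, ∃ k : Γ((kernel φ : X.Modules), p.1.1),
      ((kernel.ι φ ≫ biprod.fst).app p.1.1 k = p.2) := by
    intro p hp
    obtain ⟨y, hy⟩ := hj' p hp
    let z : Γ(F ⊞ D.obj j, p.1.1) :=
      (biprod.inl : F ⟶ F ⊞ D.obj j).app p.1.1 p.2 + (biprod.inr : D.obj j ⟶ F ⊞ D.obj j).app p.1.1 y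
    have hz : φ.app p.1.1 z = 0 := by
      change f.app p.1.1 ((biprod.fst : F ⊞ D.obj j ⟶ F).app p.1.1 z) -
        ιj.app p.1.1 ((biprod.snd : F ⊞ D.obj j ⟶ D.obj j).app p.1.1 z) = 0
      rw [fst_app_inl_add_inr, snd_app_inl_add_inr, hy, sub_self]
    obtain ⟨k, hk⟩ := exists_kernel_app_eq φ p.1.1 z hz
    refine ⟨k, ?_⟩
    change (biprod.fst : F ⊞ D.obj j ⟶ F).app p.1.1 ((kernel.ι φ).app p.1.1 k) = p.2
    rw [hk]
    exact fst_app_inl_add_inr _ _ _
  choose! kk hkk using hk
  let σ : Finset (Pt (kernel φ : X.Modules)) := T.image fun p => (⟨p.1, kk p⟩ : Pt (kernel φ : X.Modules))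
  let Q : X.Modules := ((QCohColim.A (kernel φ : X.Modules) σ : Subobject (kernel φ : X.Modules)) : X.Modules)
  have hQ : Coh.IsCoh Q := isCoh_A (kernel φ : X.Modules) σ
  haveI : Q.IsQuasicoherent := hQ.1
  haveI : SheafOfModules.IsFiniteType.{u} (R := X.ringCatSheaf) Q := hQ.2
  let ar : Q ⟶ (kernel φ : X.Modules) := (QCohColim.A (kernel φ : X.Modules) σ).arrow
  let q : Q ⟶ F := ar ≫ kernel.ι φ ≫ biprod.fst
  let a : Q ⟶ D.obj j := ar ≫ kernel.ι φ ≫ biprod.snd
  have hcompat : q ≫ f = a ≫ ιj := by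
    have h0 : kernel.ι φ ≫ φ = 0 := kernel.condition φ
    have h1 : kernel.ι φ ≫ biprod.fst ≫ f = kernel.ι φ ≫ biprod.snd ≫ ιj := by
      rw [← sub_eq_zero, ← Preadditive.comp_sub]
      exact h0
    simp only [q, a, Category.assoc]
    rw [h1]
  haveI hqepi : Epi q := by
    refine hTepi Q q fun p hp => ?_
    have hmem : (⟨p.1, kk p⟩ : Pt (kernel φ : X.Modules)) ∈ σ := Finset.mem_image.mpr ⟨p, hp, rfl⟩
    obtain ⟨a₀, ha₀⟩ := exists_A_app_eq (kernel φ : X.Modules) σ ⟨p.1, kk p⟩ hmem
    refine ⟨a₀, ?_⟩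
    change (kernel.ι φ ≫ biprod.fst).app p.1.1 (ar.app p.1.1 a₀) = p.2
    have ha₀' : ar.app p.1.1 a₀ = kk p := ha₀
    rw [ha₀']
    exact hkk p hp
  -- the kernel of `q` is of finite type and dies at a later stage
  haveI hKq : (kernel q : X.Modules).IsQuasicoherent := isQuasicoherent_kernel q
  haveI hKft : SheafOfModules.IsFiniteType.{u} (R := X.ringCatSheaf) (kernel q : X.Modules) :=
    Groth.Agent.Lib.Helper25.QuotFactor.isFiniteType_kernel_of_fp q
  have hzero : (kernel.ι q ≫ a) ≫ c.ι.app j = 0 := by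
    change (kernel.ι q ≫ a) ≫ ιj = 0
    rw [Category.assoc, ← hcompat, ← Category.assoc, kernel.condition, zero_comp]
  obtain ⟨k, u, hku⟩ := exists_comp_map_eq_zero hc (kernel q : X.Modules) j (kernel.ι q ≫ a) hzero
  have hku' : kernel.ι q ≫ (a ≫ D.map u) = 0 := by rw [← Category.assoc]; exact hku
  refine ⟨k, Abelian.epiDesc q (a ≫ D.map u) hku', ?_⟩
  rw [← cancel_epi q, ← Category.assoc, Abelian.comp_epiDesc, Category.assoc, c.w, hcompat]

end Filtered

/-- a retract of a finitely presented module is finitely presented -/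
theorem isFP_of_retract {F G : X.Modules}
    [SheafOfModules.IsFinitePresentation.{u} (R := X.ringCatSheaf) G] (i : F ⟶ G) (p : G ⟶ F)
    (h : i ≫ p = 𝟙 F) : SheafOfModules.IsFinitePresentation.{u} (R := X.ringCatSheaf) F := by
  haveI : G.IsQuasicoherent := isQuasicoherent_of_isFinitePresentation G
  haveI : SheafOfModules.IsFiniteType.{u} (R := X.ringCatSheaf) G := inferInstance
  let e : G ⟶ G := 𝟙 G - p ≫ i
  have he : e ≫ p = 0 := by
    simp only [e, Preadditive.sub_comp, Category.id_comp, Category.assoc, h, Category.comp_id, sub_self]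
  have hcol : IsColimit (CokernelCofork.ofπ p he) :=
    CokernelCofork.IsColimit.ofπ p he (fun {T} s _ => i ≫ s)
      (fun {T} s hs => by
        have : s = (p ≫ i) ≫ s := by
          have h1 : e ≫ s = 0 := hs
          simp only [e, Preadditive.sub_comp, Category.id_comp] at h1
          exact sub_eq_zero.mp h1
        rw [Category.assoc] at this
        exact this.symm)
      (fun {T} s hs m hm => by
        rw [← hm, ← Category.assoc, h, Category.id_comp])
  let iso : (cokernel e : X.Modules) ≅ F := (cokernelIsCokernel e).coconePointUniqueUpToIso hcol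
  haveI hfp : SheafOfModules.IsFinitePresentation.{u} (R := X.ringCatSheaf) (cokernel e : X.Modules) :=
    isFP_cokernel e
  haveI hq : (cokernel e : X.Modules).IsQuasicoherent :=
    isQuasicoherent_of_isFinitePresentation (cokernel e : X.Modules)
  rw [isFinitePresentation_iff]
  refine ⟨(SheafOfModules.isQuasicoherent.{u} X.ringCatSheaf).prop_of_iso iso hq, fun U hU => ?_⟩
  haveI := fp_of_isAffineOpen (cokernel e : X.Modules) hU
  exact Module.FinitePresentation.of_equiv (Groth.Agent.Lib.Helper29.ThickVanish.appLinEquiv iso U)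

end Groth.Agent.Lib.Helper21.QCohCompact
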