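import Mathlib
import Groth.Prelude.Def_FlatMod2
import Groth.Agent.Lib.Helper17.FlatDict2
import Groth.Agent.Lib.Helper16.Fl1
import Groth.Agent.Lib.Helper16.StalkTor1
import Groth.Agent.Lib.Helper16.QCohSigma
import Groth.Agent.Lib.Helper28.ModIsoCover
import Groth.Agent.Lib.Helper28.BiprodQC
import Groth.Agent.Lib.Helper28.QCohPush
import Groth.Agent.Lib.Helper7.FPKerScheme
import Groth.Agent.Lib.Helper21.QCohCompact2
import Groth.Agent.Lib.Helper5.FlatKer
import Groth.Agent.Lib.helper11.GenFlatBasic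

/-!
# Helper21 — FlatCov1: the fibre-product step for flat quasi-coherent covers

For morphisms `η : G ⟶ B`, `ε : A ⟶ B` of quasi-coherent modules, the kernel `K` of
`biprod.desc η ε : G ⊞ A ⟶ B` (the fibre product up to sign) is quasi-coherent, maps onto `G`
when `ε` is surjective on sections over affines, has flat sections over an affine `W` when `G`, `A`, `B`
do, and has flat sections over `W` when `η` is bijective on `W` and `A` has flat sections there.
-/

set_option backward.isDefEq.respectTransparency.types false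
set_option autoImplicit false
set_option linter.style.haveILetI false
set_option linter.unusedVariables false
universe u
open AlgebraicGeometry CategoryTheory CategoryTheory.Limits TopologicalSpace Opposite

namespace Groth.Agent.Lib.Helper21.FlatCov

open Groth.Agent.Lib.Helper28.QCohLoc Groth.Agent.Lib.Helper17.CohKer
  Groth.Agent.Lib.Helper7.FPKer Groth.Agent.Lib.Helper21.QCohCompact

variable {X : Scheme.{u}} {G A B : X.Modules} (η : G ⟶ B) (ε : A ⟶ B)

/-- the (anti-)fibre product of `η` and `ε`. -/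
noncomputable abbrev φ : G ⊞ A ⟶ B := biprod.desc η ε

theorem φ_app (W : X.Opens) (z : Γ(G ⊞ A, W)) :
    (φ η ε).app W z = η.app W ((biprod.fst : G ⊞ A ⟶ G).app W z) +
      ε.app W ((biprod.snd : G ⊞ A ⟶ A).app W z) := by
  have h : φ η ε = biprod.fst ≫ η + biprod.snd ≫ ε := by
    apply biprod.hom_ext' <;> simp
  rw [h]
  rfl

theorem total_app (W : X.Opens) (z : Γ(G ⊞ A, W)) :
    (biprod.inl : G ⟶ G ⊞ A).app W ((biprod.fst : G ⊞ A ⟶ G).app W z) +
      (biprod.inr : A ⟶ G ⊞ A).app W ((biprod.snd : G ⊞ A ⟶ A).app W z) = z := by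
  have h := congrArg (fun ψ => (Scheme.Modules.Hom.app ψ W) z)
    (biprod.total : (biprod.fst : G ⊞ A ⟶ G) ≫ biprod.inl + biprod.snd ≫ biprod.inr = 𝟙 _)
  exact h

theorem isQuasicoherent_K [G.IsQuasicoherent] [A.IsQuasicoherent] [B.IsQuasicoherent] :
    (kernel (φ η ε) : X.Modules).IsQuasicoherent :=
  isQuasicoherent_kernel _

theorem epi_ρ (hε : ∀ W : X.Opens, IsAffineOpen W → Function.Surjective (ε.app W))
    [G.IsQuasicoherent] :
    Epi (kernel.ι (φ η ε) ≫ biprod.fst) := by
  refine epi_of_affine_cover _ (fun W : X.affineOpens => W.1) (fun W => W.2) ?_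
    (fun W => isLocOn_of_isQuasicoherent G W.2) ?_
  · intro x
    obtain ⟨W, hW, hx, -⟩ := Opens.isBasis_iff_nbhd.mp (Scheme.isBasis_affineOpens X)
      (U := ⊤) (x := x) trivial
    exact ⟨⟨W, hW⟩, hx⟩
  · intro W g
    obtain ⟨a, ha⟩ := hε W.1 W.2 (- η.app W.1 g)
    let z : Γ(G ⊞ A, W.1) := (biprod.inl : G ⟶ G ⊞ A).app W.1 g + (biprod.inr : A ⟶ G ⊞ A).app W.1 a
    have hz : (φ η ε).app W.1 z = 0 := by
      rw [φ_app, fst_app_inl_add_inr, snd_app_inl_add_inr, ha, add_neg_cancel]
    obtain ⟨k, hk⟩ := exists_kernel_app_eq (φ η ε) W.1 z hz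
    refine ⟨k, ?_⟩
    change (biprod.fst : G ⊞ A ⟶ G).app W.1 ((kernel.ι (φ η ε)).app W.1 k) = g
    rw [hk]
    exact fst_app_inl_add_inr _ _ _

/-- sections of a biproduct are flat when the sections of the summands are. -/
theorem flat_biprod (W : X.Opens) [Module.Flat Γ(X, W) Γ(G, W)] [Module.Flat Γ(X, W) Γ(A, W)] :
    Module.Flat Γ(X, W) Γ(G ⊞ A, W) := by
  refine Groth.Agent.Lib.helper11.GenFlat.flat_of_exact_flat_flat
    (appLinear (biprod.inr : A ⟶ G ⊞ A) W) (appLinear (biprod.fst : G ⊞ A ⟶ G) W) ?_ ?_ ?_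
  · intro a a' h
    have h1 := snd_app_inl_add_inr (A := G) (B := A) W 0 a
    have h2 := snd_app_inl_add_inr (A := G) (B := A) W 0 a'
    rw [map_zero, zero_add] at h1 h2
    have h' : (biprod.inr : A ⟶ G ⊞ A).app W a = (biprod.inr : A ⟶ G ⊞ A).app W a' := h
    rw [← h1, ← h2, h']
  · intro g
    refine ⟨(biprod.inl : G ⟶ G ⊞ A).app W g, ?_⟩
    have h1 := fst_app_inl_add_inr (A := G) (B := A) W g 0
    rw [map_zero, add_zero] at h1
    exact h1
  · intro z
    constructor
    · intro hz
      have hz' : (biprod.fst : G ⊞ A ⟶ G).app W z = 0 := hz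
      refine ⟨(biprod.snd : G ⊞ A ⟶ A).app W z, ?_⟩
      have h := total_app W z
      rw [hz', map_zero, zero_add] at h
      exact h
    · rintro ⟨a, rfl⟩
      have h1 := fst_app_inl_add_inr (A := G) (B := A) W 0 a
      rw [map_zero, zero_add] at h1
      exact h1

theorem φ_app_inl_add_inr (W : X.Opens) (g : Γ(G, W)) (a : Γ(A, W)) :
    (φ η ε).app W ((biprod.inl : G ⟶ G ⊞ A).app W g + (biprod.inr : A ⟶ G ⊞ A).app W a) =
      η.app W g + ε.app W a := by
  rw [φ_app, fst_app_inl_add_inr, snd_app_inl_add_inr]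

/-- flat sections of the fibre product over an affine open where all three modules have flat sections. -/
theorem flat_K_of_flat (W : X.Opens) (hε : Function.Surjective (ε.app W))
    [Module.Flat Γ(X, W) Γ(G, W)] [Module.Flat Γ(X, W) Γ(A, W)] [Module.Flat Γ(X, W) Γ(B, W)] :
    Module.Flat Γ(X, W) Γ((kernel (φ η ε) : X.Modules), W) := by
  haveI := flat_biprod (G := G) (A := A) W
  refine Groth.Agent.Lib.Helper5.flat_of_exact_of_flat
    (appLinear (kernel.ι (φ η ε)) W) (appLinear (φ η ε) W) ?_ ?_ ?_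
  · exact kernel_ι_app_injective (φ η ε) W
  · intro t
    obtain ⟨a, rfl⟩ := hε t
    refine ⟨(biprod.inl : G ⟶ G ⊞ A).app W 0 + (biprod.inr : A ⟶ G ⊞ A).app W a, ?_⟩
    change (φ η ε).app W _ = _
    rw [φ_app_inl_add_inr, map_zero, zero_add]
  · intro z
    constructor
    · intro hz
      obtain ⟨k, hk⟩ := exists_kernel_app_eq (φ η ε) W z hz
      exact ⟨k, hk⟩
    · rintro ⟨k, rfl⟩
      exact app_kernel_ι_app (φ η ε) W k

/-- flat sections of the fibre product over an open where `η` is bijective. -/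
theorem flat_K_of_bijective (W : X.Opens) (hη : Function.Bijective (η.app W))
    [Module.Flat Γ(X, W) Γ(A, W)] :
    Module.Flat Γ(X, W) Γ((kernel (φ η ε) : X.Modules), W) := by
  let p : Γ((kernel (φ η ε) : X.Modules), W) →ₗ[Γ(X, W)] Γ(A, W) :=
    (appLinear (biprod.snd : G ⊞ A ⟶ A) W).comp (appLinear (kernel.ι (φ η ε)) W)
  have hp : ∀ k, p k = (biprod.snd : G ⊞ A ⟶ A).app W ((kernel.ι (φ η ε)).app W k) := fun _ => rfl
  have hbij : Function.Bijective p := by
    constructor
    · rw [injective_iff_map_eq_zero]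
      intro k hk
      rw [hp] at hk
      have h0 := app_kernel_ι_app (φ η ε) W k
      have h0' : (φ η ε).app W ((kernel.ι (φ η ε)).app W k) = 0 := h0
      rw [φ_app, hk, map_zero, add_zero] at h0'
      have h1 : (biprod.fst : G ⊞ A ⟶ G).app W ((kernel.ι (φ η ε)).app W k) = 0 := by
        apply hη.1
        rw [h0', map_zero]
      have h2 := total_app W ((kernel.ι (φ η ε)).app W k)
      rw [h1, hk, map_zero, map_zero, add_zero] at h2
      apply kernel_ι_app_injective (φ η ε) W
      rw [← h2, map_zero]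
    · intro a
      obtain ⟨g, hg⟩ := hη.2 (- ε.app W a)
      have hz : (φ η ε).app W ((biprod.inl : G ⟶ G ⊞ A).app W g +
          (biprod.inr : A ⟶ G ⊞ A).app W a) = 0 := by
        rw [φ_app_inl_add_inr, hg, neg_add_cancel]
      obtain ⟨k, hk⟩ := exists_kernel_app_eq (φ η ε) W _ hz
      refine ⟨k, ?_⟩
      rw [hp, hk]
      exact snd_app_inl_add_inr _ _ _
  exact Module.Flat.of_linearEquiv (LinearEquiv.ofBijective p hbij)

end Groth.Agent.Lib.Helper21.FlatCov
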