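import Groth.Agent.Lib.Helper21.FlatCov1

/-!
# Helper21 — FlatCov2: flatness of sections of pushforwards along flat / open immersions, and the
induction step for flat quasi-coherent covers.
-/

set_option backward.isDefEq.respectTransparency.types false
set_option autoImplicit false
set_option linter.style.haveILetI false
set_option linter.unusedVariables false
universe u
open AlgebraicGeometry CategoryTheory CategoryTheory.Limits TopologicalSpace Opposite

namespace Groth.Agent.Lib.Helper21.FlatCov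

open Groth.Agent.Lib.Helper28.QCohLoc Groth.Agent.Lib.Helper17.CohKer
  Groth.Agent.Lib.Helper7.FPKer Groth.Agent.Lib.Helper21.QCohCompact
  Groth.Agent.Lib.Helper17.FlatDict2

noncomputable section

variable {X Y : Scheme.{u}}

/-- restriction between affine opens is flat -/
theorem flat_res {W W' : X.Opens} (hW : IsAffineOpen W) (hW' : IsAffineOpen W') (h : W' ≤ W) :
    (X.presheaf.map (homOfLE h).op).hom.Flat := by
  have := HasRingHomProperty.appLE (P := @Flat) (𝟙 X) inferInstance ⟨W, hW⟩ ⟨W', hW'⟩ h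
  have e : (𝟙 X : X ⟶ X).appLE W W' h = X.presheaf.map (homOfLE h).op := by
    unfold Scheme.Hom.appLE
    rw [Scheme.Hom.id_app]
    exact Category.id_comp _
  rwa [e] at this

/-- free modules are flat -/
theorem isFlat_free (I : Type u) : FlatMod.IsFlat (SheafOfModules.free I : X.Modules) :=
  Groth.Agent.Lib.Helper16.Stk.isFlat_sigma _
    (fun _ x => Module.Flat.of_linearEquiv (Groth.Agent.Lib.Helper16.StalkTor.e X x).symm)

/-- sections of the pushforward of a flat quasi-coherent module along a flat morphism are flat over an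
affine open with affine preimage. -/
theorem flat_pushforward_sections (f : Y ⟶ X) [Flat f] (L : Y.Modules) [L.IsQuasicoherent]
    (hL : FlatMod.IsFlat L) {W : X.Opens} (hW : IsAffineOpen W) (hV : IsAffineOpen (f ⁻¹ᵁ W)) :
    Module.Flat Γ(X, W) Γ((Scheme.Modules.pushforward f).obj L, W) := by
  have h1 : Module.Flat Γ(Y, f ⁻¹ᵁ W) Γ(L, f ⁻¹ᵁ W) :=
    (flat_sections_iff_isFlatAt L hV).2 (fun x _ => hL x)
  have h2 : (f.app W).hom.Flat := by
    have := HasRingHomProperty.appLE (P := @Flat) f inferInstance ⟨W, hW⟩ ⟨_, hV⟩ le_rfl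
    rwa [← Scheme.Hom.app_eq_appLE] at this
  letI : Algebra Γ(X, W) Γ(Y, f ⁻¹ᵁ W) := (f.app W).hom.toAlgebra
  letI : Module Γ(X, W) Γ(L, f ⁻¹ᵁ W) :=
    inferInstanceAs (Module Γ(X, W) Γ((Scheme.Modules.pushforward f).obj L, W))
  haveI : IsScalarTower Γ(X, W) Γ(Y, f ⁻¹ᵁ W) Γ(L, f ⁻¹ᵁ W) :=
    IsScalarTower.of_algebraMap_smul fun r m => rfl
  haveI : Module.Flat Γ(X, W) Γ(Y, f ⁻¹ᵁ W) := h2
  exact Module.Flat.trans Γ(X, W) Γ(Y, f ⁻¹ᵁ W) Γ(L, f ⁻¹ᵁ W)

/-- sections of `f_* f^* G` along an open immersion are flat over an affine open `W` when `G` is flat at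
the points of the affine open `f(f⁻¹ W)`. -/
theorem flat_pushforward_restrict_sections (f : Y ⟶ X) [IsOpenImmersion f] (G : X.Modules)
    [G.IsQuasicoherent] {W : X.Opens} (hW : IsAffineOpen W)
    (hW' : IsAffineOpen (f ''ᵁ (f ⁻¹ᵁ W)))
    (hG : ∀ x ∈ f ''ᵁ (f ⁻¹ᵁ W), FlatMod.IsFlatAt G x) :
    Module.Flat Γ(X, W) Γ((Scheme.Modules.pushforward f).obj (G.restrict f), W) := by
  have h1 : Module.Flat Γ(X, f ''ᵁ (f ⁻¹ᵁ W)) Γ(G, f ''ᵁ (f ⁻¹ᵁ W)) :=
    (flat_sections_iff_isFlatAt G hW').2 hG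
  have h2 : (f.app W ≫ (f.appIso (f ⁻¹ᵁ W)).inv).hom.Flat := by
    rw [Scheme.Hom.app_appIso_inv]
    exact flat_res hW hW' (f.image_preimage_le W)
  letI : Algebra Γ(X, W) Γ(X, f ''ᵁ (f ⁻¹ᵁ W)) := (f.app W ≫ (f.appIso (f ⁻¹ᵁ W)).inv).hom.toAlgebra
  letI : Module Γ(X, W) Γ(G, f ''ᵁ (f ⁻¹ᵁ W)) :=
    inferInstanceAs (Module Γ(X, W) Γ((Scheme.Modules.pushforward f).obj (G.restrict f), W))
  haveI : IsScalarTower Γ(X, W) Γ(X, f ''ᵁ (f ⁻¹ᵁ W)) Γ(G, f ''ᵁ (f ⁻¹ᵁ W)) :=
    IsScalarTower.of_algebraMap_smul fun r m => rfl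
  haveI : Module.Flat Γ(X, W) Γ(X, f ''ᵁ (f ⁻¹ᵁ W)) := h2
  exact Module.Flat.trans Γ(X, W) Γ(X, f ''ᵁ (f ⁻¹ᵁ W)) Γ(G, f ''ᵁ (f ⁻¹ᵁ W))

theorem bijective_presheaf_map (G : X.Modules) {W W' : X.Opens} (h : W' ≤ W) (h' : W ≤ W') :
    Function.Bijective (G.presheaf.map (homOfLE h).op) := by
  rw [Function.bijective_iff_has_inverse]
  refine ⟨G.presheaf.map (homOfLE h').op, ?_, ?_⟩
  · intro x
    rw [← ConcreteCategory.comp_apply, ← Functor.map_comp]
    have : (homOfLE h).op ≫ (homOfLE h').op = 𝟙 _ := Subsingleton.elim _ _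
    rw [this, CategoryTheory.Functor.map_id]
    rfl
  · intro x
    rw [← ConcreteCategory.comp_apply, ← Functor.map_comp]
    have : (homOfLE h').op ≫ (homOfLE h).op = 𝟙 _ := Subsingleton.elim _ _
    rw [this, CategoryTheory.Functor.map_id]
    rfl

/-- the unit `G ⟶ f_* f^* G` is bijective on sections over opens inside the image. -/
theorem bijective_unit_app (f : Y ⟶ X) [IsOpenImmersion f] (G : X.Modules) (W : X.Opens)
    (h : W ≤ f ''ᵁ (f ⁻¹ᵁ W)) :
    Function.Bijective (((Scheme.Modules.restrictAdjunction f).unit.app G).app W) :=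
  bijective_presheaf_map G (f.image_preimage_le W) h

end

end Groth.Agent.Lib.Helper21.FlatCov
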