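import Groth.Agent.Lib.Helper21.FlatCov2

/-!
# Helper21 — FlatCov3: flat quasi-coherent covers on quasi-compact schemes with affine intersections
-/

set_option backward.isDefEq.respectTransparency.types false
set_option autoImplicit false
set_option linter.style.haveILetI false
set_option linter.unusedVariables false
universe u
open AlgebraicGeometry CategoryTheory CategoryTheory.Limits TopologicalSpace Opposite

namespace Groth.Agent.Lib.Helper21.FlatCov

open Groth.Agent.Lib.Helper28.QCohLoc Groth.Agent.Lib.Helper17.CohKer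
  Groth.Agent.Lib.Helper7.FPKer Groth.Agent.Lib.Helper21.QCohCompact
  Groth.Agent.Lib.Helper17.FlatDict2

noncomputable section

variable {X : Scheme.{u}}

/-- **The induction step.** `U` affine open meeting every affine open in an affine open, `G`
quasi-coherent: there is a quasi-coherent `G'` mapping onto `G`, flat at the points of `U`, and flat at
the points of every affine open at whose points `G` is flat. -/
theorem step (U : X.Opens) (hU : IsAffineOpen U)
    (hd : ∀ W : X.Opens, IsAffineOpen W → IsAffineOpen (U ⊓ W))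
    (G : X.Modules) [G.IsQuasicoherent] :
    ∃ (G' : X.Modules) (ρ : G' ⟶ G), G'.IsQuasicoherent ∧ Epi ρ ∧
      (∀ x ∈ U, FlatMod.IsFlatAt G' x) ∧
      (∀ W : X.Opens, IsAffineOpen W → (∀ x ∈ W, FlatMod.IsFlatAt G x) →
        ∀ x ∈ W, FlatMod.IsFlatAt G' x) := by
  have himg : ∀ W : X.Opens, U.ι ''ᵁ (U.ι ⁻¹ᵁ W) = U ⊓ W := fun W => by
    rw [Scheme.Hom.image_preimage_eq_opensRange_inf, Scheme.Opens.opensRange_ι]
  have haff' : ∀ W : X.Opens, IsAffineOpen W → IsAffineOpen (U.ι ''ᵁ (U.ι ⁻¹ᵁ W)) := fun W hW => by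
    rw [himg]; exact hd W hW
  have haffV : ∀ W : X.Opens, IsAffineOpen W → IsAffineOpen (U.ι ⁻¹ᵁ W) := fun W hW =>
    (Scheme.Hom.isAffineOpen_iff_of_isOpenImmersion U.ι).1 (haff' W hW)
  haveI : IsAffine U.toScheme := hU
  haveI : IsAffineHom U.ι := ⟨fun W hW => haffV W hW⟩
  let N : U.toScheme.Modules := G.restrict U.ι
  haveI : N.IsQuasicoherent := inferInstance
  let L : U.toScheme.Modules := SheafOfModules.free (N.val.obj (op ⊤))
  haveI : L.IsQuasicoherent := inferInstance
  let ε : L ⟶ N := fromFree N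
  haveI : Epi ε := epi_fromFree_of_isQuasiAffine N
  have hL : FlatMod.IsFlat L := isFlat_free _
  let A : X.Modules := (Scheme.Modules.pushforward U.ι).obj L
  let B : X.Modules := (Scheme.Modules.pushforward U.ι).obj N
  haveI : A.IsQuasicoherent := isQuasicoherent_pushforward U.ι L
  haveI : B.IsQuasicoherent := isQuasicoherent_pushforward U.ι N
  let η : G ⟶ B := (Scheme.Modules.restrictAdjunction U.ι).unit.app G
  let ε' : A ⟶ B := (Scheme.Modules.pushforward U.ι).map ε
  have hε' : ∀ W : X.Opens, IsAffineOpen W → Function.Surjective (ε'.app W) := fun W hW =>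
    app_surjective_of_epi ε (haffV W hW)
  haveI hK : (kernel (φ η ε') : X.Modules).IsQuasicoherent := isQuasicoherent_K η ε'
  refine ⟨(kernel (φ η ε') : X.Modules), kernel.ι _ ≫ biprod.fst, hK, epi_ρ η ε' hε', ?_, ?_⟩
  · intro x hx
    refine (flat_sections_iff_isFlatAt _ hU).1 ?_ x hx
    haveI : Module.Flat Γ(X, U) Γ(A, U) := flat_pushforward_sections U.ι L hL hU (haffV U hU)
    refine flat_K_of_bijective η ε' U (bijective_unit_app U.ι G U ?_)
    rw [himg, inf_idem]
  · intro W hW hG x hx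
    refine (flat_sections_iff_isFlatAt _ hW).1 ?_ x hx
    haveI : Module.Flat Γ(X, W) Γ(G, W) := (flat_sections_iff_isFlatAt G hW).2 hG
    haveI : Module.Flat Γ(X, W) Γ(A, W) := flat_pushforward_sections U.ι L hL hW (haffV W hW)
    haveI : Module.Flat Γ(X, W) Γ(B, W) :=
      flat_pushforward_restrict_sections U.ι G hW (haff' W hW)
        (fun y hy => hG y (U.ι.image_preimage_le W hy))
    exact flat_K_of_flat η ε' W (hε' W hW)

/-- **Flat quasi-coherent covers.** -/
theorem main [CompactSpace X]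
    (hd : ∀ V W : X.Opens, IsAffineOpen V → IsAffineOpen W → IsAffineOpen (V ⊓ W))
    (M : X.Modules) (hM : M.IsQuasicoherent) :
    ∃ (F : X.Modules) (π : F ⟶ M), F.IsQuasicoherent ∧ FlatMod.IsFlat F ∧ Epi π := by
  have key : ∀ s : Finset X.affineOpens, ∃ (F : X.Modules) (π : F ⟶ M), F.IsQuasicoherent ∧ Epi π ∧
      ∀ U ∈ s, ∀ x ∈ U.1, FlatMod.IsFlatAt F x := by
    intro s
    classical
    induction s using Finset.induction_on with
    | empty => exact ⟨M, 𝟙 M, hM, inferInstance, fun U hU => absurd hU (Finset.notMem_empty U)⟩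
    | insert U s hUs ih =>
      obtain ⟨F, π, hF, hπ, hflat⟩ := ih
      haveI := hF
      obtain ⟨F', ρ, hF', hρ, h1, h2⟩ := step U.1 U.2 (fun W hW => hd U.1 W U.2 hW) F
      refine ⟨F', ρ ≫ π, hF', epi_comp _ _, ?_⟩
      intro V hV x hx
      rcases Finset.mem_insert.1 hV with rfl | hV
      · exact h1 x hx
      · exact h2 V.1 V.2 (hflat V hV) x hx
  obtain ⟨s, hs⟩ : ∃ s : Finset X.affineOpens, ∀ x : X, ∃ U ∈ s, x ∈ U.1 := by
    have hc : IsCompact (Set.univ : Set X) := isCompact_univ
    obtain ⟨s, hs⟩ := hc.elim_finite_subcover (fun U : X.affineOpens => (U.1 : Set X))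
      (fun U => U.1.2) (by
        intro x _
        obtain ⟨W, hW, hx, -⟩ := Opens.isBasis_iff_nbhd.mp (Scheme.isBasis_affineOpens X)
          (U := ⊤) (x := x) trivial
        exact Set.mem_iUnion.2 ⟨⟨W, hW⟩, hx⟩)
    refine ⟨s, fun x => ?_⟩
    obtain ⟨U, hU, hx⟩ := Set.mem_iUnion₂.1 (hs (Set.mem_univ x))
    exact ⟨U, hU, hx⟩
  obtain ⟨F, π, hF, hπ, hflat⟩ := key s
  refine ⟨F, π, hF, fun x => ?_, hπ⟩
  obtain ⟨U, hU, hx⟩ := hs x
  exact hflat U hU x hx

end

end Groth.Agent.Lib.Helper21.FlatCov
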