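import Mathlib
import Groth.Agent.Lib.Helper21.FlatDescL

open AlgebraicGeometry CategoryTheory Limits TopologicalSpace

/-!
# Helper21 — FlatDescN: for a quasi-compact morphism `f : X ⟶ Y` and an open `W ⊆ X`, the set of
`y` all of whose generizations have fibre inside `W` is open (`isOpen_forall_generization`).
-/

namespace Groth.Agent.Lib.Helper21.FlatDesc

universe u

variable {X Y : Scheme.{u}}

/-- affine piece: for affine opens `U ≤ f⁻¹V` and an open `W ⊆ X`, the set of `v ∈ V` such that all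
points of `U` lying over generizations of `v` are in `W` is open. -/
theorem isOpen_forall_generization_affine (f : X ⟶ Y) {U : X.Opens} {V : Y.Opens}
    (hU : IsAffineOpen U) (hV : IsAffineOpen V) (hUV : U ≤ f ⁻¹ᵁ V) (W : Set X) (hW : IsOpen W) :
    IsOpen {v : Y | v ∈ V ∧ ∀ v' : Y, v' ⤳ v → ∀ x : X, x ∈ U → f x = v' → x ∈ W} := by
  let φ := (f.appLE V U hUV).hom
  have hcl : IsClosed (hU.fromSpec ⁻¹' Wᶜ) := hW.isClosed_compl.preimage hU.fromSpec.continuous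
  obtain ⟨J, hJ⟩ := (PrimeSpectrum.isClosed_iff_zeroLocus_ideal _).1 hcl
  have hJmem : ∀ Q : PrimeSpectrum Γ(X, U), hU.fromSpec Q ∉ W ↔ J ≤ Q.asIdeal := by
    intro Q
    have : Q ∈ hU.fromSpec ⁻¹' Wᶜ ↔ J ≤ Q.asIdeal := by
      rw [hJ]; exact PrimeSpectrum.mem_zeroLocus _ _
    exact this
  have hcomm : ∀ Q : PrimeSpectrum Γ(X, U),
      f (hU.fromSpec Q) = hV.fromSpec (PrimeSpectrum.comap φ Q) := by
    intro Q
    have := IsAffineOpen.SpecMap_appLE_fromSpec f hV hU hUV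
    have h2 := congrArg (fun g => g Q) this
    exact h2.symm
  have hspec : ∀ P P' : PrimeSpectrum Γ(Y, V), hV.fromSpec P' ⤳ hV.fromSpec P ↔ P'.asIdeal ≤ P.asIdeal := by
    intro P P'
    rw [hV.fromSpec.isOpenEmbedding.isInducing.specializes_iff]
    exact (PrimeSpectrum.le_iff_specializes P' P).symm
  have : {v : Y | v ∈ V ∧ ∀ v' : Y, v' ⤳ v → ∀ x : X, x ∈ U → f x = v' → x ∈ W} =
      hV.fromSpec '' (PrimeSpectrum.zeroLocus (J.comap φ : Set Γ(Y, V)))ᶜ := by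
    ext v
    constructor
    · rintro ⟨hvV, H⟩
      refine ⟨hV.primeIdealOf ⟨v, hvV⟩, ?_, hV.fromSpec_primeIdealOf ⟨v, hvV⟩⟩
      intro hmem
      replace hmem : J.comap φ ≤ (hV.primeIdealOf ⟨v, hvV⟩).asIdeal := hmem
      obtain ⟨Q, hJQ, hQ, hQP⟩ := (hV.primeIdealOf ⟨v, hvV⟩).asIdeal.exists_ideal_comap_le_prime J hmem
      have hx : hU.fromSpec ⟨Q, hQ⟩ ∈ U := by
        rw [← SetLike.mem_coe, ← hU.range_fromSpec]; exact ⟨_, rfl⟩
      have e : hV.fromSpec (hV.primeIdealOf ⟨v, hvV⟩) = v := hV.fromSpec_primeIdealOf ⟨v, hvV⟩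
      have hsp : f (hU.fromSpec ⟨Q, hQ⟩) ⤳ v := by
        have := (hspec (hV.primeIdealOf ⟨v, hvV⟩) (PrimeSpectrum.comap φ ⟨Q, hQ⟩)).2 hQP
        rw [e] at this
        rw [hcomm]
        exact this
      exact (hJmem ⟨Q, hQ⟩).2 hJQ (H _ hsp _ hx rfl)
    · rintro ⟨P, hP, rfl⟩
      refine ⟨by rw [← SetLike.mem_coe, ← hV.range_fromSpec]; exact ⟨_, rfl⟩, ?_⟩
      intro v' hv' x hxU hfx
      by_contra hxW
      apply hP
      show J.comap φ ≤ P.asIdeal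
      have hxQ : hU.fromSpec (hU.primeIdealOf ⟨x, hxU⟩) = x := hU.fromSpec_primeIdealOf ⟨x, hxU⟩
      have hJQ := (hJmem (hU.primeIdealOf ⟨x, hxU⟩)).1 (by rw [hxQ]; exact hxW)
      have h1 : f x = hV.fromSpec (PrimeSpectrum.comap φ (hU.primeIdealOf ⟨x, hxU⟩)) := by
        rw [← hcomm, hxQ]
      rw [← hfx, h1, hspec] at hv'
      exact (Ideal.comap_mono hJQ).trans hv'
  rw [this]
  exact hV.fromSpec.isOpenEmbedding.isOpenMap _ (PrimeSpectrum.isClosed_zeroLocus _).isOpen_compl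


/-- For a quasi-compact morphism `f : X ⟶ Y` and an open `W ⊆ X`, the set of `y` such that all points
of `X` over generizations of `y` are in `W` is open. -/
theorem isOpen_forall_generization (f : X ⟶ Y) [QuasiCompact f] (W : Set X) (hW : IsOpen W) :
    IsOpen {y : Y | ∀ y' : Y, y' ⤳ y → ∀ x : X, f x = y' → x ∈ W} := by
  rw [isOpen_iff_forall_mem_open]
  intro y hy
  obtain ⟨_, ⟨V, hV : IsAffineOpen V, rfl⟩, hyV, -⟩ :=
    Y.isBasis_affineOpens.exists_subset_of_mem_open (Set.mem_univ y) isOpen_univ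
  have hcomp : IsCompact (f ⁻¹ᵁ V : Set X) :=
    QuasiCompact.isCompact_preimage _ V.isOpen hV.isCompact
  obtain ⟨s, hs, hsU⟩ := (isCompact_iff_finite_and_eq_biUnion_affineOpens (U := f ⁻¹ᵁ V)).1 hcomp
  have hle : ∀ U ∈ s, (U : X.Opens) ≤ f ⁻¹ᵁ V := by
    intro U hU
    rw [hsU]
    exact le_iSup₂ (f := fun (i : X.affineOpens) (_ : i ∈ s) => (i : X.Opens)) U hU
  let N : Set Y := (V : Set Y) ∩ ⋂ U ∈ s,
    {v : Y | v ∈ V ∧ ∀ v' : Y, v' ⤳ v → ∀ x : X, x ∈ (U : X.Opens) → f x = v' → x ∈ W}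
  refine ⟨N, ?_, ?_, ?_⟩
  · rintro v ⟨hvV, hv⟩ v' hv' x hfx
    have hv'V : v' ∈ V := hv'.mem_open V.isOpen hvV
    have hx : x ∈ f ⁻¹ᵁ V := by
      show f x ∈ V
      rw [hfx]; exact hv'V
    rw [hsU] at hx
    obtain ⟨U, hxU⟩ := Opens.mem_iSup.1 hx
    obtain ⟨hUs, hxU⟩ := Opens.mem_iSup.1 hxU
    have := Set.mem_iInter₂.1 hv U hUs
    exact this.2 v' hv' x hxU hfx
  · refine V.isOpen.inter (hs.isOpen_biInter fun U hUs => ?_)
    exact isOpen_forall_generization_affine f U.2 hV (hle U hUs) W hW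
  · refine ⟨hyV, Set.mem_iInter₂.2 fun U _ => ⟨hyV, fun v' hv' x _ hfx => hy v' hv' x hfx⟩⟩

end Groth.Agent.Lib.Helper21.FlatDesc
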