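import Mathlib
import Groth.Agent.Lib.Helper21.FlatDescQ4
import Groth.Agent.Lib.Helper21.FlatDescQ9

namespace Groth.Agent.Lib.Helper21.FlatDesc

open TensorProduct Function IsLocalRing Pointwise RingTheory.Sequence

universe u

section Translate2

set_option maxHeartbeats 1600000 in
set_option synthInstance.maxHeartbeats 200000 in
theorem weaklyRegular_and_flat_local_quotients_global {A B : Type u} [CommRing A] [CommRing B] [Algebra A B]
    [Algebra.FinitePresentation A B] (M : Type u) [AddCommGroup M] [Module B M] [Module A M]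
    [IsScalarTower A B M]
    [Module.FinitePresentation B M] (q : Ideal B) [q.IsPrime] (g : List B) (hg : ∀ b ∈ g, b ∈ q)
    (hflat : Module.Flat A (LocalizedModule q.primeCompl M))
    (hreg : IsWeaklyRegular
      (LocalizedModule q.primeCompl (M ⊗[A] (q.comap (algebraMap A B)).ResidueField)) g) :
    IsWeaklyRegular (LocalizedModule q.primeCompl M) g ∧
      ∀ i ≤ g.length, Module.Flat A
        ((LocalizedModule q.primeCompl M) ⧸
          Ideal.ofList ((g.map (algebraMap B (Localization.AtPrime q))).take i) •
            (⊤ : Submodule (Localization.AtPrime q) (LocalizedModule q.primeCompl M))) := by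
  set p := q.comap (algebraMap A B) with hp
  let R := Localization.AtPrime p
  let S := Localization.AtPrime q
  let N := LocalizedModule q.primeCompl M
  letI algRS : Algebra R S := (Localization.localRingHom p q (algebraMap A B) rfl).toAlgebra
  haveI : IsLocalHom (algebraMap R S) := Localization.isLocalHom_localRingHom p q _ rfl
  haveI twARS : IsScalarTower A R S := IsScalarTower.of_algebraMap_eq fun a => by
    show algebraMap A S a = Localization.localRingHom p q (algebraMap A B) rfl (algebraMap A R a)
    rw [Localization.localRingHom_to_map, IsScalarTower.algebraMap_apply A B S]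
  letI modRN : Module R N := Module.compHom N (algebraMap R S)
  haveI twRSN : IsScalarTower R S N := IsScalarTower.of_algebraMap_smul fun _ _ => rfl
  haveI twARN : IsScalarTower A R N := ⟨fun a r n => by
    show algebraMap R S (a • r) • n = a • (algebraMap R S r • n)
    rw [Algebra.smul_def, map_mul, mul_smul, ← IsScalarTower.algebraMap_apply A R S,
      algebraMap_smul]⟩
  haveI flatRN : Module.Flat R N := (Module.flat_iff_of_isLocalization R p.primeCompl N).2 hflat
  obtain ⟨S₀, _, a, b, T, hab, ha, hloc⟩ := EssFP.localRingHom (algebraMap A B)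
    (RingHom.finitePresentation_algebraMap.2 inferInstance) q
  letI : Algebra R S₀ := a.toAlgebra
  letI : Algebra S₀ S := b.toAlgebra
  haveI : IsScalarTower R S₀ S := IsScalarTower.of_algebraMap_eq fun r => by
    show Localization.localRingHom p q (algebraMap A B) rfl r = b (a r)
    rw [hab]; rfl
  haveI : Algebra.FinitePresentation R S₀ := ha
  haveI : IsLocalization T S := hloc
  set g' : List S := g.map (algebraMap B S) with hg'
  have hg'm : ∀ s ∈ g', s ∈ maximalIdeal S := by
    intro s hs
    obtain ⟨b, hb, rfl⟩ := List.mem_map.1 hs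
    exact (IsLocalization.AtPrime.to_map_mem_maximal_iff S q b).2 (hg b hb)
  -- the fibre comparison
  haveI sccRB : SMulCommClass R B N := ⟨fun r b n => smul_comm (algebraMap R S r) b n⟩
  haveI sccBR : SMulCommClass B R N := SMulCommClass.symm _ _ _
  let κ := p.ResidueField
  let f1 : M ⊗[A] κ →ₗ[B] N ⊗[A] κ :=
    AlgebraTensorModule.rTensor A κ (LocalizedModule.mkLinearMap q.primeCompl M)
  haveI : IsLocalizedModule q.primeCompl f1 := inferInstance
  let e1 : LocalizedModule q.primeCompl (M ⊗[A] κ) ≃ₗ[B] N ⊗[A] κ :=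
    IsLocalizedModule.iso q.primeCompl f1
  haveI : TensorProduct.CompatibleSMul A R N κ :=
    IsLocalization.tensorProduct_compatibleSMul p.primeCompl R N κ
  let e2 : N ⊗[A] κ ≃ₗ[B] N ⊗[R] κ := TensorProduct.equivOfCompatibleSMul R A B N κ
  let e3 : N ⊗[R] κ ≃ₗ[R] N ⧸ (maximalIdeal R • ⊤ : Submodule R N) :=
    tensorQuotEquivQuotSMul N (maximalIdeal R)
  let e4 : (N ⧸ (maximalIdeal R • ⊤ : Submodule R N)) ≃ₗ[R]
      N ⧸ (((maximalIdeal R).map (algebraMap R S) • (⊤ : Submodule S N)).restrictScalars R) :=
    Submodule.quotEquivOfEq _ _ (by rw [Ideal.smul_restrictScalars, Submodule.restrictScalars_top])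
  let e5 : (N ⧸ (((maximalIdeal R).map (algebraMap R S) • (⊤ : Submodule S N)).restrictScalars R))
      ≃ₗ[R] N ⧸ ((maximalIdeal R).map (algebraMap R S) • (⊤ : Submodule S N)) :=
    Submodule.Quotient.restrictScalarsEquiv R _
  let e345 : N ⊗[R] κ ≃ₗ[R] N ⧸ ((maximalIdeal R).map (algebraMap R S) • (⊤ : Submodule S N)) :=
    e3 ≪≫ₗ e4 ≪≫ₗ e5
  have key345 : ∀ (n : N) (r : R),
      e345 (n ⊗ₜ[R] (Ideal.Quotient.mk (maximalIdeal R) r : κ)) =
        Submodule.Quotient.mk (r • n) := by
    intro n r
    have h3 : e3 (n ⊗ₜ[R] (Ideal.Quotient.mk (maximalIdeal R) r : κ)) =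
        Submodule.Quotient.mk (r • n) := tensorQuotEquivQuotSMul_tmul_mk (maximalIdeal R) n r
    show e5 (e4 (e3 (n ⊗ₜ[R] (Ideal.Quotient.mk (maximalIdeal R) r : κ)))) = _
    rw [h3]
    rfl
  have h345 : ∀ (b : B) (y : N ⊗[R] κ), e345 (b • y) = algebraMap B S b • e345 y := by
    intro b y
    induction y using TensorProduct.induction_on with
    | zero => simp
    | tmul n k =>
      obtain ⟨r, rfl⟩ := Ideal.Quotient.mk_surjective k
      rw [TensorProduct.smul_tmul', key345, key345, ← Submodule.Quotient.mk_smul, algebraMap_smul,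
        smul_comm]
    | add y z hy hz => rw [smul_add, map_add, map_add, smul_add, hy, hz]
  let e : LocalizedModule q.primeCompl (M ⊗[A] κ) ≃+
      N ⧸ ((maximalIdeal R).map (algebraMap R S) • (⊤ : Submodule S N)) :=
    (e1.toAddEquiv.trans e2.toAddEquiv).trans e345.toAddEquiv
  have he : ∀ (b : B) x, e (b • x) = algebraMap B S b • e x := by
    intro b x
    show e345 (e2 (e1 (b • x))) = algebraMap B S b • e345 (e2 (e1 x))
    rw [map_smul, map_smul, h345]
  have hfib : IsWeaklyRegular (N ⧸ (maximalIdeal R).map (algebraMap R S) • (⊤ : Submodule S N)) g' := by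
    refine (e.isWeaklyRegular_congr (as := g) (bs := g') ?_).1 hreg
    rw [hg']
    exact List.forall₂_map_right_iff.mpr (List.forall₂_same.mpr fun r _ x => he r x)
  obtain ⟨hw, hfl⟩ := isWeaklyRegular_and_flat_quot_of_fibre R S S₀ T g' hg'm N hfib
  constructor
  · refine ((AddEquiv.refl N).isWeaklyRegular_congr (as := g) (bs := g') ?_).2 hw
    rw [hg']
    exact List.forall₂_map_right_iff.mpr (List.forall₂_same.mpr fun r _ x =>
      (algebraMap_smul S r x).symm)
  · intro i hi
    have hi' : i ≤ g'.length := by rw [hg', List.length_map]; exact hi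
    have h1 := hfl i hi'
    set J : Ideal S := Ideal.ofList (g'.take i) with hJ
    haveI twq : IsScalarTower A R (N ⧸ J • (⊤ : Submodule S N)) := ⟨fun a r x => by
      obtain ⟨n, rfl⟩ := Submodule.Quotient.mk_surjective _ x
      rw [← Submodule.Quotient.mk_smul, ← Submodule.Quotient.mk_smul,
        ← Submodule.Quotient.mk_smul, smul_assoc]⟩
    haveI h2 : Module.Flat A (N ⧸ J • (⊤ : Submodule S N)) :=
      (Module.flat_iff_of_isLocalization R p.primeCompl _).1 h1
    exact h2

end Translate2

end Groth.Agent.Lib.Helper21.FlatDesc
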