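import Mathlib
import Groth.Prelude.Def_FlatCA
import Groth.Agent.Lib.Helper21.FlatDescQ6

namespace Groth.Agent.Lib.Helper21.FlatDesc

open TensorProduct Function IsLocalRing Polynomial Pointwise

universe u

section FiberMod

variable (R S : Type u) [CommRing R] [CommRing S] [IsLocalRing R] [Algebra R S]
  (N : Type u) [AddCommGroup N] [Module S N] [Module R N] [IsScalarTower R S N]

attribute [local instance] Algebra.TensorProduct.rightAlgebra

/-- the residue field maps to `S / m S`. -/
noncomputable def resToQuot : (maximalIdeal R).ResidueField →ₐ[R]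
    (S ⧸ (maximalIdeal R).map (algebraMap R S)) :=
  Ideal.ResidueField.liftₐ (maximalIdeal R)
    (Algebra.ofId R (S ⧸ (maximalIdeal R).map (algebraMap R S)))
    (by
      intro r hr
      rw [RingHom.mem_ker]
      show algebraMap R (S ⧸ (maximalIdeal R).map (algebraMap R S)) r = 0
      rw [IsScalarTower.algebraMap_apply R S (S ⧸ (maximalIdeal R).map (algebraMap R S))]
      exact Ideal.Quotient.eq_zero_iff_mem.2 (Ideal.mem_map_of_mem _ hr))
    (by
      intro r hr
      have : IsUnit r := by
        by_contra h
        exact hr ((IsLocalRing.mem_maximalIdeal _).2 h)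
      exact this.map _)

/-- the fibre ring maps to `S / m S`. -/
noncomputable def fiberToQuot : (maximalIdeal R).Fiber S →ₐ[R]
    (S ⧸ (maximalIdeal R).map (algebraMap R S)) :=
  Algebra.TensorProduct.lift (resToQuot R S)
    (IsScalarTower.toAlgHom R S (S ⧸ (maximalIdeal R).map (algebraMap R S)))
    (fun _ _ => mul_comm _ _)

theorem fiberToQuot_smul (s : S) (x : (maximalIdeal R).Fiber S) :
    fiberToQuot R S (s • x) = Ideal.Quotient.mk _ s * fiberToQuot R S x := by
  rw [Algebra.smul_def, map_mul]
  congr 1
  show fiberToQuot R S ((1 : (maximalIdeal R).ResidueField) ⊗ₜ[R] s) = _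
  simp [fiberToQuot]

/-- the comparison map from the fibre module to `N / m N`. -/
noncomputable def fiberModToQuot : FlatCA.fiberMod (maximalIdeal R) S N →ₗ[S]
    (N ⧸ (maximalIdeal R).map (algebraMap R S) • (⊤ : Submodule S N)) :=
  TensorProduct.lift (LinearMap.mk₂ S
    (fun (a : (maximalIdeal R).Fiber S) (n : N) => fiberToQuot R S a •
      (Submodule.Quotient.mk n : N ⧸ (maximalIdeal R).map (algebraMap R S) • (⊤ : Submodule S N)))
    (fun a b n => by simp only [map_add, add_smul])
    (fun s a n => by
      simp only [fiberToQuot_smul, mul_smul]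
      rfl)
    (fun a n n' => by simp only [Submodule.Quotient.mk_add, smul_add])
    (fun s a n => by
      simp only [Submodule.Quotient.mk_smul]
      rw [smul_comm]))

theorem fiberModToQuot_toFiberMod (y : N) :
    fiberModToQuot R S N (FlatCA.toFiberMod (maximalIdeal R) S N y) = Submodule.Quotient.mk y := by
  show fiberModToQuot R S N ((1 : (maximalIdeal R).Fiber S) ⊗ₜ[S] y) = _
  have h1 : fiberModToQuot R S N ((1 : (maximalIdeal R).Fiber S) ⊗ₜ[S] y) =
      fiberToQuot R S 1 • (Submodule.Quotient.mk y :
        N ⧸ (maximalIdeal R).map (algebraMap R S) • (⊤ : Submodule S N)) := rfl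
  rw [h1, map_one, one_smul]

theorem toFiberMod_eq_zero_iff (y : N) :
    FlatCA.toFiberMod (maximalIdeal R) S N y = 0 ↔
      y ∈ (maximalIdeal R).map (algebraMap R S) • (⊤ : Submodule S N) := by
  constructor
  · intro h
    have := congrArg (fiberModToQuot R S N) h
    rw [fiberModToQuot_toFiberMod, map_zero] at this
    exact (Submodule.Quotient.mk_eq_zero _).1 this
  · intro h
    refine Submodule.smul_induction_on h ?_ ?_
    · intro a ha n _
      rw [map_smul]
      show a • ((1 : (maximalIdeal R).Fiber S) ⊗ₜ[S] n) = 0
      rw [TensorProduct.smul_tmul']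
      have h1 : a • (1 : (maximalIdeal R).Fiber S) = 0 := by
        rw [Algebra.smul_def, mul_one]
        show ((1 : (maximalIdeal R).ResidueField) ⊗ₜ[R] a : (maximalIdeal R).Fiber S) = 0
        refine Submodule.span_induction (p := fun a _ =>
          ((1 : (maximalIdeal R).ResidueField) ⊗ₜ[R] a : (maximalIdeal R).Fiber S) = 0)
          ?_ ?_ ?_ ?_ ha
        · rintro _ ⟨r, hr, rfl⟩
          rw [Algebra.algebraMap_eq_smul_one, ← TensorProduct.smul_tmul, Algebra.smul_def, mul_one]
          have : algebraMap R (maximalIdeal R).ResidueField r = 0 :=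
            Ideal.algebraMap_residueField_eq_zero.2 hr
          rw [this, TensorProduct.zero_tmul]
        · exact TensorProduct.tmul_zero _ _
        · intro x y _ _ hx hy
          rw [TensorProduct.tmul_add, hx, hy, add_zero]
        · intro c x _ hx
          rw [smul_eq_mul]
          have : ((1 : (maximalIdeal R).ResidueField) ⊗ₜ[R] (c * x) : (maximalIdeal R).Fiber S) =
              ((1 : (maximalIdeal R).ResidueField) ⊗ₜ[R] c) * ((1 : (maximalIdeal R).ResidueField) ⊗ₜ[R] x) := by
            simp
          rw [this, hx, mul_zero]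
      rw [h1, TensorProduct.zero_tmul]
    · intro a b ha hb
      rw [map_add, ha, hb, add_zero]

/-- elements of `nzdFiber` are fibrewise nonzerodivisors on `N`. -/
theorem nzdFiber_spec {s : S} (hs : s ∈ FlatCA.nzdFiber R S N) (y : N)
    (h : s • y ∈ (maximalIdeal R).map (algebraMap R S) • (⊤ : Submodule S N)) :
    y ∈ (maximalIdeal R).map (algebraMap R S) • (⊤ : Submodule S N) := by
  rw [← toFiberMod_eq_zero_iff] at h ⊢
  rw [map_smul] at h
  exact hs _ h

end FiberMod


section Main

attribute [local instance] Algebra.TensorProduct.rightAlgebra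

theorem univInj_main {R S : Type u} [CommRing R] [IsLocalRing R] [CommRing S] [IsLocalRing S] [Algebra R S]
    [IsLocalHom (algebraMap R S)] (hS : FlatCA.EssFinitePresentation R S)
    (N : Type u) [AddCommGroup N] [Module S N] [Module R N] [IsScalarTower R S N] [Module.FinitePresentation S N] [Module.Flat R N] :
    (∀ s ∈ FlatCA.nzdFiber R S N, FlatCA.UnivInj R ((LinearMap.lsmul S N s).restrictScalars R)) ∧
    FlatCA.UnivInj R ((LocalizedModule.mkLinearMap (FlatCA.nzdFiber R S N) N).restrictScalars R) := by
  obtain ⟨S₀, _, _, _, _, T₀, hfp, hloc⟩ := hS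
  have part1 : ∀ s ∈ FlatCA.nzdFiber R S N,
      FlatCA.UnivInj R ((LinearMap.lsmul S N s).restrictScalars R) := by
    intro s hs Q _ _
    by_cases hu : IsUnit s
    · obtain ⟨u, rfl⟩ := hu
      have hcomp : ((LinearMap.lsmul S N (↑u⁻¹ : S)).restrictScalars R) ∘ₗ
          ((LinearMap.lsmul S N (u : S)).restrictScalars R) = LinearMap.id := by
        ext y
        simp [smul_smul]
      apply Function.LeftInverse.injective
        (g := ((LinearMap.lsmul S N (↑u⁻¹ : S)).restrictScalars R).lTensor Q)
      intro x
      rw [← LinearMap.comp_apply, ← LinearMap.lTensor_comp, hcomp, LinearMap.lTensor_id,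
        LinearMap.id_apply]
    · have hm : s ∈ maximalIdeal S := (IsLocalRing.mem_maximalIdeal _).2 hu
      obtain ⟨hreg, hflat⟩ := isSMulRegular_and_flat_quot_of_fibre R S S₀ T₀ N s hm
        (nzdFiber_spec R S N hs)
      have hsurj : Function.Surjective
          (((Submodule.mkQ (s • ⊤ : Submodule S N)).restrictScalars R : N →ₗ[R] QuotSMulTop s N)) := by
        intro y
        obtain ⟨z, rfl⟩ := Submodule.mkQ_surjective (s • ⊤ : Submodule S N) y
        exact ⟨z, rfl⟩
      have hinj : Function.Injective ((LinearMap.lsmul S N s).restrictScalars R) := hreg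
      have hex : Function.Exact ((LinearMap.lsmul S N s).restrictScalars R)
          (((Submodule.mkQ (s • ⊤ : Submodule S N)).restrictScalars R : N →ₗ[R] QuotSMulTop s N)) := by
        intro y
        show (Submodule.Quotient.mk y : N ⧸ (s • ⊤ : Submodule S N)) = 0 ↔ _
        rw [Submodule.Quotient.mk_eq_zero, Submodule.mem_smul_pointwise_iff_exists]
        constructor
        · rintro ⟨z, -, rfl⟩
          exact ⟨z, rfl⟩
        · rintro ⟨z, rfl⟩
          exact ⟨z, trivial, rfl⟩
      exact LinearMap.lTensor_injective_of_exact_of_flat (R := R) (P := QuotSMulTop s N)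
        ((Submodule.mkQ (s • ⊤ : Submodule S N)).restrictScalars R : N →ₗ[R] QuotSMulTop s N)
        hsurj ((LinearMap.lsmul S N s).restrictScalars R) hinj hex Q
  refine ⟨part1, ?_⟩
  intro Q _ _
  have hinj : Function.Injective (AlgebraTensorModule.rTensor R Q
      (LocalizedModule.mkLinearMap (FlatCA.nzdFiber R S N) N)) := by
    rw [← LinearMap.ker_eq_bot, LinearMap.ker_eq_bot']
    intro x hx
    obtain ⟨t, ht⟩ := (IsLocalizedModule.eq_zero_iff (FlatCA.nzdFiber R S N) _).1 hx
    have h1 : ∀ z : N ⊗[R] Q, t • z = (TensorProduct.comm R Q N)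
        ((((LinearMap.lsmul S N (t : S)).restrictScalars R).lTensor Q)
        ((TensorProduct.comm R N Q) z)) := by
      intro z
      induction z using TensorProduct.induction_on with
      | zero => simp
      | tmul n q => simp [TensorProduct.smul_tmul']; rfl
      | add a b ha hb => simp only [smul_add, map_add, ha, hb]
    rw [h1] at ht
    have h2 := part1 t t.2 Q
    have h3 : (TensorProduct.comm R N Q) x = 0 := by
      apply h2
      rw [map_zero]
      exact (TensorProduct.comm R Q N).injective (by rw [ht, map_zero])
    exact (TensorProduct.comm R N Q).injective (by rw [h3, map_zero])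
  intro a b hab
  apply (TensorProduct.comm R Q N).injective
  apply hinj
  have key : ∀ z : Q ⊗[R] N, (AlgebraTensorModule.rTensor R Q
      (LocalizedModule.mkLinearMap (FlatCA.nzdFiber R S N) N)) ((TensorProduct.comm R Q N) z) =
      (TensorProduct.comm R Q _) ((((LocalizedModule.mkLinearMap (FlatCA.nzdFiber R S N) N).restrictScalars R).lTensor Q) z) := by
    intro z
    induction z using TensorProduct.induction_on with
    | zero => simp
    | tmul q n => simp
    | add a b ha hb => simp only [map_add, ha, hb]
  rw [key, key, hab]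

end Main

end Groth.Agent.Lib.Helper21.FlatDesc
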