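import Mathlib
import Groth.Prelude.Def_FlatCA
import Groth.Agent.Lib.Helper21.FlatDescQ7

namespace Groth.Agent.Lib.Helper21.FlatDesc

open TensorProduct Function IsLocalRing Pointwise

universe u

section LemmaA

/-- If `S'` is flat over `S`, `w` is an element of an `S`-module whose annihilator is contained in
the contraction of a prime of `S'`, then `1 ⊗ w ≠ 0` in `S' ⊗ W`. -/
theorem one_tmul_ne_zero_of_colon_le {S S' : Type u} [CommRing S] [CommRing S'] [Algebra S S']
    [Module.Flat S S'] {W : Type u} [AddCommGroup W] [Module S W] (w : W)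
    (P' : Ideal S') [P'.IsPrime]
    (hle : (⊥ : Submodule S W).colon {w} ≤ P'.comap (algebraMap S S')) :
    (1 : S') ⊗ₜ[S] w ≠ 0 := by
  intro h0
  set φ : S →ₗ[S] W := LinearMap.toSpanSingleton S W w with hφ
  set I : Submodule S S := LinearMap.ker φ with hI
  have hIle : I ≤ P'.comap (algebraMap S S') := by
    intro s hs
    apply hle
    rw [Submodule.mem_colon_singleton, Submodule.mem_bot]
    simpa [hI, hφ] using hs
  set ψ : (S ⧸ I) →ₗ[S] W := I.liftQ φ le_rfl with hψ
  have hψinj : Function.Injective ψ := by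
    rw [← LinearMap.ker_eq_bot]
    exact Submodule.ker_liftQ_eq_bot _ _ _ le_rfl
  have hinj := Module.Flat.lTensor_preserves_injective_linearMap (M := S') ψ hψinj
  have h1 : (1 : S') ⊗ₜ[S] (Submodule.Quotient.mk (1 : S) : S ⧸ I) = 0 := by
    apply hinj
    rw [LinearMap.lTensor_tmul, map_zero]
    have : ψ (Submodule.Quotient.mk (1 : S)) = w := by
      rw [hψ, Submodule.liftQ_apply, hφ, LinearMap.toSpanSingleton_apply, one_smul]
    rw [this, h0]
  -- map to `S' ⧸ P'`
  let g1 : S' →ₗ[S] S' ⧸ P' := (Ideal.Quotient.mkₐ S P').toLinearMap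
  let g2 : (S ⧸ I) →ₗ[S] S' ⧸ P' := I.liftQ (Algebra.linearMap S (S' ⧸ P')) (by
    intro s hs
    rw [LinearMap.mem_ker, Algebra.linearMap_apply,
      IsScalarTower.algebraMap_apply S S' (S' ⧸ P'), Ideal.Quotient.algebraMap_eq,
      Ideal.Quotient.eq_zero_iff_mem]
    exact hIle hs)
  let χ : S' ⊗[S] (S ⧸ I) →ₗ[S] S' ⧸ P' := LinearMap.mul' S (S' ⧸ P') ∘ₗ TensorProduct.map g1 g2
  have h2 := congrArg χ h1
  rw [map_zero] at h2
  have h3 : χ ((1 : S') ⊗ₜ[S] (Submodule.Quotient.mk (1 : S) : S ⧸ I)) = 1 := by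
    have e2 : g2 (Submodule.Quotient.mk (1 : S)) = 1 := by
      show I.liftQ _ _ (Submodule.Quotient.mk (1 : S)) = 1
      rw [Submodule.liftQ_apply, Algebra.linearMap_apply, map_one]
    show LinearMap.mul' S (S' ⧸ P') (TensorProduct.map g1 g2
      ((1 : S') ⊗ₜ[S] (Submodule.Quotient.mk (1 : S) : S ⧸ I))) = 1
    rw [TensorProduct.map_tmul, LinearMap.mul'_apply, e2, mul_one]
    show Ideal.Quotient.mk P' 1 = 1
    rw [map_one]
  rw [h3] at h2
  exact one_ne_zero h2

end LemmaA


section LemmaC

variable (R S : Type u) [CommRing R] [CommRing S] [IsLocalRing R] [Algebra R S]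
  (N : Type u) [AddCommGroup N] [Module S N] [Module R N] [IsScalarTower R S N]

attribute [local instance] Algebra.TensorProduct.rightAlgebra

theorem algebraMap_fiber_surjective :
    Function.Surjective (algebraMap S ((maximalIdeal R).Fiber S)) := by
  intro x
  induction x using TensorProduct.induction_on with
  | zero => exact ⟨0, map_zero _⟩
  | tmul k s =>
    obtain ⟨r, rfl⟩ := Ideal.algebraMap_residueField_surjective (maximalIdeal R) k
    refine ⟨r • s, ?_⟩
    show (1 : (maximalIdeal R).ResidueField) ⊗ₜ[R] (r • s) = _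
    rw [← TensorProduct.smul_tmul, Algebra.smul_def, mul_one]
  | add a b ha hb =>
    obtain ⟨a', rfl⟩ := ha
    obtain ⟨b', rfl⟩ := hb
    exact ⟨a' + b', map_add _ _ _⟩

theorem smul_fiberMod_aux (s : S) (x : ((maximalIdeal R).Fiber S) ⊗[S] N) :
    s • x = algebraMap S ((maximalIdeal R).Fiber S) s • x := by
  induction x using TensorProduct.induction_on with
  | zero => rw [smul_zero, smul_zero]
  | tmul a n =>
    show (s • a) ⊗ₜ[S] n = (algebraMap S ((maximalIdeal R).Fiber S) s • a) ⊗ₜ[S] n
    rw [Algebra.smul_def, smul_eq_mul]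
  | add a b ha hb => rw [smul_add, smul_add, ha, hb]

theorem smul_fiberMod (s : S) (x : FlatCA.fiberMod (maximalIdeal R) S N) :
    s • x = algebraMap S ((maximalIdeal R).Fiber S) s • x :=
  smul_fiberMod_aux R S N s x

theorem exists_assPrime_ge_of_disjoint [IsNoetherianRing ((maximalIdeal R).Fiber S)]
    [Module.Finite ((maximalIdeal R).Fiber S) (FlatCA.fiberMod (maximalIdeal R) S N)]
    (P : Ideal S) [P.IsPrime] (hP : Disjoint (P : Set S) (FlatCA.nzdFiber R S N : Set S)) :
    ∃ q ∈ associatedPrimes S (FlatCA.fiberMod (maximalIdeal R) S N), P ≤ q := by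
  set F := (maximalIdeal R).Fiber S with hF
  set Nb := FlatCA.fiberMod (maximalIdeal R) S N with hNb
  have hsurj := algebraMap_fiber_surjective R S
  have hsub : ((P.map (algebraMap S F) : Ideal F) : Set F) ⊆
      ⋃ p ∈ ((associatedPrimes.finite F Nb).toFinset : Set (Ideal F)), (id p : Ideal F) := by
    intro f hf
    obtain ⟨p, hp, rfl⟩ := (Ideal.mem_map_iff_of_surjective _ hsurj).1 hf
    have hpn : p ∉ FlatCA.nzdFiber R S N := fun h => Set.disjoint_left.1 hP hp h
    rw [mem_nonZeroSMulDivisors_iff] at hpn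
    push Not at hpn
    obtain ⟨x, hx0, hxne⟩ := hpn
    have hmem : algebraMap S F p ∈ {r : F | ∃ x : Nb, x ≠ 0 ∧ r • x = 0} :=
      ⟨x, hxne, by rw [← smul_fiberMod, hx0]⟩
    rw [← biUnion_associatedPrimes_eq_zero_divisors F Nb] at hmem
    simpa using hmem
  rw [Ideal.subset_union_prime (R := F) (f := id) ⊥ ⊥ (by
    intro i hi _ _
    exact ((associatedPrimes.finite F Nb).mem_toFinset.1 hi).isPrime)] at hsub
  obtain ⟨qb, hqb, hle⟩ := hsub
  have hqb' : IsAssociatedPrime qb Nb := (associatedPrimes.finite F Nb).mem_toFinset.1 hqb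
  obtain ⟨hqbp, x, hx⟩ := isAssociatedPrime_iff.1 hqb'
  refine ⟨qb.comap (algebraMap S F), ?_, Ideal.map_le_iff_le_comap.1 hle⟩
  haveI := hqbp
  have hcol : (⊥ : Submodule S Nb).colon {x} = qb.comap (algebraMap S F) := by
    ext s
    rw [Submodule.mem_colon_singleton, Submodule.mem_bot, Ideal.mem_comap, hx,
      Submodule.mem_colon_singleton, Submodule.mem_bot, smul_fiberMod]
  refine ⟨inferInstance, x, ?_⟩
  rw [hcol]
  exact (Ideal.IsPrime.radical inferInstance).symm

end LemmaC


section Main2

attribute [local instance] Algebra.TensorProduct.rightAlgebra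

theorem univInj_baseChange_main {R S S' : Type u} [CommRing R] [IsLocalRing R] [CommRing S]
    [IsLocalRing S] [CommRing S'] [Algebra R S] [IsLocalHom (algebraMap R S)] [Algebra S S']
    [Algebra R S'] [IsScalarTower R S S']
    (hS : FlatCA.EssFinitePresentation R S) [Module.Flat S S']
    (N : Type u) [AddCommGroup N] [Module S N] [Module R N] [IsScalarTower R S N]
    [Module.FinitePresentation S N] [Module.Flat R N]
    (h : ∀ q ∈ associatedPrimes S (FlatCA.fiberMod (maximalIdeal R) S N),
      ∃ q' : Ideal S', q'.IsPrime ∧ q'.comap (algebraMap S S') = q) :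
    FlatCA.UnivInj R ((TensorProduct.mk S S' N 1).restrictScalars R) := by
  have hS' := hS
  obtain ⟨S₀, _, _, _, _, T₀, hfp, hloc⟩ := hS'
  haveI : Algebra.EssFiniteType S₀ S := Algebra.EssFiniteType.of_isLocalization S T₀
  haveI : Algebra.EssFiniteType R S := Algebra.EssFiniteType.comp R S₀ S
  haveI : IsNoetherianRing ((maximalIdeal R).Fiber S) :=
    Algebra.EssFiniteType.isNoetherianRing (maximalIdeal R).ResidueField _
  haveI : Module.Finite ((maximalIdeal R).Fiber S) (FlatCA.fiberMod (maximalIdeal R) S N) :=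
    inferInstanceAs (Module.Finite ((maximalIdeal R).Fiber S) (((maximalIdeal R).Fiber S) ⊗[S] N))
  intro Q _ _
  rw [injective_iff_map_eq_zero]
  intro z hz
  by_contra hz0
  set x : N ⊗[R] Q := TensorProduct.comm R Q N z with hx
  have hx0 : x ≠ 0 := fun h0 => hz0 ((TensorProduct.comm R Q N).injective (by rw [← hx, h0, map_zero]))
  -- `1 ⊗ x = 0`
  have key : ∀ y : Q ⊗[R] N, (AlgebraTensorModule.assoc R S S S' N Q)
      ((TensorProduct.comm R Q (S' ⊗[S] N))
        ((((TensorProduct.mk S S' N 1).restrictScalars R).lTensor Q) y)) =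
      (1 : S') ⊗ₜ[S] (TensorProduct.comm R Q N y) := by
    intro y
    induction y using TensorProduct.induction_on with
    | zero => simp
    | tmul q n => simp
    | add a b ha hb => simp only [map_add, ha, hb, TensorProduct.tmul_add]
  have h1 : (1 : S') ⊗ₜ[S] x = 0 := by
    rw [hx, ← key, hz, map_zero, map_zero]
  -- the annihilator of `x` is disjoint from `nzdFiber`
  have hdisj : Disjoint (((⊥ : Submodule S (N ⊗[R] Q)).colon {x} : Ideal S) : Set S)
      (FlatCA.nzdFiber R S N : Set S) := by
    rw [Set.disjoint_left]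
    intro t ht htS
    rw [SetLike.mem_coe, Submodule.mem_colon_singleton, Submodule.mem_bot] at ht
    have h2 := (univInj_main hS N).1 t htS Q
    have h3 : ∀ y : Q ⊗[R] N, t • (TensorProduct.comm R Q N y) = (TensorProduct.comm R Q N)
        ((((LinearMap.lsmul S N t).restrictScalars R).lTensor Q) y) := by
      intro y
      induction y using TensorProduct.induction_on with
      | zero => simp
      | tmul q n => simp [TensorProduct.smul_tmul']
      | add a b ha hb => simp only [smul_add, map_add, ha, hb]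
    rw [hx, h3] at ht
    apply hz0
    apply h2
    rw [map_zero]
    exact (TensorProduct.comm R Q N).injective (by rw [ht, map_zero])
  obtain ⟨P, hPprime, hle, hPdisj⟩ := Ideal.exists_le_prime_disjoint _ _ hdisj
  obtain ⟨q, hq, hPq⟩ := exists_assPrime_ge_of_disjoint R S N P hPdisj
  obtain ⟨q', hq'prime, hq'q⟩ := h q hq
  haveI : q.IsPrime := hq.isPrime
  haveI : q'.LiesOver q := ⟨hq'q.symm⟩
  obtain ⟨P', hP'le, hP'prime, hP'over⟩ := Ideal.exists_ideal_le_liesOver_of_le q' hPq
  refine one_tmul_ne_zero_of_colon_le x P' ?_ h1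
  have : P = P'.comap (algebraMap S S') := hP'over.over
  rw [← this]
  exact hle

end Main2

end Groth.Agent.Lib.Helper21.FlatDesc
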