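import Mathlib
import Groth.Prelude.Def_FlatCA
import Groth.Agent.Lib.Helper21.FlatDescQ8
import Groth.Agent.Lib.Helper21.FlatDescQ11

namespace Groth.Agent.Lib.Helper21.FlatDesc

open TensorProduct Function IsLocalRing Pointwise

universe u

section ClaimC

variable {R S : Type u} [CommRing R] [CommRing S] [Algebra R S]
  (p : Ideal R) [p.IsPrime]

attribute [local instance] Algebra.TensorProduct.rightAlgebra

/-- every element of the fibre ring is, up to a unit coming from `R ∖ p`, in the image of `S`. -/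
theorem exists_smul_eq_algebraMap_fiber (y : p.Fiber S) :
    ∃ r : R, r ∉ p ∧ ∃ s : S, r • y = algebraMap S (p.Fiber S) s := by
  induction y using TensorProduct.induction_on with
  | zero => exact ⟨1, fun h => (Ideal.IsPrime.ne_top ‹_›) ((Ideal.eq_top_iff_one _).2 h), 0, by simp⟩
  | tmul k s₀ =>
    obtain ⟨k', rfl⟩ := Ideal.Quotient.mk_surjective (I := maximalIdeal (Localization.AtPrime p)) k
    obtain ⟨⟨a, r⟩, har⟩ := IsLocalization.surj p.primeCompl k'
    refine ⟨r, r.2, a • s₀, ?_⟩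
    show r.1 • ((Ideal.Quotient.mk _ k' : p.ResidueField) ⊗ₜ[R] s₀) =
      (1 : p.ResidueField) ⊗ₜ[R] (a • s₀)
    rw [TensorProduct.smul_tmul', ← TensorProduct.smul_tmul]
    congr 1
    have h1 : (r.1 • (Ideal.Quotient.mk _ k' : p.ResidueField)) =
        Ideal.Quotient.mk _ (k' * algebraMap R (Localization.AtPrime p) r.1) := by
      rw [Algebra.smul_def, mul_comm]
      rfl
    rw [h1, har, Algebra.smul_def, mul_one]
    rfl
  | add y z hy hz =>
    obtain ⟨r₁, hr₁, s₁, h₁⟩ := hy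
    obtain ⟨r₂, hr₂, s₂, h₂⟩ := hz
    refine ⟨r₁ * r₂, fun h => (Ideal.IsPrime.mem_or_mem ‹_› h).elim hr₁ hr₂,
      r₂ • s₁ + r₁ • s₂, ?_⟩
    have hφ : ∀ (r : R) (s : S), algebraMap S (p.Fiber S) (r • s) =
        r • algebraMap S (p.Fiber S) s := by
      intro r s
      rw [Algebra.smul_def, map_mul, ← IsScalarTower.algebraMap_apply R S (p.Fiber S),
        ← Algebra.smul_def]
    rw [smul_add, mul_smul, mul_comm r₁ r₂, mul_smul, smul_comm r₁ r₂ y, h₁, smul_comm r₂ r₁ z, h₂,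
      map_add, hφ, hφ]


set_option maxHeartbeats 800000 in
theorem exists_fibre_assPrime_ge [Algebra.FiniteType R S]
    (N : Type u) [AddCommGroup N] [Module S N] [Module.Finite S N]
    (𝔫 : Ideal S) [𝔫.IsPrime] (h𝔫 : 𝔫.comap (algebraMap R S) = p)
    (F' : Type u) [CommRing F'] [Algebra (p.Fiber S) F']
    [IsLocalization (Algebra.algebraMapSubmonoid (p.Fiber S) 𝔫.primeCompl) F']
    (X' : Type u) [AddCommGroup X'] [Module (p.Fiber S) X'] [Module F' X']
    [IsScalarTower (p.Fiber S) F' X']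
    (f : ((p.Fiber S) ⊗[S] N) →ₗ[p.Fiber S] X')
    [IsLocalizedModule (Algebra.algebraMapSubmonoid (p.Fiber S) 𝔫.primeCompl) f]
    (P : Ideal S) [P.IsPrime]
    (hP : ∀ s ∈ P, ¬ IsSMulRegular X' (algebraMap S (p.Fiber S) s)) :
    ∃ q : Ideal S, q.IsPrime ∧ P ≤ q ∧ q ≤ 𝔫 ∧ q.comap (algebraMap R S) = p ∧
      FlatCA.fiberIdeal p q ∈ associatedPrimes (p.Fiber S) (FlatCA.fiberMod p S N) := by
  set F := p.Fiber S with hF
  set X := F ⊗[S] N with hX
  set T := Algebra.algebraMapSubmonoid F 𝔫.primeCompl with hT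
  haveI : IsNoetherianRing F := Algebra.FiniteType.isNoetherianRing p.ResidueField _
  haveI : IsNoetherianRing F' := IsLocalization.isNoetherianRing T F' inferInstance
  haveI : Module.Finite F X := inferInstance
  haveI : Module.Finite F' X' := Module.Finite.of_isLocalizedModule T f
  let φ : S →+* F := algebraMap S F
  let φ' : S →+* F' := (algebraMap F F').comp φ
  -- units
  have hunit : ∀ c : S, c ∉ 𝔫 → IsUnit (φ' c) := fun c hc =>
    IsLocalization.map_units F' (⟨φ c, c, hc, rfl⟩ : T)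
  have hR : ∀ r : R, r ∉ p → algebraMap R S r ∉ 𝔫 := by
    intro r hr hmem
    apply hr
    rw [← h𝔫]
    exact hmem
  -- Lemma U
  have hU : ∀ y' : F', ∃ c : S, c ∉ 𝔫 ∧ ∃ s : S, φ' c * y' = φ' s := by
    intro y'
    obtain ⟨⟨f, t⟩, hft⟩ := IsLocalization.surj T y'
    obtain ⟨n, hn, hnt⟩ := t.2
    obtain ⟨r, hr, s, hs⟩ := exists_smul_eq_algebraMap_fiber (S := S) p f
    refine ⟨algebraMap R S r * n, fun h => (Ideal.IsPrime.mem_or_mem ‹_› h).elim (hR r hr) hn, s, ?_⟩
    have h1 : algebraMap F F' (φ n) = φ' n := rfl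
    have hn' : y' * φ' n = algebraMap F F' f := by
      rw [← h1]
      show y' * algebraMap F F' (algebraMap S F n) = _
      rw [hnt]
      exact hft
    have h2 : φ (algebraMap R S r) * f = φ s := by
      rw [← hs, Algebra.smul_def, IsScalarTower.algebraMap_apply R S F]
    show φ' (algebraMap R S r * n) * y' = φ' s
    rw [map_mul, mul_assoc, mul_comm (φ' n) y', hn']
    show algebraMap F F' (φ (algebraMap R S r)) * algebraMap F F' f = algebraMap F F' (φ s)
    rw [← map_mul, h2]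
  -- the ideal generated by the image of `P` consists of zero divisors
  have hI : ∀ y' ∈ Ideal.map φ' P, ∃ c : S, c ∉ 𝔫 ∧ ∃ s ∈ P, φ' c * y' = φ' s := by
    intro y' hy'
    refine Submodule.span_induction (p := fun y' _ => ∃ c : S, c ∉ 𝔫 ∧ ∃ s ∈ P, φ' c * y' = φ' s)
      ?_ ?_ ?_ ?_ hy'
    · rintro _ ⟨s, hs, rfl⟩
      exact ⟨1, fun h => (Ideal.IsPrime.ne_top ‹_›) ((Ideal.eq_top_iff_one _).2 h), s, hs,
        by rw [map_one, one_mul]⟩
    · exact ⟨1, fun h => (Ideal.IsPrime.ne_top ‹_›) ((Ideal.eq_top_iff_one _).2 h), 0,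
        P.zero_mem, by rw [map_zero, mul_zero]⟩
    · rintro y z _ _ ⟨c₁, hc₁, s₁, hs₁, h₁⟩ ⟨c₂, hc₂, s₂, hs₂, h₂⟩
      refine ⟨c₁ * c₂, fun h => (Ideal.IsPrime.mem_or_mem ‹_› h).elim hc₁ hc₂,
        c₂ * s₁ + c₁ * s₂, P.add_mem (P.mul_mem_left _ hs₁) (P.mul_mem_left _ hs₂), ?_⟩
      rw [map_add, map_mul, map_mul, map_mul, ← h₁, ← h₂]
      ring
    · rintro a y _ ⟨c, hc, s, hs, h⟩
      obtain ⟨ca, hca, sa, hsa⟩ := hU a
      refine ⟨ca * c, fun h => (Ideal.IsPrime.mem_or_mem ‹_› h).elim hca hc, sa * s,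
        P.mul_mem_left _ hs, ?_⟩
      rw [smul_eq_mul, map_mul, map_mul, ← h, ← hsa]
      ring
  have hzd : ∀ y' ∈ Ideal.map φ' P, ¬ IsSMulRegular X' y' := by
    intro y' hy' hreg
    obtain ⟨c, hc, s, hs, h⟩ := hI y' hy'
    have h1 : IsSMulRegular X' (φ' c * y') := ((hunit c hc).isSMulRegular X').mul hreg
    rw [h] at h1
    apply hP s hs
    have h2 : IsSMulRegular X' (algebraMap F F' (φ s)) := h1
    exact (isSMulRegular_algebraMap_iff F').1 h2
  -- prime avoidance
  have hsub : ((Ideal.map φ' P : Ideal F') : Set F') ⊆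
      ⋃ Q ∈ ((associatedPrimes.finite F' X').toFinset : Set (Ideal F')), (id Q : Ideal F') := by
    intro y' hy'
    have hmem : y' ∈ {r : F' | IsSMulRegular X' r}ᶜ := hzd y' hy'
    rw [← biUnion_associatedPrimes_eq_compl_regular F' X'] at hmem
    simpa using hmem
  rw [Ideal.subset_union_prime (R := F') (f := id) ⊥ ⊥ (by
    intro i hi _ _
    exact ((associatedPrimes.finite F' X').mem_toFinset.1 hi).isPrime)] at hsub
  obtain ⟨𝔔, h𝔔, hle⟩ := hsub
  have h𝔔' : 𝔔 ∈ associatedPrimes F' X' := (associatedPrimes.finite F' X').mem_toFinset.1 h𝔔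
  haveI h𝔔p : 𝔔.IsPrime := h𝔔'.isPrime
  have h𝔮 : 𝔔.comap (algebraMap F F') ∈ associatedPrimes F X :=
    Module.associatedPrimes.comap_mem_associatedPrimes_of_mem_associatedPrimes_of_isLocalizedModule_of_fg
      T f 𝔔 h𝔔' ((isNoetherianRing_iff_ideal_fg F).mp ‹_› _)
  set 𝔮 := 𝔔.comap (algebraMap F F') with h𝔮def
  haveI : 𝔮.IsPrime := Ideal.comap_isPrime _ _
  have hPq : P ≤ 𝔮.comap φ := by
    intro s hs
    show algebraMap F F' (φ s) ∈ 𝔔
    exact hle (Ideal.mem_map_of_mem φ' hs)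
  have hq𝔫 : 𝔮.comap φ ≤ 𝔫 := by
    intro s hs
    by_contra hs𝔫
    have : φ' s ∈ 𝔔 := hs
    exact h𝔔p.ne_top (Ideal.eq_top_of_isUnit_mem _ this (hunit s hs𝔫))
  have hqp : (𝔮.comap φ).comap (algebraMap R S) = p := by
    ext r
    constructor
    · intro hr
      by_contra hrp
      exact hR r hrp (hq𝔫 hr)
    · intro hr
      show φ (algebraMap R S r) ∈ 𝔮
      have : φ (algebraMap R S r) = 0 := by
        rw [← IsScalarTower.algebraMap_apply R S F, IsScalarTower.algebraMap_apply R p.ResidueField F,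
          Ideal.algebraMap_residueField_eq_zero.2 hr, map_zero]
      rw [this]
      exact 𝔮.zero_mem
  refine ⟨𝔮.comap φ, Ideal.comap_isPrime _ _, hPq, hq𝔫, hqp, ?_⟩
  have hfib : FlatCA.fiberIdeal p (𝔮.comap φ) = 𝔮 := by
    apply le_antisymm
    · exact Ideal.map_le_iff_le_comap.2 (le_refl _)
    · intro y hy
      obtain ⟨r, hr, s, hs⟩ := exists_smul_eq_algebraMap_fiber (S := S) p y
      have hsq : s ∈ 𝔮.comap φ := by
        show φ s ∈ 𝔮
        rw [← hs, Algebra.smul_def]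
        exact 𝔮.mul_mem_left _ hy
      have hu : IsUnit (algebraMap R F r) := by
        rw [IsScalarTower.algebraMap_apply R p.ResidueField F]
        refine IsUnit.map _ ?_
        rw [isUnit_iff_ne_zero]
        intro h0
        exact hr (Ideal.algebraMap_residueField_eq_zero.1 h0)
      obtain ⟨v, hv⟩ := hu
      have hy' : y = (↑v⁻¹ : F) * φ s := by
        rw [← hs, Algebra.smul_def, ← hv, ← mul_assoc, Units.inv_mul, one_mul]
      rw [hy']
      exact Ideal.mul_mem_left _ _ (Ideal.mem_map_of_mem _ hsq)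
  rw [hfib]
  exact h𝔮

end ClaimC

end Groth.Agent.Lib.Helper21.FlatDesc
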