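import Mathlib
import Groth.Prelude.Def_FlatCA
import Groth.Agent.Lib.Helper21.FlatDescQ8
import Groth.Agent.Lib.Helper21.FlatDescQ12
import Groth.Agent.Lib.Helper21.FlatDescQ13
import Groth.Agent.Lib.Helper21.FlatLocal6

namespace Groth.Agent.Lib.Helper21.FlatDesc

open TensorProduct Function IsLocalRing Pointwise RingTheory.Sequence

universe u

section ClaimA

variable {R S : Type u} [CommRing R] [CommRing S] [Algebra R S] [Algebra.FinitePresentation R S]
  (N : Type u) [AddCommGroup N] [Module S N] [Module R N] [IsScalarTower R S N]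
  [Module.FinitePresentation S N] [Module.Flat R N] (𝔫 : Ideal S) [𝔫.IsPrime]

set_option maxHeartbeats 800000 in
/-- an element of `S` which is fibrewise regular at `𝔫` acts injectively on `N_𝔫 ⊗ Q`. -/
theorem smul_injective_localized_tensor (s : S)
    (hs : IsSMulRegular (LocalizedModule 𝔫.primeCompl
      (N ⊗[R] (𝔫.comap (algebraMap R S)).ResidueField)) s)
    (Q : Type u) [AddCommGroup Q] [Module R Q] (y : (LocalizedModule 𝔫.primeCompl N) ⊗[R] Q)
    (hy : s • y = 0) : y = 0 := by
  set Nn := LocalizedModule 𝔫.primeCompl N with hNn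
  set Sn := Localization.AtPrime 𝔫 with hSn
  by_cases hmem : s ∈ 𝔫
  · haveI : Module.Flat R Nn :=
      FlatLocal.flat_of_isLocalizedModule 𝔫.primeCompl (LocalizedModule.mkLinearMap 𝔫.primeCompl N)
    obtain ⟨hw, hfl⟩ := weaklyRegular_and_flat_local_quotients_global N 𝔫 [s]
      (by intro b hb; rw [List.mem_singleton] at hb; rw [hb]; exact hmem) inferInstance
      ((isWeaklyRegular_singleton_iff _ s).2 hs)
    have hreg : IsSMulRegular Nn s := (isWeaklyRegular_singleton_iff _ s).1 hw
    have hflat := hfl 1 (by simp)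
    set s' : Sn := algebraMap S Sn s with hs'
    have hJ : Ideal.ofList (([s].map (algebraMap S Sn)).take 1) • (⊤ : Submodule Sn Nn) =
        s' • (⊤ : Submodule Sn Nn) := by
      simp only [List.map_cons, List.map_nil, List.take_succ_cons, List.take_zero]
      rw [Ideal.ofList_singleton, Submodule.ideal_span_singleton_smul]
    rw [hJ] at hflat
    haveI : Module.Flat R (QuotSMulTop s' Nn) := hflat
    have hsurj : Function.Surjective
        (((Submodule.mkQ (s' • ⊤ : Submodule Sn Nn)).restrictScalars R : Nn →ₗ[R] QuotSMulTop s' Nn)) := by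
      intro z
      obtain ⟨w, rfl⟩ := Submodule.mkQ_surjective (s' • ⊤ : Submodule Sn Nn) z
      exact ⟨w, rfl⟩
    have hinj : Function.Injective ((LinearMap.lsmul S Nn s).restrictScalars R) := hreg
    have hex : Function.Exact ((LinearMap.lsmul S Nn s).restrictScalars R)
        (((Submodule.mkQ (s' • ⊤ : Submodule Sn Nn)).restrictScalars R : Nn →ₗ[R] QuotSMulTop s' Nn)) := by
      intro w
      show (Submodule.Quotient.mk w : Nn ⧸ (s' • ⊤ : Submodule Sn Nn)) = 0 ↔ _
      rw [Submodule.Quotient.mk_eq_zero, Submodule.mem_smul_pointwise_iff_exists]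
      constructor
      · rintro ⟨z, -, rfl⟩
        exact ⟨z, (algebraMap_smul Sn s z).symm⟩
      · rintro ⟨z, rfl⟩
        exact ⟨z, trivial, algebraMap_smul Sn s z⟩
    have hQ := LinearMap.lTensor_injective_of_exact_of_flat (R := R) (P := QuotSMulTop s' Nn)
      ((Submodule.mkQ (s' • ⊤ : Submodule Sn Nn)).restrictScalars R : Nn →ₗ[R] QuotSMulTop s' Nn)
      hsurj ((LinearMap.lsmul S Nn s).restrictScalars R) hinj hex Q
    have h1 : ∀ z : Nn ⊗[R] Q, s • z = (TensorProduct.comm R Q Nn)
        ((((LinearMap.lsmul S Nn s).restrictScalars R).lTensor Q)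
        ((TensorProduct.comm R Nn Q) z)) := by
      intro z
      induction z using TensorProduct.induction_on with
      | zero => simp
      | tmul n q => simp [TensorProduct.smul_tmul']
      | add a b ha hb => simp only [smul_add, map_add, ha, hb]
    rw [h1] at hy
    have h3 : (TensorProduct.comm R Nn Q) y = 0 := by
      apply hQ
      rw [map_zero]
      exact (TensorProduct.comm R Q Nn).injective (by rw [hy, map_zero])
    exact (TensorProduct.comm R Nn Q).injective (by rw [h3, map_zero])
  · -- `s` acts invertibly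
    have hu := IsLocalizedModule.map_units
      (AlgebraTensorModule.rTensor R Q (LocalizedModule.mkLinearMap 𝔫.primeCompl N))
      (⟨s, hmem⟩ : 𝔫.primeCompl)
    have hinj := ((Module.End.isUnit_iff _).1 hu).1
    apply hinj
    rw [map_zero]
    exact hy

end ClaimA


section Convert

attribute [local instance] Algebra.TensorProduct.rightAlgebra

variable {R S : Type u} [CommRing R] [CommRing S] [Algebra R S]
  (N : Type u) [AddCommGroup N] [Module S N] [Module R N] [IsScalarTower R S N]
  (p : Ideal R) [p.IsPrime] (𝔫 : Ideal S) [𝔫.IsPrime]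

/-- the `S`-linear flip `κ(p) ⊗ S ≃ S ⊗ κ(p)`. -/
noncomputable def fiberComm : (p.Fiber S) ≃ₗ[S] S ⊗[R] p.ResidueField :=
  { (TensorProduct.comm R p.ResidueField S) with
    map_smul' := fun s y => by
      induction y using TensorProduct.induction_on with
      | zero => simp
      | tmul k s₀ =>
        have h1 : s • (k ⊗ₜ[R] s₀ : p.Fiber S) = k ⊗ₜ[R] (s * s₀) := by
          rw [Algebra.smul_def]
          show ((1 : p.ResidueField) ⊗ₜ[R] s) * (k ⊗ₜ[R] s₀) = _
          rw [Algebra.TensorProduct.tmul_mul_tmul, one_mul]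
        show (TensorProduct.comm R p.ResidueField S) (s • (k ⊗ₜ[R] s₀ : p.Fiber S)) =
          s • (TensorProduct.comm R p.ResidueField S) (k ⊗ₜ[R] s₀)
        rw [h1, TensorProduct.comm_tmul, TensorProduct.comm_tmul, TensorProduct.smul_tmul',
          smul_eq_mul]
      | add a b ha hb =>
        show (TensorProduct.comm R p.ResidueField S) (s • (a + b)) =
          s • (TensorProduct.comm R p.ResidueField S) (a + b)
        rw [smul_add, map_add, map_add, smul_add]
        exact congrArg₂ (· + ·) ha hb }

/-- the fibre module `(κ(p) ⊗ S) ⊗_S N` is `N ⊗_R κ(p)`. -/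
noncomputable def fiberModEquiv : ((p.Fiber S) ⊗[S] N) ≃ₗ[S] N ⊗[R] p.ResidueField :=
  TensorProduct.comm S (p.Fiber S) N ≪≫ₗ (LinearEquiv.lTensor N (fiberComm (S := S) p)) ≪≫ₗ
    AlgebraTensorModule.cancelBaseChange R S S N p.ResidueField

theorem isSMulRegular_localized_of_fiber (s : S)
    (h : IsSMulRegular (LocalizedModule (Algebra.algebraMapSubmonoid (p.Fiber S) 𝔫.primeCompl)
      ((p.Fiber S) ⊗[S] N)) (algebraMap S (p.Fiber S) s)) :
    IsSMulRegular (LocalizedModule 𝔫.primeCompl (N ⊗[R] p.ResidueField)) s := by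
  set F := p.Fiber S with hF
  set X := F ⊗[S] N with hX
  set T := Algebra.algebraMapSubmonoid F 𝔫.primeCompl with hT
  set X' := LocalizedModule T X with hX'
  haveI : IsLocalizedModule 𝔫.primeCompl ((LocalizedModule.mkLinearMap T X).restrictScalars S) :=
    IsLocalizedModule.restrictScalars 𝔫.primeCompl (LocalizedModule.mkLinearMap T X)
  let f₂ : X →ₗ[S] LocalizedModule 𝔫.primeCompl (N ⊗[R] p.ResidueField) :=
    (LocalizedModule.mkLinearMap 𝔫.primeCompl (N ⊗[R] p.ResidueField)) ∘ₗ
      (fiberModEquiv N p).toLinearMap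
  haveI : IsLocalizedModule 𝔫.primeCompl f₂ := inferInstance
  let θ : X' ≃ₗ[S] LocalizedModule 𝔫.primeCompl (N ⊗[R] p.ResidueField) :=
    IsLocalizedModule.linearEquiv 𝔫.primeCompl
      ((LocalizedModule.mkLinearMap T X).restrictScalars S) f₂
  have h' : IsSMulRegular X' s := (isSMulRegular_algebraMap_iff F).1 h
  exact (θ.isSMulRegular_congr s).1 h'

end Convert


section MainGlobal

attribute [local instance] Algebra.TensorProduct.rightAlgebra

set_option maxHeartbeats 1600000 in
theorem univInj_baseChange_global {R S S' : Type u} [CommRing R] [CommRing S] [CommRing S']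
    [Algebra R S] [Algebra S S'] [Algebra R S'] [IsScalarTower R S S']
    [Algebra.FinitePresentation R S] [Module.Flat S S']
    (N : Type u) [AddCommGroup N] [Module S N] [Module R N] [IsScalarTower R S N]
    [Module.FinitePresentation S N] [Module.Flat R N]
    (h : ∀ (p : Ideal R) (q : Ideal S) [p.IsPrime] [q.IsPrime] [q.LiesOver p],
      FlatCA.fiberIdeal p q ∈ associatedPrimes (p.Fiber S) (FlatCA.fiberMod p S N) →
      ∃ q' : Ideal S', q'.IsPrime ∧ q'.comap (algebraMap S S') = q) :
    FlatCA.UnivInj R ((TensorProduct.mk S S' N 1).restrictScalars R) := by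
  intro Q _ _
  rw [injective_iff_map_eq_zero]
  intro z hz
  by_contra hz0
  set x : N ⊗[R] Q := TensorProduct.comm R Q N z with hx
  have hx0 : x ≠ 0 := fun h0 =>
    hz0 ((TensorProduct.comm R Q N).injective (by rw [← hx, h0, map_zero]))
  have key : ∀ y : Q ⊗[R] N, (AlgebraTensorModule.assoc R S S S' N Q)
      ((TensorProduct.comm R Q (S' ⊗[S] N))
        ((((TensorProduct.mk S S' N 1).restrictScalars R).lTensor Q) y)) =
      (1 : S') ⊗ₜ[S] (TensorProduct.comm R Q N y) := by
    intro y
    induction y using TensorProduct.induction_on with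
    | zero => simp
    | tmul q n => simp
    | add a b ha hb => simp only [map_add, ha, hb, TensorProduct.tmul_add]
  have h1 : (1 : S') ⊗ₜ[S] x = 0 := by
    rw [hx, ← key, hz, map_zero, map_zero]
  -- a maximal ideal containing the annihilator of `x`
  have hI : ((⊥ : Submodule S (N ⊗[R] Q)).colon {x} : Ideal S) ≠ ⊤ := by
    intro htop
    have h1' : (1 : S) ∈ ((⊥ : Submodule S (N ⊗[R] Q)).colon {x} : Ideal S) := by
      rw [htop]; exact Submodule.mem_top
    rw [Submodule.mem_colon_singleton, one_smul, Submodule.mem_bot] at h1'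
    exact hx0 h1'
  obtain ⟨𝔫, h𝔫max, hI𝔫⟩ := Ideal.exists_le_maximal _ hI
  haveI : 𝔫.IsPrime := h𝔫max.isPrime
  set p := 𝔫.comap (algebraMap R S) with hp
  -- the localized element
  let loc := AlgebraTensorModule.rTensor R Q (LocalizedModule.mkLinearMap 𝔫.primeCompl N)
  have hx1 : loc x ≠ 0 := by
    intro h0
    obtain ⟨t, ht⟩ := (IsLocalizedModule.eq_zero_iff 𝔫.primeCompl loc).1 h0
    exact t.2 (hI𝔫 (by rw [Submodule.mem_colon_singleton, Submodule.mem_bot]; exact ht))
  -- the multiplicative set of fibrewise regular elements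
  set F := p.Fiber S with hF
  set X := F ⊗[S] N with hX
  set T := Algebra.algebraMapSubmonoid F 𝔫.primeCompl with hT
  set X' := LocalizedModule T X with hX'
  let Sg : Submonoid S :=
    { carrier := {s | IsSMulRegular X' (algebraMap S F s)}
      one_mem' := by
        show IsSMulRegular X' (algebraMap S F 1)
        rw [map_one]
        exact IsSMulRegular.one X'
      mul_mem' := by
        intro a b ha hb
        show IsSMulRegular X' (algebraMap S F (a * b))
        rw [map_mul]
        exact IsSMulRegular.mul ha hb }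
  have hdisj : Disjoint (((⊥ : Submodule S (N ⊗[R] Q)).colon {x} : Ideal S) : Set S)
      (Sg : Set S) := by
    rw [Set.disjoint_left]
    intro s hsI hsS
    have hsreg := isSMulRegular_localized_of_fiber N p 𝔫 s hsS
    apply hx1
    apply smul_injective_localized_tensor N 𝔫 s hsreg Q (loc x)
    rw [SetLike.mem_coe, Submodule.mem_colon_singleton, Submodule.mem_bot] at hsI
    rw [← map_smul, hsI, map_zero]
  obtain ⟨P, hPprime, hle, hPdisj⟩ := Ideal.exists_le_prime_disjoint _ Sg hdisj
  haveI := hPprime
  obtain ⟨q, hqprime, hPq, hq𝔫, hqp, hass⟩ := exists_fibre_assPrime_ge p N 𝔫 rfl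
    (Localization T) X' (LocalizedModule.mkLinearMap T X) P
    (fun s hs hreg => by
      refine Set.disjoint_left.1 hPdisj hs ?_
      show IsSMulRegular X' (algebraMap S F s)
      exact hreg)
  haveI := hqprime
  haveI : q.LiesOver p := ⟨hqp.symm⟩
  obtain ⟨q', hq'prime, hq'q⟩ := h p q hass
  haveI := hq'prime
  haveI : q'.LiesOver q := ⟨hq'q.symm⟩
  obtain ⟨P', hP'le, hP'prime, hP'over⟩ := Ideal.exists_ideal_le_liesOver_of_le q' hPq
  haveI := hP'prime
  refine one_tmul_ne_zero_of_colon_le x P' ?_ h1
  have hPP' : P = P'.comap (algebraMap S S') := hP'over.over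
  rw [← hPP']
  exact hle

end MainGlobal

end Groth.Agent.Lib.Helper21.FlatDesc
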