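import Mathlib
import Groth.Agent.Lib.Helper21.FlatDescR
import Groth.Agent.Lib.Helper5.SerreFFlat
import Groth.Agent.S0112
import Groth.Agent.S4996

/-!
# Helper21 — FlatDescT: descent along fppf covers of the SOURCE.

* `flat_of_flat_of_faithfullyFlat`, `smooth_of_faithfullyFlat_of_smooth` (ring level, Stacks 05B5).
* `DescendsLocallyOnSource`, `descendsLocallyOnSource_of_faithfullyFlat`: generic local form.
* `of_fppf_comp`: generic scheme-level statement for `HasRingHomProperty P Q`.
* `smooth_of_fppf_comp`.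
-/

open AlgebraicGeometry CategoryTheory TopologicalSpace

universe u

namespace Groth.Agent.Lib.Helper21.FlatDesc

open TensorProduct Function

section SmoothDesc

attribute [local instance] Algebra.TensorProduct.rightAlgebra

variable {R A B : Type u} [CommRing R] [CommRing A] [CommRing B] [Algebra R A] [Algebra A B]
  [Algebra R B] [IsScalarTower R A B]

/-- flatness descends along a faithfully flat algebra. -/
theorem flat_of_flat_of_faithfullyFlat [Module.Flat R B] [Module.FaithfullyFlat A B] :
    Module.Flat R A := by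
  rw [Module.Flat.iff_lTensor_preserves_injective_linearMap]
  intro N' N _ _ _ _ ι hι
  let u : A ⊗[R] N' →ₗ[A] A ⊗[R] N := AlgebraTensorModule.lTensor A A ι
  have hu : Function.Injective (u.lTensor B) ↔ Function.Injective u :=
    Module.FaithfullyFlat.lTensor_injective_iff_injective A B u
  show Function.Injective u
  rw [← hu]
  let α : ∀ (Y : Type u) [AddCommGroup Y] [Module R Y],
      B ⊗[A] (A ⊗[R] Y) ≃ₗ[B] B ⊗[R] Y := fun Y _ _ =>
    AlgebraTensorModule.cancelBaseChange R A B B Y
  have hcomm : ∀ z, α N (u.lTensor B z) = ι.lTensor B (α N' z) := by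
    intro z
    induction z using TensorProduct.induction_on with
    | zero => simp
    | add a b ha hb => simp only [map_add, ha, hb]
    | tmul b x =>
      induction x using TensorProduct.induction_on with
      | zero => simp
      | add a c ha hc => simp only [tmul_add, map_add, ha, hc]
      | tmul a n => simp [α, u]
  have hinj : Function.Injective (ι.lTensor B) :=
    Module.Flat.lTensor_preserves_injective_linearMap ι hι
  intro a b hab
  apply (α N').injective
  apply hinj
  rw [← hcomm, ← hcomm, hab]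

/-- **Smoothness is fppf local on the source (ring form)**: `R → A → B` with `A → B` faithfully flat
of finite presentation and `B` smooth over `R`; then `A` is smooth over `R`. -/
theorem smooth_of_faithfullyFlat_of_smooth [Module.FaithfullyFlat A B]
    [Algebra.FinitePresentation A B] [Algebra.Smooth R B] : Algebra.Smooth R A := by
  haveI hfpB : Algebra.FinitePresentation R B := inferInstance
  haveI hfpA : Algebra.FinitePresentation R A := Groth.Agent.S0112.result (R := R) (A := A) (B := B)
  haveI hflB : Module.Flat R B := inferInstance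
  rw [Groth.Agent.S4996.result R A]
  have hB := (Groth.Agent.S4996.result R B).1 inferInstance
  refine ⟨flat_of_flat_of_faithfullyFlat (B := B), ?_⟩
  intro p hp k' _ _ hfin
  have hregB : IsRegularRing (k' ⊗[p.ResidueField] (p.Fiber B)) := hB.2 p k' hfin
  letI algRk' : Algebra R k' :=
    ((algebraMap p.ResidueField k').comp (algebraMap R p.ResidueField)).toAlgebra
  haveI : IsScalarTower R p.ResidueField k' := IsScalarTower.of_algebraMap_eq fun _ => rfl
  -- regularity of `B ⊗ k'`
  let eB : k' ⊗[p.ResidueField] (p.Fiber B) ≃+* B ⊗[R] k' :=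
    (Algebra.TensorProduct.cancelBaseChange R p.ResidueField k' k' B).toRingEquiv.trans
      (Algebra.TensorProduct.comm R k' B).toRingEquiv
  let eA : k' ⊗[p.ResidueField] (p.Fiber A) ≃+* A ⊗[R] k' :=
    (Algebra.TensorProduct.cancelBaseChange R p.ResidueField k' k' A).toRingEquiv.trans
      (Algebra.TensorProduct.comm R k' A).toRingEquiv
  haveI hregB' : IsRegularRing (B ⊗[R] k') :=
    IsRegularRing.of_ringEquiv (R := k' ⊗[p.ResidueField] (p.Fiber B)) eB
  -- faithful flatness of `A ⊗ k' → B ⊗ k'`
  letI algAB' : Algebra (A ⊗[R] k') (B ⊗[R] k') := restageAlgebra R A k' (B ⊗[R] k')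
  have hpo : Algebra.IsPushout A B (A ⊗[R] k') (B ⊗[R] k') :=
    restage_isPushout R A B k' (B ⊗[R] k')
  have hpo' : Algebra.IsPushout A (A ⊗[R] k') B (B ⊗[R] k') := hpo.symm
  let e : (A ⊗[R] k') ⊗[A] B ≃ₐ[A ⊗[R] k'] B ⊗[R] k' :=
    Algebra.IsPushout.equiv A (A ⊗[R] k') B (B ⊗[R] k')
  haveI hff : Module.FaithfullyFlat (A ⊗[R] k') (B ⊗[R] k') :=
    Module.FaithfullyFlat.of_linearEquiv _ _ e.toLinearEquiv.symm
  haveI hregA' : IsRegularRing (A ⊗[R] k') :=
    Groth.Agent.Lib.Helper5.SerreLoc.isRegularRing_of_faithfullyFlat (A ⊗[R] k') (B ⊗[R] k')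
  exact IsRegularRing.of_ringEquiv (R := A ⊗[R] k') eA.symm

end SmoothDesc


section Generic

open TensorProduct

attribute [local instance] Algebra.TensorProduct.rightAlgebra

/-- the hypothesis that a property `Q` of ring maps descends locally along flat finitely presented
maps on the source. -/
def DescendsLocallyOnSource
    (Q : ∀ {R S : Type u} [CommRing R] [CommRing S], (R →+* S) → Prop) : Prop :=
  ∀ {R A B : Type u} [CommRing R] [CommRing A] [CommRing B] [Algebra R A] [Algebra A B]
    [Algebra R B] [IsScalarTower R A B] [Module.Flat A B] [Algebra.FinitePresentation A B],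
    Q (algebraMap R B) → ∀ 𝔭 : PrimeSpectrum A,
      𝔭 ∈ Set.range (PrimeSpectrum.comap (algebraMap A B)) →
      ∃ a : A, a ∉ 𝔭.asIdeal ∧ Q (algebraMap R (Localization.Away a))

/-- A property of ring maps that is stable under composition and base change, holds for
localizations away from an element, and descends along faithfully flat finitely presented maps on
the source, descends locally on the source. -/
theorem descendsLocallyOnSource_of_faithfullyFlat
    {Q : ∀ {R S : Type u} [CommRing R] [CommRing S], (R →+* S) → Prop}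
    (hc : RingHom.StableUnderComposition @Q) (hbc : RingHom.IsStableUnderBaseChange @Q)
    (hl : RingHom.HoldsForLocalizationAway @Q)
    (hd : ∀ {R A B : Type u} [CommRing R] [CommRing A] [CommRing B] [Algebra R A] [Algebra A B]
      [Algebra R B] [IsScalarTower R A B] [Module.FaithfullyFlat A B]
      [Algebra.FinitePresentation A B], Q (algebraMap R B) → Q (algebraMap R A)) :
    DescendsLocallyOnSource @Q := by
  intro R A B _ _ _ _ _ _ _ _ _ hRB 𝔭 h𝔭
  have hopen : IsOpen (Set.range (PrimeSpectrum.comap (algebraMap A B))) :=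
    (PrimeSpectrum.isOpenMap_comap_of_hasGoingDown_of_finitePresentation
      (R := A) (S := B)).isOpen_range
  obtain ⟨_, ⟨_, ⟨a, rfl⟩, rfl⟩, hmem, hsub⟩ :=
    PrimeSpectrum.isBasis_basic_opens.exists_subset_of_mem_open h𝔭 hopen
  refine ⟨a, hmem, ?_⟩
  haveI hff : Module.FaithfullyFlat (Localization.Away a) (Localization.Away a ⊗[A] B) := by
    apply Module.FaithfullyFlat.of_comap_surjective
    intro 𝔮
    apply mem_range_comap_baseChange
    apply hsub
    show a ∉ (PrimeSpectrum.comap (algebraMap A (Localization.Away a)) 𝔮).asIdeal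
    intro ha
    have hu : IsUnit (algebraMap A (Localization.Away a) a) :=
      IsLocalization.Away.algebraMap_isUnit a
    exact 𝔮.isPrime.ne_top (Ideal.eq_top_of_isUnit_mem _ ha hu)
  have h1 : Q (algebraMap A (Localization.Away a)) := hl (Localization.Away a) a
  have h2 : Q (algebraMap B (Localization.Away a ⊗[A] B)) :=
    hbc A (Localization.Away a) B (Localization.Away a ⊗[A] B) h1
  have h4 : algebraMap R (Localization.Away a ⊗[A] B) =
      (algebraMap B (Localization.Away a ⊗[A] B)).comp (algebraMap R B) := by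
    ext r
    rw [RingHom.comp_apply, IsScalarTower.algebraMap_apply R (Localization.Away a)
      (Localization.Away a ⊗[A] B), Algebra.TensorProduct.algebraMap_apply,
      IsScalarTower.algebraMap_apply R A (Localization.Away a),
      IsScalarTower.algebraMap_apply R A B]
    show _ = (1 : Localization.Away a) ⊗ₜ[A] (algebraMap A B (algebraMap R A r))
    simp only [Algebra.algebraMap_self, RingHom.id_apply]
    rw [Algebra.algebraMap_eq_smul_one (algebraMap R A r), TensorProduct.smul_tmul,
      ← Algebra.algebraMap_eq_smul_one]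
  have h5 : Q (algebraMap R (Localization.Away a ⊗[A] B)) := by
    rw [h4]
    exact hc _ _ hRB h2
  exact hd (R := R) (A := Localization.Away a) (B := Localization.Away a ⊗[A] B) h5

end Generic

section Sch

variable {X Y S : Scheme.{u}}

/-- **Generic fppf-locality on the source** for properties of morphisms given by a local property of
ring maps that descends locally on the source. -/
theorem of_fppf_comp {P : MorphismProperty Scheme.{u}}
    {Q : ∀ {R S : Type u} [CommRing R] [CommRing S], (R →+* S) → Prop}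
    [HasRingHomProperty P Q]
    (hQs : RingHom.StableUnderCompositionWithLocalizationAwaySource @Q)
    (hQi : RingHom.RespectsIso @Q) (hQd : DescendsLocallyOnSource @Q)
    (f : X ⟶ Y) (q : Y ⟶ S) [AlgebraicGeometry.Surjective f] [Flat f]
    [LocallyOfFinitePresentation f] (hfq : P (f ≫ q)) : P q := by
  rw [HasRingHomProperty.iff_exists_appLE (P := P) hQs]
  intro y
  obtain ⟨U, hU, hqy, -⟩ := Opens.isBasis_iff_nbhd.mp S.isBasis_affineOpens (Opens.mem_top (q y))
  obtain ⟨V, hV, hyV, hVU⟩ := Opens.isBasis_iff_nbhd.mp Y.isBasis_affineOpens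
    (show y ∈ q ⁻¹ᵁ U from hqy)
  obtain ⟨x, rfl⟩ := f.surjective y
  obtain ⟨W, hW, hxW, hWV⟩ := Opens.isBasis_iff_nbhd.mp X.isBasis_affineOpens
    (show x ∈ f ⁻¹ᵁ V from hyV)
  have hWU : W ≤ (f ≫ q) ⁻¹ᵁ U := hWV.trans ((Opens.map f.base).map (homOfLE hVU)).le
  letI algRA : Algebra Γ(S, U) Γ(Y, V) := (q.appLE U V hVU).hom.toAlgebra
  letI algAB : Algebra Γ(Y, V) Γ(X, W) := (f.appLE V W hWV).hom.toAlgebra
  letI algRB : Algebra Γ(S, U) Γ(X, W) := ((f ≫ q).appLE U W hWU).hom.toAlgebra
  haveI tow : IsScalarTower Γ(S, U) Γ(Y, V) Γ(X, W) := IsScalarTower.of_algebraMap_eq fun r => by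
    have h := Scheme.Hom.appLE_comp_appLE f q U V W hVU hWV
    exact (congr($(h).hom r)).symm
  have hQRB : Q (algebraMap Γ(S, U) Γ(X, W)) :=
    HasRingHomProperty.appLE (P := P) (f ≫ q) hfq ⟨U, hU⟩ ⟨W, hW⟩ hWU
  haveI hfpAB : Algebra.FinitePresentation Γ(Y, V) Γ(X, W) :=
    RingHom.finitePresentation_algebraMap.mp
      (HasRingHomProperty.appLE (P := @LocallyOfFinitePresentation) f inferInstance
        ⟨V, hV⟩ ⟨W, hW⟩ hWV)
  haveI hflAB : Module.Flat Γ(Y, V) Γ(X, W) :=
    HasRingHomProperty.appLE (P := @Flat) f inferInstance ⟨V, hV⟩ ⟨W, hW⟩ hWV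
  have hrange : hV.primeIdealOf ⟨f x, hyV⟩ ∈
      Set.range (PrimeSpectrum.comap (algebraMap Γ(Y, V) Γ(X, W))) :=
    ⟨hW.primeIdealOf ⟨x, hxW⟩, IsAffineOpen.comap_primeIdealOf_appLE V hV W hW hWV hxW⟩
  obtain ⟨a, ha, hQa⟩ := hQd (R := Γ(S, U)) hQRB (hV.primeIdealOf ⟨f x, hyV⟩) hrange
  have hyV' : f x ∈ Y.basicOpen a := by
    have h1 : hV.primeIdealOf ⟨f x, hyV⟩ ∈ hV.fromSpec ⁻¹ᵁ Y.basicOpen a := by
      rw [hV.fromSpec_preimage_basicOpen]
      exact ha
    have h2 : hV.fromSpec (hV.primeIdealOf ⟨f x, hyV⟩) = f x := hV.fromSpec_primeIdealOf ⟨f x, hyV⟩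
    rw [← h2]
    exact h1
  have hle : Y.basicOpen a ≤ V := Y.basicOpen_le a
  refine ⟨⟨U, hU⟩, ⟨Y.basicOpen a, hV.basicOpen a⟩, hyV', hle.trans hVU, ?_⟩
  haveI hloc : IsLocalization.Away a Γ(Y, Y.basicOpen a) := hV.isLocalization_basicOpen a
  let e : Localization.Away a ≃ₐ[Γ(Y, V)] Γ(Y, Y.basicOpen a) :=
    IsLocalization.algEquiv (Submonoid.powers a) _ _
  have h2 : Q ((e.toRingEquiv.toRingHom).comp (algebraMap Γ(S, U) (Localization.Away a))) :=
    hQi.1 _ e.toRingEquiv hQa
  convert h2 using 1
  ext r
  have h3 := Scheme.Hom.appLE_map q hVU (homOfLE hle).op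
  have h4 : (q.appLE U (Y.basicOpen a) (hle.trans hVU)).hom r =
      (Y.presheaf.map (homOfLE hle).op).hom ((q.appLE U V hVU).hom r) :=
    (congr($(h3).hom r)).symm
  rw [h4, RingHom.comp_apply, IsScalarTower.algebraMap_apply Γ(S, U) Γ(Y, V) (Localization.Away a)]
  show _ = e (algebraMap Γ(Y, V) (Localization.Away a) _)
  rw [e.commutes]
  rfl

/-- **Smoothness is fppf local on the source.** -/
theorem smooth_of_fppf_comp (f : X ⟶ Y) (q : Y ⟶ S) [AlgebraicGeometry.Surjective f] [Flat f]
    [LocallyOfFinitePresentation f] [Smooth (f ≫ q)] : Smooth q := by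
  refine of_fppf_comp (P := @Smooth) (Q := @RingHom.Smooth)
    (RingHom.Smooth.stableUnderComposition.stableUnderCompositionWithLocalizationAway
      RingHom.Smooth.holdsForLocalizationAway).1
    RingHom.Smooth.respectsIso ?_ f q inferInstance
  refine descendsLocallyOnSource_of_faithfullyFlat RingHom.Smooth.stableUnderComposition
    RingHom.Smooth.isStableUnderBaseChange RingHom.Smooth.holdsForLocalizationAway ?_
  intro R A B _ _ _ _ _ _ _ _ _ h
  rw [RingHom.smooth_algebraMap] at h ⊢
  haveI := h
  exact smooth_of_faithfullyFlat_of_smooth (B := B)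

end Sch


end Groth.Agent.Lib.Helper21.FlatDesc
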