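import Mathlib
import Groth.Agent.Lib.Helper21.FlatDescT
import Groth.Agent.S0113

/-!
# Helper21 — FlatDescU: local finite type is fppf local on the source.
-/

open AlgebraicGeometry CategoryTheory TopologicalSpace

universe u

namespace Groth.Agent.Lib.Helper21.FlatDesc

variable {X Y S : Scheme.{u}}

/-- **Local finite type is fppf local on the source.** -/
theorem locallyOfFiniteType_of_fppf_comp (f : X ⟶ Y) (q : Y ⟶ S) [AlgebraicGeometry.Surjective f]
    [Flat f] [LocallyOfFinitePresentation f] [LocallyOfFiniteType (f ≫ q)] :
    LocallyOfFiniteType q := by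
  refine of_fppf_comp (P := @LocallyOfFiniteType) (Q := @RingHom.FiniteType)
    (RingHom.finiteType_stableUnderComposition.stableUnderCompositionWithLocalizationAway
      RingHom.finiteType_holdsForLocalizationAway).1
    RingHom.finiteType_respectsIso ?_ f q inferInstance
  refine descendsLocallyOnSource_of_faithfullyFlat RingHom.finiteType_stableUnderComposition
    RingHom.finiteType_isStableUnderBaseChange RingHom.finiteType_holdsForLocalizationAway ?_
  intro R A B _ _ _ _ _ _ _ _ _ h
  rw [RingHom.finiteType_algebraMap] at h ⊢
  haveI := h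
  exact Groth.Agent.S0113.result (R := R) (A := A) (B := B)

/-- Flatness is fppf local on the source. -/
theorem flat_of_fppf_comp (f : X ⟶ Y) (q : Y ⟶ S) [AlgebraicGeometry.Surjective f]
    [Flat f] [LocallyOfFinitePresentation f] [Flat (f ≫ q)] : Flat q := by
  refine of_fppf_comp (P := @Flat) (Q := @RingHom.Flat)
    (RingHom.Flat.stableUnderComposition.stableUnderCompositionWithLocalizationAway
      RingHom.Flat.holdsForLocalizationAway).1
    RingHom.Flat.respectsIso ?_ f q inferInstance
  refine descendsLocallyOnSource_of_faithfullyFlat RingHom.Flat.stableUnderComposition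
    RingHom.Flat.isStableUnderBaseChange RingHom.Flat.holdsForLocalizationAway ?_
  intro R A B _ _ _ _ _ _ _ _ _ h
  rw [RingHom.flat_algebraMap_iff] at h ⊢
  haveI := h
  exact flat_of_flat_of_faithfullyFlat (B := B)

end Groth.Agent.Lib.Helper21.FlatDesc
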