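import Mathlib

/-!
# Helper21 — FlatGoDown1: going down with residue transcendence degrees for flat modules

If `N` is a finite `B`-module, `q` a prime of its support, `N_q` flat over `A₀`, and `p₀` a prime of
`A₀` contained in the nilradical, then there is a prime `q'' ⊆ q` of the support over `p₀` whose
residue transcendence degree is at least that of `q`.
-/

set_option autoImplicit false
set_option backward.isDefEq.respectTransparency.types false

namespace Groth.Agent.Lib.Helper21.FlatGoDown

open TensorProduct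

universe u

theorem aeval_mk_map {W B : Type u} [CommRing W] [CommRing B] [Algebra W B] (p : Ideal W)
    (𝔭 : Ideal B) [𝔭.LiesOver p] {ι : Type*} (t : ι → B) (P : MvPolynomial ι W) :
    MvPolynomial.aeval (fun i => Ideal.Quotient.mk 𝔭 (t i))
      (MvPolynomial.map (Ideal.Quotient.mk p) P) =
        Ideal.Quotient.mk 𝔭 (MvPolynomial.aeval t P) := by
  induction P using MvPolynomial.induction_on with
  | C a =>
    rw [MvPolynomial.map_C, MvPolynomial.aeval_C, MvPolynomial.aeval_C,
      Ideal.Quotient.algebraMap_mk_of_liesOver]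
  | add P Q hP hQ => rw [map_add, map_add, map_add, map_add, hP, hQ]
  | mul_X P i hP =>
    rw [map_mul, map_mul, map_mul, map_mul, hP, MvPolynomial.map_X, MvPolynomial.aeval_X,
      MvPolynomial.aeval_X]

section LI

variable {A₀ B A M : Type u} [CommRing A₀] [CommRing B] [Algebra A₀ B] [CommRing A] [IsLocalRing A]
  [Algebra A₀ A] [AddCommGroup M] [Module A₀ M] [Module B M] [Module A M]
  [IsScalarTower A₀ B M] [IsScalarTower A₀ A M] [SMulCommClass A B M] [Module.Flat A M]
  (p : Ideal A₀) [p.IsPrime] [IsLocalization.AtPrime A p] (q : Ideal B) [q.IsPrime] [q.LiesOver p]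

omit [Module.Flat A M] [IsScalarTower A₀ B M] [IsScalarTower A₀ A M] [Module A₀ M] [Algebra A₀ A]
  [Algebra A₀ B] [q.IsPrime] in
theorem exists_smul_eq_of_mem (hbij : ∀ b : B, b ∉ q → Function.Bijective (fun x : M => b • x))
    (b : B) (hb : b ∉ q) (x : M) (hx : x ∈ IsLocalRing.maximalIdeal A • (⊤ : Submodule A M)) :
    ∃ x' ∈ IsLocalRing.maximalIdeal A • (⊤ : Submodule A M), b • x' = x := by
  refine Submodule.smul_induction_on hx ?_ ?_
  · intro r hr y _
    obtain ⟨z, hz⟩ := (hbij b hb).2 y
    refine ⟨r • z, Submodule.smul_mem_smul hr Submodule.mem_top, ?_⟩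
    rw [← smul_comm]
    exact congrArg (r • ·) hz
  · rintro x y ⟨x', hx', rfl⟩ ⟨y', hy', rfl⟩
    exact ⟨x' + y', Submodule.add_mem _ hx' hy', smul_add _ _ _⟩

theorem aeval_monomial_sum_smul {ι : Type u} (t : ι → B) (m : M) (s : Finset (ι →₀ ℕ))
    (a : (ι →₀ ℕ) → A₀) :
    MvPolynomial.aeval t (∑ j ∈ s, MvPolynomial.monomial j (a j)) • m =
      ∑ j ∈ s, algebraMap A₀ A (a j) •
        (MvPolynomial.aeval t (MvPolynomial.monomial j (1 : A₀)) • m) := by
  rw [map_sum, Finset.sum_smul]
  refine Finset.sum_congr rfl fun j _ => ?_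
  rw [algebraMap_smul, ← smul_assoc]
  congr 1
  rw [← map_smul, MvPolynomial.smul_monomial, smul_eq_mul, mul_one]

set_option maxHeartbeats 800000 in
theorem linearIndependent_monomials
    (hbij : ∀ b : B, b ∉ q → Function.Bijective (fun x : M => b • x))
    (m : M) (hm : m ∉ IsLocalRing.maximalIdeal A • (⊤ : Submodule A M))
    {ι : Type u} (t : ι → B)
    (ht : AlgebraicIndependent (A₀ ⧸ p) (fun i => Ideal.Quotient.mk q (t i))) :
    LinearIndependent A (fun e : ι →₀ ℕ =>
      MvPolynomial.aeval t (MvPolynomial.monomial e (1 : A₀)) • m) := by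
  classical
  apply Module.IsLocalRing.linearIndependent_of_flat
  rw [linearIndependent_iff']
  intro s g hg i hi
  choose c hc using fun j => Ideal.Quotient.mk_surjective (g j)
  have h1 : ∑ j ∈ s, c j • (MvPolynomial.aeval t (MvPolynomial.monomial j (1 : A₀)) • m) ∈
      IsLocalRing.maximalIdeal A • (⊤ : Submodule A M) := by
    rw [← LinearMap.ker_tensorProductMk, LinearMap.mem_ker, map_sum]
    refine Eq.trans ?_ hg
    refine Finset.sum_congr rfl fun j _ => ?_
    rw [map_smul, Function.comp_apply, ← hc j]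
    rfl
  obtain ⟨b, hb⟩ := IsLocalization.exist_integer_multiples p.primeCompl s c
  let a : (ι →₀ ℕ) → A₀ := fun j => if hj : j ∈ s then (hb j hj).choose else 0
  have ha : ∀ j ∈ s, algebraMap A₀ A (a j) = (b : A₀) • c j := by
    intro j hj
    simp only [a, dif_pos hj]
    exact (hb j hj).choose_spec
  set P : MvPolynomial ι A₀ := ∑ j ∈ s, MvPolynomial.monomial j (a j) with hP
  have h2 : MvPolynomial.aeval t P • m ∈ IsLocalRing.maximalIdeal A • (⊤ : Submodule A M) := by
    rw [hP, aeval_monomial_sum_smul (A := A)]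
    have : ∑ j ∈ s, algebraMap A₀ A (a j) •
        (MvPolynomial.aeval t (MvPolynomial.monomial j (1 : A₀)) • m) =
        algebraMap A₀ A (b : A₀) •
          ∑ j ∈ s, c j • (MvPolynomial.aeval t (MvPolynomial.monomial j (1 : A₀)) • m) := by
      rw [Finset.smul_sum]
      refine Finset.sum_congr rfl fun j hj => ?_
      rw [ha j hj, Algebra.smul_def, mul_smul]
    rw [this]
    exact Submodule.smul_mem _ _ h1
  have h3 : MvPolynomial.aeval t P ∈ q := by
    by_contra hn
    obtain ⟨x', hx', hx'e⟩ := exists_smul_eq_of_mem (A := A) q hbij _ hn _ h2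
    exact hm ((hbij _ hn).1 hx'e ▸ hx')
  have h4 : MvPolynomial.map (Ideal.Quotient.mk p) P = 0 := by
    apply (algebraicIndependent_iff.1 ht)
    rw [aeval_mk_map p q t P, Ideal.Quotient.eq_zero_iff_mem]
    exact h3
  have h5 : a i ∈ p := by
    have := congrArg (MvPolynomial.coeff i) h4
    rw [MvPolynomial.coeff_map, MvPolynomial.coeff_zero, hP, MvPolynomial.coeff_sum] at this
    simp only [MvPolynomial.coeff_monomial] at this
    rw [Finset.sum_ite_eq' s i, if_pos hi, Ideal.Quotient.eq_zero_iff_mem] at this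
    exact this
  have h6 : algebraMap A₀ A (a i) ∈ IsLocalRing.maximalIdeal A :=
    (IsLocalization.AtPrime.to_map_mem_maximal_iff A p (a i)).2 h5
  rw [ha i hi, Algebra.smul_def] at h6
  have h7 : c i ∈ IsLocalRing.maximalIdeal A := by
    have hu : IsUnit (algebraMap A₀ A (b : A₀)) := IsLocalization.map_units A b
    exact (Ideal.unit_mul_mem_iff_mem _ hu).1 h6
  rw [← hc i]
  exact Ideal.Quotient.eq_zero_iff_mem.2 h7

theorem algebraMap_coeff_eq_zero
    (hbij : ∀ b : B, b ∉ q → Function.Bijective (fun x : M => b • x))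
    (m : M) (hm : m ∉ IsLocalRing.maximalIdeal A • (⊤ : Submodule A M))
    {ι : Type u} (t : ι → B)
    (ht : AlgebraicIndependent (A₀ ⧸ p) (fun i => Ideal.Quotient.mk q (t i)))
    (P : MvPolynomial ι A₀) (hP : MvPolynomial.aeval t P • m = 0) (e : ι →₀ ℕ) :
    algebraMap A₀ A (P.coeff e) = 0 := by
  classical
  have hli := linearIndependent_monomials (A := A) p q hbij m hm t ht
  by_cases he : e ∈ P.support
  · rw [linearIndependent_iff'] at hli
    refine hli P.support (fun e => algebraMap A₀ A (P.coeff e)) ?_ e he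
    rw [← aeval_monomial_sum_smul (A := A) t m P.support (fun e => P.coeff e),
      MvPolynomial.support_sum_monomial_coeff]
    exact hP
  · rw [MvPolynomial.notMem_support_iff.1 he, map_zero]

end LI

section Prime

variable (A₀ B : Type u) [CommRing A₀] [CommRing B] [Algebra A₀ B]
  (N : Type u) [AddCommGroup N] [Module B N] [Module A₀ N] [IsScalarTower A₀ B N]
  [Module.Finite B N]

/-- the key vanishing: a polynomial in lifts of algebraically independent residue classes that
kills the localized module has all its coefficients in the minimal prime. -/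
theorem coeff_mem_of_aeval_smul_eq_zero (p : Ideal A₀) [p.IsPrime] (q : Ideal B) [q.IsPrime]
    [q.LiesOver p] [Nontrivial (LocalizedModule q.primeCompl N)]
    (hflat : Module.Flat A₀ (LocalizedModule q.primeCompl N))
    (p₀ : Ideal A₀) [p₀.IsPrime] (hp₀ : p₀ ≤ nilradical A₀)
    {ι : Type u} (t : ι → B)
    (ht : AlgebraicIndependent (A₀ ⧸ p) (fun i => Ideal.Quotient.mk q (t i)))
    (P : MvPolynomial ι A₀)
    (hP : ∀ x : LocalizedModule q.primeCompl N, MvPolynomial.aeval t P • x = 0) (e : ι →₀ ℕ) :
    P.coeff e ∈ p₀ := by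
  have hpq : p = q.comap (algebraMap A₀ B) := Ideal.LiesOver.over
  let R := Localization.AtPrime p
  let S := Localization.AtPrime q
  let Nq := LocalizedModule q.primeCompl N
  letI algRS : Algebra R S := (Localization.localRingHom p q (algebraMap A₀ B) hpq).toAlgebra
  haveI : IsLocalHom (algebraMap R S) := Localization.isLocalHom_localRingHom p q _ hpq
  haveI twARS : IsScalarTower A₀ R S := IsScalarTower.of_algebraMap_eq fun a => by
    show algebraMap A₀ S a =
      Localization.localRingHom p q (algebraMap A₀ B) hpq (algebraMap A₀ R a)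
    rw [Localization.localRingHom_to_map, IsScalarTower.algebraMap_apply A₀ B S]
  letI modRN : Module R Nq := Module.compHom Nq (algebraMap R S)
  haveI twRSN : IsScalarTower R S Nq := IsScalarTower.of_algebraMap_smul fun _ _ => rfl
  haveI twARN : IsScalarTower A₀ R Nq := ⟨fun a r n => by
    show algebraMap R S (a • r) • n = a • (algebraMap R S r • n)
    rw [Algebra.smul_def, map_mul, mul_smul, ← IsScalarTower.algebraMap_apply A₀ R S,
      algebraMap_smul]⟩
  haveI flatRN : Module.Flat R Nq := (Module.flat_iff_of_isLocalization R p.primeCompl Nq).2 hflat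
  haveI : SMulCommClass R B Nq := ⟨fun r b x => by
    show algebraMap R S r • b • x = b • algebraMap R S r • x
    rw [← algebraMap_smul S b x, ← algebraMap_smul S b (algebraMap R S r • x), smul_smul,
      smul_smul, mul_comm]⟩
  have hbij : ∀ b : B, b ∉ q → Function.Bijective (fun x : Nq => b • x) := by
    intro b hb
    have h1 := IsLocalizedModule.map_units (LocalizedModule.mkLinearMap q.primeCompl N)
      (⟨b, hb⟩ : q.primeCompl)
    rw [Module.End.isUnit_iff] at h1
    exact h1
  obtain ⟨m, hm⟩ : ∃ m : Nq, m ∉ IsLocalRing.maximalIdeal R • (⊤ : Submodule R Nq) := by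
    have h1 : (⊤ : Submodule S Nq) ≠ IsLocalRing.maximalIdeal S • ⊤ :=
      Submodule.top_ne_ideal_smul_of_le_jacobson_annihilator
        (IsLocalRing.maximalIdeal_le_jacobson _)
    obtain ⟨m, hm⟩ : ∃ m : Nq, m ∉ IsLocalRing.maximalIdeal S • (⊤ : Submodule S Nq) := by
      by_contra hn
      push Not at hn
      exact h1 (le_antisymm (fun x _ => hn x) le_top)
    refine ⟨m, fun hmem => hm ?_⟩
    refine Submodule.smul_induction_on hmem ?_ ?_
    · intro r hr y _
      show algebraMap R S r • y ∈ _
      refine Submodule.smul_mem_smul ?_ Submodule.mem_top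
      exact ((IsLocalRing.mem_maximalIdeal _).2
        (fun hu => (IsLocalRing.mem_maximalIdeal _).1 hr (isUnit_of_map_unit _ _ hu)))
    · intro x y hx hy
      exact Submodule.add_mem _ hx hy
  have h1 := algebraMap_coeff_eq_zero (A := R) p q hbij m hm t ht P (hP m) e
  obtain ⟨u, hu⟩ := (IsLocalization.map_eq_zero_iff p.primeCompl R _).1 h1
  rcases Ideal.IsPrime.mem_or_mem ‹p₀.IsPrime› (hu ▸ p₀.zero_mem : (u : A₀) * P.coeff e ∈ p₀)
    with h | h
  · exact absurd ((hp₀.trans (nilradical_le_prime p)) h) u.2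
  · exact h

set_option maxHeartbeats 800000 in
open Cardinal in
/-- **going down with residue transcendence degrees** for a finite module flat over the base at
a prime of its support. -/
theorem exists_prime_trdeg_le (p : Ideal A₀) [p.IsPrime] (q : Ideal B) [q.IsPrime] [q.LiesOver p]
    [Nontrivial (LocalizedModule q.primeCompl N)]
    (hflat : Module.Flat A₀ (LocalizedModule q.primeCompl N))
    (p₀ : Ideal A₀) [p₀.IsPrime] (hp₀ : p₀ ≤ nilradical A₀) :
    ∃ (q'' : Ideal B) (_ : q''.IsPrime) (_ : q''.LiesOver p₀), q'' ≤ q ∧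
      Module.annihilator B N ≤ q'' ∧
      Algebra.trdeg (A₀ ⧸ p) (B ⧸ q) ≤ Algebra.trdeg (A₀ ⧸ p₀) (B ⧸ q'') := by
  classical
  obtain ⟨s, hs⟩ := exists_isTranscendenceBasis (A₀ ⧸ p) (B ⧸ q)
  choose t ht using fun i : s => Ideal.Quotient.mk_surjective (I := q) i.1
  have hfun : (fun i => Ideal.Quotient.mk q (t i)) = ((↑) : s → B ⧸ q) := funext ht
  have ht' : AlgebraicIndependent (A₀ ⧸ p) (fun i => Ideal.Quotient.mk q (t i)) := by
    rw [hfun]; exact hs.1
  let Nq := LocalizedModule q.primeCompl N
  let φ : MvPolynomial s A₀ →+* MvPolynomial s (A₀ ⧸ p₀) :=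
    MvPolynomial.map (Ideal.Quotient.mk p₀)
  haveI : (RingHom.ker φ).IsPrime := RingHom.ker_isPrime φ
  let W : Submonoid B :=
    Submonoid.map (MvPolynomial.aeval t : MvPolynomial s A₀ →ₐ[A₀] B) (RingHom.ker φ).primeCompl ⊔
      q.primeCompl
  have hker : ∀ P : MvPolynomial s A₀, (∀ e, P.coeff e ∈ p₀) → P ∈ RingHom.ker φ := by
    intro P hP
    rw [RingHom.mem_ker]
    ext e
    rw [MvPolynomial.coeff_map, MvPolynomial.coeff_zero]
    exact Ideal.Quotient.eq_zero_iff_mem.2 (hP e)
  have hdisj : Disjoint ((Module.annihilator B Nq : Ideal B) : Set B) (W : Set B) := by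
    rw [Set.disjoint_left]
    intro w hwa hwW
    obtain ⟨y, ⟨P, hP, rfl⟩, v, hv, rfl⟩ := Submonoid.mem_sup.1 hwW
    apply hP
    apply hker
    apply coeff_mem_of_aeval_smul_eq_zero A₀ B N p q hflat p₀ hp₀ t ht' P
    intro x
    have hbij := IsLocalizedModule.map_units (LocalizedModule.mkLinearMap q.primeCompl N)
      (⟨v, hv⟩ : q.primeCompl)
    rw [Module.End.isUnit_iff] at hbij
    obtain ⟨x', rfl⟩ := hbij.2 x
    have := Module.mem_annihilator.1 hwa x'
    rw [mul_smul] at this
    exact this
  obtain ⟨q'', hq''p, hq''a, hq''d⟩ := Ideal.exists_le_prime_disjoint _ W hdisj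
  rw [Set.disjoint_left] at hq''d
  haveI := hq''p
  have hle : q'' ≤ q := by
    intro b hb
    by_contra hn
    exact hq''d hb (SetLike.le_def.1 le_sup_right (show b ∈ q.primeCompl from hn))
  have hmemW : ∀ P : MvPolynomial s A₀, P ∉ RingHom.ker φ → MvPolynomial.aeval t P ∈ W :=
    fun P hP => SetLike.le_def.1 le_sup_left ⟨P, hP, rfl⟩
  have hover : q''.LiesOver p₀ := by
    constructor
    apply le_antisymm
    · exact hp₀.trans (nilradical_le_prime _)
    · intro a ha
      by_contra hn
      have h1 : (MvPolynomial.C a : MvPolynomial s A₀) ∉ RingHom.ker φ := by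
        rw [RingHom.mem_ker]
        show MvPolynomial.map (Ideal.Quotient.mk p₀) (MvPolynomial.C a) ≠ 0
        rw [MvPolynomial.map_C, Ne, MvPolynomial.C_eq_zero, Ideal.Quotient.eq_zero_iff_mem]
        exact hn
      have h2 := hmemW _ h1
      rw [MvPolynomial.aeval_C] at h2
      exact hq''d ha h2
  haveI := hover
  refine ⟨q'', hq''p, hover, hle, ?_, ?_⟩
  · refine le_trans ?_ hq''a
    intro b hb
    rw [Module.mem_annihilator] at hb ⊢
    intro x
    induction x using LocalizedModule.induction_on with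
    | h n s =>
      rw [LocalizedModule.smul'_mk, hb n, LocalizedModule.zero_mk]
  · have h1 : AlgebraicIndependent (A₀ ⧸ p₀) (fun i : s => Ideal.Quotient.mk q'' (t i)) := by
      rw [algebraicIndependent_iff]
      intro Pbar hPbar
      obtain ⟨P, rfl⟩ := MvPolynomial.map_surjective
        (Ideal.Quotient.mk p₀) Ideal.Quotient.mk_surjective Pbar
      rw [aeval_mk_map p₀ q'' t P, Ideal.Quotient.eq_zero_iff_mem] at hPbar
      by_contra hn
      exact hq''d hPbar (hmemW P hn)
    rw [← hs.cardinalMk_eq_trdeg]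
    exact h1.cardinalMk_le_trdeg

end Prime

end Groth.Agent.Lib.Helper21.FlatGoDown
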