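import Mathlib
import Groth.Prelude.Def_EGA4b
import Groth.Agent.Lib.Helper21.AssDim3

/-!
# Helper21 — SuppDim1: for a proper morphism of finite presentation and a flat finitely presented
module, the dimension of the support of the fibre module is locally constant on the base.
-/

set_option autoImplicit false
set_option backward.isDefEq.respectTransparency.types false

namespace Groth.Agent.Lib.Helper21.SuppDim

open AlgebraicGeometry CategoryTheory IsLocalRing TensorProduct TopologicalSpace Topology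
open Groth.Agent.Lib.Helper21.FibreStalk Groth.Agent.Lib.Helper17.ModStalk
open Groth.Agent.Lib.Helper24.FibreDim Groth.Agent.Lib.Helper21.FlatDesc
open Groth.Agent.Lib.Helper21.MCop Groth.Agent.Lib.Helper21.FibDepth
open Groth.Agent.Lib.Helper21.RectDepth Groth.Agent.Lib.Helper21.FlatOpen
open Groth.Agent.Lib.Helper21.CompDim Groth.Agent.Lib.Helper21.AssDim
open Groth.Agent.Lib.Helper24.JacDim

universe u

section Ring

variable (A₀ B : Type u) [CommRing A₀] [CommRing B] [Algebra A₀ B] [Algebra.FiniteType A₀ B]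
  (N : Type u) [AddCommGroup N] [Module B N] [Module.Finite B N]

set_option maxHeartbeats 800000 in
theorem exists_le_tr_eq_fibSuppDim (q : PrimeSpectrum B) (hq : q ∈ Module.support B N) :
    ∃ z : PrimeSpectrum B, z ≤ q ∧
      z.asIdeal.comap (algebraMap A₀ B) = q.asIdeal.comap (algebraMap A₀ B) ∧
      z ∈ Module.support B N ∧
      ((tr (specMap A₀ B) z : ℕ) : WithBot ℕ∞) = fibSuppDim A₀ B N q := by
  obtain ⟨w, rfl⟩ := exists_of_mem_support B N q hq
  obtain ⟨z', hz'g, hz'w, -, hz'tr⟩ :=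
    exists_max_tr (specMap A₀ (B ⧸ Module.annihilator B N)) w
  have hcomap : ∀ w : PrimeSpectrum (B ⧸ Module.annihilator B N),
      w.asIdeal.comap (algebraMap A₀ (B ⧸ Module.annihilator B N)) =
        (PrimeSpectrum.comap (Ideal.Quotient.mk (Module.annihilator B N)) w).asIdeal.comap
          (algebraMap A₀ B) := by
    intro w
    show _ = (w.asIdeal.comap (Ideal.Quotient.mk _)).comap (algebraMap A₀ B)
    rw [Ideal.comap_comap]
    rfl
  refine ⟨PrimeSpectrum.comap (Ideal.Quotient.mk (Module.annihilator B N)) z', ?_, ?_, ?_, ?_⟩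
  · have hz'le : (show PrimeSpectrum (B ⧸ Module.annihilator B N) from z').asIdeal ≤ w.asIdeal :=
      (PrimeSpectrum.le_iff_specializes
        (show PrimeSpectrum (B ⧸ Module.annihilator B N) from z') w).2 hz'w
    exact Ideal.comap_mono hz'le
  · rw [← hcomap, ← hcomap]
    exact congrArg PrimeSpectrum.asIdeal hz'g
  · rw [Module.mem_support_iff_of_finite]
    intro b hb
    show Ideal.Quotient.mk (Module.annihilator B N) b ∈
      (show PrimeSpectrum (B ⧸ Module.annihilator B N) from z').asIdeal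
    rw [Ideal.Quotient.eq_zero_iff_mem.2 hb]
    exact Ideal.zero_mem _
  · rw [← fibDim_annihilator, ← tr_quotient A₀ B (Module.annihilator B N) z']
    exact hz'tr

theorem fibSuppDim_le_iff (k : ℕ) (q : PrimeSpectrum B) (hq : q ∈ Module.support B N) :
    fibSuppDim A₀ B N q ≤ (k : WithBot ℕ∞) ↔
      ∀ z : PrimeSpectrum B, z ≤ q →
        z.asIdeal.comap (algebraMap A₀ B) = q.asIdeal.comap (algebraMap A₀ B) →
        z ∈ Module.support B N → tr (specMap A₀ B) z ≤ k := by
  constructor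
  · intro h z hle hc hz
    have h1 := tr_le_fibSuppDim A₀ B N z hz
    have h2 := fibSuppDim_mono A₀ B N z q hle hc hz
    have h3 := (h1.trans h2).trans h
    exact_mod_cast h3
  · intro h
    obtain ⟨z, hle, hc, hz, htr⟩ := exists_le_tr_eq_fibSuppDim A₀ B N q hq
    rw [← htr]
    exact_mod_cast h z hle hc hz

end Ring

variable {X Y : Scheme.{u}}

section Open

set_option maxHeartbeats 1600000 in
theorem isOpen_tr_le (f : X ⟶ Y) [LocallyOfFiniteType f] (F : X.Modules)
    [SheafOfModules.IsFinitePresentation.{u} (R := X.ringCatSheaf) F] (k : ℕ) :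
    IsOpen {x : X | ∀ x' : X, x' ⤳ x → f x' = f x → Nontrivial (F.presheaf.stalk x') →
      tr f x' ≤ k} := by
  haveI : F.IsQuasicoherent :=
    Groth.Agent.Lib.Helper29.FPDict.isQuasicoherent_of_isFinitePresentation F
  rw [isOpen_iff_forall_mem_open]
  intro x hx
  obtain ⟨_, ⟨V, hV : IsAffineOpen V, rfl⟩, hfxV, -⟩ :=
    Y.isBasis_affineOpens.exists_subset_of_mem_open (Set.mem_univ (f x)) isOpen_univ
  obtain ⟨_, ⟨U, hU : IsAffineOpen U, rfl⟩, hxU, hUV⟩ :=
    X.isBasis_affineOpens.exists_subset_of_mem_open (show x ∈ (f ⁻¹ᵁ V : Set X) from hfxV)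
      (f ⁻¹ᵁ V).isOpen
  letI algCB : Algebra Γ(Y, V) Γ(X, U) := (f.appLE V U hUV).hom.toAlgebra
  haveI : Algebra.FiniteType Γ(Y, V) Γ(X, U) := f.finiteType_appLE hV hU hUV
  haveI : Module.FinitePresentation Γ(X, U) Γ(F, U) :=
    Groth.Agent.Lib.Helper29.FPDict.fp_of_isAffineOpen F hU
  have hopen := isOpen_fibSuppDim_le Γ(Y, V) Γ(X, U) Γ(F, U) k
  have key : ∀ (y : X) (hy : y ∈ U),
      (∀ x' : X, x' ⤳ y → f x' = f y → Nontrivial (F.presheaf.stalk x') → tr f x' ≤ k) ↔
      hU.primeIdealOf ⟨y, hy⟩ ∈ {q : PrimeSpectrum Γ(X, U) |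
        q ∈ Module.support Γ(X, U) Γ(F, U) → fibSuppDim Γ(Y, V) Γ(X, U) Γ(F, U) q ≤ k} := by
    intro y hy
    have h1 := gen_chart f hU hV hUV y hy
      (fun x' => Nontrivial (F.presheaf.stalk x') → tr f x' ≤ k)
      (fun z => z ∈ Module.support Γ(X, U) Γ(F, U) → tr (specMap Γ(Y, V) Γ(X, U)) z ≤ k) (by
        intro x' hx'
        rw [nontrivial_stalk_iff_mem_support F hU x' hx', tr_chart f hU hV hUV x' hx'])
    rw [h1, Set.mem_setOf_eq]
    constructor
    · intro h hq
      exact (fibSuppDim_le_iff Γ(Y, V) Γ(X, U) Γ(F, U) k _ hq).2 h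
    · intro h z hle hc hz
      have hq : hU.primeIdealOf ⟨y, hy⟩ ∈ Module.support Γ(X, U) Γ(F, U) := by
        rw [Module.mem_support_iff_of_finite] at hz ⊢
        exact hz.trans hle
      exact (fibSuppDim_le_iff Γ(Y, V) Γ(X, U) Γ(F, U) k _ hq).1 (h hq) z hle hc hz
  refine ⟨Subtype.val '' ((fun y : U => hU.primeIdealOf y) ⁻¹'
    {q : PrimeSpectrum Γ(X, U) |
        q ∈ Module.support Γ(X, U) Γ(F, U) → fibSuppDim Γ(Y, V) Γ(X, U) Γ(F, U) q ≤ k}),
    ?_, ?_, ?_⟩
  · rintro _ ⟨y, hy, rfl⟩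
    exact (key y.1 y.2).2 hy
  · exact U.2.isOpenMap_subtype_val _ (hopen.preimage hU.isoSpec.hom.continuous)
  · exact ⟨⟨x, hxU⟩, (key x hxU).1 hx, rfl⟩

end Open

section Main

theorem tr_le_dim_fibSupp (f : X ⟶ Y) [LocallyOfFiniteType f] (F : X.Modules)
    [SheafOfModules.IsFinitePresentation.{u} (R := X.ringCatSheaf) F] (y : Y) (z : f.fiber y)
    (hz : z ∈ fibSupp f F y) :
    ((tr f (f.fiberι y z) : ℕ) : WithBot ℕ∞) ≤ topologicalKrullDim ↥(fibSupp f F y) := by
  rw [← dim_closure_fiber_point f y z]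
  have hsub : closure ({z} : Set ↥(f.fiber y)) ⊆ fibSupp f F y :=
    (isClosed_fibSupp f F y).closure_subset_iff.2 (Set.singleton_subset_iff.2 hz)
  exact (Topology.IsEmbedding.inclusion hsub).isInducing.topologicalKrullDim_le

theorem dim_fibSupp_le (f : X ⟶ Y) [LocallyOfFiniteType f] (F : X.Modules)
    [SheafOfModules.IsFinitePresentation.{u} (R := X.ringCatSheaf) F] (y : Y) (k : ℕ)
    (h : ∀ z ∈ fibSupp f F y, tr f (f.fiberι y z) ≤ k) :
    topologicalKrullDim ↥(fibSupp f F y) ≤ (k : WithBot ℕ∞) := by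
  obtain ⟨hN, δ, hD⟩ := exists_dimData_fiber f y
  haveI : QuasiSober ↥(fibSupp f F y) :=
    (isClosed_fibSupp f F y).isClosedEmbedding_subtypeVal.quasiSober
  refine dim_le_of_chains_mem _ _ ?_
  intro m c hc hmem
  have h1 := chain_le_toNat hD hc (c 0) specializes_rfl
  have h2 : (((δ (c 0)).toNat : ℕ) : WithBot ℕ∞) =
      ((tr f (f.fiberι y (c 0)) : ℕ) : WithBot ℕ∞) := by
    rw [← dim_closure_eq hD (c 0), dim_closure_fiber_point]
  have h2' : (δ (c 0)).toNat = tr f (f.fiberι y (c 0)) := by exact_mod_cast h2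
  have h3 := h (c 0) (hmem 0)
  have h4 : m ≤ k := by omega
  exact_mod_cast h4

theorem dim_eq_bot_of_isEmpty (T : Type*) [TopologicalSpace T] [IsEmpty T] :
    topologicalKrullDim T = ⊥ := by
  haveI : IsEmpty (TopologicalSpace.IrreducibleCloseds T) :=
    ⟨fun c => IsEmpty.elim inferInstance c.isIrreducible'.nonempty.some⟩
  exact Order.krullDim_eq_bot

set_option maxHeartbeats 1600000 in
/-- **EGA IV 12.2.1-type statement** (S4969). -/
theorem isLocallyConstant_dim_fibSupp (f : X ⟶ Y) [IsProper f] [LocallyOfFinitePresentation f]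
    (F : X.Modules) [SheafOfModules.IsFinitePresentation.{u} (R := X.ringCatSheaf) F]
    (hflat : FlatMod.IsFlatOver f F) :
    IsLocallyConstant (fun y : Y => topologicalKrullDim ↥(fibSupp f F y)) := by
  haveI : F.IsQuasicoherent :=
    Groth.Agent.Lib.Helper29.FPDict.isQuasicoherent_of_isFinitePresentation F
  haveI : ∀ x : X, Module.Finite (X.presheaf.stalk x) (F.presheaf.stalk x) :=
    finite_stalk_of_fp F
  have hup : ∀ k : ℕ, IsOpen {y : Y | ∀ z ∈ fibSupp f F y, tr f (f.fiberι y z) ≤ k} := by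
    intro k
    have hEo := isOpen_tr_le f F k
    have hcl := f.isClosedMap _ hEo.isClosed_compl
    convert hcl.isOpen_compl using 1
    ext y
    constructor
    · rintro h ⟨x, hx, rfl⟩
      apply hx
      intro x' hsp hf hnt
      obtain ⟨z, hz⟩ := exists_fibre_point f x' (f x) hf
      have := h z ((nontrivial_stalk_pullback_fiber_iff f F _ z).2 (hz.symm ▸ hnt))
      rwa [hz] at this
    · intro h z hz
      by_contra hn
      apply h
      refine ⟨f.fiberι y z, ?_, apply_fiberι f y z⟩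
      intro hx
      exact hn (hx _ specializes_rfl rfl ((nontrivial_stalk_pullback_fiber_iff f F y z).1 hz))
  rw [IsLocallyConstant.iff_exists_open]
  intro y
  by_cases hne : (fibSupp f F y).Nonempty
  · -- a uniform bound on the fibre
    obtain ⟨k, hk⟩ : ∃ k : ℕ, ∀ z ∈ fibSupp f F y, tr f (f.fiberι y z) ≤ k := by
      have hcov : (Set.univ : Set ↥(f.fiber y)) ⊆ ⋃ k : ℕ, (f.fiberι y) ⁻¹'
          {x : X | ∀ x' : X, x' ⤳ x → f x' = f x → Nontrivial (F.presheaf.stalk x') →
            tr f x' ≤ k} := by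
        intro z _
        obtain ⟨w, -, -, -, hw⟩ := exists_max_tr f (f.fiberι y z)
        refine Set.mem_iUnion.2 ⟨tr f w, ?_⟩
        intro x' hsp hf _
        have h1 := tr_le_fibreDimAt f hsp hf
        rw [← hw] at h1
        exact_mod_cast h1
      obtain ⟨k, hk⟩ := isCompact_univ.elim_directed_cover _
        (fun k => (isOpen_tr_le f F k).preimage (f.fiberι y).continuous) hcov (by
          apply Monotone.directed_le
          intro a b hab z hz x' hsp hf hnt
          exact (hz x' hsp hf hnt).trans hab)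
      refine ⟨k, fun z hz => ?_⟩
      exact hk (Set.mem_univ z) _ specializes_rfl rfl
        ((nontrivial_stalk_pullback_fiber_iff f F y z).1 hz)
    set T : Set ℕ := {t : ℕ | ∃ z ∈ fibSupp f F y, tr f (f.fiberι y z) = t} with hT
    have hTne : T.Nonempty := by
      obtain ⟨z, hz⟩ := hne
      exact ⟨_, z, hz, rfl⟩
    have hTb : BddAbove T := ⟨k, by rintro _ ⟨z, hz, rfl⟩; exact hk z hz⟩
    obtain ⟨z₁, hz₁, hz₁n⟩ := Nat.sSup_mem hTne hTb
    set n := sSup T with hn
    have hmaxn : ∀ z ∈ fibSupp f F y, tr f (f.fiberι y z) ≤ n := fun z hz =>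
      le_csSup hTb ⟨z, hz, rfl⟩
    have hey : topologicalKrullDim ↥(fibSupp f F y) = (n : WithBot ℕ∞) := by
      apply le_antisymm (dim_fibSupp_le f F y n hmaxn)
      rw [← hz₁n]
      exact tr_le_dim_fibSupp f F y z₁ hz₁
    obtain ⟨Z₁, hZ₁, hz₁Z₁⟩ := exists_mem_irreducibleComponents (fibSupp f F y) z₁ hz₁
    obtain ⟨ξ, hξS, -, hdimξ, hspec⟩ := exists_generic_fiber f F y Z₁ hZ₁
    have hξz : ξ ⤳ z₁ := hspec ⟨z₁, hz₁⟩ hz₁Z₁
    have hdimZ₁ : topologicalKrullDim ↥Z₁ = (n : WithBot ℕ∞) := by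
      rw [hdimξ]
      have h1 : tr f (f.fiberι y ξ) ≤ n := hmaxn ξ hξS
      have h2 : ((tr f (f.fiberι y z₁) : ℕ) : WithBot ℕ∞) ≤
          ((tr f (f.fiberι y ξ) : ℕ) : WithBot ℕ∞) := by
        rw [← dim_closure_fiber_point f y z₁, ← dim_closure_fiber_point f y ξ]
        have hsub : closure ({z₁} : Set ↥(f.fiber y)) ⊆ closure ({ξ} : Set ↥(f.fiber y)) :=
          isClosed_closure.closure_subset_iff.2
            (Set.singleton_subset_iff.2 (specializes_iff_mem_closure.1 hξz))
        exact (Topology.IsEmbedding.inclusion hsub).isInducing.topologicalKrullDim_le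
      have h3 : tr f (f.fiberι y z₁) ≤ tr f (f.fiberι y ξ) := by exact_mod_cast h2
      have h4 : tr f (f.fiberι y ξ) = n := by omega
      rw [h4]
    have hW := isOpen_exists_component_dim f F hflat n
    refine ⟨{y' : Y | ∃ Z ∈ irreducibleComponents ↥(fibSupp f F y'),
        topologicalKrullDim ↥Z = (n : WithBot ℕ∞)} ∩
      {y' : Y | ∀ z ∈ fibSupp f F y', tr f (f.fiberι y' z) ≤ n}, hW.inter (hup n),
      ⟨⟨Z₁, hZ₁, hdimZ₁⟩, hmaxn⟩, ?_⟩
    rintro y' ⟨⟨Z', -, hdimZ'⟩, hmax'⟩
    show topologicalKrullDim ↥(fibSupp f F y') = topologicalKrullDim ↥(fibSupp f F y)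
    rw [hey]
    apply le_antisymm (dim_fibSupp_le f F y' n hmax')
    rw [← hdimZ']
    exact Topology.IsInducing.subtypeVal.topologicalKrullDim_le
  · have hclosedF : IsClosed {x : X | Nontrivial (F.presheaf.stalk x)} := by
      have h1 := Groth.Agent.S0020.result X F inferInstance
      have h2 : CohB1.support F = {x : X | Nontrivial (F.presheaf.stalk x)} := by
        ext x
        exact not_subsingleton_iff_nontrivial
      rwa [h2] at h1
    have hempty : ∀ y' : Y, y' ∉ f '' {x : X | Nontrivial (F.presheaf.stalk x)} →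
        topologicalKrullDim ↥(fibSupp f F y') = ⊥ := by
      intro y' hy'
      haveI : IsEmpty ↥(fibSupp f F y') := by
        refine ⟨fun z => hy' ⟨f.fiberι y' z.1, ?_, apply_fiberι f y' z.1⟩⟩
        exact (nontrivial_stalk_pullback_fiber_iff f F y' z.1).1 z.2
      exact dim_eq_bot_of_isEmpty _
    have hy : y ∉ f '' {x : X | Nontrivial (F.presheaf.stalk x)} := by
      rintro ⟨x, hx, rfl⟩
      apply hne
      obtain ⟨z, hz⟩ := exists_fibre_point f x (f x) rfl
      exact ⟨z, (nontrivial_stalk_pullback_fiber_iff f F _ z).2 (hz.symm ▸ hx)⟩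
    refine ⟨(f '' {x : X | Nontrivial (F.presheaf.stalk x)})ᶜ,
      (f.isClosedMap _ hclosedF).isOpen_compl, hy, ?_⟩
    intro y' hy'
    show topologicalKrullDim ↥(fibSupp f F y') = topologicalKrullDim ↥(fibSupp f F y)
    rw [hempty y' hy', hempty y hy]

end Main

end Groth.Agent.Lib.Helper21.SuppDim
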