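import Mathlib
import Groth.Prelude.Def_EGA4b
import Groth.Prelude.Def_Coh
import Groth.Prelude.Def_CohB1
import Groth.Agent.Lib.Helper21.FlatGoDown1
import Groth.Agent.Lib.Helper21.SuppDim1
import Groth.Agent.Lib.Helper28.FinType
import Groth.Agent.Lib.Helper7.StalkFree

/-!
# Helper21 — FlatGoDown2: for a finite type quasi-coherent module flat over an irreducible base,
every point of the support has a generization in the support of the generic fibre with at least the
same residue transcendence degree; consequence for the dimension of the supports in the fibres.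
-/

set_option autoImplicit false
set_option backward.isDefEq.respectTransparency.types false

namespace Groth.Agent.Lib.Helper21.FlatGoDown

open AlgebraicGeometry CategoryTheory IsLocalRing TensorProduct TopologicalSpace Topology
open Groth.Agent.Lib.Helper21.FibreStalk Groth.Agent.Lib.Helper17.ModStalk
open Groth.Agent.Lib.Helper24.FibreDim Groth.Agent.Lib.Helper21.FlatDesc
open Groth.Agent.Lib.Helper21.MCop Groth.Agent.Lib.Helper21.FibDepth
open Groth.Agent.Lib.Helper21.FlatOpen Groth.Agent.Lib.Helper21.CompDim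
open Groth.Agent.Lib.lead Groth.Agent.Lib.Helper21.RectDepth Groth.Agent.Lib.Helper21.AssDim
open Groth.Agent.Lib.Helper24.JacDim Groth.Agent.Lib.Helper21.SuppDim

universe u

variable {X S : Scheme.{u}}

set_option maxHeartbeats 1600000 in
set_option synthInstance.maxHeartbeats 200000 in
theorem exists_generic_generization (f : X ⟶ S) [LocallyOfFiniteType f] [IrreducibleSpace ↑S]
    (F : X.Modules) [F.IsQuasicoherent] [SheafOfModules.IsFiniteType.{u} (R := X.ringCatSheaf) F]
    (hfl : FlatMod.IsFlatOver f F) (x : X) (hx : Nontrivial (F.presheaf.stalk x)) :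
    ∃ x'' : X, x'' ⤳ x ∧ f x'' = genericPoint ↑S ∧ Nontrivial (F.presheaf.stalk x'') ∧
      tr f x ≤ tr f x'' := by
  obtain ⟨V, hV, U, hU, hUV, hxU⟩ := exists_chart f x
  letI algCB : Algebra Γ(S, V) Γ(X, U) := (f.appLE V U hUV).hom.toAlgebra
  have halg : algebraMap Γ(S, V) Γ(X, U) = (f.appLE V U hUV).hom := rfl
  letI mC : Module Γ(S, V) Γ(F, U) := Module.compHom Γ(F, U) (algebraMap Γ(S, V) Γ(X, U))
  haveI : IsScalarTower Γ(S, V) Γ(X, U) Γ(F, U) := IsScalarTower.of_compHom _ _ _
  haveI : Module.Finite Γ(X, U) Γ(F, U) := Groth.Agent.Lib.Helper28.FinType.finite_of_isAffineOpen F hU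
  set q : Ideal Γ(X, U) := (hU.primeIdealOf ⟨x, hxU⟩).asIdeal with hq
  set p : Ideal Γ(S, V) := (hV.primeIdealOf ⟨f x, hUV hxU⟩).asIdeal with hp
  haveI : q.LiesOver p := ResTrdegBridge.liesOver_primeIdealOf f x hV hU hUV hxU (hUV hxU) halg
  haveI : Nontrivial (LocalizedModule q.primeCompl Γ(F, U)) :=
    Module.mem_support_iff.1 ((nontrivial_stalk_iff_mem_support F hU x hxU).1 hx)
  have hflat : Module.Flat Γ(S, V) (LocalizedModule q.primeCompl Γ(F, U)) :=
    (isFlatOverAt_iff_flat_localized f F hU hV hUV x hxU).1 (hfl x)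
  have hηV : genericPoint ↑S ∈ V := by
    have := (genericPoint_spec ↑S).mem_open_set_iff V.2
    exact this.2 ⟨f x, Set.mem_univ _, hUV hxU⟩
  set p₀ : Ideal Γ(S, V) := (hV.primeIdealOf ⟨genericPoint ↑S, hηV⟩).asIdeal with hp₀
  have hp₀nil : p₀ ≤ nilradical Γ(S, V) := by
    rw [nilradical_eq_sInf]
    refine le_sInf fun J hJ => ?_
    obtain ⟨y, hyV, hy⟩ := exists_primeIdealOf_eq hV (⟨J, hJ⟩ : PrimeSpectrum Γ(S, V))
    have h1 : hV.primeIdealOf ⟨genericPoint ↑S, hηV⟩ ≤ hV.primeIdealOf ⟨y, hyV⟩ :=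
      (primeIdealOf_le_iff hV hηV hyV).2 (_root_.genericPoint_specializes y)
    rw [hy] at h1
    exact h1
  obtain ⟨q'', hq''p, hq''o, hle, hann, htr⟩ :=
    exists_prime_trdeg_le Γ(S, V) Γ(X, U) Γ(F, U) p q hflat p₀ hp₀nil
  obtain ⟨x'', hx''U, hx''⟩ := exists_primeIdealOf_eq hU (⟨q'', hq''p⟩ : PrimeSpectrum Γ(X, U))
  have hfx'' : f x'' = genericPoint ↑S := by
    have h1 := IsAffineOpen.comap_primeIdealOf_appLE (f := f) (x := x'') V hV U hU hUV hx''U
    have h2 : hV.primeIdealOf ⟨f x'', hUV hx''U⟩ = hV.primeIdealOf ⟨genericPoint ↑S, hηV⟩ := by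
      rw [← h1, hx'']
      apply PrimeSpectrum.ext
      show q''.comap (algebraMap Γ(S, V) Γ(X, U)) = p₀
      exact (hq''o.over).symm
    have h3 := congrArg hV.fromSpec h2
    rw [hV.fromSpec_primeIdealOf, hV.fromSpec_primeIdealOf] at h3
    exact h3
  refine ⟨x'', ?_, hfx'', ?_, ?_⟩
  · apply (primeIdealOf_le_iff hU hx''U hxU).1
    rw [hx'']
    exact hle
  · rw [nontrivial_stalk_iff_mem_support F hU x'' hx''U, hx'', Module.mem_support_iff_of_finite]
    exact hann
  · have h1 := trdeg_chart f hV hU hUV x hxU halg p hp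
    haveI : (hU.primeIdealOf ⟨x'', hx''U⟩).asIdeal.LiesOver p₀ := by
      rw [hx'']; exact hq''o
    have hp₀' : p₀ = (hV.primeIdealOf ⟨f x'', hUV hx''U⟩).asIdeal := by
      rw [hp₀]
      congr 2
      exact Subtype.ext hfx''.symm
    have h2 := trdeg_chart f hV hU hUV x'' hx''U halg p₀ hp₀'
    have h3 : Algebra.trdeg (Γ(S, V) ⧸ p₀) (Γ(X, U) ⧸ (hU.primeIdealOf ⟨x'', hx''U⟩).asIdeal) =
        Algebra.trdeg (Γ(S, V) ⧸ p₀) (Γ(X, U) ⧸ q'') := by
      have : (hU.primeIdealOf ⟨x'', hx''U⟩).asIdeal = q'' := congrArg PrimeSpectrum.asIdeal hx''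
      subst this
      rfl
    rw [h1, ← h3, h2] at htr
    exact_mod_cast htr

section Dim

variable {Y : Scheme.{u}}

theorem isClosed_fibSupp_of_isFiniteType (f : X ⟶ Y) (F : X.Modules) [F.IsQuasicoherent]
    [SheafOfModules.IsFiniteType.{u} (R := X.ringCatSheaf) F] (y : Y) :
    IsClosed (fibSupp f F y) := by
  haveI : ∀ x : X, Module.Finite (X.presheaf.stalk x) (F.presheaf.stalk x) := fun x =>
    Groth.Agent.Lib.Helper7.StalkFree.finite_stalk_of_isCoh X F ⟨inferInstance, inferInstance⟩ x
  have hclosedF : IsClosed {x : X | Nontrivial (F.presheaf.stalk x)} := by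
    have h1 := Groth.Agent.S0020.result X F inferInstance
    have h2 : CohB1.support F = {x : X | Nontrivial (F.presheaf.stalk x)} := by
      ext x
      exact not_subsingleton_iff_nontrivial
    rwa [h2] at h1
  have : fibSupp f F y = (f.fiberι y) ⁻¹' {x : X | Nontrivial (F.presheaf.stalk x)} := by
    ext z
    exact nontrivial_stalk_pullback_fiber_iff f F y z
  rw [this]
  exact hclosedF.preimage (f.fiberι y).continuous

theorem tr_le_dim_fibSupp_of_isClosed (f : X ⟶ Y) [LocallyOfFiniteType f] (F : X.Modules)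
    (y : Y) (hcl : IsClosed (fibSupp f F y)) (z : f.fiber y) (hz : z ∈ fibSupp f F y) :
    ((tr f (f.fiberι y z) : ℕ) : WithBot ℕ∞) ≤ topologicalKrullDim ↥(fibSupp f F y) := by
  rw [← dim_closure_fiber_point f y z]
  have hsub : closure ({z} : Set ↥(f.fiber y)) ⊆ fibSupp f F y :=
    hcl.closure_subset_iff.2 (Set.singleton_subset_iff.2 hz)
  exact (Topology.IsEmbedding.inclusion hsub).isInducing.topologicalKrullDim_le

theorem dim_fibSupp_le_of_isClosed (f : X ⟶ Y) [LocallyOfFiniteType f] (F : X.Modules)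
    (y : Y) (hcl : IsClosed (fibSupp f F y)) (k : ℕ)
    (h : ∀ z ∈ fibSupp f F y, tr f (f.fiberι y z) ≤ k) :
    topologicalKrullDim ↥(fibSupp f F y) ≤ (k : WithBot ℕ∞) := by
  obtain ⟨hN, δ, hD⟩ := exists_dimData_fiber f y
  haveI : QuasiSober ↥(fibSupp f F y) := hcl.isClosedEmbedding_subtypeVal.quasiSober
  refine dim_le_of_chains_mem _ _ ?_
  intro m c hc hmem
  have h1 := chain_le_toNat hD hc (c 0) specializes_rfl
  have h2 : (((δ (c 0)).toNat : ℕ) : WithBot ℕ∞) =
      ((tr f (f.fiberι y (c 0)) : ℕ) : WithBot ℕ∞) := by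
    rw [← dim_closure_eq hD (c 0), dim_closure_fiber_point]
  have h2' : (δ (c 0)).toNat = tr f (f.fiberι y (c 0)) := by exact_mod_cast h2
  have h3 := h (c 0) (hmem 0)
  have h4 : m ≤ k := by omega
  exact_mod_cast h4

/-- the support of `F` in the fibre over `y`, as a subspace of `X`, has the dimension of the
support of the fibre module. -/
theorem dim_inter_support_eq (f : X ⟶ Y) (F : X.Modules) [F.IsQuasicoherent]
    [∀ x : X, Module.Finite (X.presheaf.stalk x) (F.presheaf.stalk x)] (y : Y) :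
    topologicalKrullDim ↑(f ⁻¹' {y} ∩ CohB1.support F) =
      topologicalKrullDim ↥(fibSupp f F y) := by
  have hset : f ⁻¹' {y} ∩ CohB1.support F = (f.fiberι y) '' fibSupp f F y := by
    ext x
    constructor
    · rintro ⟨hx1, hx2⟩
      have : x ∈ Set.range (f.fiberι y) := by rw [f.range_fiberι]; exact hx1
      obtain ⟨z, rfl⟩ := this
      refine ⟨z, ?_, rfl⟩
      exact (nontrivial_stalk_pullback_fiber_iff f F y z).2 (not_subsingleton_iff_nontrivial.1 hx2)
    · rintro ⟨z, hz, rfl⟩
      refine ⟨?_, ?_⟩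
      · have : f.fiberι y z ∈ Set.range (f.fiberι y) := ⟨z, rfl⟩
        rw [f.range_fiberι] at this
        exact this
      · exact not_subsingleton_iff_nontrivial.2
          ((nontrivial_stalk_pullback_fiber_iff f F y z).1 hz)
  rw [hset]
  exact (IsHomeomorph.topologicalKrullDim_eq _
    ((f.fiberι y).isEmbedding.homeomorphImage (fibSupp f F y)).isHomeomorph).symm

theorem dim_fibSupp_le_generic (f : X ⟶ S) [LocallyOfFiniteType f] [IrreducibleSpace ↑S]
    (F : X.Modules) [F.IsQuasicoherent] [SheafOfModules.IsFiniteType.{u} (R := X.ringCatSheaf) F]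
    (hfl : FlatMod.IsFlatOver f F) (r : WithBot ℕ∞)
    (h : topologicalKrullDim ↥(fibSupp f F (genericPoint ↑S)) ≤ r) (s : S) :
    topologicalKrullDim ↥(fibSupp f F s) ≤ r := by
  haveI : ∀ x : X, Module.Finite (X.presheaf.stalk x) (F.presheaf.stalk x) := fun x =>
    Groth.Agent.Lib.Helper7.StalkFree.finite_stalk_of_isCoh X F ⟨inferInstance, inferInstance⟩ x
  -- every point of the support over `s` has a generization in the support over the generic point
  have key : ∀ z ∈ fibSupp f F s, ∃ z' ∈ fibSupp f F (genericPoint ↑S),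
      tr f (f.fiberι s z) ≤ tr f (f.fiberι _ z') := by
    intro z hz
    have hz1 := (nontrivial_stalk_pullback_fiber_iff f F s z).1 hz
    obtain ⟨x'', -, hfx'', hnt, htr⟩ := exists_generic_generization f F hfl _ hz1
    obtain ⟨z', hz'⟩ := exists_fibre_point f x'' (genericPoint ↑S) hfx''
    refine ⟨z', ?_, ?_⟩
    · apply (nontrivial_stalk_pullback_fiber_iff f F _ z').2
      rw [hz']
      exact hnt
    · rw [hz']
      exact htr
  have hclη := isClosed_fibSupp_of_isFiniteType f F (genericPoint ↑S)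
  have hcls := isClosed_fibSupp_of_isFiniteType f F s
  induction r using WithBot.recBotCoe with
  | bot =>
    -- the generic support is empty, hence so is the support over `s`
    by_cases hne : (fibSupp f F s).Nonempty
    · obtain ⟨z, hz⟩ := hne
      obtain ⟨z', hz', -⟩ := key z hz
      have h1 := tr_le_dim_fibSupp_of_isClosed f F _ hclη z' hz'
      have h2 := h1.trans h
      simp at h2
    · haveI : IsEmpty ↥(fibSupp f F s) := by
        rw [Set.not_nonempty_iff_eq_empty] at hne
        rw [hne]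
        infer_instance
      rw [dim_eq_bot_of_isEmpty]
  | coe r =>
    induction r using ENat.recTopCoe with
    | top => exact le_top
    | coe k =>
      refine dim_fibSupp_le_of_isClosed f F s hcls k ?_
      intro z hz
      obtain ⟨z', hz', hle⟩ := key z hz
      have h1 := tr_le_dim_fibSupp_of_isClosed f F _ hclη z' hz'
      have h2 := h1.trans h
      have h3 : tr f (f.fiberι _ z') ≤ k := by exact_mod_cast h2
      exact hle.trans h3

/-- **S1416**. -/
theorem dim_support_fibres_le_of_flat (f : X ⟶ S) [LocallyOfFiniteType f] [IrreducibleSpace ↑S]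
    (F : X.Modules) (hF : Coh.IsCoh F) (hfl : FlatMod.IsFlatOver f F) (r : WithBot ℕ∞)
    (h : topologicalKrullDim ↑(f ⁻¹' {genericPoint ↑S} ∩ CohB1.support F) ≤ r) (s : S) :
    topologicalKrullDim ↑(f ⁻¹' {s} ∩ CohB1.support F) ≤ r := by
  haveI : F.IsQuasicoherent := hF.1
  haveI : SheafOfModules.IsFiniteType.{u} (R := X.ringCatSheaf) F := hF.2
  haveI : ∀ x : X, Module.Finite (X.presheaf.stalk x) (F.presheaf.stalk x) := fun x =>
    Groth.Agent.Lib.Helper7.StalkFree.finite_stalk_of_isCoh X F hF x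
  rw [dim_inter_support_eq] at h ⊢
  exact dim_fibSupp_le_generic f F hfl r h s

end Dim

end Groth.Agent.Lib.Helper21.FlatGoDown
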