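import Mathlib
import Groth.Agent.Lib.Helper21.FlatKit5
import Groth.Agent.Lib.Helper21.FlatKit6

/-!
# Tor-free flatness toolkit, part 7 (helper21): Matsumura 22.5 (Noetherian case) and
regular sequences modulo the maximal ideal of the base.
-/

namespace Groth.Agent.Lib.Helper21.FlatKit

open TensorProduct Function

universe u v w

section Mat225

variable {A : Type u} [CommRing A] {B : Type*} [CommRing B] [Algebra A B]
  [IsNoetherianRing A] [IsNoetherianRing B]
variable (I : Ideal A) (hIB : I.map (algebraMap A B) ≤ Ideal.jacobson ⊥)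

include hIB in
/-- (N1) -/
theorem flat_coker_of_localCriterion {N' N : Type*} {N'' : Type v}
    [AddCommGroup N'] [Module A N'] [AddCommGroup N] [Module A N]
    [AddCommGroup N''] [Module A N''] [Module B N''] [IsScalarTower A B N''] [Module.Finite B N'']
    (f : N' →ₗ[A] N) (g : N →ₗ[A] N'') (hfg : Exact f g) (hg : Surjective g)
    [Module.Flat A N] [Module.Flat (A ⧸ I) ((A ⧸ I) ⊗[A] N'')]
    (hfQ : Injective (f.lTensor (A ⧸ I))) : Module.Flat A N'' :=
  flat_of_localCriterion N'' I hIB (rTensor_subtype_injective_of_exact I f g hfg hg hfQ)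

omit [IsNoetherianRing A] [IsNoetherianRing B] in
include hIB in
/-- if `(A/I) ⊗ K = 0` for a finite `B`-module `K` then `K = 0`. -/
theorem subsingleton_of_tensor_quotient_noeth (K : Type*) [AddCommGroup K] [Module A K]
    [Module B K] [IsScalarTower A B K] [Module.Finite B K]
    (h : Subsingleton ((A ⧸ I) ⊗[A] K)) : Subsingleton K := by
  have h1 : Subsingleton (K ⧸ (I • (⊤ : Submodule A K))) :=
    (TensorProduct.quotTensorEquivQuotSMul K I).symm.injective.subsingleton
  have h2 : I • (⊤ : Submodule A K) = ⊤ := Submodule.Quotient.subsingleton_iff.1 h1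
  have h3 : ((I.map (algebraMap A B)) • (⊤ : Submodule B K)) = ⊤ := by
    apply Submodule.restrictScalars_injective A
    rw [smul_top_restrictScalars K I, h2, Submodule.restrictScalars_top]
  have h4 : (⊤ : Submodule B K) = ⊥ :=
    Submodule.eq_bot_of_le_smul_of_le_jacobson_bot (I.map (algebraMap A B)) ⊤
      Module.Finite.fg_top (by rw [h3]) hIB
  exact (Submodule.subsingleton_iff B).1 (subsingleton_of_bot_eq_top h4.symm)

include hIB in
/-- (N2) Matsumura 22.5: injectivity modulo `I` for maps of finite `B`-modules flat over `A`. -/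
theorem injective_of_lTensor_quotient_injective_noeth
    {P L : Type v} [AddCommGroup P] [Module A P] [Module B P] [IsScalarTower A B P]
    [AddCommGroup L] [Module A L] [Module B L] [IsScalarTower A B L]
    [Module.Finite B P] [Module.Finite B L] [Module.Flat A P] [Module.Flat A L]
    (h : P →ₗ[B] L)
    [Module.Flat (A ⧸ I) ((A ⧸ I) ⊗[A] (L ⧸ LinearMap.range h))]
    (hi : Injective ((h.restrictScalars A).lTensor (A ⧸ I))) :
    Injective h ∧ Module.Flat A (L ⧸ LinearMap.range h) := by
  set Q : Submodule B L := LinearMap.range h with hQ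
  let h' : P →ₗ[B] Q := h.rangeRestrict
  have hh' : Surjective h' := h.surjective_rangeRestrict
  have hcomp : (Q.subtype.restrictScalars A) ∘ₗ (h'.restrictScalars A) = h.restrictScalars A := by
    ext x; rfl
  have hι : Injective ((Q.subtype.restrictScalars A).lTensor (A ⧸ I)) := by
    rw [injective_iff_map_eq_zero]
    intro z hz
    obtain ⟨w, rfl⟩ := LinearMap.lTensor_surjective (A ⧸ I)
      (show Surjective (h'.restrictScalars A) from hh') z
    rw [← LinearMap.comp_apply, ← LinearMap.lTensor_comp, hcomp] at hz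
    have : w = 0 := hi (by rw [hz, map_zero])
    rw [this, map_zero]
  have hexQ : Exact (Q.subtype.restrictScalars A) (Q.mkQ.restrictScalars A) := by
    intro x
    exact LinearMap.exact_subtype_mkQ Q x
  have hLQ : Module.Flat A (L ⧸ Q) :=
    flat_coker_of_localCriterion I hIB (Q.subtype.restrictScalars A) (Q.mkQ.restrictScalars A)
      hexQ Q.mkQ_surjective hι
  refine ⟨?_, hLQ⟩
  have hQflat : Module.Flat A Q :=
    flat_of_exact_of_flat (Q.subtype.restrictScalars A) (Q.mkQ.restrictScalars A)
      Q.injective_subtype Q.mkQ_surjective hexQ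
  set K : Submodule B P := LinearMap.ker h' with hK
  have hexK : Exact (K.subtype.restrictScalars A) (h'.restrictScalars A) := by
    intro x
    exact LinearMap.exact_subtype_ker_map h' x
  have hKi : Injective ((K.subtype.restrictScalars A).lTensor (A ⧸ I)) :=
    LinearMap.lTensor_injective_of_exact_of_flat (h'.restrictScalars A) hh'
      (K.subtype.restrictScalars A) K.injective_subtype hexK (A ⧸ I)
  have hzero : (h.restrictScalars A) ∘ₗ (K.subtype.restrictScalars A) = 0 := by
    ext x
    have hx : h' x.1 = 0 := x.2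
    have : h x.1 = (h' x.1 : L) := rfl
    show h x.1 = 0
    rw [this, hx]
    rfl
  have hsub : Subsingleton ((A ⧸ I) ⊗[A] K) := by
    refine ⟨fun x y => hKi (hi ?_)⟩
    rw [← LinearMap.comp_apply, ← LinearMap.comp_apply, ← LinearMap.lTensor_comp, hzero,
      LinearMap.lTensor_zero, LinearMap.zero_apply, LinearMap.zero_apply]
  have hKfin : Module.Finite B K := Module.Finite.of_fg (IsNoetherian.noetherian K)
  have hKsub : Subsingleton K := subsingleton_of_tensor_quotient_noeth I hIB K hsub
  have hKbot : K = ⊥ := (Submodule.subsingleton_iff_eq_bot).1 hKsub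
  have hinj' : Injective h' := LinearMap.ker_eq_bot.1 hKbot
  have : (h : P → L) = Q.subtype ∘ h' := by ext x; rfl
  rw [this]
  exact Q.injective_subtype.comp hinj'

end Mat225


section RegSeqNoeth

variable {A : Type u} [CommRing A] {B : Type w} [CommRing B] [Algebra A B]

theorem lTensor_lsmul_injective_iff (I : Ideal A) (M : Type v) [AddCommGroup M] [Module A M]
    [Module B M] [IsScalarTower A B M] (f : B) :
    Injective (((LinearMap.lsmul B M f).restrictScalars A).lTensor (A ⧸ I)) ↔
      IsSMulRegular (M ⧸ ((I.map (algebraMap A B)) • ⊤ : Submodule B M)) f := by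
  set h : M →ₗ[A] M := (LinearMap.lsmul B M f).restrictScalars A with hh'
  have hh : ∀ m, h m = f • m := fun m => rfl
  set P : Submodule B M := (I.map (algebraMap A B)) • ⊤ with hP
  let e : (A ⧸ I) ⊗[A] M ≃ₗ[A] M ⧸ P :=
    (TensorProduct.quotTensorEquivQuotSMul M I) ≪≫ₗ
      (Submodule.quotEquivOfEq _ _ (smul_top_restrictScalars M I).symm) ≪≫ₗ
      (Submodule.Quotient.restrictScalarsEquiv A P)
  have he : ∀ m : M, e ((1 : A ⧸ I) ⊗ₜ[A] m) = Submodule.Quotient.mk m := by
    intro m
    simp only [e, LinearEquiv.trans_apply, TensorProduct.quotTensorEquivQuotSMul_mk_one_tmul]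
    rfl
  have hcomm : ∀ z, e (h.lTensor (A ⧸ I) z) = f • e z := by
    intro z
    obtain ⟨m, rfl⟩ := exists_one_tmul I z
    rw [LinearMap.lTensor_tmul, he, he, hh, Submodule.Quotient.mk_smul]
  constructor
  · intro hi x y hxy
    obtain ⟨x, rfl⟩ := e.surjective x
    obtain ⟨y, rfl⟩ := e.surjective y
    simp only [← hcomm] at hxy
    rw [hi (e.injective hxy)]
  · intro hr x y hxy
    apply e.injective
    apply hr
    simp only [← hcomm]
    rw [hxy]

variable [IsNoetherianRing A] [IsNoetherianRing B]
variable (I : Ideal A) [I.IsMaximal] (hIB : I.map (algebraMap A B) ≤ Ideal.jacobson ⊥)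

include hIB in
open Pointwise in
theorem isSMulRegular_of_reduction_noeth (M : Type v) [AddCommGroup M] [Module A M]
    [Module B M] [IsScalarTower A B M] [Module.Finite B M] [Module.Flat A M] (f : B)
    (hf : IsSMulRegular (M ⧸ ((I.map (algebraMap A B)) • ⊤ : Submodule B M)) f) :
    IsSMulRegular M f ∧ Module.Flat A (QuotSMulTop f M) := by
  have hfl := flat_quotient_maximal I
    ((A ⧸ I) ⊗[A] (M ⧸ LinearMap.range (LinearMap.lsmul B M f)))
  obtain ⟨h1, h2⟩ := injective_of_lTensor_quotient_injective_noeth I hIB (LinearMap.lsmul B M f)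
    ((lTensor_lsmul_injective_iff I M f).2 hf)
  refine ⟨h1, ?_⟩
  have hrange : LinearMap.range (LinearMap.lsmul B M f) = (f • ⊤ : Submodule B M) := by
    ext x
    simp only [LinearMap.mem_range, LinearMap.lsmul_apply,
      Submodule.mem_smul_pointwise_iff_exists, Submodule.mem_top, true_and]
  exact Module.Flat.of_linearEquiv
    ((Submodule.quotEquivOfEq _ _ hrange).restrictScalars A).symm

include hIB in
/-- EGA 0_IV 15.1.16 (c)⇒(b): regular sequences lift from the closed fibre, with flat quotients. -/
theorem isWeaklyRegular_of_reduction_noeth (fs : List B) :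
    ∀ (M : Type v) [AddCommGroup M] [Module A M] [Module B M]
      [IsScalarTower A B M] [Module.Finite B M] [Module.Flat A M],
      RingTheory.Sequence.IsWeaklyRegular
        (M ⧸ ((I.map (algebraMap A B)) • ⊤ : Submodule B M)) fs →
      RingTheory.Sequence.IsWeaklyRegular M fs ∧
        ∀ i ≤ fs.length, Module.Flat A (M ⧸ (Ideal.ofList (fs.take i) • ⊤ : Submodule B M)) := by
  induction fs with
  | nil =>
    intro M _ _ _ _ _ hfl _
    refine ⟨RingTheory.Sequence.IsWeaklyRegular.nil B _, fun i hi => ?_⟩
    rw [List.take_nil]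
    exact quot_bot_flat_of_flat M hfl
  | cons f fs ih =>
    intro M _ _ _ _ _ hfl hreg
    rw [RingTheory.Sequence.isWeaklyRegular_cons_iff] at hreg ⊢
    obtain ⟨hf, hfs⟩ := hreg
    obtain ⟨h1, h2⟩ := isSMulRegular_of_reduction_noeth I hIB M f hf
    have hfs' : RingTheory.Sequence.IsWeaklyRegular
        (QuotSMulTop f M ⧸ ((I.map (algebraMap A B)) • ⊤ : Submodule B (QuotSMulTop f M))) fs :=
      ((quotSMulTopQuotEquiv M f (I.map (algebraMap A B))).isWeaklyRegular_congr fs).2 hfs
    obtain ⟨i1, i2⟩ := ih (QuotSMulTop f M) hfs'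
    refine ⟨⟨h1, i1⟩, fun i hi => ?_⟩
    cases i with
    | zero =>
      rw [List.take_zero]
      exact quot_bot_flat_of_flat M hfl
    | succ j =>
      rw [List.take_succ_cons]
      have hj : j ≤ fs.length := by simpa using hi
      have h0 := i2 j hj
      exact Module.Flat.of_linearEquiv
        ((Submodule.quotOfListConsSMulTopEquivQuotSMulTopInner M f (fs.take j)).restrictScalars A)

end RegSeqNoeth

end Groth.Agent.Lib.Helper21.FlatKit
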