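import Mathlib
import Groth.Agent.Lib.Helper21.FlatKit7

namespace Groth.Agent.Lib.Helper21.FlatKit

open TensorProduct Function

universe u

section ComplexCore

variable {R S : Type u} [CommRing R] [CommRing S] [IsLocalRing R] [IsLocalRing S]
  [IsNoetherianRing R] [IsNoetherianRing S] [Algebra R S] [IsLocalHom (algebraMap R S)]

/-- Category-free core of the flatness criterion for complexes. -/
theorem complex_core
    (F : ℕ → Type u) [∀ j, AddCommGroup (F j)] [∀ j, Module S (F j)] [∀ j, Module R (F j)]
    [∀ j, IsScalarTower R S (F j)] [∀ j, Module.Finite S (F j)] [∀ j, Module.Flat R (F j)]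
    (d : ∀ j, F (j + 1) →ₗ[S] F j) (hd : ∀ j x, d j (d (j + 1) x) = 0)
    (e : ℕ) (hzero : ∀ j, e < j → Subsingleton (F j))
    (hex : ∀ j, j < e → ∀ x : F (j + 1),
      d j x ∈ (IsLocalRing.maximalIdeal R) • (⊤ : Submodule R (F j)) →
      ∃ w, x - d (j + 1) w ∈ (IsLocalRing.maximalIdeal R) • (⊤ : Submodule R (F (j + 1)))) :
    (∀ j, j < e → ∀ x : F (j + 1), d j x = 0 → ∃ w, d (j + 1) w = x) ∧
      Module.Flat R (F 0 ⧸ LinearMap.range (d 0)) := by
  have hIB : (IsLocalRing.maximalIdeal R).map (algebraMap R S) ≤ Ideal.jacobson ⊥ :=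
    (IsLocalRing.map_maximalIdeal_le (algebraMap R S)).trans
      (IsLocalRing.maximalIdeal_le_jacobson _)
  -- descending induction
  have key : ∀ n, n ≤ e → Module.Flat R (F (e - n) ⧸ LinearMap.range (d (e - n))) ∧
      ∀ j, e - n ≤ j → j < e → ∀ x : F (j + 1), d j x = 0 → ∃ w, d (j + 1) w = x := by
    intro n
    induction n with
    | zero =>
      intro _
      refine ⟨?_, fun j h1 h2 => absurd h1 (by omega)⟩
      have hsub : Subsingleton (F (e + 1)) := hzero _ (Nat.lt_succ_self e)
      have h0 : LinearMap.range (d (e - 0)) = ⊥ := by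
        rw [Nat.sub_zero, LinearMap.range_eq_bot]
        ext x
        rw [Subsingleton.elim x 0, map_zero, map_zero]
      exact Module.Flat.of_linearEquiv
        ((Submodule.quotEquivOfEqBot _ h0).restrictScalars R)
    | succ n ih =>
      intro hn
      obtain ⟨hfl, hexs⟩ := ih (by omega)
      have hj : e - n = (e - (n + 1)) + 1 := by omega
      set j := e - (n + 1) with hjdef
      rw [hj] at hfl hexs
      have hje : j < e := by omega
      -- the induced map
      have hle : LinearMap.range (d (j + 1)) ≤ LinearMap.ker (d j) := by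
        rintro _ ⟨x, rfl⟩
        exact hd j x
      let h : (F (j + 1) ⧸ LinearMap.range (d (j + 1))) →ₗ[S] F j :=
        (LinearMap.range (d (j + 1))).liftQ (d j) hle
      have hh : ∀ x, h (Submodule.Quotient.mk x) = d j x := fun x => rfl
      have hinjred : Injective ((h.restrictScalars R).lTensor (R ⧸ IsLocalRing.maximalIdeal R)) := by
        apply injective_lTensor_quotient_of
        intro p hp
        obtain ⟨x, rfl⟩ := Submodule.Quotient.mk_surjective _ p
        have hp' : d j x ∈ (IsLocalRing.maximalIdeal R) • (⊤ : Submodule R (F j)) := hp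
        obtain ⟨w, hw⟩ := hex j hje x hp'
        have e1 : (IsLocalRing.maximalIdeal R) •
            (⊤ : Submodule R (F (j + 1) ⧸ LinearMap.range (d (j + 1)))) =
            Submodule.map ((LinearMap.range (d (j + 1))).mkQ.restrictScalars R)
              ((IsLocalRing.maximalIdeal R) • (⊤ : Submodule R (F (j + 1)))) := by
          rw [Submodule.map_smul'', Submodule.map_top,
            LinearMap.range_eq_top.2 (show Function.Surjective
              ((LinearMap.range (d (j + 1))).mkQ.restrictScalars R) from
              (LinearMap.range (d (j + 1))).mkQ_surjective)]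
        rw [e1]
        refine ⟨x - d (j + 1) w, hw, ?_⟩
        show (Submodule.Quotient.mk (x - d (j + 1) w) : F (j + 1) ⧸ LinearMap.range (d (j + 1))) =
          Submodule.Quotient.mk x
        rw [Submodule.Quotient.eq]
        have : x - d (j + 1) w - x = - d (j + 1) w := by abel
        rw [this]
        exact neg_mem ⟨w, rfl⟩
      have hfl' := flat_quotient_maximal (IsLocalRing.maximalIdeal R)
        (TensorProduct R (R ⧸ IsLocalRing.maximalIdeal R) (F j ⧸ LinearMap.range h))
      obtain ⟨hinj, hflat⟩ :=
        injective_of_lTensor_quotient_injective_noeth (IsLocalRing.maximalIdeal R) hIB h hinjred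
      have hrange : LinearMap.range h = LinearMap.range (d j) :=
        Submodule.range_liftQ _ _ _
      refine ⟨?_, ?_⟩
      · exact Module.Flat.of_linearEquiv
          ((Submodule.quotEquivOfEq _ _ hrange.symm).restrictScalars R)
      · intro i hi1 hi2 x hx
        rcases Nat.eq_or_lt_of_le hi1 with heq | hlt
        · subst heq
          have h0 : h (Submodule.Quotient.mk x) = 0 := by rw [hh, hx]
          have h1 : (Submodule.Quotient.mk x : F (j + 1) ⧸ LinearMap.range (d (j + 1))) = 0 :=
            hinj (by rw [h0, map_zero])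
          exact (Submodule.Quotient.mk_eq_zero _).1 h1
        · exact hexs i hlt hi2 x hx
  obtain ⟨hfl, hexs⟩ := key e le_rfl
  rw [Nat.sub_self] at hfl hexs
  exact ⟨fun j hj => hexs j (Nat.zero_le _) hj, hfl⟩

end ComplexCore

end Groth.Agent.Lib.Helper21.FlatKit
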