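import Mathlib

set_option autoImplicit false
universe u
open CategoryTheory CategoryTheory.Limits Opposite

namespace Groth.Agent.Lib.Helper21.FormalLocal

variable {F : ℕᵒᵖ ⥤ CommRingCat.{u}}

/-- an element of a limit of rings all of whose components are units is a unit. -/
theorem isUnit_of_forall_isUnit (a : ↑(limit F))
    (h : ∀ j : ℕᵒᵖ, IsUnit ((limit.π F j).hom a)) : IsUnit a := by
  let E := Types.isLimitEquivSections
    (isLimitOfPreserves (forget CommRingCat.{u}) (limit.isLimit F))
  let sec : (F ⋙ forget CommRingCat.{u}).sections :=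
    ⟨fun j => ((h j).unit⁻¹ : (F.obj j)ˣ).1, by
      intro i j f
      have hw : (F.map f).hom ((limit.π F i).hom a) = (limit.π F j).hom a := by
        have := limit.w F f
        exact congrArg (fun φ => φ.hom a) this
      show (F.map f).hom ((h i).unit⁻¹ : (F.obj i)ˣ).1 = ((h j).unit⁻¹ : (F.obj j)ˣ).1
      have h1 : (F.map f).hom ((h i).unit⁻¹ : (F.obj i)ˣ).1 * (limit.π F j).hom a = 1 := by
        rw [← hw, ← map_mul]
        have : ((h i).unit⁻¹ : (F.obj i)ˣ).1 * (limit.π F i).hom a = 1 := by
          have := (h i).unit.inv_mul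
          rwa [IsUnit.unit_spec] at this
        rw [this, map_one]
      have h2 : (limit.π F j).hom a * ((h j).unit⁻¹ : (F.obj j)ˣ).1 = 1 := by
        have := (h j).unit.mul_inv
        rwa [IsUnit.unit_spec] at this
      calc (F.map f).hom ((h i).unit⁻¹ : (F.obj i)ˣ).1
          = (F.map f).hom ((h i).unit⁻¹ : (F.obj i)ˣ).1 *
              ((limit.π F j).hom a * ((h j).unit⁻¹ : (F.obj j)ˣ).1) := by rw [h2, mul_one]
        _ = ((h j).unit⁻¹ : (F.obj j)ˣ).1 := by rw [← mul_assoc, h1, one_mul]⟩
  let b : ↑(limit F) := E.symm sec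
  have hb : ∀ j, (limit.π F j).hom b = ((h j).unit⁻¹ : (F.obj j)ˣ).1 := fun j =>
    Types.isLimitEquivSections_symm_apply
      (isLimitOfPreserves (forget CommRingCat.{u}) (limit.isLimit F)) sec j
  refine IsUnit.of_mul_eq_one b ?_
  apply Concrete.limit_ext F
  intro j
  show (limit.π F j).hom (a * b) = (limit.π F j).hom 1
  rw [map_mul, map_one, hb]
  have := (h j).unit.mul_inv
  rwa [IsUnit.unit_spec] at this

end Groth.Agent.Lib.Helper21.FormalLocal

namespace Groth.Agent.Lib.Helper21.FormalLocal

section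

variable {k : Type u} [Field k] (R : ℕ → CommRingCat.{u}) (τ : ∀ m, R (m + 1) ⟶ R m)
  (s : ∀ m, k →+* R m) (hs : ∀ m c, (τ m).hom (s (m + 1) c) = s m c)
  (hnt : ∀ m, Nontrivial (R m))
  (hnil : ∀ m (r : R m), ∃ c : k, IsNilpotent (r - s m c))

/-- the projection from the limit, typed into `R m`. -/
noncomputable def proj (m : ℕ) : ↑(limit (Functor.ofOpSequence τ)) →+* R m :=
  (limit.π (Functor.ofOpSequence τ) (op m)).hom

include hnt in
theorem c_unique (m : ℕ) (r : R m) (c c' : k) (h : IsNilpotent (r - s m c))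
    (h' : IsNilpotent (r - s m c')) : c = c' := by
  by_contra hne
  have hsub : IsNilpotent (s m (c - c')) := by
    have : s m (c - c') = (r - s m c') - (r - s m c) := by rw [map_sub]; ring
    rw [this]
    exact (Commute.all _ _).isNilpotent_sub h' h
  have hu : IsUnit (s m (c - c')) := (IsUnit.mk0 _ (sub_ne_zero.mpr hne)).map (s m)
  haveI := hnt m
  obtain ⟨n, hn⟩ := hsub
  have := hu.pow n
  rw [hn] at this
  exact not_isUnit_zero this

theorem π_succ (a : ↑(limit (Functor.ofOpSequence τ))) (m : ℕ) :
    (τ m).hom (proj R τ (m + 1) a) = proj R τ m a := by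
  have := limit.w (Functor.ofOpSequence τ) (homOfLE (Nat.le_add_right m 1)).op
  rw [Functor.ofOpSequence_map_homOfLE_succ] at this
  exact congrArg (fun φ => φ.hom a) this

include hs hnt hnil in
theorem exists_const (a : ↑(limit (Functor.ofOpSequence τ))) :
    ∃ c : k, ∀ m, IsNilpotent (proj R τ m a - s m c) := by
  obtain ⟨c, hc⟩ := hnil 0 (proj R τ 0 a)
  refine ⟨c, fun m => ?_⟩
  induction m with
  | zero => exact hc
  | succ m ih =>
    obtain ⟨c', hc'⟩ := hnil (m + 1) (proj R τ (m + 1) a)
    have h1 : IsNilpotent (proj R τ m a - s m c') := by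
      have := hc'.map (τ m).hom
      rwa [map_sub, π_succ, hs] at this
    have : c' = c := c_unique R s hnt m _ c' c h1 ih
    rw [← this]; exact hc'

include hs hnt hnil in
theorem isLocalRing_limit : IsLocalRing ↑(limit (Functor.ofOpSequence τ)) := by
  set F := Functor.ofOpSequence τ with hF
  haveI : Nontrivial ↑(limit F) := by
    refine ⟨⟨0, 1, fun h01 => ?_⟩⟩
    haveI := hnt 0
    have := congrArg (proj R τ 0) h01
    rw [map_zero, map_one] at this
    exact zero_ne_one this
  -- an element with non-zero constant is a unit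
  have hunit : ∀ a : ↑(limit F), ∀ c : k, c ≠ 0 →
      (∀ m, IsNilpotent (proj R τ m a - s m c)) → IsUnit a := by
    intro a c hc0 hc
    refine isUnit_of_forall_isUnit a fun j => ?_
    obtain ⟨m⟩ := j
    have hu : IsUnit (s m c) := (IsUnit.mk0 _ hc0).map (s m)
    have : proj R τ m a = (proj R τ m a - s m c) + s m c := by ring
    show IsUnit (proj R τ m a)
    rw [this]
    exact (hc m).isUnit_add_right_of_commute hu (Commute.all _ _)
  -- a non-unit has constant zero
  have hnon : ∀ a : ↑(limit F), a ∈ nonunits ↑(limit F) →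
      ∀ m, IsNilpotent (proj R τ m a) := by
    intro a ha m
    obtain ⟨c, hc⟩ := exists_const R τ s hs hnt hnil a
    by_cases hc0 : c = 0
    · have := hc m
      rwa [hc0, map_zero, sub_zero] at this
    · exact absurd (hunit a c hc0 hc) ha
  refine IsLocalRing.of_nonunits_add fun a b ha hb => ?_
  intro hab
  have h0 : IsNilpotent (proj R τ 0 (a + b)) := by
    rw [map_add]
    exact (Commute.all _ _).isNilpotent_add (hnon a ha 0) (hnon b hb 0)
  have hu : IsUnit (proj R τ 0 (a + b)) := hab.map (proj R τ 0)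
  haveI := hnt 0
  obtain ⟨n, hn⟩ := h0
  have := hu.pow n
  rw [hn] at this
  exact not_isUnit_zero this

end

end Groth.Agent.Lib.Helper21.FormalLocal
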