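import Groth.Agent.Lib.Helper21.FormalLocal1
import Groth.Agent.Lib.Helper18.ConnComp.GammaIdem
import Groth.Agent.Lib.Helper18.ConnComp.LocalPI

set_option autoImplicit false
set_option backward.isDefEq.respectTransparency.types false
set_option linter.style.haveILetI false
universe u
open CategoryTheory CategoryTheory.Limits AlgebraicGeometry Opposite TopologicalSpace

namespace Groth.Agent.Lib.Helper21.FormalLocal

open Groth.Agent.Lib.Helper18.ConnComp

/-- On a connected proper scheme over an algebraically closed field, every global function is a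
constant plus a nilpotent. -/
theorem exists_const_sub_isNilpotent (k : Type u) [Field k] [IsAlgClosed k] {Z : Scheme.{u}}
    (g : Z ⟶ Spec (CommRingCat.of k)) [IsProper g] [ConnectedSpace Z] (r : Γ(Z, ⊤)) :
    ∃ c : k, IsNilpotent (r - g.appTop.hom ((Scheme.ΓSpecIso (CommRingCat.of k)).inv.hom c)) := by
  set φ : k →+* Γ(Z, ⊤) := ((Scheme.ΓSpecIso (CommRingCat.of k)).inv ≫ g.appTop).hom with hφ
  letI : Algebra k Γ(Z, ⊤) := φ.toAlgebra
  have hint : φ.IsIntegral := by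
    have h1 : g.appTop.hom.IsIntegral := isIntegral_appTop_of_universallyClosed g
    intro x
    obtain ⟨p, hp, hpx⟩ := h1 x
    refine ⟨p.map (Scheme.ΓSpecIso (CommRingCat.of k)).hom.hom, hp.map _, ?_⟩
    rw [Polynomial.eval₂_map]
    have : φ.comp (Scheme.ΓSpecIso (CommRingCat.of k)).hom.hom = g.appTop.hom := by
      rw [hφ, CommRingCat.hom_comp, RingHom.comp_assoc, ← CommRingCat.hom_comp,
        Iso.hom_inv_id, CommRingCat.hom_id, RingHom.comp_id]
    rw [this]; exact hpx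
  haveI : Algebra.IsIntegral k Γ(Z, ⊤) := ⟨hint⟩
  have hR : NoIdem Γ(Z, ⊤) := noIdem_Γ Z
  haveI : Nonempty (⊤ : Z.Opens) := by
    obtain ⟨z⟩ := (inferInstance : Nonempty Z)
    exact ⟨⟨z, trivial⟩⟩
  haveI : Nontrivial Γ(Z, ⊤) := Scheme.component_nontrivial Z ⊤
  obtain ⟨hdim, hloc⟩ := isLocalRing_and_krullDimLE_of_noIdem (k := k) hR
  haveI hmax : (nilradical Γ(Z, ⊤)).IsMaximal :=
    ((Ring.krullDimLE_zero_and_isLocalRing_tfae Γ(Z, ⊤)).out 0 3 rfl rfl).mp ⟨hdim, hloc⟩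
  letI : Field (Γ(Z, ⊤) ⧸ nilradical Γ(Z, ⊤)) := Ideal.Quotient.field _
  haveI : Algebra.IsIntegral k (Γ(Z, ⊤) ⧸ nilradical Γ(Z, ⊤)) := ⟨fun z => by
    obtain ⟨b, rfl⟩ := Ideal.Quotient.mk_surjective z
    exact (Algebra.IsIntegral.isIntegral (R := k) b).map (Ideal.Quotient.mkₐ k (nilradical Γ(Z, ⊤)))⟩
  obtain ⟨c, hc⟩ := (IsAlgClosed.algebraMap_bijective_of_isIntegral (k := k)
    (K := Γ(Z, ⊤) ⧸ nilradical Γ(Z, ⊤))).2 (Ideal.Quotient.mk (nilradical Γ(Z, ⊤)) r)
  refine ⟨c, ?_⟩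
  rw [← mem_nilradical, ← Ideal.Quotient.eq_zero_iff_mem, map_sub, sub_eq_zero, ← hc]
  rfl

end Groth.Agent.Lib.Helper21.FormalLocal
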