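import Groth.Agent.Lib.Helper21.FormalLocal2
import Groth.Prelude.Def_Lef

set_option autoImplicit false
set_option backward.isDefEq.respectTransparency.types false
set_option linter.style.haveILetI false
universe u
open CategoryTheory CategoryTheory.Limits AlgebraicGeometry Opposite TopologicalSpace

namespace Groth.Agent.Lib.Helper21.FormalLocal

lemma connectedSpace_of_isInducing' {α β : Type*} [TopologicalSpace α] [TopologicalSpace β]
    (i : α → β) (hi : Topology.IsInducing i) (h : _root_.IsConnected (Set.range i)) :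
    ConnectedSpace α := by
  have h1 : Nonempty α := by
    obtain ⟨_, a, -⟩ := h.nonempty
    exact ⟨a⟩
  have h2 : PreconnectedSpace α := by
    refine ⟨?_⟩
    rw [← hi.isPreconnected_image, Set.image_univ]
    exact h.isPreconnected
  exact { toPreconnectedSpace := h2, toNonempty := h1 }

theorem connectedSpace_subscheme {X : Scheme.{u}} (𝓘 : X.IdealSheafData)
    (hY : _root_.IsConnected (𝓘.support : Set X)) (m : ℕ) :
    ConnectedSpace ↥(𝓘 ^ (m + 1)).subscheme := by
  refine connectedSpace_of_isInducing' (𝓘 ^ (m + 1)).subschemeι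
    (𝓘 ^ (m + 1)).subschemeι.isEmbedding.toIsInducing ?_
  rw [Scheme.IdealSheafData.range_subschemeι, Scheme.IdealSheafData.support_pow_succ]
  exact hY

theorem formalSections_local (k : Type u) [Field k] [IsAlgClosed k] (X : Scheme.{u})
    [X.Over (Spec (CommRingCat.of k))] [IsProper (X ↘ (Spec (CommRingCat.of k)))]
    (𝓘 : X.IdealSheafData) (hY : _root_.IsConnected (𝓘.support : Set X)) :
    IsLocalRing ↑(limit (Functor.ofOpSequence
        (X := fun m : ℕ => Γ((𝓘 ^ (m + 1)).subscheme, ⊤))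
        (fun m : ℕ => (Scheme.IdealSheafData.inclusion (Lef.pow_succ_le 𝓘 m)).appTop))) ∧
      ∀ a : ↑(limit (Functor.ofOpSequence
        (X := fun m : ℕ => Γ((𝓘 ^ (m + 1)).subscheme, ⊤))
        (fun m : ℕ => (Scheme.IdealSheafData.inclusion (Lef.pow_succ_le 𝓘 m)).appTop))),
        ∃ c : k, ∀ m : ℕ, IsNilpotent (Sub.sub (α := ↑Γ((𝓘 ^ (m + 1)).subscheme, ⊤))
          ((limit.π (Functor.ofOpSequence
              (X := fun m : ℕ => Γ((𝓘 ^ (m + 1)).subscheme, ⊤))
              (fun m : ℕ => (Scheme.IdealSheafData.inclusion (Lef.pow_succ_le 𝓘 m)).appTop)) (Opposite.op m)).hom a)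
          (((𝓘 ^ (m + 1)).subschemeι ≫ (X ↘ Spec (CommRingCat.of k))).appTop.hom
            ((Scheme.ΓSpecIso (CommRingCat.of k)).inv.hom c))) := by
  let R : ℕ → CommRingCat.{u} := fun m => Γ((𝓘 ^ (m + 1)).subscheme, ⊤)
  let τ : ∀ m, R (m + 1) ⟶ R m := fun m =>
    (Scheme.IdealSheafData.inclusion (Lef.pow_succ_le 𝓘 m)).appTop
  let s : ∀ m, k →+* R m := fun m =>
    (((𝓘 ^ (m + 1)).subschemeι ≫ (X ↘ Spec (CommRingCat.of k))).appTop.hom).comp
      (Scheme.ΓSpecIso (CommRingCat.of k)).inv.hom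
  have hs : ∀ m c, (τ m).hom (s (m + 1) c) = s m c := by
    intro m c
    have h1 : Scheme.IdealSheafData.inclusion (Lef.pow_succ_le 𝓘 m) ≫
        ((𝓘 ^ (m + 1 + 1)).subschemeι ≫ (X ↘ Spec (CommRingCat.of k))) =
        (𝓘 ^ (m + 1)).subschemeι ≫ (X ↘ Spec (CommRingCat.of k)) := by
      rw [← Category.assoc]
      congr 1
      exact Scheme.IdealSheafData.inclusion_subschemeι (Lef.pow_succ_le 𝓘 m)
    have h2 := congrArg (fun g => g.appTop.hom ((Scheme.ΓSpecIso (CommRingCat.of k)).inv.hom c)) h1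
    simp only [Scheme.Hom.comp_appTop, CommRingCat.hom_comp, RingHom.comp_apply] at h2
    simp only [s, τ, RingHom.comp_apply, Scheme.Hom.comp_appTop, CommRingCat.hom_comp]
    exact h2
  haveI hconn : ∀ m, ConnectedSpace ↥(𝓘 ^ (m + 1)).subscheme := connectedSpace_subscheme 𝓘 hY
  have hnt : ∀ m, Nontrivial (R m) := fun m => by
    haveI : Nonempty (⊤ : ((𝓘 ^ (m + 1)).subscheme).Opens) := by
      obtain ⟨z⟩ := (inferInstance : Nonempty ↥(𝓘 ^ (m + 1)).subscheme)
      exact ⟨⟨z, trivial⟩⟩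
    exact Scheme.component_nontrivial _ ⊤
  have hnil : ∀ m (r : R m), ∃ c : k, IsNilpotent (r - s m c) := fun m r =>
    exists_const_sub_isNilpotent k ((𝓘 ^ (m + 1)).subschemeι ≫ (X ↘ Spec (CommRingCat.of k))) r
  exact ⟨isLocalRing_limit R τ s hs hnt hnil, fun a => exists_const R τ s hs hnt hnil a⟩

end Groth.Agent.Lib.Helper21.FormalLocal
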