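import Mathlib

set_option autoImplicit false
set_option backward.isDefEq.respectTransparency.types false
set_option linter.style.haveILetI false
universe u
open TensorProduct IsLocalRing

namespace Groth.Agent.Lib.Helper21.FreeLift

variable {R : Type u} [CommRing R] [IsLocalRing R] (M : Type u) [AddCommGroup M] [Module R M]

/-- level zero: generators of `M` from a basis of `S ⊗ M`. -/
theorem exists_span_eq_top [Module.Finite R M] (r : ℕ) (S : Type u) [CommRing S] [Algebra R S]
    (hsurj : Function.Surjective (algebraMap R S))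
    (hker : RingHom.ker (algebraMap R S) ≤ maximalIdeal R)
    (b : Module.Basis (Fin r) S (S ⊗[R] M)) :
    ∃ e : Fin r → M, Submodule.span R (Set.range e) = ⊤ := by
  have hmk : Function.Surjective (TensorProduct.mk R S M 1) := TensorProduct.mk_surjective R M S hsurj
  choose e he using fun j => hmk (b j)
  refine ⟨e, ?_⟩
  -- the map `S → k`
  let ψ : S →+* ResidueField R := RingHom.liftOfSurjective (algebraMap R S) hsurj
    ⟨IsLocalRing.residue R, fun a ha => by
      rw [RingHom.mem_ker]
      exact (IsLocalRing.residue_eq_zero_iff a).mpr (hker ha)⟩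
  have hψ : ∀ a : R, ψ (algebraMap R S a) = IsLocalRing.residue R a := fun a =>
    RingHom.liftOfSurjective_comp_apply _ _ _ a
  let ψl : S →ₗ[R] ResidueField R :=
    { toFun := ψ
      map_add' := map_add ψ
      map_smul' := fun a s => by
        simp only [RingHom.id_apply, Algebra.smul_def, map_mul, hψ]
        rfl }
  have hψ1 : ψl 1 = 1 := map_one ψ
  rw [← IsLocalRing.map_tensorProduct_mk_eq_top (M := M)]
  rw [eq_top_iff]
  rintro y -
  obtain ⟨m, rfl⟩ := TensorProduct.mk_surjective R M (ResidueField R) Ideal.Quotient.mk_surjective y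
  -- write `1 ⊗ m` in the basis
  have hrepr : (1 : S) ⊗ₜ[R] m = ∑ j, b.repr ((1 : S) ⊗ₜ[R] m) j • b j := (b.sum_repr _).symm
  choose a ha using fun j => hsurj (b.repr ((1 : S) ⊗ₜ[R] m) j)
  have h1 : (1 : S) ⊗ₜ[R] m = (1 : S) ⊗ₜ[R] (∑ j, a j • e j) := by
    rw [hrepr, TensorProduct.tmul_sum]
    refine Finset.sum_congr rfl fun j _ => ?_
    rw [← ha j, ← he j, TensorProduct.tmul_smul, TensorProduct.mk_apply, algebraMap_smul]
  have h2 := congrArg (LinearMap.rTensor M ψl) h1
  rw [LinearMap.rTensor_tmul, LinearMap.rTensor_tmul, hψ1] at h2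
  change (1 : ResidueField R) ⊗ₜ[R] m ∈ _
  rw [h2]
  refine ⟨∑ j, a j • e j, ?_, rfl⟩
  exact Submodule.sum_mem _ fun j _ => Submodule.smul_mem _ _ (Submodule.subset_span ⟨j, rfl⟩)

/-- **Lifting freeness from infinitesimal quotients.**  A finite module over a Noetherian local ring
whose base changes to quotients `R/𝔞_n` with `𝔞_n ≤ 𝔪^(n+1)` are all free of rank `r` is free of
rank `r`. -/
theorem nonempty_basis_of_forall_quotient [IsNoetherianRing R] [Module.Finite R M] (r : ℕ)
    (h : ∀ n : ℕ, ∃ (S : Type u) (_ : CommRing S) (φ : R →+* S), Function.Surjective φ ∧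
      RingHom.ker φ ≤ maximalIdeal R ^ (n + 1) ∧
      letI := φ.toAlgebra
      Nonempty (Module.Basis (Fin r) S (S ⊗[R] M))) :
    Nonempty (Module.Basis (Fin r) R M) := by
  classical
  -- generators from level zero
  obtain ⟨S₀, _, φ₀, hs₀, hk₀, hb₀⟩ := h 0
  obtain ⟨e, he⟩ : ∃ e : Fin r → M, Submodule.span R (Set.range e) = ⊤ := by
    letI := φ₀.toAlgebra
    obtain ⟨b₀⟩ := hb₀
    refine exists_span_eq_top M r S₀ hs₀ ?_ b₀
    rw [zero_add, pow_one] at hk₀
    exact hk₀
  let π : (Fin r → R) →ₗ[R] M := Fintype.linearCombination R e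
  have hπs : Function.Surjective π := by
    rw [← LinearMap.range_eq_top, Fintype.range_linearCombination, he]
  have hπi : Function.Injective π := by
    rw [← LinearMap.ker_eq_bot, eq_bot_iff]
    intro c hc
    rw [LinearMap.mem_ker] at hc
    rw [Submodule.mem_bot]
    have hmem : ∀ n : ℕ, ∀ j, c j ∈ maximalIdeal R ^ (n + 1) := by
      intro n j
      obtain ⟨S, _, φ, hs, hk, hb⟩ := h n
      letI := φ.toAlgebra
      obtain ⟨b⟩ := hb
      apply hk
      rw [RingHom.mem_ker]
      let T : S ⊗[R] (Fin r → R) →ₗ[S] S ⊗[R] M := LinearMap.baseChange S π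
      have hTs : Function.Surjective T := LinearMap.lTensor_surjective S hπs
      let g : (Fin r → S) →ₗ[S] (Fin r → S) :=
        (b.equivFun.toLinearMap.comp T).comp (TensorProduct.piScalarRight R S S (Fin r)).symm.toLinearMap
      have hgs : Function.Surjective g :=
        (b.equivFun.surjective.comp hTs).comp (TensorProduct.piScalarRight R S S (Fin r)).symm.surjective
      have hgi : Function.Injective g := OrzechProperty.injective_of_surjective_endomorphism g hgs
      have h1 : g (TensorProduct.piScalarRight R S S (Fin r) ((1 : S) ⊗ₜ[R] c)) = 0 := by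
        show b.equivFun (T ((TensorProduct.piScalarRight R S S (Fin r)).symm
          (TensorProduct.piScalarRight R S S (Fin r) ((1 : S) ⊗ₜ[R] c)))) = 0
        rw [LinearEquiv.symm_apply_apply]
        show b.equivFun (LinearMap.baseChange S π ((1 : S) ⊗ₜ[R] c)) = 0
        rw [LinearMap.baseChange_tmul, hc, TensorProduct.tmul_zero, map_zero]
      have h2 := hgi (h1.trans (map_zero g).symm)
      have h3 := congrFun h2 j
      rw [TensorProduct.piScalarRight_apply, TensorProduct.piScalarRightHom_tmul] at h3
      have h4 : algebraMap R S (c j) = 0 := by simpa [Algebra.smul_def] using h3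
      exact h4
    have hbot : ∀ j, c j = 0 := by
      intro j
      have hinf : c j ∈ ⨅ i : ℕ, maximalIdeal R ^ i := by
        rw [Ideal.mem_iInf]
        intro i
        exact Ideal.pow_le_pow_right (Nat.le_succ i) (hmem i j)
      rw [Ideal.iInf_pow_eq_bot_of_isLocalRing (maximalIdeal R) Ideal.IsPrime.ne_top'] at hinf
      exact hinf
    funext j
    exact hbot j
  exact ⟨Module.Basis.ofEquivFun (LinearEquiv.ofBijective π ⟨hπi, hπs⟩).symm⟩

end Groth.Agent.Lib.Helper21.FreeLift
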