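import Mathlib

set_option autoImplicit false
set_option backward.isDefEq.respectTransparency.types false
set_option linter.style.haveILetI false
universe u
open AlgebraicGeometry CategoryTheory TopologicalSpace IsLocalRing

namespace Groth.Agent.Lib.Helper21.FreeLift

variable {X Z : Scheme.{u}}

/-- For a closed immersion `i : Z ⟶ X`, a point `z` and an affine open `U ∋ i z`: if the germs at
`i z` of the kernel of `Γ(X,U) → Γ(Z, i⁻¹U)` lie in `𝔪^m`, then so does the kernel of the stalk map. -/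
theorem ker_stalkMap_le_pow (i : Z ⟶ X) [IsClosedImmersion i] (z : Z) {U : X.Opens}
    (hU : IsAffineOpen U) (hz : i z ∈ U) (m : ℕ)
    (hk : ∀ a ∈ RingHom.ker (i.app U).hom,
      X.presheaf.germ U (i z) hz a ∈ maximalIdeal (X.presheaf.stalk (i z)) ^ m) :
    RingHom.ker (i.stalkMap z).hom ≤ maximalIdeal (X.presheaf.stalk (i z)) ^ m := by
  intro t ht
  rw [RingHom.mem_ker] at ht
  letI : Algebra Γ(X, U) (X.presheaf.stalk (i z)) :=
    TopCat.Presheaf.algebra_section_stalk X.presheaf ⟨i z, hz⟩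
  haveI : IsLocalization.AtPrime (X.presheaf.stalk (i z)) (hU.primeIdealOf ⟨i z, hz⟩).asIdeal :=
    hU.isLocalization_stalk ⟨i z, hz⟩
  obtain ⟨a, s, rfl⟩ := IsLocalization.exists_mk'_eq
    (hU.primeIdealOf ⟨i z, hz⟩).asIdeal.primeCompl t
  have h1 : IsLocalization.mk' (X.presheaf.stalk (i z)) a s *
      algebraMap Γ(X, U) (X.presheaf.stalk (i z)) s = algebraMap Γ(X, U) (X.presheaf.stalk (i z)) a :=
    IsLocalization.mk'_spec _ a s
  have hsu : IsUnit (algebraMap Γ(X, U) (X.presheaf.stalk (i z)) s) := IsLocalization.map_units _ s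
  have h2 : (i.stalkMap z).hom (X.presheaf.germ U (i z) hz a) = 0 := by
    have : X.presheaf.germ U (i z) hz a = algebraMap Γ(X, U) (X.presheaf.stalk (i z)) a := rfl
    rw [this, ← h1, map_mul, ht, zero_mul]
  have h2' : Z.presheaf.germ (i ⁻¹ᵁ U) z hz (i.app U a) = 0 := by
    rw [← Scheme.Hom.germ_stalkMap_apply]; exact h2
  have hV : IsAffineOpen (i ⁻¹ᵁ U) := hU.preimage i
  letI : Algebra Γ(Z, i ⁻¹ᵁ U) (Z.presheaf.stalk z) :=
    TopCat.Presheaf.algebra_section_stalk Z.presheaf ⟨z, hz⟩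
  haveI : IsLocalization.AtPrime (Z.presheaf.stalk z) (hV.primeIdealOf ⟨z, hz⟩).asIdeal :=
    hV.isLocalization_stalk ⟨z, hz⟩
  obtain ⟨s', hs'⟩ := (IsLocalization.map_eq_zero_iff (hV.primeIdealOf ⟨z, hz⟩).asIdeal.primeCompl
    (Z.presheaf.stalk z) (i.app U a)).1 h2'
  obtain ⟨s'', hs''⟩ := i.app_surjective U hU s'.1
  have hker : s'' * a ∈ RingHom.ker (i.app U).hom := by
    rw [RingHom.mem_ker, map_mul]
    exact (congrArg (· * (i.app U).hom a) hs'').trans hs'
  have h3 := hk _ hker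
  rw [map_mul] at h3
  have hu : IsUnit (X.presheaf.germ U (i z) hz s'') := by
    have h5 : IsUnit ((i.stalkMap z).hom (X.presheaf.germ U (i z) hz s'')) := by
      have h6 : (i.stalkMap z).hom (X.presheaf.germ U (i z) hz s'') =
          Z.presheaf.germ (i ⁻¹ᵁ U) z hz (i.app U s'') := Scheme.Hom.germ_stalkMap_apply i U z hz s''
      rw [h6, hs'']
      exact IsLocalization.map_units (Z.presheaf.stalk z) s'
    exact isUnit_of_map_unit (i.stalkMap z).hom _ h5
  have h4 := (Ideal.unit_mul_mem_iff_mem _ hu).1 h3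
  have h7 : X.presheaf.germ U (i z) hz a = IsLocalization.mk' (X.presheaf.stalk (i z)) a s *
      algebraMap Γ(X, U) (X.presheaf.stalk (i z)) s := h1.symm
  rw [h7] at h4
  exact (Ideal.mul_unit_mem_iff_mem _ hsu).1 h4

/-- germs of `𝒥(U)^m` at a point of the support lie in `𝔪^m` -/
theorem germ_mem_pow_of_mem_ideal_pow (𝒥 : X.IdealSheafData) (x : X) (hx : x ∈ 𝒥.support)
    (U : X.affineOpens) (hxU : x ∈ U.1) (m : ℕ) (a : Γ(X, U.1)) (ha : a ∈ (𝒥.ideal U) ^ m) :
    X.presheaf.germ U.1 x hxU a ∈ maximalIdeal (X.presheaf.stalk x) ^ m := by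
  have h1 : 𝒥.ideal U ≤ Ideal.comap (X.presheaf.germ U.1 x hxU).hom
      (maximalIdeal (X.presheaf.stalk x)) := by
    intro b hb
    rw [Ideal.mem_comap, IsLocalRing.mem_maximalIdeal, mem_nonunits_iff]
    intro hu
    have h0 := (Scheme.IdealSheafData.mem_support_iff_of_mem hxU).1 hx
    rw [Scheme.mem_zeroLocus_iff] at h0
    exact h0 b hb ((Scheme.mem_basicOpen _ _ _ hxU).2 hu)
  have h2 : Ideal.map (X.presheaf.germ U.1 x hxU).hom (𝒥.ideal U ^ m) ≤
      maximalIdeal (X.presheaf.stalk x) ^ m := by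
    rw [Ideal.map_pow]
    exact Ideal.pow_right_mono (Ideal.map_le_iff_le_comap.2 h1) m
  exact h2 (Ideal.mem_map_of_mem _ ha)

/-- the kernel of the stalk map of the `n`-th thickening lies in `𝔪^(n+1)` -/
theorem ker_stalkMap_subschemeι_le (𝒥 : X.IdealSheafData) (n : ℕ) (z : (𝒥 ^ (n + 1)).subscheme) :
    RingHom.ker (((𝒥 ^ (n + 1)).subschemeι).stalkMap z).hom ≤
      maximalIdeal (X.presheaf.stalk ((𝒥 ^ (n + 1)).subschemeι z)) ^ (n + 1) := by
  set i := (𝒥 ^ (n + 1)).subschemeι with hi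
  have hx : i z ∈ 𝒥.support := by
    have h0 : i z ∈ Set.range i := ⟨z, rfl⟩
    rw [Scheme.IdealSheafData.range_subschemeι, Scheme.IdealSheafData.support_pow_succ] at h0
    exact h0
  obtain ⟨U, hU, hxU, -⟩ := (Opens.isBasis_iff_nbhd.1 X.isBasis_affineOpens)
    (show i z ∈ (⊤ : X.Opens) from trivial)
  refine ker_stalkMap_le_pow i z hU hxU (n + 1) fun a ha => ?_
  have h1 := Scheme.IdealSheafData.ker_subschemeι_app (𝒥 ^ (n + 1)) ⟨U, hU⟩
  rw [Scheme.IdealSheafData.ideal_pow] at h1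
  have ha' : a ∈ (𝒥.ideal ⟨U, hU⟩) ^ (n + 1) := by
    have : a ∈ RingHom.ker ((𝒥 ^ (n + 1)).subschemeι.app U).hom := ha
    rw [h1] at this
    exact this
  exact germ_mem_pow_of_mem_ideal_pow 𝒥 (i z) hx ⟨U, hU⟩ hxU (n + 1) a ha'

end Groth.Agent.Lib.Helper21.FreeLift
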