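import Groth.Agent.Lib.Helper21.FreeLift1
import Groth.Agent.Lib.Helper21.FreeLift2
import Groth.Agent.Lib.Helper17.ModStalk
import Groth.Agent.Lib.Helper7.StalkFree
import Groth.Prelude.Def_FSch3

set_option autoImplicit false
set_option backward.isDefEq.respectTransparency.types false
set_option linter.style.haveILetI false
universe u
open AlgebraicGeometry CategoryTheory TopologicalSpace IsLocalRing TensorProduct

namespace Groth.Agent.Lib.Helper21.FreeLift

variable {X Z : Scheme.{u}}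

/-- basis of the stalk of a finite locally free module of rank `r` -/
theorem nonempty_stalkBasis (E : X.Modules) {r : ℕ} (hE : FlatMod.IsFinLocFreeOfRank r E) (x : X) :
    Nonempty (Module.Basis (Fin r) (X.presheaf.stalk x) (E.presheaf.stalk x)) := by
  obtain ⟨U, hxU, ⟨e⟩⟩ := hE x
  obtain ⟨hfree, hfin, hrank⟩ :=
    Groth.Agent.Lib.Helper7.StalkFree.free_stalk_of_iso E x U hxU r e
  exact ⟨Module.finBasisOfFinrankEq _ _ hrank⟩

/-- the quotient datum at a point of a closed subscheme -/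
theorem exists_quot_data (i : Z ⟶ X) [IsClosedImmersion i] (G : X.Modules) [G.IsQuasicoherent]
    (r m : ℕ) (hfree : FlatMod.IsFinLocFreeOfRank r ((Scheme.Modules.pullback i).obj G))
    (z : Z) (hk : RingHom.ker (i.stalkMap z).hom ≤ maximalIdeal (X.presheaf.stalk (i z)) ^ m)
    (x : X) (hzx : i z = x) :
    ∃ (S : Type u) (_ : CommRing S) (φ : X.presheaf.stalk x →+* S), Function.Surjective φ ∧
      RingHom.ker φ ≤ maximalIdeal (X.presheaf.stalk x) ^ m ∧
      letI := φ.toAlgebra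
      Nonempty (Module.Basis (Fin r) S (S ⊗[X.presheaf.stalk x] (G.presheaf.stalk x))) := by
  subst hzx
  refine ⟨Z.presheaf.stalk z, inferInstance, (i.stalkMap z).hom, i.stalkMap_surjective z, hk, ?_⟩
  letI := (i.stalkMap z).hom.toAlgebra
  obtain ⟨e⟩ := Groth.Agent.Lib.Helper17.ModStalk.nonempty_linearEquiv_stalk_pullback i G z
  obtain ⟨b⟩ := nonempty_stalkBasis _ hfree z
  exact ⟨b.map e⟩

/-- the stalks of `F` along the support of `𝒥` are free of rank `r` -/
theorem nonempty_stalkBasis_of_thickenings [IsLocallyNoetherian X] (𝒥 : X.IdealSheafData)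
    (F : X.Modules) (hF : Coh.IsCoh F) (r : ℕ)
    (h : ∀ n : ℕ, FlatMod.IsFinLocFreeOfRank r
      ((Scheme.Modules.pullback ((𝒥 ^ (n + 1)).subschemeι)).obj F))
    (x : X) (hx : x ∈ 𝒥.support) :
    Nonempty (Module.Basis (Fin r) (X.presheaf.stalk x) (F.presheaf.stalk x)) := by
  haveI : F.IsQuasicoherent := hF.1
  haveI := Groth.Agent.Lib.Helper7.StalkFree.finite_stalk_of_isCoh X F hF x
  apply nonempty_basis_of_forall_quotient
  intro n
  have hx' : x ∈ Set.range (𝒥 ^ (n + 1)).subschemeι := by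
    rw [Scheme.IdealSheafData.range_subschemeι, Scheme.IdealSheafData.support_pow_succ]
    exact hx
  obtain ⟨z, hz⟩ := hx'
  exact exists_quot_data _ F r (n + 1) (h n) z (ker_stalkMap_subschemeι_le 𝒥 n z) x hz

/-- **Freeness spreads from the thickenings**, provided every nonempty closed subset meets the
support. -/
theorem isFinLocFreeOfRank_of_thickenings [IsLocallyNoetherian X] (𝒥 : X.IdealSheafData)
    (F : X.Modules) (hF : Coh.IsCoh F) (r : ℕ)
    (h : ∀ n : ℕ, FlatMod.IsFinLocFreeOfRank r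
      ((Scheme.Modules.pullback ((𝒥 ^ (n + 1)).subschemeι)).obj F))
    (hsupp : ∀ C : Set X, IsClosed C → C.Nonempty → ∃ x ∈ C, x ∈ 𝒥.support) :
    FlatMod.IsFinLocFreeOfRank r F := by
  let W : Set X := {x | ∃ U : X.Opens, x ∈ U ∧ Nonempty (F.restrict U.ι ≅ FlatMod.freeMod (↑U) r)}
  have hWo : IsOpen W := by
    rw [isOpen_iff_forall_mem_open]
    rintro x ⟨U, hxU, hU⟩
    exact ⟨U.1, fun y hy => ⟨U, hy, hU⟩, U.2, hxU⟩
  have hsub : ∀ x, x ∈ 𝒥.support → x ∈ W := by
    intro x hx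
    obtain ⟨b⟩ := nonempty_stalkBasis_of_thickenings 𝒥 F hF r h x hx
    haveI : Module.Free (X.presheaf.stalk x) (F.presheaf.stalk x) := Module.Free.of_basis b
    obtain ⟨U, hxU, hU⟩ :=
      Groth.Agent.Lib.Helper7.StalkFree.exists_iso_freeMod_of_free_stalk X F hF x
    have hr : Module.finrank (X.presheaf.stalk x) (F.presheaf.stalk x) = r := by
      rw [Module.finrank_eq_card_basis b, Fintype.card_fin]
    rw [hr] at hU
    exact ⟨U, hxU, hU⟩
  have hW : W = Set.univ := by
    by_contra hne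
    have hne' : (Wᶜ).Nonempty := by
      rw [Set.nonempty_compl]; exact hne
    obtain ⟨x, hxC, hxs⟩ := hsupp Wᶜ hWo.isClosed_compl hne'
    exact hxC (hsub x hxs)
  intro x
  have hx : x ∈ W := by rw [hW]; trivial
  exact hx

open PrimeSpectrum in
/-- For `f : X ⟶ Spec A` closed with `I` in the Jacobson radical, every nonempty closed subset of
`X` meets `f⁻¹ V(I)`. -/
theorem exists_mem_support_comap (A : Type u) [CommRing A] (I : Ideal A)
    (hI : I ≤ (⊥ : Ideal A).jacobson) (f : X ⟶ Spec (CommRingCat.of A)) (hf : IsClosedMap f)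
    (C : Set X) (hC : IsClosed C) (hne : C.Nonempty) :
    ∃ x ∈ C, x ∈ ((FSch.idealSpec A I).comap f).support := by
  have hcl : IsClosed (f '' C) := hf C hC
  obtain ⟨s, hs⟩ := (PrimeSpectrum.isClosed_iff_zeroLocus_ideal (f '' C)).1 hcl
  have hs_ne : s ≠ ⊤ := by
    rintro rfl
    rw [Submodule.top_coe, PrimeSpectrum.zeroLocus_univ] at hs
    obtain ⟨c, hc⟩ := hne
    have : f c ∈ f '' C := ⟨c, hc, rfl⟩
    exact hs.subset this
  obtain ⟨𝔪, h𝔪, hle⟩ := Ideal.exists_le_maximal s hs_ne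
  let p : ↥(Spec (CommRingCat.of A)) := (⟨𝔪, h𝔪.isPrime⟩ : PrimeSpectrum A)
  have hp : p ∈ f '' C := by
    exact hs.symm.subset ((PrimeSpectrum.mem_zeroLocus _ _).2 hle)
  obtain ⟨c, hc, hcp⟩ := hp
  refine ⟨c, hc, ?_⟩
  rw [Scheme.IdealSheafData.support_comap]
  show f c ∈ (FSch.idealSpec A I).support
  rw [hcp]
  have hIp : I ≤ 𝔪 := hI.trans (sInf_le ⟨bot_le, h𝔪⟩)
  have hsup : ((FSch.idealSpec A I).support : Set ↥(Spec (CommRingCat.of A))) =
      closure (Set.range (Spec.map (CommRingCat.ofHom (Ideal.Quotient.mk I)))) :=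
    Scheme.Hom.support_ker _
  have hmem : p ∈ ((FSch.idealSpec A I).support : Set ↥(Spec (CommRingCat.of A))) := by
    rw [hsup]
    apply subset_closure
    have hr : Set.range (PrimeSpectrum.comap (Ideal.Quotient.mk I)) =
        PrimeSpectrum.zeroLocus (RingHom.ker (Ideal.Quotient.mk I)) :=
      range_comap_of_surjective _ _ Ideal.Quotient.mk_surjective
    rw [Ideal.mk_ker] at hr
    have hp2 : (⟨𝔪, h𝔪.isPrime⟩ : PrimeSpectrum A) ∈ PrimeSpectrum.zeroLocus (I : Set A) :=
      (PrimeSpectrum.mem_zeroLocus _ _).2 hIp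
    rw [← hr] at hp2
    obtain ⟨q, hq⟩ := hp2
    exact ⟨q, hq⟩
  exact hmem

end Groth.Agent.Lib.Helper21.FreeLift
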