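import Groth.Agent.Lib.Helper21.SteinLocal5
import Mathlib.RingTheory.Invariant.Galois
import Mathlib.FieldTheory.PurelyInseparable.Basic
import Mathlib.FieldTheory.IsSepClosed
import Mathlib.FieldTheory.Normal.Closure

set_option autoImplicit false
set_option backward.isDefEq.respectTransparency.types false
set_option linter.style.haveILetI false
universe u

namespace Groth.Agent.Lib.Helper21.GalCount

open scoped Pointwise

/-- primes are determined by their contraction along a ring map whose image contains a positive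
power of every element. -/
theorem eq_of_comap_eq_of_pow_mem {R T : Type*} [CommRing R] [CommRing T] (ψ : R →+* T)
    (hψ : ∀ t : T, ∃ m : ℕ, 0 < m ∧ t ^ m ∈ ψ.range) (Q₁ Q₂ : Ideal T) [Q₁.IsPrime] [Q₂.IsPrime]
    (h : Q₁.comap ψ = Q₂.comap ψ) : Q₁ = Q₂ := by
  have key : ∀ (P P' : Ideal T) [P.IsPrime] [P'.IsPrime], P.comap ψ = P'.comap ψ → P ≤ P' := by
    intro P P' _ hP' hPP' t ht
    obtain ⟨m, hm, r, hr⟩ := hψ t
    have h1 : r ∈ P.comap ψ := by
      rw [Ideal.mem_comap, hr]; exact Ideal.pow_mem_of_mem P ht m hm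
    rw [hPP', Ideal.mem_comap, hr] at h1
    exact hP'.mem_of_pow_mem m h1
  exact le_antisymm (key Q₁ Q₂ h) (key Q₂ Q₁ h.symm)

/-- Galois transitivity count: for an integrally closed local domain `A` with fraction field `K`,
`S/K` a field extension inside a finite Galois extension `N/K`, the maximal ideals of the integral
closure of `A` in `S` inject into the `K`-embeddings of `S` in `N`. -/
theorem exists_injective_maximalSpectrum_algHom
    {A K S N : Type u} [CommRing A] [IsDomain A] [IsIntegrallyClosed A] [IsLocalRing A]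
    [Field K] [Algebra A K] [IsFractionRing A K]
    [Field S] [Algebra K S] [Algebra A S] [IsScalarTower A K S]
    [Field N] [Algebra K N] [Algebra A N] [IsScalarTower A K N] [FiniteDimensional K N]
    [IsGalois K N] [Algebra S N] [IsScalarTower K S N] :
    ∃ Φ : MaximalSpectrum (integralClosure A S) → (S →ₐ[K] N), Function.Injective Φ := by
  classical
  let BS := integralClosure A S
  let B := integralClosure A N
  haveI : IsScalarTower A S N := IsScalarTower.of_algebraMap_eq (fun a => by
    rw [IsScalarTower.algebraMap_apply A K N, IsScalarTower.algebraMap_apply K S N,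
      ← IsScalarTower.algebraMap_apply A K S])
  let res : (S →ₐ[K] N) → (BS →ₐ[A] B) := fun τ => (τ.restrictScalars A).mapIntegralClosure
  haveI : IsFractionRing B N := integralClosure.isFractionRing_of_finite_extension K N
  letI act := IsIntegralClosure.MulSemiringAction A K N B
  haveI hinv : Algebra.IsInvariant A B Gal(N/K) := Algebra.isInvariant_of_isGalois A K N B
  haveI : SMulCommClass Gal(N/K) A B := ⟨fun g a b => by
    show galRestrict A K N B g (a • b) = a • galRestrict A K N B g b
    exact map_smul _ _ _⟩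
  haveI : Nontrivial B := inferInstance
  obtain ⟨Q₀, hQ₀⟩ := Ideal.exists_maximal B
  have hunder : ∀ Q : Ideal B, Q.IsMaximal → Q.under A = IsLocalRing.maximalIdeal A := by
    intro Q hQ
    exact IsLocalRing.eq_maximalIdeal (Ideal.isMaximal_comap_of_isIntegral_of_isMaximal Q)
  let ι₀ : BS →ₐ[A] B := res (IsScalarTower.toAlgHom K S N)
  have hι₀inj : Function.Injective ι₀ := by
    intro x y hxy
    have := congrArg Subtype.val hxy
    exact Subtype.ext ((algebraMap S N).injective this)
  have hex : ∀ P : MaximalSpectrum BS, ∃ τ : S →ₐ[K] N,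
      P.asIdeal = Q₀.comap (res τ).toRingHom := by
    intro P
    haveI := P.isMaximal
    letI algBSB : Algebra BS B := ι₀.toRingHom.toAlgebra
    haveI : IsScalarTower A BS B := IsScalarTower.of_algebraMap_eq (fun a => (ι₀.commutes a).symm)
    haveI : Algebra.IsIntegral BS B :=
      ⟨fun b => (Algebra.IsIntegral.isIntegral (R := A) b).tower_top⟩
    have hker : RingHom.ker (algebraMap BS B) ≤ P.asIdeal := by
      have : RingHom.ker (algebraMap BS B) = ⊥ :=
        (RingHom.injective_iff_ker_eq_bot (algebraMap BS B)).mp hι₀inj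
      rw [this]
      exact bot_le
    obtain ⟨Q, hQmax, hQP⟩ := Ideal.exists_ideal_over_maximal_of_isIntegral (S := B) P.asIdeal hker
    haveI := hQmax.isPrime
    haveI := hQ₀.isPrime
    obtain ⟨g, hg⟩ := Algebra.IsInvariant.exists_smul_of_under_eq A B Gal(N/K) Q₀ Q
      ((hunder Q₀ hQ₀).trans (hunder Q hQmax).symm)
    refine ⟨((g⁻¹ : Gal(N/K)) : N →ₐ[K] N).comp (IsScalarTower.toAlgHom K S N), ?_⟩
    ext x
    rw [← hQP, Ideal.mem_comap, Ideal.mem_comap, hg, Ideal.mem_pointwise_smul_iff_inv_smul_mem]
    have : g⁻¹ • (algebraMap BS B x) =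
        (res (((g⁻¹ : Gal(N/K)) : N →ₐ[K] N).comp (IsScalarTower.toAlgHom K S N))).toRingHom x := by
      apply Subtype.ext
      show ((galRestrict A K N B g⁻¹ (ι₀ x) : B) : N) = _
      exact algebraMap_galRestrict_apply A g⁻¹ (ι₀ x)
    rw [this]
  choose Φ hΦ using hex
  refine ⟨Φ, fun P P' hPP' => MaximalSpectrum.ext ?_⟩
  rw [hΦ P, hΦ P', hPP']

end Groth.Agent.Lib.Helper21.GalCount
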