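import Groth.Agent.Lib.Helper21.GalCount1

set_option autoImplicit false
set_option backward.isDefEq.respectTransparency.types false
set_option linter.style.haveILetI false
universe u

namespace Groth.Agent.Lib.Helper21.GalCount

open scoped Pointwise
open IntermediateField

/-- for an integrally closed local domain `A` with fraction field `K` and a finite separable
extension `S/K`, the integral closure of `A` in `S` has at most `[S : K]` maximal ideals. -/
theorem card_maximalSpectrum_le_finrank_of_isSeparable
    {A K S : Type u} [CommRing A] [IsDomain A] [IsIntegrallyClosed A] [IsLocalRing A]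
    [Field K] [Algebra A K] [IsFractionRing A K]
    [Field S] [Algebra K S] [Algebra A S] [IsScalarTower A K S]
    [FiniteDimensional K S] [Algebra.IsSeparable K S] :
    Finite (MaximalSpectrum (integralClosure A S)) ∧
      Nat.card (MaximalSpectrum (integralClosure A S)) ≤ Module.finrank K S := by
  classical
  let Ω := SeparableClosure K
  let τ₀ : S →ₐ[K] Ω := IsSepClosed.lift
  letI algSΩ : Algebra S Ω := τ₀.toRingHom.toAlgebra
  haveI : IsScalarTower K S Ω := IsScalarTower.of_algebraMap_eq (fun a => (τ₀.commutes a).symm)
  let N := IntermediateField.normalClosure K S Ω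
  letI algAN : Algebra A N := ((algebraMap K N).comp (algebraMap A K)).toAlgebra
  haveI : IsScalarTower A K N := IsScalarTower.of_algebraMap_eq (fun _ => rfl)
  obtain ⟨Φ, hΦ⟩ := exists_injective_maximalSpectrum_algHom (A := A) (K := K) (S := S) (N := N)
  haveI : Finite (S →ₐ[K] N) := inferInstance
  haveI hfin : Finite (MaximalSpectrum (integralClosure A S)) := Finite.of_injective _ hΦ
  exact ⟨hfin, (Nat.card_le_card_of_injective _ hΦ).trans (card_algHom_le_finrank K S N)⟩

end Groth.Agent.Lib.Helper21.GalCount

namespace Groth.Agent.Lib.Helper21.GalCount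

open scoped Pointwise
open IntermediateField

/-- the integral closure of a unibranch local domain `A` in a field extension `L` of its
fraction field `K` has at most `[K' : K]_s` maximal ideals, `K'` the algebraic closure of `K`
in `L`. -/
theorem card_maximalSpectrum_integralClosure_le
    {A K L : Type u} [CommRing A] [IsDomain A] [IsLocalRing A] [Field K] [Field L]
    [Algebra A K] [IsFractionRing A K] [Algebra K L] [Algebra A L] [IsScalarTower A K L]
    (hA : CAlg2.IsUnibranch A) (n : ℕ) (hn0 : 0 < n)
    (hn : Field.finSepDegree K (algebraicClosure K L) = n) :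
    Finite (MaximalSpectrum (integralClosure A L)) ∧
      Nat.card (MaximalSpectrum (integralClosure A L)) ≤ n := by
  classical
  let A' := integralClosure A K
  haveI hloc : IsLocalRing A' := by
    haveI h0 := Groth.Agent.Lib.Helper21.UniLocal.isLocalRing_integralClosure_fractionRing hA
    let e : integralClosure A (FractionRing A) ≃ₐ[A] A' :=
      (FractionRing.algEquiv A K).mapIntegralClosure
    exact e.toRingEquiv.isLocalRing
  haveI : IsIntegrallyClosed A' := integralClosure.isIntegrallyClosedOfFiniteExtension K
  haveI : IsFractionRing A' K := integralClosure.isFractionRing_of_finite_extension K K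
  let E := algebraicClosure K L
  let S := separableClosure K E
  have hfr : Module.finrank K S = n := by
    rw [← hn, Field.finSepDegree_eq]
    rfl
  haveI : Module.Finite K S := Module.finite_of_finrank_pos (by rw [hfr]; exact hn0)
  haveI i4 : IsScalarTower A K S := IsScalarTower.of_algebraMap_eq (fun a => by
    apply Subtype.ext
    apply Subtype.ext
    exact IsScalarTower.algebraMap_apply A K L a)
  obtain ⟨hfinS, hcardS⟩ :=
    card_maximalSpectrum_le_finrank_of_isSeparable (A := A') (K := K) (S := S)
  -- the embedding of S in L
  let j : S →ₐ[K] L := (IntermediateField.val E).comp (IntermediateField.val S)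
  have hjinj : Function.Injective j := j.toRingHom.injective
  let C := integralClosure A L
  have hmem : ∀ x : integralClosure A' S, IsIntegral A (j (x : S)) := by
    intro x
    have h1 : IsIntegral A (x : S) := isIntegral_trans (x : S) x.2
    exact h1.map (j.restrictScalars A)
  let ψ : integralClosure A' S →+* C :=
    { toFun := fun x => ⟨j (x : S), hmem x⟩
      map_one' := Subtype.ext (map_one j)
      map_mul' := fun x y => Subtype.ext (map_mul j _ _)
      map_zero' := Subtype.ext (map_zero j)
      map_add' := fun x y => Subtype.ext (map_add j _ _) }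
  haveI : ExpChar S (ringExpChar S) := ringExpChar.expChar S
  have hpow : ∀ c : C, ∃ m : ℕ, 0 < m ∧ c ^ m ∈ ψ.range := by
    intro c
    have hcK : IsIntegral K (c : L) := (c.2 : IsIntegral A (c : L)).tower_top
    let cE : E := ⟨(c : L), (mem_algebraicClosure_iff' (F := K) (E := L)).mpr hcK⟩
    obtain ⟨k, s, hs⟩ := IsPurelyInseparable.pow_mem S (ringExpChar S) cE
    have hjs : j s = (c : L) ^ (ringExpChar S ^ k) := by
      show ((algebraMap S E s : E) : L) = _
      rw [hs]
      rfl
    have hsA : IsIntegral A s := by
      rw [← isIntegral_algHom_iff (j.restrictScalars A) hjinj]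
      show IsIntegral A (j s)
      rw [hjs]
      exact (c.2 : IsIntegral A (c : L)).pow _
    have hsA' : IsIntegral A' s := hsA.tower_top
    refine ⟨ringExpChar S ^ k, pow_pos (expChar_pos S _) k, ⟨s, hsA'⟩, ?_⟩
    apply Subtype.ext
    show j s = ((c ^ (ringExpChar S ^ k) : C) : L)
    rw [hjs]
    rfl
  have hψint : ψ.IsIntegral := by
    intro c
    obtain ⟨m, hm, r, hr⟩ := hpow c
    refine ⟨Polynomial.X ^ m - Polynomial.C r, Polynomial.monic_X_pow_sub_C r hm.ne', ?_⟩
    rw [Polynomial.eval₂_sub, Polynomial.eval₂_pow, Polynomial.eval₂_X, Polynomial.eval₂_C, hr,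
      sub_self]
  let Θ : MaximalSpectrum C → MaximalSpectrum (integralClosure A' S) := fun P =>
    ⟨P.asIdeal.comap ψ,
      haveI := P.isMaximal
      Ideal.isMaximal_comap_of_isIntegral_of_isMaximal' ψ hψint P.asIdeal⟩
  have hΘ : Function.Injective Θ := by
    intro P P' hPP'
    haveI := P.isMaximal.isPrime
    haveI := P'.isMaximal.isPrime
    have h1 : P.asIdeal.comap ψ = P'.asIdeal.comap ψ := congrArg MaximalSpectrum.asIdeal hPP'
    exact MaximalSpectrum.ext (eq_of_comap_eq_of_pow_mem ψ hpow _ _ h1)
  haveI hfin : Finite (MaximalSpectrum C) := Finite.of_injective _ hΘ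
  refine ⟨hfin, ?_⟩
  calc Nat.card (MaximalSpectrum C) ≤ Nat.card (MaximalSpectrum (integralClosure A' S)) :=
        Nat.card_le_card_of_injective _ hΘ
    _ ≤ Module.finrank K S := hcardS
    _ = n := hfr

end Groth.Agent.Lib.Helper21.GalCount
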