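import Mathlib

/-!
# Generators of a finite module from an open cover of the spectrum

* `GenCover.exists_span_eq_top`: if `Spec R` is covered by `m` opens, over each principal open inside any of
  which `M` is generated (up to powers) by `n` elements, then the finite module `M` is generated by `n * m` elements.
-/
set_option autoImplicit false
universe u
namespace Groth.Agent.Lib.Helper21.GenCover
open PrimeSpectrum

variable {R : Type u} [CommRing R] {M : Type u} [AddCommGroup M] [Module R M]

/-- the set `s` generates `M` at the prime `p` -/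
def GenAt (s : Set M) (p : PrimeSpectrum R) : Prop :=
  ∀ x : M, ∃ r : R, r ∉ p.asIdeal ∧ r • x ∈ Submodule.span R s

theorem GenAt.mono {s t : Set M} (h : s ⊆ t) {p : PrimeSpectrum R} (hp : GenAt s p) : GenAt t p := by
  intro x
  obtain ⟨r, hr, hx⟩ := hp x
  exact ⟨r, hr, Submodule.span_mono h hx⟩

theorem isOpen_genAt [Module.Finite R M] (s : Set M) : IsOpen {p : PrimeSpectrum R | GenAt s p} := by
  classical
  obtain ⟨g, hg⟩ := (Module.finite_def (R := R) (M := M)).1 inferInstance
  rw [isOpen_iff_forall_mem_open]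
  intro p hp
  choose r hr hrx using hp
  refine ⟨(basicOpen (∏ x ∈ g, r x) : Set (PrimeSpectrum R)), ?_, (basicOpen _).2, ?_⟩
  · intro q hq
    have hq' : (∏ x ∈ g, r x) ∉ q.asIdeal := hq
    intro x
    refine ⟨∏ x ∈ g, r x, hq', ?_⟩
    have hx : x ∈ Submodule.span R (g : Set M) := by rw [hg]; trivial
    induction hx using Submodule.span_induction with
    | mem y hy =>
      have : (∏ x ∈ g, r x) = (∏ x ∈ g.erase y, r x) * r y := by
        rw [← Finset.prod_erase_mul g r hy]
      rw [this, mul_smul]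
      exact Submodule.smul_mem _ _ (hrx y)
    | zero => rw [smul_zero]; exact Submodule.zero_mem _
    | add a b _ _ ha hb => rw [smul_add]; exact Submodule.add_mem _ ha hb
    | smul c a _ ha => rw [smul_comm]; exact Submodule.smul_mem _ _ ha
  · show (∏ x ∈ g, r x) ∉ p.asIdeal
    intro h
    obtain ⟨x, -, hx⟩ := (Ideal.IsPrime.prod_mem_iff (hp := p.2)).1 h
    exact hr x hx

theorem span_eq_top_of_forall_genAt (s : Set M) (h : ∀ p : PrimeSpectrum R, GenAt s p) :
    Submodule.span R s = ⊤ := by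
  rw [eq_top_iff]
  intro x _
  by_contra hx
  let I : Ideal R := (Submodule.span R s).colon {x}
  have hI : I ≠ ⊤ := by
    intro hI
    have : (1 : R) ∈ I := by rw [hI]; trivial
    rw [Submodule.mem_colon_singleton] at this
    rw [one_smul] at this
    exact hx this
  obtain ⟨m, hm, hIm⟩ := Ideal.exists_le_maximal I hI
  obtain ⟨r, hr, hrx⟩ := h ⟨m, hm.isPrime⟩ x
  exact hr (hIm (Submodule.mem_colon_singleton.2 hrx))

/-- an open set is *good* if over every principal open inside it `M` is generated by `n` elements -/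
def Good (n : ℕ) (U : Set (PrimeSpectrum R)) : Prop :=
  ∀ a : R, (basicOpen a : Set (PrimeSpectrum R)) ⊆ U →
    ∃ s : Fin n → M, ∀ x : M, ∃ e : ℕ, a ^ e • x ∈ Submodule.span R (Set.range s)

theorem exists_gen_on_closed [Module.Finite R M] (n : ℕ) :
    ∀ (k : ℕ) (U : Fin k → Set (PrimeSpectrum R)), (∀ i, IsOpen (U i)) →
      (∀ i, Good (M := M) n (U i)) → ∀ Z : Set (PrimeSpectrum R), IsClosed Z → Z ⊆ ⋃ i, U i →
      ∃ s : Fin (n * k) → M, ∀ p ∈ Z, GenAt (Set.range s) p := by
  intro k
  induction k with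
  | zero =>
    intro U _ _ Z _ hcov
    refine ⟨fun i => 0, fun p hp => ?_⟩
    obtain ⟨_, ⟨i, rfl⟩, -⟩ := hcov hp
    exact i.elim0
  | succ k ih =>
    intro U hU hgood Z hZ hcov
    -- part of Z outside the last open
    obtain ⟨s', hs'⟩ := ih (fun i => U i.castSucc) (fun i => hU _) (fun i => hgood _)
      (Z ∩ (U (Fin.last k))ᶜ) (hZ.inter (hU _).isClosed_compl) (by
        rintro p ⟨hpZ, hpU⟩
        obtain ⟨_, ⟨i, rfl⟩, hpi⟩ := hcov hpZ
        refine Fin.lastCases (motive := fun i => p ∈ U i → _) ?_ ?_ i hpi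
        · intro h; exact absurd h hpU
        · intro j h; exact Set.mem_iUnion.2 ⟨j, h⟩)
    set W : Set (PrimeSpectrum R) := {p | GenAt (Set.range s') p} with hW
    have hWo : IsOpen W := isOpen_genAt _
    -- the rest
    have hZ'' : IsClosed (Z ∩ Wᶜ) := hZ.inter hWo.isClosed_compl
    have hsub : Z ∩ Wᶜ ⊆ U (Fin.last k) := by
      rintro p ⟨hpZ, hpW⟩
      by_contra hpU
      exact hpW (hs' p ⟨hpZ, hpU⟩)
    obtain ⟨J, hJ⟩ := (isClosed_iff_zeroLocus_ideal _).1 hZ''
    obtain ⟨I, hI⟩ := (isClosed_iff_zeroLocus_ideal _).1 (hU (Fin.last k)).isClosed_compl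
    have hIJ : I ⊔ J = ⊤ := by
      rw [← zeroLocus_empty_iff_eq_top, zeroLocus_sup, ← hI, ← hJ]
      ext p
      simp only [Set.mem_inter_iff, Set.mem_compl_iff, Set.mem_empty_iff_false, iff_false]
      rintro ⟨h1, h2⟩
      exact h1 (hsub h2)
    obtain ⟨a, ha, b, hb, hab⟩ := Submodule.mem_sup.1 ((Ideal.eq_top_iff_one _).1 hIJ)
    have hDa : (basicOpen a : Set (PrimeSpectrum R)) ⊆ U (Fin.last k) := by
      intro p hp
      by_contra hpU
      have : p ∈ zeroLocus (I : Set R) := by rw [← hI]; exact hpU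
      exact hp (this ha)
    have hZa : Z ∩ Wᶜ ⊆ (basicOpen a : Set (PrimeSpectrum R)) := by
      intro p hp
      rw [hJ] at hp
      have hbp : b ∈ p.asIdeal := hp hb
      show a ∉ p.asIdeal
      intro hap
      apply p.2.ne_top
      rw [Ideal.eq_top_iff_one, ← hab]
      exact Ideal.add_mem _ hap hbp
    obtain ⟨s'', hs''⟩ := hgood (Fin.last k) a hDa
    refine ⟨fun i => Fin.append s' s'' (Fin.cast (by ring) i), fun p hpZ => ?_⟩
    have hrange : Set.range (fun i : Fin (n * (k + 1)) => Fin.append s' s'' (Fin.cast (by ring) i)) =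
        Set.range (Fin.append s' s'') := by
      ext x
      constructor
      · rintro ⟨i, rfl⟩; exact ⟨_, rfl⟩
      · rintro ⟨i, rfl⟩; exact ⟨Fin.cast (by ring) i, by simp⟩
    have hra : Set.range (Fin.append s' s'') = Set.range s' ∪ Set.range s'' := by
      ext x
      constructor
      · rintro ⟨i, rfl⟩
        refine Fin.addCases (motive := fun i => Fin.append s' s'' i ∈ _) ?_ ?_ i
        · intro j; rw [Fin.append_left]; exact Or.inl ⟨j, rfl⟩
        · intro j; rw [Fin.append_right]; exact Or.inr ⟨j, rfl⟩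
      · rintro (⟨j, rfl⟩ | ⟨j, rfl⟩)
        · exact ⟨Fin.castAdd n j, Fin.append_left _ _ _⟩
        · exact ⟨Fin.natAdd (n * k) j, Fin.append_right _ _ _⟩
    rw [hrange, hra]
    by_cases hpW : p ∈ W
    · exact GenAt.mono Set.subset_union_left hpW
    · refine GenAt.mono Set.subset_union_right ?_
      have hpa : a ∉ p.asIdeal := hZa ⟨hpZ, hpW⟩
      intro x
      obtain ⟨e, he⟩ := hs'' x
      exact ⟨a ^ e, fun h => hpa (p.2.mem_of_pow_mem _ h), he⟩

theorem exists_span_eq_top [Module.Finite R M] (n m : ℕ) (U : Fin m → Set (PrimeSpectrum R))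
    (hU : ∀ i, IsOpen (U i)) (hgood : ∀ i, Good (M := M) n (U i)) (hcov : ⋃ i, U i = Set.univ) :
    ∃ s : Fin (n * m) → M, Submodule.span R (Set.range s) = ⊤ := by
  obtain ⟨s, hs⟩ := exists_gen_on_closed n m U hU hgood Set.univ isClosed_univ (by rw [hcov])
  exact ⟨s, span_eq_top_of_forall_genAt _ fun p => hs p trivial⟩

end Groth.Agent.Lib.Helper21.GenCover
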