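import Mathlib
import Groth.Prelude.Def_EtGlue
import Groth.Agent.Lib.Helper21.TorShift

/-!
# Glueing pairs: `R' ⊗ T → R' ⊗ R` is injective for `f`-power torsion ideals `T` (helper21)
-/

set_option autoImplicit false
universe u

namespace Groth.Agent.Lib.Helper21.GlueTor

open TensorProduct

variable {R R' : Type u} [CommRing R] [CommRing R'] [Algebra R R'] (f : R)

/-- `R' = R + f^n R'`. -/
lemma exists_decomp (h : EtGlue.IsGlueingPair R R' f) (n : ℕ) (hn : 0 < n) (x : R') :
    ∃ (r : R) (x' : R'), x = algebraMap R R' r + algebraMap R R' (f ^ n) * x' := by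
  obtain ⟨y, hy⟩ := (h.1 n hn).2 (Ideal.Quotient.mk _ x)
  obtain ⟨r, rfl⟩ := Ideal.Quotient.mk_surjective y
  rw [Ideal.quotientMap_mk, Ideal.Quotient.eq, Ideal.map_span, Set.image_singleton,
    Ideal.mem_span_singleton'] at hy
  obtain ⟨a, ha⟩ := hy
  refine ⟨r, -a, ?_⟩
  have : x = algebraMap R R' r - a * algebraMap R R' (f ^ n) := by
    rw [ha]; ring
  rw [this]; ring

lemma injective_lTensor_of_torsion (h : EtGlue.IsGlueingPair R R' f) (T : Ideal R)
    (hT : ∀ t ∈ T, ∃ n : ℕ, f ^ n * t = 0) :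
    Function.Injective (LinearMap.lTensor R' (T.subtype : T →ₗ[R] R)) := by
  -- every element is `1 ⊗ t`
  have key : ∀ z : R' ⊗[R] T, ∃ t : T, z = (1 : R') ⊗ₜ[R] t := by
    intro z
    induction z using TensorProduct.induction_on with
    | zero => exact ⟨0, (TensorProduct.tmul_zero _ _).symm⟩
    | tmul x t =>
      obtain ⟨n, hn⟩ := hT t.1 t.2
      have hn' : f ^ (n + 1) * t.1 = 0 := by rw [pow_succ', mul_assoc, hn, mul_zero]
      obtain ⟨r, x', hx⟩ := exists_decomp f h (n + 1) (Nat.succ_pos n) x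
      refine ⟨r • t, ?_⟩
      have h1 : (algebraMap R R' r) ⊗ₜ[R] t = (1 : R') ⊗ₜ[R] (r • t) := by
        rw [Algebra.algebraMap_eq_smul_one, TensorProduct.smul_tmul]
      have h2 : (algebraMap R R' (f ^ (n + 1)) * x') ⊗ₜ[R] t = (0 : R' ⊗[R] T) := by
        have : algebraMap R R' (f ^ (n + 1)) * x' = (f ^ (n + 1)) • x' := by
          rw [Algebra.smul_def]
        rw [this, TensorProduct.smul_tmul]
        have : (f ^ (n + 1)) • t = 0 := by
          apply Subtype.ext
          rw [Submodule.coe_smul, Submodule.coe_zero, smul_eq_mul]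
          exact hn'
        rw [this, TensorProduct.tmul_zero]
      rw [hx, TensorProduct.add_tmul, h1, h2, add_zero]
    | add z₁ z₂ h₁ h₂ =>
      obtain ⟨t₁, rfl⟩ := h₁
      obtain ⟨t₂, rfl⟩ := h₂
      exact ⟨t₁ + t₂, (TensorProduct.tmul_add _ _ _).symm⟩
  rw [injective_iff_map_eq_zero]
  intro z hz
  obtain ⟨t, rfl⟩ := key z
  rw [LinearMap.lTensor_tmul] at hz
  have h1 : algebraMap R R' t.1 = 0 := by
    have := congrArg (TensorProduct.rid R R') hz
    rw [TensorProduct.rid_tmul, map_zero] at this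
    rw [Algebra.algebraMap_eq_smul_one]
    exact this
  have h2 : algebraMap R (Localization.Away f) t.1 = 0 := by
    obtain ⟨n, hn⟩ := hT t.1 t.2
    have hu : IsUnit (algebraMap R (Localization.Away f) (f ^ n)) := by
      rw [map_pow]
      exact (IsLocalization.Away.algebraMap_isUnit f).pow n
    have : algebraMap R (Localization.Away f) (f ^ n) * algebraMap R (Localization.Away f) t.1 = 0 := by
      rw [← map_mul, hn, map_zero]
    exact (hu.mul_right_eq_zero).1 this
  have h3 : t.1 = 0 := by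
    apply h.2.1
    change (algebraMap R R' t.1, algebraMap R (Localization.Away f) t.1) =
      (algebraMap R R' 0, algebraMap R (Localization.Away f) 0)
    rw [h1, h2, map_zero, map_zero]
  have : t = 0 := Subtype.ext h3
  rw [this, TensorProduct.tmul_zero]

end Groth.Agent.Lib.Helper21.GlueTor
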