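import Mathlib

/-!
# The graded quotient module `R ⧸ I` of a `ℤ`-graded algebra by a homogeneous ideal (helper21)
-/

set_option autoImplicit false
set_option linter.unusedSectionVars false
universe u

namespace Groth.Agent.Lib.Helper21.GrQuot

open DirectSum

variable {k : Type u} [CommRing k] {R : Type u} [CommRing R] [Algebra k R]
  (𝒜 : ℤ → Submodule k R) [GradedAlgebra 𝒜] (I : Ideal R)

/-- the quotient map as a `k`-linear map -/
def πk : R →ₗ[k] R ⧸ I := (Submodule.mkQ I).restrictScalars k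

omit [GradedAlgebra 𝒜] in
lemma πk_apply (f : R) : πk (k := k) I f = Ideal.Quotient.mk I f := rfl

/-- the pieces of the quotient -/
def piece (d : ℤ) : Submodule k (R ⧸ I) := Submodule.map (πk (k := k) I) (𝒜 d)

lemma mem_piece {d : ℤ} {m : R ⧸ I} : m ∈ piece 𝒜 I d ↔ ∃ f ∈ 𝒜 d, Ideal.Quotient.mk I f = m :=
  Iff.rfl

/-- restriction of the quotient map to pieces -/
def πd (d : ℤ) : 𝒜 d →ₗ[k] piece 𝒜 I d :=
  (πk (k := k) I).restrict (fun f hf => ⟨f, hf, rfl⟩)

variable (hI : I.IsHomogeneous 𝒜)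

/-- the decomposition map on `R`, followed by the quotient maps -/
noncomputable def decR : R →ₗ[k] ⨁ d, piece 𝒜 I d :=
  (DirectSum.lmap (πd 𝒜 I)) ∘ₗ (DirectSum.decomposeLinearEquiv 𝒜).toLinearMap

include hI in
lemma decR_eq_zero {f : R} (hf : f ∈ I) : decR 𝒜 I f = 0 := by
  classical
  unfold decR
  rw [LinearMap.comp_apply]
  ext d
  rw [DirectSum.lmap_apply]
  simp only [LinearEquiv.coe_coe, decomposeLinearEquiv_apply, DirectSum.zero_apply,
    ZeroMemClass.coe_zero]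
  show Ideal.Quotient.mk I ((decompose 𝒜 f d : R)) = 0
  rw [Ideal.Quotient.eq_zero_iff_mem]
  exact hI d hf

/-- the decomposition map of the quotient -/
noncomputable def decQ : (R ⧸ I) →ₗ[k] ⨁ d, piece 𝒜 I d :=
  have h : I.restrictScalars k ≤ LinearMap.ker (decR 𝒜 I) := fun f hf => by
    rw [LinearMap.mem_ker]; exact decR_eq_zero 𝒜 I hI hf
  let g : (R ⧸ I.restrictScalars k) →ₗ[k] ⨁ d, piece 𝒜 I d :=
    Submodule.liftQ (R₂ := k) (M₂ := ⨁ d, piece 𝒜 I d) (I.restrictScalars k) (decR 𝒜 I) h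
  g ∘ₗ (Submodule.Quotient.restrictScalarsEquiv k I).symm.toLinearMap

lemma decQ_mk (f : R) : decQ 𝒜 I hI (Ideal.Quotient.mk I f) = decR 𝒜 I f := rfl

lemma coe_decR (f : R) : DirectSum.coeLinearMap (piece 𝒜 I) (decR 𝒜 I f) = Ideal.Quotient.mk I f := by
  classical
  have h : DirectSum.coeLinearMap (piece 𝒜 I) ∘ₗ DirectSum.lmap (πd 𝒜 I) =
      πk (k := k) I ∘ₗ DirectSum.coeLinearMap 𝒜 := by
    apply DirectSum.linearMap_ext
    intro d
    ext x
    simp only [LinearMap.coe_comp, Function.comp_apply, lmap_lof, coeLinearMap_lof]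
    rfl
  have h2 := congrArg (fun g => g (DirectSum.decomposeLinearEquiv 𝒜 f)) h
  simp only [LinearMap.comp_apply] at h2
  unfold decR
  rw [LinearMap.comp_apply]
  erw [h2]
  have h3 : DirectSum.coeLinearMap 𝒜 (DirectSum.decomposeLinearEquiv 𝒜 f) = f :=
    (DirectSum.decomposeLinearEquiv 𝒜).symm_apply_apply f
  rw [h3]
  rfl

lemma decR_of_mem {d : ℤ} {f : R} (hf : f ∈ 𝒜 d) :
    decR 𝒜 I f = DirectSum.lof k ℤ (fun d => piece 𝒜 I d) d ⟨Ideal.Quotient.mk I f, ⟨f, hf, rfl⟩⟩ := by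
  unfold decR
  rw [LinearMap.comp_apply]
  have : (DirectSum.decomposeLinearEquiv 𝒜).toLinearMap f =
      DirectSum.lof k ℤ (fun d => 𝒜 d) d ⟨f, hf⟩ :=
    DirectSum.decomposeLinearEquiv_apply_coe 𝒜 d ⟨f, hf⟩
  rw [this, DirectSum.lmap_lof]
  rfl

/-- the grading of the quotient -/
@[instance_reducible]
noncomputable def decomposition : DirectSum.Decomposition (piece 𝒜 I) :=
  DirectSum.Decomposition.ofLinearMap _ (decQ 𝒜 I hI)
    (by
      apply LinearMap.ext
      intro m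
      obtain ⟨f, rfl⟩ := Ideal.Quotient.mk_surjective m
      rw [LinearMap.comp_apply, decQ_mk, coe_decR]
      rfl)
    (by
      apply DirectSum.linearMap_ext
      intro d
      apply LinearMap.ext
      rintro ⟨m, f, hf, rfl⟩
      rw [LinearMap.comp_apply, LinearMap.comp_apply, DirectSum.coeLinearMap_lof]
      show decQ 𝒜 I hI (Ideal.Quotient.mk I f) = _
      rw [decQ_mk, decR_of_mem 𝒜 I hf]
      rfl)

lemma gradedSMul : SetLike.GradedSMul 𝒜 (piece 𝒜 I) where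
  smul_mem := by
    rintro i j a m ha ⟨f, hf, rfl⟩
    refine ⟨a * f, SetLike.mul_mem_graded ha hf, ?_⟩
    rw [πk_apply, πk_apply, map_mul]
    rfl

lemma mkQ_isGr (d : ℤ) (f : R) (hf : f ∈ 𝒜 d) : Submodule.mkQ I f ∈ piece 𝒜 I d :=
  ⟨f, hf, rfl⟩

end Groth.Agent.Lib.Helper21.GrQuot
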