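import Mathlib
import Groth.Prelude.Def_GrSyz

/-!
# Hilbert function from a finite graded free resolution (helper21)

Degree pieces of `GrSyz.FreeRes`, exactness in each degree, Euler characteristic
(`finrank_eq_alternating_sum`), and `finrank_stdGr : dim_k k[x_0..x_r]_n = C(r+n, r)`.
-/

set_option autoImplicit false
set_option linter.unusedSectionVars false
universe u
namespace Groth.Agent.Lib.Helper21.GrSyzHilb
open GrSyz DirectSum

section Pieces

variable {k : Type u} [Field k] {R : Type u} [CommRing R] [Algebra k R]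
  {𝒜 : ℤ → Submodule k R} [GradedAlgebra 𝒜]
  {M : Type u} [AddCommGroup M] [Module k M] [Module R M] [IsScalarTower k R M]
  {ℳ : ℤ → Submodule k M} [DirectSum.Decomposition ℳ] [SetLike.GradedSMul 𝒜 ℳ]
  (F : FreeRes 𝒜 ℳ)

/-- The degree `e` piece of the `i`-th term of the resolution. -/
def piece (i : ℕ) (e : ℤ) : Submodule k (Fin (F.rk i) → R) :=
  Submodule.pi Set.univ (fun b => 𝒜 (e - F.deg i b))

lemma mem_piece {i : ℕ} {e : ℤ} {v : Fin (F.rk i) → R} :
    v ∈ piece F i e ↔ ∀ b, v b ∈ 𝒜 (e - F.deg i b) := by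
  simp [piece]

/-- The degree `e` component of a vector. -/
noncomputable def comp (i : ℕ) (e : ℤ) (v : Fin (F.rk i) → R) : Fin (F.rk i) → R :=
  fun b => (decompose 𝒜 (v b) (e - F.deg i b) : R)

lemma comp_mem (i : ℕ) (e : ℤ) (v : Fin (F.rk i) → R) : comp F i e v ∈ piece F i e :=
  (mem_piece F).2 fun b => SetLike.coe_mem _

lemma comp_of_mem {i : ℕ} {e : ℤ} {v : Fin (F.rk i) → R} (h : v ∈ piece F i e) :
    comp F i e v = v := by
  ext b
  exact decompose_of_mem_same 𝒜 ((mem_piece F).1 h b)

lemma dLin_comp (i : ℕ) (e : ℤ) (v : Fin (F.rk (i + 1)) → R) :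
    F.dLin i (comp F (i + 1) e v) = comp F i e (F.dLin i v) := by
  ext a
  change ∑ b, F.d i a b * comp F (i + 1) e v b =
    (decompose 𝒜 (∑ b, F.d i a b * v b) (e - F.deg i a) : R)
  rw [decompose_sum, DFinsupp.finsetSum_apply, AddSubmonoidClass.coe_finsetSum]
  refine Finset.sum_congr rfl fun b _ => ?_
  have h := coe_decompose_mul_add_of_left_mem 𝒜 (F.d_mem i a b) (b := v b)
    (j := e - F.deg (i + 1) b)
  rw [show F.deg (i + 1) b - F.deg i a + (e - F.deg (i + 1) b) = e - F.deg i a by ring] at h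
  rw [h]
  rfl

lemma dLin_mem {i : ℕ} {e : ℤ} {v : Fin (F.rk (i + 1)) → R} (h : v ∈ piece F (i + 1) e) :
    F.dLin i v ∈ piece F i e := by
  rw [← comp_of_mem F h, dLin_comp]
  exact comp_mem F i e _

lemma decompose_smul_of_right_mem (s : R) {m : M} {j : ℤ} (e : ℤ) (hm : m ∈ ℳ j) :
    (decompose ℳ (s • m) e : M) = (decompose 𝒜 s (e - j) : R) • m := by
  induction s using DirectSum.Decomposition.inductionOn 𝒜 with
  | zero => simp
  | @homogeneous i s =>
    have hsm : (s : R) • m ∈ ℳ (i + j) := SetLike.GradedSMul.smul_mem s.2 hm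
    by_cases h : i + j = e
    · subst h
      rw [decompose_of_mem_same ℳ hsm, add_sub_cancel_right, decompose_of_mem_same 𝒜 s.2]
    · rw [decompose_of_mem_ne ℳ hsm h, decompose_of_mem_ne 𝒜 s.2 (by omega), zero_smul]
  | add s t hs ht =>
    rw [add_smul, decompose_add, decompose_add, DirectSum.add_apply, DirectSum.add_apply, AddMemClass.coe_add,
      AddMemClass.coe_add, hs, ht, add_smul]

lemma aug_comp (e : ℤ) (v : Fin (F.rk 0) → R) :
    F.augLin (comp F 0 e v) = (decompose ℳ (F.augLin v) e : M) := by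
  change Fintype.linearCombination R F.aug _ = (decompose ℳ (Fintype.linearCombination R F.aug v) e : M)
  rw [Fintype.linearCombination_apply, Fintype.linearCombination_apply, decompose_sum,
    DFinsupp.finsetSum_apply, AddSubmonoidClass.coe_finsetSum]
  refine Finset.sum_congr rfl fun b _ => ?_
  rw [decompose_smul_of_right_mem (𝒜 := 𝒜) (v b) e (F.aug_mem b)]
  rfl

lemma aug_mem_of_mem {e : ℤ} {v : Fin (F.rk 0) → R} (h : v ∈ piece F 0 e) :
    F.augLin v ∈ ℳ e := by
  rw [← comp_of_mem F h, aug_comp]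
  exact SetLike.coe_mem _

/-- The differential in degree `e`. -/
noncomputable def dP (i : ℕ) (e : ℤ) : piece F (i + 1) e →ₗ[k] piece F i e :=
  ((F.dLin i).restrictScalars k).restrict (fun _ hv => dLin_mem F hv)

/-- The augmentation in degree `e`. -/
noncomputable def augP (e : ℤ) : piece F 0 e →ₗ[k] ℳ e :=
  (F.augLin.restrictScalars k).restrict (fun _ hv => aug_mem_of_mem F hv)

lemma augP_surjective (e : ℤ) : Function.Surjective (augP F e) := by
  rintro ⟨m, hm⟩
  obtain ⟨v, hv⟩ := F.aug_surjective m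
  refine ⟨⟨comp F 0 e v, comp_mem F 0 e v⟩, ?_⟩
  apply Subtype.ext
  change F.augLin (comp F 0 e v) = m
  rw [aug_comp, hv, decompose_of_mem_same ℳ hm]

lemma range_dP_zero (e : ℤ) : LinearMap.range (dP F 0 e) = LinearMap.ker (augP F e) := by
  ext ⟨w, hw⟩
  constructor
  · rintro ⟨⟨v, hv⟩, h⟩
    rw [LinearMap.mem_ker]
    apply Subtype.ext
    have h' : F.dLin 0 v = w := congrArg Subtype.val h
    change F.augLin w = 0
    have : F.dLin 0 v ∈ LinearMap.ker F.augLin := by
      rw [F.exact_zero]; exact LinearMap.mem_range_self _ _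
    rw [← h']
    exact this
  · intro h
    have h' : F.augLin w = 0 := congrArg Subtype.val h
    have : w ∈ LinearMap.range (F.dLin 0) := by
      rw [← F.exact_zero]; exact h'
    obtain ⟨v, hv⟩ := this
    refine ⟨⟨comp F 1 e v, comp_mem F 1 e v⟩, ?_⟩
    apply Subtype.ext
    change F.dLin 0 (comp F 1 e v) = w
    rw [dLin_comp, hv, comp_of_mem F hw]

lemma range_dP_succ (i : ℕ) (e : ℤ) :
    LinearMap.range (dP F (i + 1) e) = LinearMap.ker (dP F i e) := by
  ext ⟨w, hw⟩
  constructor
  · rintro ⟨⟨v, hv⟩, h⟩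
    rw [LinearMap.mem_ker]
    apply Subtype.ext
    have h' : F.dLin (i + 1) v = w := congrArg Subtype.val h
    change F.dLin i w = 0
    have : F.dLin (i + 1) v ∈ LinearMap.ker (F.dLin i) := by
      rw [F.exact_succ i]; exact LinearMap.mem_range_self _ _
    rw [← h']
    exact this
  · intro h
    have h' : F.dLin i w = 0 := congrArg Subtype.val h
    have : w ∈ LinearMap.range (F.dLin (i + 1)) := by
      rw [← F.exact_succ i]; exact h'
    obtain ⟨v, hv⟩ := this
    refine ⟨⟨comp F (i + 2) e v, comp_mem F (i + 2) e v⟩, ?_⟩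
    apply Subtype.ext
    change F.dLin (i + 1) (comp F (i + 2) e v) = w
    rw [dLin_comp, hv, comp_of_mem F hw]

/-- The piece is a product of pieces of the ring. -/
def pieceEquiv (i : ℕ) (e : ℤ) :
    piece F i e ≃ₗ[k] (Π b : Fin (F.rk i), 𝒜 (e - F.deg i b)) where
  toFun v b := ⟨v.1 b, (mem_piece F).1 v.2 b⟩
  invFun w := ⟨fun b => (w b : R), (mem_piece F).2 fun b => (w b).2⟩
  map_add' _ _ := rfl
  map_smul' _ _ := rfl
  left_inv _ := rfl
  right_inv _ := rfl

variable [∀ n, Module.Finite k (𝒜 n)]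

instance (i : ℕ) (e : ℤ) : Module.Finite k (piece F i e) :=
  Module.Finite.equiv (pieceEquiv F i e).symm

lemma finrank_piece (i : ℕ) (e : ℤ) :
    Module.finrank k (piece F i e) = ∑ b, Module.finrank k (𝒜 (e - F.deg i b)) := by
  rw [(pieceEquiv F i e).finrank_eq, Module.finrank_pi_fintype]

/-- Euler characteristic in degree `e`. -/
theorem finrank_eq_alternating_sum (m : ℕ) (hF : F.HasLengthLE m) (e : ℤ) :
    (Module.finrank k (ℳ e) : ℤ) =
      ∑ i ∈ Finset.range (m + 1), (-1 : ℤ) ^ i * (Module.finrank k (piece F i e) : ℤ) := by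
  set z : ℕ → ℕ := fun i => Module.finrank k (LinearMap.range (dP F i e)) with hz
  have h0 : Module.finrank k (piece F 0 e) = Module.finrank k (ℳ e) + z 0 := by
    have := LinearMap.finrank_range_add_finrank_ker (augP F e)
    rw [LinearMap.range_eq_top.2 (augP_surjective F e), finrank_top, ← range_dP_zero] at this
    exact this.symm
  have hs : ∀ i, Module.finrank k (piece F (i + 1) e) = z i + z (i + 1) := by
    intro i
    have := LinearMap.finrank_range_add_finrank_ker (dP F i e)
    rw [← range_dP_succ] at this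
    exact this.symm
  have key : ∀ n : ℕ, ∑ i ∈ Finset.range (n + 1), (-1 : ℤ) ^ i * (Module.finrank k (piece F i e) : ℤ)
      = (Module.finrank k (ℳ e) : ℤ) + (-1 : ℤ) ^ n * (z n : ℤ) := by
    intro n
    induction n with
    | zero => simp [h0]
    | succ n ih =>
      rw [Finset.sum_range_succ, ih, hs n]
      push_cast
      ring
  rw [key m]
  have hzm : z m = 0 := by
    have hrk : F.rk (m + 1) = 0 := hF (m + 1) (by omega)
    have : Module.finrank k (piece F (m + 1) e) = 0 := by
      rw [finrank_piece]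
      apply Finset.sum_eq_zero
      intro b
      exact (Fin.elim0 (hrk ▸ b))
    have h1 : z m ≤ Module.finrank k (piece F (m + 1) e) := LinearMap.finrank_range_le (dP F m e)
    omega
  rw [hzm]
  simp

end Pieces

section Dim
open MvPolynomial

variable (k : Type u) [Field k] (r : ℕ)

lemma weight_one (d : Fin (r + 1) →₀ ℕ) :
    Finsupp.weight (fun _ : Fin (r + 1) => (1 : ℤ)) d = ((∑ i, d i : ℕ) : ℤ) := by
  rw [Finsupp.weight_apply, Finsupp.sum_fintype _ _ (by simp)]
  simp

lemma set_eq_of_nonneg (m : ℕ) :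
    {d : Fin (r + 1) →₀ ℕ | Finsupp.weight (fun _ : Fin (r + 1) => (1 : ℤ)) d = (m : ℤ)} =
      ↑((Finset.univ : Finset (Fin (r + 1))).finsuppAntidiag m) := by
  ext d
  simp only [Set.mem_setOf_eq, Finset.mem_coe, Finset.mem_finsuppAntidiag, Finset.subset_univ,
    and_true]
  rw [weight_one]
  exact_mod_cast Iff.rfl

lemma set_eq_of_neg (n : ℤ) (hn : n < 0) :
    {d : Fin (r + 1) →₀ ℕ | Finsupp.weight (fun _ : Fin (r + 1) => (1 : ℤ)) d = n} = ∅ := by
  ext d
  simp only [Set.mem_setOf_eq, Set.mem_empty_iff_false, iff_false]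
  rw [weight_one]
  omega

instance finite_stdGr (n : ℤ) : Module.Finite k (stdGr k (Fin (r + 1)) n) := by
  have e : stdGr k (Fin (r + 1)) n = restrictSupport k
      {d | Finsupp.weight (fun _ : Fin (r + 1) => (1 : ℤ)) d = n} :=
    weightedHomogeneousSubmodule_eq_finsupp_supported _ _ _
  rw [e]
  rcases lt_or_ge n 0 with hn | hn
  · rw [set_eq_of_neg r n hn]
    exact Module.Finite.of_basis (basisRestrictSupport k _)
  · obtain ⟨m, rfl⟩ := Int.eq_ofNat_of_zero_le hn
    rw [set_eq_of_nonneg]
    exact Module.Finite.of_basis (basisRestrictSupport k _)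

lemma finrank_stdGr (n : ℤ) :
    Module.finrank k (stdGr k (Fin (r + 1)) n) =
      if 0 ≤ n then Nat.choose (r + n.toNat) r else 0 := by
  have e : stdGr k (Fin (r + 1)) n = restrictSupport k
      {d | Finsupp.weight (fun _ : Fin (r + 1) => (1 : ℤ)) d = n} :=
    weightedHomogeneousSubmodule_eq_finsupp_supported _ _ _
  rw [e]
  rcases lt_or_ge n 0 with hn | hn
  · rw [if_neg (by omega), Module.finrank_eq_nat_card_basis (basisRestrictSupport k _),
      set_eq_of_neg r n hn]
    simp
  · obtain ⟨m, rfl⟩ := Int.eq_ofNat_of_zero_le hn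
    rw [if_pos hn, Module.finrank_eq_nat_card_basis (basisRestrictSupport k _), set_eq_of_nonneg]
    simp only [Int.toNat_natCast, Finset.coe_sort_coe, Nat.card_eq_fintype_card, Fintype.card_coe]
    rw [Finset.card_finsuppAntidiag_nat_eq_choose]
    simp only [Finset.card_univ, Fintype.card_fin]
    rw [show r + 1 + m - 1 = r + m by omega, Nat.choose_symm_add]


end Dim

end Groth.Agent.Lib.Helper21.GrSyzHilb
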