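import Mathlib
import Groth.Prelude.Def_GrSyz
import Groth.Agent.Lib.Helper21.ExactRes

/-!
# Graded free resolutions as projective resolutions (helper21)

From `F : GrSyz.FreeRes 𝒜 ℳ` we build `ExactRes.ExactData (ModuleCat.of R M)`, hence a projective
resolution; if `F` is `𝔪`-minimal, then `Tor_i(R/𝔪, M) ≅ (R/𝔪) ⊗ F_i`.
-/

set_option autoImplicit false
set_option linter.unusedSectionVars false
set_option backward.isDefEq.respectTransparency false
set_option backward.defeqAttrib.useBackward true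
universe u

namespace Groth.Agent.Lib.Helper21.GrSyzRes

open CategoryTheory Limits MonoidalCategory GrSyz
open Groth.Agent.Lib.Helper21.ExactRes

variable {R : Type u} [CommRing R] {σ' : Type u} [SetLike σ' R] [AddSubgroupClass σ' R]
  {𝒜 : ℤ → σ'} [GradedRing 𝒜]
  {M : Type u} [AddCommGroup M] [Module R M] {τ : Type u} [SetLike τ M] [AddSubgroupClass τ M]
  {ℳ : ℤ → τ} [DirectSum.Decomposition ℳ] [SetLike.GradedSMul 𝒜 ℳ] (F : FreeRes 𝒜 ℳ)

/-- The exact data of projectives attached to a graded free resolution. -/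
noncomputable def exactData : ExactData (ModuleCat.of R M) where
  X i := ModuleCat.of R (Fin (F.rk i) → R)
  proj i := (IsProjective.iff_projective (Fin (F.rk i) → R)).1 inferInstance
  d i := ModuleCat.ofHom (F.dLin i)
  ε := ModuleCat.ofHom F.augLin
  epi := (ModuleCat.epi_iff_surjective _).2 F.aug_surjective
  w0 := by
    apply ModuleCat.hom_ext
    apply LinearMap.ext
    intro x
    have : F.dLin 0 x ∈ LinearMap.ker F.augLin := by
      rw [F.exact_zero]; exact LinearMap.mem_range_self _ _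
    exact this
  ex0 := by
    apply ModuleCat.shortComplex_exact
    change Function.Exact (F.dLin 0) F.augLin
    rw [LinearMap.exact_iff]
    exact F.exact_zero
  w i := by
    apply ModuleCat.hom_ext
    apply LinearMap.ext
    intro x
    have : F.dLin (i + 1) x ∈ LinearMap.ker (F.dLin i) := by
      rw [F.exact_succ i]; exact LinearMap.mem_range_self _ _
    exact this
  ex i := by
    apply ModuleCat.shortComplex_exact
    change Function.Exact (F.dLin (i + 1)) (F.dLin i)
    rw [LinearMap.exact_iff]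
    exact F.exact_succ i

section Minimal

lemma lTensor_dLin_eq_zero (𝔪 : Ideal R) (hF : F.IsMinimal 𝔪) (i : ℕ) :
    LinearMap.lTensor (R ⧸ 𝔪) (F.dLin i) = 0 := by
  apply TensorProduct.ext'
  intro x v
  rw [LinearMap.lTensor_tmul, LinearMap.zero_apply]
  have hv : F.dLin i v = ∑ a, (F.dLin i v a) • (Pi.single a (1 : R) : Fin (F.rk i) → R) := by
    conv_lhs => rw [pi_eq_sum_univ' (F.dLin i v)]
  rw [hv, TensorProduct.tmul_sum]
  refine Finset.sum_eq_zero fun a _ => ?_
  rw [TensorProduct.tmul_smul, TensorProduct.smul_tmul']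
  have hmem : F.dLin i v a ∈ 𝔪 := by
    change (F.d i).mulVec v a ∈ 𝔪
    rw [Matrix.mulVec]
    change ∑ b, F.d i a b * v b ∈ 𝔪
    exact Ideal.sum_mem _ fun b _ => Ideal.mul_mem_right _ _ (hF i a b)
  have : (F.dLin i v a) • x = 0 := by
    obtain ⟨y, rfl⟩ := Ideal.Quotient.mk_surjective x
    rw [← Ideal.Quotient.mk_eq_mk, Algebra.smul_def]
    change Ideal.Quotient.mk 𝔪 _ * _ = 0
    rw [Ideal.Quotient.eq_zero_iff_mem.2 hmem, zero_mul]
  rw [this, TensorProduct.zero_tmul]

/-- For an `𝔪`-minimal resolution, `Tor_i(R/𝔪, M) ≅ (R/𝔪) ⊗ F_i`. -/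
noncomputable def torIso (𝔪 : Ideal R) (hF : F.IsMinimal 𝔪) (i : ℕ) :
    ((Tor (ModuleCat.{u} R) i).obj (ModuleCat.of R (R ⧸ 𝔪))).obj (ModuleCat.of R M) ≅
      ModuleCat.of R (TensorProduct R (R ⧸ 𝔪) (Fin (F.rk i) → R)) :=
  (exactData F).leftDerivedIsoOfMapZero
    ((tensoringLeft (ModuleCat.{u} R)).obj (ModuleCat.of R (R ⧸ 𝔪)))
    (fun j => by
      apply ModuleCat.hom_ext
      exact lTensor_dLin_eq_zero F 𝔪 hF j) i

lemma length_tensor_pi (𝔪 : Ideal R) [𝔪.IsMaximal] (n : ℕ) :
    Module.length R (TensorProduct R (R ⧸ 𝔪) (Fin n → R)) = n := by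
  rw [(TensorProduct.piScalarRight R R (R ⧸ 𝔪) (Fin n)).length_eq, Module.length_pi]
  have : IsSimpleModule R (R ⧸ 𝔪) := by
    rw [isSimpleModule_iff_isCoatom]
    exact Ideal.isMaximal_def.1 inferInstance
  simp

lemma length_tor (𝔪 : Ideal R) [𝔪.IsMaximal] (hF : F.IsMinimal 𝔪) (i : ℕ) :
    Module.length R
      (((Tor (ModuleCat.{u} R) i).obj (ModuleCat.of R (R ⧸ 𝔪))).obj (ModuleCat.of R M)) =
      F.rk i := by
  rw [(torIso F 𝔪 hF i).toLinearEquiv.length_eq]
  exact length_tensor_pi 𝔪 _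

lemma hasProjectiveDimensionLE_of_hasLengthLE (n : ℕ) (h : F.HasLengthLE n) :
    HasProjectiveDimensionLE (ModuleCat.of R M) n := by
  apply ExactData.hasProjectiveDimensionLT n (exactData F)
  intro i hi
  have : F.rk i = 0 := h i hi
  rw [ModuleCat.isZero_iff_subsingleton]
  change Subsingleton (Fin (F.rk i) → R)
  rw [this]
  infer_instance

end Minimal

end Groth.Agent.Lib.Helper21.GrSyzRes
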