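import Mathlib
import Groth.Prelude.Def_GrSyz
import Groth.Agent.Lib.Helper21.GrSyzHilb
import Groth.Agent.Lib.Helper21.GrSyzRes

set_option autoImplicit false
set_option linter.unusedSectionVars false
universe u
namespace Groth.Agent.Lib.Helper21.GrSyzCompare
open GrSyz DirectSum Groth.Agent.Lib.Helper21.GrSyzHilb

section Lift

variable {k : Type u} [Field k] {R : Type u} [CommRing R] [Algebra k R]
  {𝒜 : ℤ → Submodule k R} [GradedAlgebra 𝒜]
  {M : Type u} [AddCommGroup M] [Module k M] [Module R M] [IsScalarTower k R M]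
  {ℳ : ℤ → Submodule k M} [DirectSum.Decomposition ℳ] [SetLike.GradedSMul 𝒜 ℳ]
  (F F' : FreeRes 𝒜 ℳ)

/-- Homogeneity of a comparison matrix in homological degree `i`. -/
def Hom (i : ℕ) (Φ : Matrix (Fin (F'.rk i)) (Fin (F.rk i)) R) : Prop :=
  ∀ c b, Φ c b ∈ 𝒜 (F.deg i b - F'.deg i c)

/-- The comparison matrix maps boundaries to boundaries. -/
def Rng (i : ℕ) (Φ : Matrix (Fin (F'.rk i)) (Fin (F.rk i)) R) : Prop :=
  ∀ v ∈ LinearMap.range (F.dLin i), Φ.mulVec v ∈ LinearMap.range (F'.dLin i)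

lemma exists_lift_aug (b : Fin (F.rk 0)) :
    ∃ v ∈ piece F' 0 (F.deg 0 b), F'.augLin v = F.aug b := by
  obtain ⟨⟨v, hv⟩, h⟩ := augP_surjective F' (F.deg 0 b) ⟨F.aug b, F.aug_mem b⟩
  exact ⟨v, hv, congrArg Subtype.val h⟩

lemma exists_lift_d (i : ℕ) (e : ℤ) (w : Fin (F'.rk i) → R) (hw : w ∈ piece F' i e)
    (hr : w ∈ LinearMap.range (F'.dLin i)) :
    ∃ v ∈ piece F' (i + 1) e, F'.dLin i v = w := by
  obtain ⟨v0, hv0⟩ := hr
  refine ⟨comp F' (i + 1) e v0, comp_mem F' (i + 1) e v0, ?_⟩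
  rw [dLin_comp, hv0, comp_of_mem F' hw]

lemma mulVec_col_mem {i : ℕ} (Φ : Matrix (Fin (F'.rk i)) (Fin (F.rk i)) R) (hΦ : Hom F F' i Φ)
    (b : Fin (F.rk (i + 1))) :
    Φ.mulVec ((F.d i).col b) ∈ piece F' i (F.deg (i + 1) b) := by
  rw [mem_piece]
  intro c
  change ∑ a, Φ c a * F.d i a b ∈ _
  refine Submodule.sum_mem _ fun a _ => ?_
  have h := SetLike.GradedMul.mul_mem (hΦ c a) (F.d_mem i a b)
  rwa [show F.deg i a - F'.deg i c + (F.deg (i + 1) b - F.deg i a) =
    F.deg (i + 1) b - F'.deg i c by ring] at h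

lemma step (i : ℕ) (Φ : Matrix (Fin (F'.rk i)) (Fin (F.rk i)) R) (hΦ : Hom F F' i Φ)
    (hR : Rng F F' i Φ) :
    ∃ Φ' : Matrix (Fin (F'.rk (i + 1))) (Fin (F.rk (i + 1))) R,
      Hom F F' (i + 1) Φ' ∧ Rng F F' (i + 1) Φ' ∧ F'.d i * Φ' = Φ * F.d i := by
  have hcol : ∀ b : Fin (F.rk (i + 1)), ∃ v ∈ piece F' (i + 1) (F.deg (i + 1) b),
      F'.dLin i v = Φ.mulVec ((F.d i).col b) := by
    intro b
    apply exists_lift_d F' i _ _ (mulVec_col_mem F F' Φ hΦ b)
    apply hR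
    refine ⟨Pi.single b 1, ?_⟩
    rw [Matrix.mulVecLin_apply, Matrix.mulVec_single_one]
  choose v hv hdv using hcol
  have hcomm : F'.d i * (Matrix.of fun c b => v b c) = Φ * F.d i := by
    ext a b
    have := congrFun (hdv b) a
    rw [Matrix.mulVecLin_apply] at this
    rw [Matrix.mul_apply, Matrix.mul_apply]
    exact this
  refine ⟨Matrix.of fun c b => v b c, ?_, ?_, hcomm⟩
  · intro c b
    exact (mem_piece F').1 (hv b) c
  · rintro _ ⟨u, rfl⟩
    rw [← F'.exact_succ i, LinearMap.mem_ker, Matrix.mulVecLin_apply, Matrix.mulVecLin_apply,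
      Matrix.mulVec_mulVec, hcomm, ← Matrix.mulVec_mulVec, Matrix.mulVec_mulVec _ (F.d i)]
    have : F.dLin (i + 1) u ∈ LinearMap.ker (F.dLin i) := by
      rw [F.exact_succ i]; exact LinearMap.mem_range_self _ _
    rw [LinearMap.mem_ker, Matrix.mulVecLin_apply, Matrix.mulVecLin_apply,
      Matrix.mulVec_mulVec] at this
    rw [this, Matrix.mulVec_zero]

lemma base :
    ∃ Φ : Matrix (Fin (F'.rk 0)) (Fin (F.rk 0)) R,
      Hom F F' 0 Φ ∧ Rng F F' 0 Φ ∧ ∀ u, F'.augLin (Φ.mulVec u) = F.augLin u := by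
  choose v hv hav using exists_lift_aug F F'
  have haug : ∀ u, F'.augLin ((Matrix.of fun c b => v b c).mulVec u) = F.augLin u := by
    intro u
    have : (Matrix.of fun c b => v b c).mulVec u = ∑ b, u b • v b := by
      ext c
      simp [Matrix.mulVec, dotProduct, mul_comm]
    rw [this, map_sum]
    change _ = Fintype.linearCombination R F.aug u
    rw [Fintype.linearCombination_apply]
    refine Finset.sum_congr rfl fun b _ => ?_
    rw [map_smul, hav b]
  refine ⟨Matrix.of fun c b => v b c, ?_, ?_, haug⟩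
  · intro c b
    exact (mem_piece F').1 (hv b) c
  · intro u hu
    rw [← F'.exact_zero, LinearMap.mem_ker, haug]
    rw [← F.exact_zero] at hu
    exact hu

/-- The stages of a graded comparison map. -/
structure Stage (i : ℕ) where
  Φ : Matrix (Fin (F'.rk i)) (Fin (F.rk i)) R
  hom : Hom F F' i Φ
  rng : Rng F F' i Φ

noncomputable def stage : ∀ i, Stage F F' i
  | 0 => ⟨(base F F').choose, (base F F').choose_spec.1, (base F F').choose_spec.2.1⟩
  | i + 1 =>
    let S := stage i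
    ⟨(step F F' i S.Φ S.hom S.rng).choose, (step F F' i S.Φ S.hom S.rng).choose_spec.1,
      (step F F' i S.Φ S.hom S.rng).choose_spec.2.1⟩

lemma stage_aug (u : Fin (F.rk 0) → R) :
    F'.augLin ((stage F F' 0).Φ.mulVec u) = F.augLin u :=
  (base F F').choose_spec.2.2 u

lemma stage_comm (i : ℕ) : F'.d i * (stage F F' (i + 1)).Φ = (stage F F' i).Φ * F.d i :=
  (step F F' i (stage F F' i).Φ (stage F F' i).hom (stage F F' i).rng).choose_spec.2.2

end Lift

end Groth.Agent.Lib.Helper21.GrSyzCompare
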