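import Mathlib
import Groth.Prelude.Def_GrSyz
import Groth.Agent.Lib.Helper21.GrSyzHilb
import Groth.Agent.Lib.Helper21.GrSyzRes
import Groth.Agent.Lib.Helper21.GrSyzCompareA
import Groth.Agent.Lib.Helper24.GrSyzLemmas

set_option autoImplicit false
set_option linter.unusedSectionVars false
set_option backward.isDefEq.respectTransparency false
set_option backward.defeqAttrib.useBackward true
universe u
namespace Groth.Agent.Lib.Helper21.GrSyzCompare
open GrSyz DirectSum Groth.Agent.Lib.Helper21.GrSyzHilb Groth.Agent.Lib.Helper21.GrSyzRes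
open Groth.Agent.Lib.Helper21.ExactRes CategoryTheory

section Mod

variable {k : Type u} [Field k] {R : Type u} [CommRing R] [Algebra k R]
  {𝒜 : ℤ → Submodule k R} [GradedAlgebra 𝒜]
  {M : Type u} [AddCommGroup M] [Module k M] [Module R M] [IsScalarTower k R M]
  {ℳ : ℤ → Submodule k M} [DirectSum.Decomposition ℳ] [SetLike.GradedSMul 𝒜 ℳ]
  (F F' : FreeRes 𝒜 ℳ)

lemma small_apply {n m : ℕ} (𝔪 : Ideal R) (t : (Fin n → R) →ₗ[R] (Fin m → R)) (w : Fin n → R)
    (hw : ∀ c, w c ∈ 𝔪) (a : Fin m) : t w a ∈ 𝔪 := by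
  rw [pi_eq_sum_univ' w, map_sum, Finset.sum_apply]
  refine Ideal.sum_mem _ fun c _ => ?_
  rw [map_smul, Pi.smul_apply, smul_eq_mul]
  exact Ideal.mul_mem_right _ _ (hw c)

lemma dLin_apply_mem (𝔪 : Ideal R) (hF : F.IsMinimal 𝔪) (i : ℕ) (v : Fin (F.rk (i + 1)) → R)
    (a : Fin (F.rk i)) : F.dLin i v a ∈ 𝔪 := by
  change ∑ b, F.d i a b * v b ∈ 𝔪
  exact Ideal.sum_mem _ fun b _ => Ideal.mul_mem_right _ _ (hF i a b)

/-- the comparison maps as morphisms -/
noncomputable def cmpHom (i : ℕ) : (exactData F).X i ⟶ (exactData F').X i :=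
  ModuleCat.ofHom (Matrix.mulVecLin (stage F F' i).Φ)

lemma cmpHom_comm (i : ℕ) :
    cmpHom F F' (i + 1) ≫ (exactData F').d i = (exactData F).d i ≫ cmpHom F F' i := by
  apply ModuleCat.hom_ext
  change (F'.dLin i) ∘ₗ Matrix.mulVecLin (stage F F' (i + 1)).Φ =
    Matrix.mulVecLin (stage F F' i).Φ ∘ₗ F.dLin i
  rw [← Matrix.mulVecLin_mul, ← Matrix.mulVecLin_mul, stage_comm]

lemma cmpHom_aug : cmpHom F F' 0 ≫ (exactData F').ε = (exactData F).ε := by
  apply ModuleCat.hom_ext
  apply LinearMap.ext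
  intro u
  exact stage_aug F F' u

/-- `Ψ_i Φ_i ≡ 1` modulo `𝔪` for a minimal resolution `F`. -/
theorem mul_stage_sub_one_mem (𝔪 : Ideal R) (hF : F.IsMinimal 𝔪) (i : ℕ)
    (a b : Fin (F.rk i)) :
    ((stage F' F i).Φ * (stage F F' i).Φ) a b - (1 : Matrix _ _ R) a b ∈ 𝔪 := by
  have key : ∀ v : Fin (F.rk i) → R, ∀ a,
      ((stage F' F i).Φ * (stage F F' i).Φ).mulVec v a - v a ∈ 𝔪 := by
    obtain ⟨⟨s, hs⟩, h2⟩ := ExactData.exists_homotopy_terms (exactData F) (exactData F')
      (cmpHom F F') (cmpHom_comm F F') (cmpHom_aug F F')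
      (cmpHom F' F) (cmpHom_comm F' F) (cmpHom_aug F' F)
    cases i with
    | zero =>
      intro v a
      let sl : (Fin (F.rk 0) → R) →ₗ[R] (Fin (F.rk 1) → R) := s.hom
      have h : (Matrix.mulVecLin (stage F' F 0).Φ) (Matrix.mulVecLin (stage F F' 0).Φ v) =
          F.dLin 0 (sl v) + v :=
        congrArg (fun φ : (exactData F).X 0 ⟶ (exactData F).X 0 => φ.hom v) hs
      have h' : ((stage F' F 0).Φ * (stage F F' 0).Φ).mulVec v a =
          F.dLin 0 (sl v) a + v a := by
        rw [← Matrix.mulVec_mulVec]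
        exact congrFun h a
      rw [h', add_sub_cancel_right]
      exact dLin_apply_mem F 𝔪 hF 0 _ a
    | succ i =>
      intro v a
      obtain ⟨t, s, hts⟩ := h2 i
      let tl : (Fin (F.rk i) → R) →ₗ[R] (Fin (F.rk (i + 1)) → R) := t.hom
      let sl : (Fin (F.rk (i + 1)) → R) →ₗ[R] (Fin (F.rk (i + 2)) → R) := s.hom
      have h : (Matrix.mulVecLin (stage F' F (i + 1)).Φ)
          (Matrix.mulVecLin (stage F F' (i + 1)).Φ v) =
          tl (F.dLin i v) + F.dLin (i + 1) (sl v) + v :=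
        congrArg (fun φ : (exactData F).X (i + 1) ⟶ (exactData F).X (i + 1) => φ.hom v) hts
      have h' : ((stage F' F (i + 1)).Φ * (stage F F' (i + 1)).Φ).mulVec v a =
          tl (F.dLin i v) a + F.dLin (i + 1) (sl v) a + v a := by
        rw [← Matrix.mulVec_mulVec]
        exact congrFun h a
      rw [h', add_sub_cancel_right]
      refine Ideal.add_mem _ ?_ (dLin_apply_mem F 𝔪 hF (i + 1) _ a)
      exact small_apply 𝔪 tl _ (fun c => dLin_apply_mem F 𝔪 hF i v c) a
  have := key (Pi.single b 1) a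
  rw [Matrix.mulVec_single_one] at this
  have hone : (1 : Matrix (Fin (F.rk i)) (Fin (F.rk i)) R) a b =
      (Pi.single b 1 : Fin (F.rk i) → R) a := by
    rw [Matrix.one_apply, Pi.single_apply]
  rw [hone]
  exact this

end Mod


section Block
variable {k : Type u} [Field k]

lemma card_le_of_block {n n' : ℕ} (deg : Fin n → ℤ) (deg' : Fin n' → ℤ)
    (A : Matrix (Fin n') (Fin n) k) (B : Matrix (Fin n) (Fin n') k)
    (hA : ∀ c b, deg b ≠ deg' c → A c b = 0) (hBA : B * A = 1) (j : ℤ) :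
    (Finset.univ.filter fun b => deg b = j).card ≤ (Finset.univ.filter fun c => deg' c = j).card := by
  classical
  rw [← Fintype.card_subtype, ← Fintype.card_subtype]
  set AJ : Matrix {c // deg' c = j} {b // deg b = j} k := A.submatrix Subtype.val Subtype.val
  set BJ : Matrix {b // deg b = j} {c // deg' c = j} k := B.submatrix Subtype.val Subtype.val
  have h1 : BJ * AJ = 1 := by
    ext b b'
    rw [Matrix.mul_apply]
    have h2 : (B * A) b.1 b'.1 = (1 : Matrix (Fin n) (Fin n) k) b.1 b'.1 := by rw [hBA]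
    rw [Matrix.mul_apply] at h2
    have h3 : ∑ c : {c // deg' c = j}, BJ b c * AJ c b' = ∑ c, B b.1 c * A c b'.1 := by
      have e1 : ∑ c ∈ Finset.univ.filter (fun c => deg' c = j), B b.1 c * A c b'.1 =
          ∑ c : {c // deg' c = j}, B b.1 c.1 * A c.1 b'.1 :=
        Finset.sum_subtype (Finset.univ.filter fun c => deg' c = j)
          (p := fun c => deg' c = j) (by simp) (fun c => B b.1 c * A c b'.1)
      refine Eq.trans ?_ (e1.symm.trans ?_)
      · rfl
      apply Finset.sum_subset (Finset.filter_subset _ _)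
      intro c _ hc
      rw [Finset.mem_filter] at hc
      push Not at hc
      have : deg b'.1 ≠ deg' c := by
        rw [b'.2]; exact fun h => hc (Finset.mem_univ _) h.symm
      rw [hA c b'.1 this, mul_zero]
    rw [h3, h2, Matrix.one_apply, Matrix.one_apply]
    simp [Subtype.ext_iff]
  calc Fintype.card {b // deg b = j} = (1 : Matrix {b // deg b = j} {b // deg b = j} k).rank := by
        rw [Matrix.rank_one]
    _ = (BJ * AJ).rank := by rw [h1]
    _ ≤ AJ.rank := Matrix.rank_mul_le_right _ _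
    _ ≤ Fintype.card {c // deg' c = j} := Matrix.rank_le_card_height _

end Block

section Poly

open MvPolynomial Groth.Agent.Lib.Helper24.GrSyzL

variable (k : Type u) [Field k] (r : ℕ)
  {M : Type u} [AddCommGroup M] [Module k M] [Module (MvPolynomial (Fin (r + 1)) k) M]
  [IsScalarTower k (MvPolynomial (Fin (r + 1)) k) M]
  {ℳ : ℤ → Submodule k M} [DirectSum.Decomposition ℳ]
  [SetLike.GradedSMul (GrSyz.stdGr k (Fin (r + 1))) ℳ]
  (F F' : FreeRes (GrSyz.stdGr k (Fin (r + 1))) ℳ)

theorem betti_le (hF : F.IsMinimal (irrel (stdGr k (Fin (r + 1)))).toIdeal) (i : ℕ) (j : ℤ) :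
    F.betti i j ≤ F'.betti i j := by
  unfold FreeRes.betti
  refine card_le_of_block (F.deg i) (F'.deg i)
    ((stage F F' i).Φ.map (constantCoeff : MvPolynomial (Fin (r + 1)) k →+* k))
    ((stage F' F i).Φ.map (constantCoeff : MvPolynomial (Fin (r + 1)) k →+* k)) ?_ ?_ j
  · intro c b hne
    rw [Matrix.map_apply]
    exact constantCoeff_eq_zero_of_mem_stdGr k _ (sub_ne_zero.2 hne) ((stage F F' i).hom c b)
  · rw [← Matrix.map_mul]
    ext a b
    rw [Matrix.map_apply]
    have h := irrel_le_ker_constantCoeff k (Fin (r + 1))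
      (mul_stage_sub_one_mem F F' _ hF i a b)
    rw [RingHom.mem_ker, map_sub, sub_eq_zero] at h
    rw [h, Matrix.one_apply, Matrix.one_apply]
    split_ifs <;> simp

theorem betti_eq (hF : F.IsMinimal (irrel (stdGr k (Fin (r + 1)))).toIdeal)
    (hF' : F'.IsMinimal (irrel (stdGr k (Fin (r + 1)))).toIdeal) (i : ℕ) (j : ℤ) :
    F.betti i j = F'.betti i j :=
  le_antisymm (betti_le k r F F' hF i j) (betti_le k r F' F hF' i j)

end Poly

end Groth.Agent.Lib.Helper21.GrSyzCompare
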