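import Mathlib
import Groth.Prelude.Def_GrSyz
import Groth.Agent.Lib.Helper24.GrSyzLemmas

set_option autoImplicit false
set_option linter.unusedSectionVars false
universe u
namespace Groth.Agent.Lib.Helper21.GrSyzMin
open GrSyz DirectSum Groth.Agent.Lib.Helper24.GrSyzL

section Abstract

variable {k : Type u} [Field k] {S : Type u} [CommRing S] [Algebra k S]
  (𝒜 : ℤ → Submodule k S) [GradedAlgebra 𝒜]

/-- Abstract graded structure on a module given by component maps. -/
structure GrData (X : Type u) [AddCommGroup X] [Module S X] where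
  π : ℤ → X → X
  π_add : ∀ e x y, π e (x + y) = π e x + π e y
  π_smul : ∀ (e j : ℤ) (c : S) (g : X), π j g = g →
    π e (c • g) = (decompose 𝒜 c (e - j) : S) • g
  π_π : ∀ e x, π e (π e x) = π e x
  π_sum : ∀ x, ∃ T : Finset ℤ, x = ∑ e ∈ T, π e x

variable {𝒜} {X : Type u} [AddCommGroup X] [Module S X] (D : GrData 𝒜 X)

namespace GrData

lemma π_zero (e : ℤ) : D.π e 0 = 0 := by
  have := D.π_add e 0 0
  rw [add_zero] at this
  exact left_eq_add.mp this

lemma π_finset_sum {ι : Type*} (s : Finset ι) (f : ι → X) (e : ℤ) :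
    D.π e (∑ i ∈ s, f i) = ∑ i ∈ s, D.π e (f i) := by
  classical
  induction s using Finset.induction_on with
  | empty => simp [D.π_zero]
  | insert a s ha ih => rw [Finset.sum_insert ha, Finset.sum_insert ha, D.π_add, ih]

/-- component of a combination of homogeneous elements -/
lemma π_comb {n : ℕ} (deg : Fin n → ℤ) (g : Fin n → X) (hg : ∀ b, D.π (deg b) (g b) = g b)
    (c : Fin n → S) (e : ℤ) :
    D.π e (∑ b, c b • g b) = ∑ b, (decompose 𝒜 (c b) (e - deg b) : S) • g b := by
  rw [D.π_finset_sum]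
  exact Finset.sum_congr rfl fun b _ => D.π_smul e (deg b) (c b) (g b) (hg b)

/-- a homogeneous generating family indexed by `Fin n` -/
def HasGens (n : ℕ) : Prop :=
  ∃ (deg : Fin n → ℤ) (g : Fin n → X), (∀ b, D.π (deg b) (g b) = g b) ∧
    Submodule.span S (Set.range g) = ⊤

lemma exists_hasGens [Module.Finite S X] : ∃ n, D.HasGens n := by
  classical
  obtain ⟨m, s, hs⟩ := Module.Finite.exists_fin (R := S) (M := X)
  choose T hT using D.π_sum
  let ι := Σ i : Fin m, {e // e ∈ T (s i)}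
  let eq := Fintype.equivFin ι
  let f : ι → X := fun x => D.π x.2.1 (s x.1)
  refine ⟨Fintype.card ι, fun b => (eq.symm b).2.1, fun b => f (eq.symm b),
    fun b => D.π_π _ _, ?_⟩
  rw [eq_top_iff, ← hs, Submodule.span_le]
  rintro _ ⟨i, rfl⟩
  rw [SetLike.mem_coe, hT (s i)]
  refine Submodule.sum_mem _ fun e he => ?_
  apply Submodule.subset_span
  exact ⟨eq ⟨i, ⟨e, he⟩⟩, congrArg f (eq.symm_apply_apply ⟨i, ⟨e, he⟩⟩)⟩

lemma hasGens_pred_of_redundant {m : ℕ} (deg : Fin (m + 1) → ℤ) (g : Fin (m + 1) → X)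
    (hg : ∀ b, D.π (deg b) (g b) = g b) (hspan : Submodule.span S (Set.range g) = ⊤)
    (a : Fin (m + 1)) (ha : g a ∈ Submodule.span S (g '' {a' | a' ≠ a})) : D.HasGens m := by
  refine ⟨deg ∘ a.succAbove, g ∘ a.succAbove, fun b => hg _, ?_⟩
  have hrange : Set.range (g ∘ a.succAbove) = g '' {a' | a' ≠ a} := by
    rw [Set.range_comp, Fin.range_succAbove]
    rfl
  rw [hrange, eq_top_iff, ← hspan, Submodule.span_le]
  rintro _ ⟨b, rfl⟩
  by_cases hb : b = a
  · rw [hb]; exact ha
  · exact Submodule.subset_span ⟨b, hb, rfl⟩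

theorem exists_minimal_gens [Module.Finite S X] (𝔪 : Ideal S)
    (hunit : ∀ c : S, c ∉ 𝔪 → IsUnit (decompose 𝒜 c 0 : S)) :
    ∃ (n : ℕ) (deg : Fin n → ℤ) (g : Fin n → X), (∀ b, D.π (deg b) (g b) = g b) ∧
      Submodule.span S (Set.range g) = ⊤ ∧
      (∀ c : Fin n → S, ∑ b, c b • g b = 0 → ∀ b, c b ∈ 𝔪) ∧
      (∀ c : Fin n → S, ∑ b, c b • g b = 0 → ∀ e,
        ∑ b, (decompose 𝒜 (c b) (e - deg b) : S) • g b = 0) := by
  classical
  have hex := D.exists_hasGens
  have hmin : ∀ m, m < Nat.find hex → ¬ D.HasGens m := fun m => Nat.find_min hex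
  have hspec := Nat.find_spec hex
  generalize Nat.find hex = n at hmin hspec
  obtain ⟨deg, g, hg, hspan⟩ := hspec
  refine ⟨n, deg, g, hg, hspan, ?_, ?_⟩
  · intro c hc b0
    by_contra hb0
    have hrel := D.π_comb deg g hg c (deg b0)
    rw [hc, D.π_zero] at hrel
    have hu : IsUnit ((decompose 𝒜 (c b0) (deg b0 - deg b0) : S)) := by
      rw [sub_self]; exact hunit _ hb0
    have hred := redundant_of_unit_coeff g (fun b => (decompose 𝒜 (c b) (deg b0 - deg b) : S))
      b0 hu hrel.symm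
    cases n with
    | zero => exact b0.elim0
    | succ m =>
      exact hmin m (Nat.lt_succ_self m) (D.hasGens_pred_of_redundant deg g hg hspan b0 hred)
  · intro c hc e
    rw [← D.π_comb deg g hg c e, hc, D.π_zero]

end GrData

end Abstract

end Groth.Agent.Lib.Helper21.GrSyzMin
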