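import Mathlib
import Groth.Prelude.Def_GrSyz
import Groth.Agent.Lib.Helper24.GrSyzLemmas
import Groth.Agent.Lib.Helper21.GrSyzMinA
import Groth.Agent.Lib.Helper21.GrSyzHilb

set_option autoImplicit false
set_option linter.unusedSectionVars false
universe u v
namespace Groth.Agent.Lib.Helper21.GrSyzMin
open GrSyz DirectSum Groth.Agent.Lib.Helper24.GrSyzL

section Instances

variable {k : Type u} [Field k] {S : Type u} [CommRing S] [Algebra k S]
  {𝒜 : ℤ → Submodule k S} [GradedAlgebra 𝒜]

section ModuleCase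

variable {M : Type u} [AddCommGroup M] [Module k M] [Module S M] [IsScalarTower k S M]
  (ℳ : ℤ → Submodule k M) [DirectSum.Decomposition ℳ] [SetLike.GradedSMul 𝒜 ℳ]

/-- graded structure of a graded module -/
noncomputable def grDataOfDecomposition : GrData 𝒜 M where
  π e x := (decompose ℳ x e : M)
  π_add e x y := by rw [decompose_add, DirectSum.add_apply, AddMemClass.coe_add]
  π_smul e j c g hg := by
    have hmem : g ∈ ℳ j := by rw [← hg]; exact SetLike.coe_mem _
    exact Groth.Agent.Lib.Helper21.GrSyzHilb.decompose_smul_of_right_mem (𝒜 := 𝒜) c e hmem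
  π_π e x := decompose_of_mem_same ℳ (SetLike.coe_mem _)
  π_sum x := by
    classical
    exact ⟨(decompose ℳ x).support, (DirectSum.sum_support_decompose ℳ x).symm⟩

end ModuleCase

section SubmoduleCase

variable {n : ℕ} (deg : Fin n → ℤ)

/-- degree `e` component of a vector of a graded free module with generator degrees `deg` -/
noncomputable def gcomp (e : ℤ) (v : Fin n → S) : Fin n → S :=
  fun b => (decompose 𝒜 (v b) (e - deg b) : S)

lemma gcomp_add (e : ℤ) (v w : Fin n → S) :
    gcomp (𝒜 := 𝒜) deg e (v + w) = gcomp (𝒜 := 𝒜) deg e v + gcomp (𝒜 := 𝒜) deg e w := by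
  ext b
  simp [gcomp, decompose_add]

lemma gcomp_gcomp (e : ℤ) (v : Fin n → S) :
    gcomp (𝒜 := 𝒜) deg e (gcomp (𝒜 := 𝒜) deg e v) = gcomp (𝒜 := 𝒜) deg e v := by
  ext b
  exact decompose_of_mem_same 𝒜 (SetLike.coe_mem _)

lemma gcomp_smul (e j : ℤ) (c : S) (g : Fin n → S) (hg : gcomp (𝒜 := 𝒜) deg j g = g) :
    gcomp (𝒜 := 𝒜) deg e (c • g) = (decompose 𝒜 c (e - j) : S) • g := by
  ext b
  have hb : g b ∈ 𝒜 (j - deg b) := by
    have := congrFun hg b
    rw [← this]
    exact SetLike.coe_mem _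
  change (decompose 𝒜 (c * g b) (e - deg b) : S) = (decompose 𝒜 c (e - j) : S) * g b
  have h := coe_decompose_mul_add_of_right_mem 𝒜 (i := e - j) hb (a := c)
  rwa [show e - j + (j - deg b) = e - deg b by ring] at h

lemma gcomp_sum (v : Fin n → S) :
    ∃ T : Finset ℤ, v = ∑ e ∈ T, gcomp (𝒜 := 𝒜) deg e v := by
  classical
  let T : Finset ℤ := Finset.univ.biUnion fun b => ((decompose 𝒜 (v b)).support).image (· + deg b)
  refine ⟨T, ?_⟩
  ext b
  rw [Finset.sum_apply]
  change v b = ∑ e ∈ T, (decompose 𝒜 (v b) (e - deg b) : S)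
  have h1 : ∑ e ∈ T, (decompose 𝒜 (v b) (e - deg b) : S) =
      ∑ i ∈ T.image (· - deg b), (decompose 𝒜 (v b) i : S) := by
    rw [Finset.sum_image]
    intro x _ y _ hxy
    exact sub_left_injective hxy
  rw [h1]
  conv_lhs => rw [← DirectSum.sum_support_decompose 𝒜 (v b)]
  apply Finset.sum_subset
  · intro i hi
    rw [Finset.mem_image]
    refine ⟨i + deg b, ?_, by ring⟩
    rw [Finset.mem_biUnion]
    exact ⟨b, Finset.mem_univ _, Finset.mem_image.2 ⟨i, hi, rfl⟩⟩
  · intro i _ hi
    rw [DFinsupp.mem_support_iff, not_not] at hi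
    rw [hi]
    rfl

variable (N : Submodule S (Fin n → S))
  (hN : ∀ v ∈ N, ∀ e, gcomp (𝒜 := 𝒜) deg e v ∈ N)

/-- graded structure of a homogeneous submodule of a graded free module -/
noncomputable def grDataOfSubmodule : GrData 𝒜 N where
  π e x := ⟨gcomp (𝒜 := 𝒜) deg e x.1, hN x.1 x.2 e⟩
  π_add e x y := Subtype.ext (gcomp_add deg e x.1 y.1)
  π_smul e j c g hg := Subtype.ext (gcomp_smul deg e j c g.1 (congrArg Subtype.val hg))
  π_π e x := Subtype.ext (gcomp_gcomp deg e x.1)
  π_sum x := by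
    obtain ⟨T, hT⟩ := gcomp_sum (𝒜 := 𝒜) deg x.1
    refine ⟨T, Subtype.ext ?_⟩
    rw [AddSubmonoidClass.coe_finsetSum]
    exact hT

end SubmoduleCase

end Instances

section Unit

open MvPolynomial

variable (k : Type u) [Field k] (σ : Type v)

lemma isUnit_decompose_zero (c : MvPolynomial σ k)
    (hc : c ∉ (irrel (stdGr k σ)).toIdeal) :
    IsUnit (decompose (stdGr k σ) c 0 : MvPolynomial σ k) := by
  classical
  by_contra hnu
  apply hc
  rw [← DirectSum.sum_support_decompose (stdGr k σ) c]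
  refine Ideal.sum_mem _ fun i _ => ?_
  have hmem : (decompose (stdGr k σ) c i : MvPolynomial σ k) ∈ stdGr k σ i := SetLike.coe_mem _
  rcases lt_trichotomy i 0 with hi | hi | hi
  · have h0 : (decompose (stdGr k σ) c i : MvPolynomial σ k) = 0 := by
      by_contra hne
      obtain ⟨d, hd⟩ := MvPolynomial.ne_zero_iff.mp hne
      have hw := hmem hd
      have := weight_one_nonneg σ d
      omega
    rw [h0]
    exact Ideal.zero_mem _
  · subst hi
    by_contra hnot
    exact hnu (isUnit_of_mem_stdGr_of_notMem_irrel k σ hmem hnot)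
  · exact Ideal.subset_span ⟨i, hi, hmem⟩

end Unit

end Groth.Agent.Lib.Helper21.GrSyzMin
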