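import Mathlib
import Groth.Prelude.Def_GrSyz
import Groth.Agent.Lib.Helper21.GrSyzMinB

set_option autoImplicit false
set_option linter.unusedSectionVars false
universe u
namespace Groth.Agent.Lib.Helper21.GrSyzMin
open GrSyz DirectSum

section Build

variable {k : Type u} [Field k] {S : Type u} [CommRing S] [Algebra k S] [IsNoetherianRing S]
  {𝒜 : ℤ → Submodule k S} [GradedAlgebra 𝒜]
  (𝔪 : Ideal S) (hunit : ∀ c : S, c ∉ 𝔪 → IsUnit (decompose 𝒜 c 0 : S))

/-- The state of the construction: a graded free module and a homogeneous submodule with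
coordinates in `𝔪` (the kernel so far). -/
structure St (𝒜 : ℤ → Submodule k S) [GradedAlgebra 𝒜] (𝔪 : Ideal S) where
  n : ℕ
  deg : Fin n → ℤ
  N : Submodule S (Fin n → S)
  hom : ∀ v ∈ N, ∀ e, gcomp (𝒜 := 𝒜) deg e v ∈ N
  small : ∀ v ∈ N, ∀ b, v b ∈ 𝔪

include hunit in
lemma exists_step (s : St 𝒜 𝔪) :
    ∃ (n' : ℕ) (deg' : Fin n' → ℤ) (D : Matrix (Fin s.n) (Fin n') S),
      (∀ a b, D a b ∈ 𝒜 (deg' b - s.deg a)) ∧
      LinearMap.range (Matrix.mulVecLin D) = s.N ∧
      (∀ c ∈ LinearMap.ker (Matrix.mulVecLin D), ∀ b, c b ∈ 𝔪) ∧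
      (∀ c ∈ LinearMap.ker (Matrix.mulVecLin D), ∀ e,
        gcomp (𝒜 := 𝒜) deg' e c ∈ LinearMap.ker (Matrix.mulVecLin D)) := by
  obtain ⟨n', deg', g, hg, hspan, hrel, hhom⟩ :=
    (grDataOfSubmodule s.deg s.N s.hom).exists_minimal_gens 𝔪 hunit
  have hmv : ∀ c : Fin n' → S, Matrix.mulVecLin (Matrix.of fun a b => (g b).1 a) c =
      ((∑ b, c b • g b : s.N) : Fin s.n → S) := by
    intro c
    ext a
    rw [AddSubmonoidClass.coe_finsetSum, Finset.sum_apply]
    change ∑ b, (g b).1 a * c b = _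
    refine Finset.sum_congr rfl fun b _ => ?_
    rw [Submodule.coe_smul, Pi.smul_apply, smul_eq_mul, mul_comm]
  have hker : ∀ c : Fin n' → S, c ∈ LinearMap.ker (Matrix.mulVecLin (Matrix.of fun a b => (g b).1 a)) ↔
      ∑ b, c b • g b = 0 := by
    intro c
    rw [LinearMap.mem_ker, hmv]
    exact ⟨fun h => Subtype.ext h, fun h => congrArg Subtype.val h⟩
  refine ⟨n', deg', Matrix.of fun a b => (g b).1 a, ?_, ?_, ?_, ?_⟩
  · intro a b
    have := congrArg Subtype.val (hg b)
    have h2 := congrFun this a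
    change (g b).1 a ∈ _
    rw [← h2]
    exact SetLike.coe_mem _
  · apply le_antisymm
    · rintro _ ⟨c, rfl⟩
      rw [hmv]
      exact SetLike.coe_mem _
    · intro v hv
      have : (⟨v, hv⟩ : s.N) ∈ Submodule.span S (Set.range g) := by rw [hspan]; trivial
      rw [Submodule.mem_span_range_iff_exists_fun] at this
      obtain ⟨c, hc⟩ := this
      refine ⟨c, ?_⟩
      rw [hmv, hc]
  · intro c hc b
    exact hrel c ((hker c).1 hc) b
  · intro c hc e
    rw [hker]
    exact hhom c ((hker c).1 hc) e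

/-- the next state -/
noncomputable def next (s : St 𝒜 𝔪) : St 𝒜 𝔪 where
  n := (exists_step 𝔪 hunit s).choose
  deg := (exists_step 𝔪 hunit s).choose_spec.choose
  N := LinearMap.ker (Matrix.mulVecLin (exists_step 𝔪 hunit s).choose_spec.choose_spec.choose)
  hom := (exists_step 𝔪 hunit s).choose_spec.choose_spec.choose_spec.2.2.2
  small := (exists_step 𝔪 hunit s).choose_spec.choose_spec.choose_spec.2.2.1

/-- the matrix of the next differential -/
noncomputable def nextD (s : St 𝒜 𝔪) : Matrix (Fin s.n) (Fin (next 𝔪 hunit s).n) S :=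
  (exists_step 𝔪 hunit s).choose_spec.choose_spec.choose

lemma nextD_mem (s : St 𝒜 𝔪) (a : Fin s.n) (b : Fin (next 𝔪 hunit s).n) :
    nextD 𝔪 hunit s a b ∈ 𝒜 ((next 𝔪 hunit s).deg b - s.deg a) :=
  (exists_step 𝔪 hunit s).choose_spec.choose_spec.choose_spec.1 a b

lemma range_nextD (s : St 𝒜 𝔪) : LinearMap.range (Matrix.mulVecLin (nextD 𝔪 hunit s)) = s.N :=
  (exists_step 𝔪 hunit s).choose_spec.choose_spec.choose_spec.2.1

lemma next_N (s : St 𝒜 𝔪) :
    (next 𝔪 hunit s).N = LinearMap.ker (Matrix.mulVecLin (nextD 𝔪 hunit s)) := rfl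

/-- the sequence of states -/
noncomputable def state (s0 : St 𝒜 𝔪) (i : ℕ) : St 𝒜 𝔪 :=
  Nat.rec s0 (fun _ s => next 𝔪 hunit s) i

lemma nextD_entry_mem (s : St 𝒜 𝔪) (a : Fin s.n) (b : Fin (next 𝔪 hunit s).n) :
    nextD 𝔪 hunit s a b ∈ 𝔪 := by
  have h : (nextD 𝔪 hunit s).mulVecLin (Pi.single b 1) ∈ s.N := by
    rw [← range_nextD 𝔪 hunit s]; exact LinearMap.mem_range_self _ _
  have := s.small _ h a
  rwa [Matrix.mulVecLin_apply, Matrix.mulVec_single_one] at this

variable {M : Type u} [AddCommGroup M] [Module k M] [Module S M] [IsScalarTower k S M]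
  [Module.Finite S M]
  (ℳ : ℤ → Submodule k M) [DirectSum.Decomposition ℳ] [SetLike.GradedSMul 𝒜 ℳ]

include hunit in
theorem exists_minimal_freeRes : ∃ F : FreeRes 𝒜 ℳ, F.IsMinimal 𝔪 := by
  obtain ⟨n0, deg0, g, hg, hspan, hrel, hhom⟩ :=
    (grDataOfDecomposition (𝒜 := 𝒜) ℳ).exists_minimal_gens 𝔪 hunit
  have hkermem : ∀ c : Fin n0 → S, c ∈ LinearMap.ker (Fintype.linearCombination S g) ↔
      ∑ b, c b • g b = 0 := by
    intro c
    rw [LinearMap.mem_ker, Fintype.linearCombination_apply]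
  let s0 : St 𝒜 𝔪 :=
    { n := n0
      deg := deg0
      N := LinearMap.ker (Fintype.linearCombination S g)
      hom := fun c hc e => by
        rw [hkermem] at hc ⊢
        exact hhom c hc e
      small := fun c hc b => hrel c ((hkermem c).1 hc) b }
  refine ⟨{ rk := fun i => (state 𝔪 hunit s0 i).n
            deg := fun i => (state 𝔪 hunit s0 i).deg
            d := fun i => nextD 𝔪 hunit (state 𝔪 hunit s0 i)
            aug := g
            d_mem := fun i a b => nextD_mem 𝔪 hunit (state 𝔪 hunit s0 i) a b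
            aug_mem := fun b => by
              have := hg b
              change (decompose ℳ (g b) (deg0 b) : M) = g b at this
              rw [← this]
              exact SetLike.coe_mem _
            aug_surjective := by
              rw [← LinearMap.range_eq_top, Fintype.range_linearCombination]
              exact hspan
            exact_zero := (range_nextD 𝔪 hunit s0).symm
            exact_succ := fun i => (range_nextD 𝔪 hunit (state 𝔪 hunit s0 (i + 1))).symm }, ?_⟩
  intro i a b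
  exact nextD_entry_mem 𝔪 hunit (state 𝔪 hunit s0 i) a b

end Build

end Groth.Agent.Lib.Helper21.GrSyzMin
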