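import Mathlib
import Groth.Agent.S12907
import Groth.Agent.S11457
import Groth.Agent.S13134

/-!
# Lifting Hilbert–Burch matrices along nilpotent thickenings (helper21)

* `hb_factor`: Hilbert–Burch, elementwise form: for an exact `0 → R^m → R^{m+1} → R` the second map is
  `a` times the map given by the signed maximal minors.
* `height_le_height_comap`: heights do not increase under surjections.
* `lift_matrix`: Schaps' lifting theorem for codimension two determinantal ideals.
-/

set_option autoImplicit false
universe u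

namespace Groth.Agent.Lib.Helper21.HBLift

open TensorProduct Function Groth.Agent.Lib.Helper21.FlatKit

/-- signed maximal minors of an `(r+1) × r` matrix -/
noncomputable def sm {R : Type u} [CommRing R] {r : ℕ} (φ : Matrix (Fin (r + 1)) (Fin r) R)
    (i : Fin (r + 1)) : R :=
  (-1 : R) ^ (i : ℕ) * (φ.submatrix i.succAbove id).det

lemma sm_map {R S : Type u} [CommRing R] [CommRing S] (f : R →+* S) {r : ℕ}
    (φ : Matrix (Fin (r + 1)) (Fin r) R) (i : Fin (r + 1)) : f (sm φ i) = sm (φ.map f) i := by
  unfold sm
  simp only [map_mul, map_pow, map_neg, map_one]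
  congr 1
  rw [RingHom.map_det]
  rfl

lemma sum_sm_mul {R : Type u} [CommRing R] {r : ℕ} (φ : Matrix (Fin (r + 1)) (Fin r) R)
    (j : Fin r) : ∑ i, φ i j * sm φ i = 0 := by
  have := Groth.Agent.S12906.result r φ j
  rw [← this]
  refine Finset.sum_congr rfl fun i _ => ?_
  unfold sm
  ring

/-- **Hilbert–Burch**, elementwise form. -/
theorem hb_factor {R : Type u} [CommRing R] [IsNoetherianRing R] (m : ℕ)
    (Ψ : Matrix (Fin (m + 1)) (Fin m) R) (π : (Fin (m + 1) → R) →ₗ[R] R)
    (hinj : Function.Injective Ψ.mulVecLin)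
    (hex : LinearMap.ker π = LinearMap.range Ψ.mulVecLin) :
    ∃ a : R, ∀ v, π v = a * Fintype.linearCombination R (sm Ψ) v := by
  classical
  have hdepth := Groth.Agent.S12907.depth_ge_two Ψ π hinj hex
  obtain ⟨-, hker, hrange⟩ := Groth.Agent.S12908.result m Ψ hdepth 1 (one_mem _)
  obtain ⟨x, hxJ, y, hyJ, hx, hy⟩ := Groth.Agent.S12908.exists_regular_pair hdepth
  have hsm : (fun i : Fin (m + 1) => 1 * ((-1 : R) ^ (i : ℕ) * (Ψ.submatrix i.succAbove id).det))
      = sm Ψ := by
    funext i
    rw [one_mul]
    rfl
  rw [hsm] at hker hrange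
  set δ : (Fin (m + 1) → R) →ₗ[R] R := Fintype.linearCombination R (sm Ψ) with hδ
  have hJ : LinearMap.range δ = CAlgX.minorIdeal Ψ m := by
    rw [hrange, Ideal.span_singleton_one, Ideal.top_mul]
  have hkk : ∀ v, δ v = 0 ↔ π v = 0 := by
    intro v
    rw [← LinearMap.mem_ker, ← LinearMap.mem_ker, hker, hex]
  obtain ⟨vx, hvx⟩ : x ∈ LinearMap.range δ := by rw [hJ]; exact hxJ
  obtain ⟨vy, hvy⟩ : y ∈ LinearMap.range δ := by rw [hJ]; exact hyJ
  have h1 : y * π vx = x * π vy := by
    have : δ (y • vx - x • vy) = 0 := by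
      rw [map_sub, map_smul, map_smul, hvx, hvy, smul_eq_mul, smul_eq_mul, mul_comm, sub_self]
    have := (hkk _).mp this
    rw [map_sub, map_smul, map_smul, smul_eq_mul, smul_eq_mul] at this
    exact sub_eq_zero.mp this
  obtain ⟨a, ha⟩ := hy _ _ h1
  refine ⟨a, ?_⟩
  intro v
  have : δ (δ v • vx - x • v) = 0 := by
    rw [map_sub, map_smul, map_smul, hvx, smul_eq_mul, smul_eq_mul, mul_comm, sub_self]
  have := (hkk _).mp this
  rw [map_sub, map_smul, map_smul, smul_eq_mul, smul_eq_mul, ha] at this
  have h3 : x * (a * δ v - π v) = 0 := by linear_combination this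
  have := hx (show x • (a * δ v - π v) = x • 0 by rw [smul_zero]; exact h3)
  exact (sub_eq_zero.mp this).symm

/-- heights do not increase along surjections -/
theorem height_le_height_comap {R S : Type u} [CommRing R] [CommRing S] (f : R →+* S)
    (hf : Function.Surjective f) (q : Ideal S) [hq : q.IsPrime] :
    q.height ≤ (q.comap f).height := by
  let g : PrimeSpectrum S → PrimeSpectrum R := PrimeSpectrum.comap f
  have h1 := PrimeSpectrum.height_eq_orderHeight (⟨q, hq⟩ : PrimeSpectrum S)
  have h2 := PrimeSpectrum.height_eq_orderHeight (g ⟨q, hq⟩)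
  change q.height = _ at h1
  change (q.comap f).height = _ at h2
  rw [h1, h2]
  have hg : StrictMono g := by
    intro a b hab
    rw [lt_iff_le_and_ne] at hab ⊢
    refine ⟨?_, ?_⟩
    · intro x hx
      exact hab.1 hx
    · intro h
      exact hab.2 (PrimeSpectrum.comap_injective_of_surjective f hf h)
  exact Order.height_le_height_apply_of_strictMono g hg ⟨q, hq⟩

/-- an ideal with flat quotient is determined by its reduction modulo a nilpotent ideal of the base,
among ideals containing a given subideal with the same reduction. -/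
theorem le_of_flat_quotient_of_map_le' (C : Type u) [CommRing C]
    (J : Ideal C) (hnil : IsNilpotent J)
    (A : Type u) [CommRing A] [Algebra C A] (I N : Ideal A) [Module.Flat C (A ⧸ I)]
    (hNI : N ≤ I)
    (hmap : I.map (Ideal.Quotient.mk (J.map (algebraMap C A))) ≤
      N.map (Ideal.Quotient.mk (J.map (algebraMap C A)))) : I ≤ N := by
  let g : A →ₗ[C] A ⧸ I := (Ideal.Quotient.mkₐ C I).toLinearMap
  have hg : Function.Surjective g := Ideal.Quotient.mk_surjective
  have hker : LinearMap.ker g = I.restrictScalars C := by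
    ext x
    rw [LinearMap.mem_ker, Submodule.restrictScalars_mem]
    exact Ideal.Quotient.eq_zero_iff_mem
  have key : I.restrictScalars C ≤ N.restrictScalars C ⊔ J • I.restrictScalars C := by
    intro x hx
    have hx' : x ∈ I := hx
    have h1 : Ideal.Quotient.mk (J.map (algebraMap C A)) x ∈
        N.map (Ideal.Quotient.mk (J.map (algebraMap C A))) :=
      hmap (Ideal.mem_map_of_mem _ hx')
    obtain ⟨y, hyN, hyx⟩ := (Ideal.mem_map_iff_of_surjective _ Ideal.Quotient.mk_surjective).1 h1
    have h2 : x - y ∈ J.map (algebraMap C A) := by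
      rw [← Ideal.Quotient.eq_zero_iff_mem, map_sub, hyx, sub_self]
    have h3 : x - y ∈ J • (⊤ : Submodule C A) := by
      rw [Ideal.smul_top_eq_map, Submodule.restrictScalars_mem]
      exact h2
    have h4 : g (x - y) = 0 := by
      rw [← LinearMap.mem_ker, hker, Submodule.restrictScalars_mem]
      exact I.sub_mem hx' (hNI hyN)
    have h5 := Groth.Agent.S13134.mem_smul_of_flat_quotient J g hg (x - y) h4 h3
    rw [hker] at h5
    have : x = y + (x - y) := by ring
    rw [this]
    exact Submodule.add_mem_sup hyN h5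
  have := Groth.Agent.S13134.le_of_le_sup_smul_of_isNilpotent J hnil _ _ key
  exact this

end Groth.Agent.Lib.Helper21.HBLift
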