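import Mathlib
import Groth.Agent.Lib.Helper21.HBLift

set_option autoImplicit false
universe u

namespace Groth.Agent.Lib.Helper21.HBLift

open TensorProduct Function Groth.Agent.Lib.Helper21.FlatKit

/-- **Schaps' lifting theorem.** -/
theorem lift_matrix (C' : Type u) [CommRing C'] (J : Ideal C') (hJnil : IsNilpotent J)
    (A' : Type u) [CommRing A'] [IsNoetherianRing A'] [Algebra C' A'] [Module.Flat C' A']
    (𝔍 : Ideal A') (h𝔍 : 𝔍 = J.map (algebraMap C' A'))
    (r : ℕ) (φ : Matrix (Fin (r + 1)) (Fin r) (A' ⧸ 𝔍))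
    (hφinj : Function.Injective φ.mulVecLin)
    (hφex : LinearMap.range φ.mulVecLin =
      LinearMap.ker (Fintype.linearCombination (A' ⧸ 𝔍) (sm φ)))
    (hcodim : ∀ p : Ideal (A' ⧸ 𝔍), p.IsPrime →
      Ideal.span (Set.range (sm φ)) ≤ p → (2 : ℕ∞) ≤ p.height)
    (I' : Ideal A') [Module.Flat C' (A' ⧸ I')]
    (hI' : I'.map (Ideal.Quotient.mk 𝔍) = Ideal.span (Set.range (sm φ))) :
    ∃ φ' : Matrix (Fin (r + 1)) (Fin r) A',
      φ'.map (Ideal.Quotient.mk 𝔍) = φ ∧
      I' = Ideal.span (Set.range (sm φ')) ∧ Function.Injective φ'.mulVecLin ∧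
      LinearMap.range φ'.mulVecLin = LinearMap.ker (Fintype.linearCombination A' (sm φ')) := by
  classical
  set π : A' →+* A' ⧸ 𝔍 := Ideal.Quotient.mk 𝔍 with hπ
  -- Step 1: lift generators
  have hlift : ∀ i, ∃ a ∈ I', π a = sm φ i := by
    intro i
    have : sm φ i ∈ I'.map π := by rw [hI']; exact Ideal.subset_span ⟨i, rfl⟩
    exact (Ideal.mem_map_iff_of_surjective _ Ideal.Quotient.mk_surjective).1 this
  choose f' hf'I hπf using hlift
  -- Step 2: generators
  have hNI : Ideal.span (Set.range f') ≤ I' := by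
    rw [Ideal.span_le]; rintro _ ⟨i, rfl⟩; exact hf'I i
  have hI'eq : I' = Ideal.span (Set.range f') := by
    apply le_antisymm _ hNI
    apply le_of_flat_quotient_of_map_le' C' J hJnil A' I' _ hNI
    rw [← h𝔍, hI', Ideal.map_span, ← Set.range_comp]
    have : π ∘ f' = sm φ := funext hπf
    rw [this]
  -- Step 3: lift the relations
  let g : A' →ₗ[C'] A' ⧸ I' := (Ideal.Quotient.mkₐ C' I').toLinearMap
  have hg : Function.Surjective g := Ideal.Quotient.mk_surjective
  have hker : LinearMap.ker g = I'.restrictScalars C' := by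
    ext x
    rw [LinearMap.mem_ker, Submodule.restrictScalars_mem]
    exact Ideal.Quotient.eq_zero_iff_mem
  have hdecomp : ∀ x ∈ J • (I'.restrictScalars C'), ∃ c : Fin (r + 1) → A',
      (∀ i, c i ∈ 𝔍) ∧ x = ∑ i, c i * f' i := by
    intro x hx
    refine Submodule.smul_induction_on hx ?_ ?_
    · intro j hj y hy
      have hy' : y ∈ Ideal.span (Set.range f') := by
        rw [← hI'eq]; exact hy
      obtain ⟨a, ha⟩ := Ideal.mem_span_range_iff_exists_fun.1 hy'
      refine ⟨fun i => algebraMap C' A' j * a i,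
        fun i => Ideal.mul_mem_right _ _ (h𝔍 ▸ Ideal.mem_map_of_mem _ hj), ?_⟩
      rw [← ha, Algebra.smul_def, Finset.mul_sum]
      refine Finset.sum_congr rfl fun i _ => by ring
    · rintro x y ⟨c, hc, rfl⟩ ⟨c', hc', rfl⟩
      refine ⟨c + c', fun i => 𝔍.add_mem (hc i) (hc' i), ?_⟩
      simp [add_mul, Finset.sum_add_distrib]
  have hsurj : ∀ i j, ∃ a, π a = φ i j := fun i j => Ideal.Quotient.mk_surjective (φ i j)
  choose φ'' hφ'' using hsurj
  have hcol : ∀ j : Fin r, ∃ c : Fin (r + 1) → A',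
      (∀ i, c i ∈ 𝔍) ∧ ∑ i, φ'' i j * f' i = ∑ i, c i * f' i := by
    intro j
    apply hdecomp
    have hxI : ∑ i, φ'' i j * f' i ∈ I' :=
      I'.sum_mem fun i _ => I'.mul_mem_left _ (hf'I i)
    have hx𝔍 : ∑ i, φ'' i j * f' i ∈ 𝔍 := by
      rw [← Ideal.Quotient.eq_zero_iff_mem]
      change π _ = 0
      rw [map_sum, ← sum_sm_mul φ j]
      refine Finset.sum_congr rfl fun i _ => ?_
      rw [map_mul, hφ'', hπf]
    have h3 : ∑ i, φ'' i j * f' i ∈ J • (⊤ : Submodule C' A') :=
      (Groth.Agent.S11457.mem_smul_top_iff J _).2 (h𝔍 ▸ hx𝔍)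
    have h4 : g (∑ i, φ'' i j * f' i) = 0 := by
      rw [← LinearMap.mem_ker, hker, Submodule.restrictScalars_mem]
      exact hxI
    have h5 := Groth.Agent.S13134.mem_smul_of_flat_quotient J g hg _ h4 h3
    rwa [hker] at h5
  choose c hc𝔍 hc using hcol
  let φ' : Matrix (Fin (r + 1)) (Fin r) A' := Matrix.of fun i j => φ'' i j - c j i
  have hφ'π : φ'.map π = φ := by
    ext i j
    simp only [Matrix.map_apply, φ', Matrix.of_apply, map_sub, hφ'']
    rw [Ideal.Quotient.eq_zero_iff_mem.2 (hc𝔍 j i), sub_zero]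
  have hrel : ∀ j, ∑ i, φ' i j * f' i = 0 := by
    intro j
    simp only [φ', Matrix.of_apply, sub_mul, Finset.sum_sub_distrib]
    rw [hc j, sub_self]
  -- Step 4: the lifted complex is exact
  have hP : Module.Flat C' (Fin r → A') := Module.Flat.trans C' A' _
  have hQ : Module.Flat C' (Fin (r + 1) → A') := Module.Flat.trans C' A' _
  let fL : (Fin r → A') →ₗ[C'] (Fin (r + 1) → A') := φ'.mulVecLin.restrictScalars C'
  let gL : (Fin (r + 1) → A') →ₗ[C'] A' := (Fintype.linearCombination A' f').restrictScalars C'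
  have hfg : gL ∘ₗ fL = 0 := by
    apply LinearMap.ext
    intro p
    show Fintype.linearCombination A' f' (φ'.mulVec p) = 0
    rw [Fintype.linearCombination_apply]
    simp only [Matrix.mulVec, dotProduct, smul_eq_mul, Finset.sum_mul]
    rw [Finset.sum_comm]
    refine Finset.sum_eq_zero fun j _ => ?_
    have h1 : ∀ i, φ' i j * p j * f' i = p j * (φ' i j * f' i) := fun i => by ring
    simp_rw [h1]
    rw [← Finset.mul_sum, hrel j, mul_zero]
  have hgh : Exact gL g := by
    intro a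
    show Ideal.Quotient.mk I' a = 0 ↔ a ∈ Set.range (Fintype.linearCombination A' f')
    rw [Ideal.Quotient.eq_zero_iff_mem, hI'eq]
    have := SetLike.ext_iff.1 (Fintype.range_linearCombination A' f') a
    rw [LinearMap.mem_range] at this
    exact this.symm
  have hπmul : ∀ (p : Fin r → A'), (fun i => π (φ'.mulVec p i)) = φ.mulVec (π ∘ p) := by
    intro p
    rw [← hφ'π]
    ext i
    exact RingHom.map_mulVec π φ' p i
  have hmem𝔍 : ∀ a : A', a ∈ J • (⊤ : Submodule C' A') ↔ a ∈ 𝔍 := by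
    intro a
    rw [Groth.Agent.S11457.mem_smul_top_iff, h𝔍]
  have hpimem𝔍 : ∀ {n : ℕ} (v : Fin n → A'),
      v ∈ J • (⊤ : Submodule C' (Fin n → A')) ↔ ∀ i, v i ∈ 𝔍 := by
    intro n v
    rw [Groth.Agent.S11457.pi_mem_smul_top_iff, h𝔍]
  have hinj : Injective (fL.lTensor (C' ⧸ J)) := by
    apply injective_lTensor_quotient_of
    intro p hp
    rw [hpimem𝔍] at hp ⊢
    have h0 : φ.mulVec (π ∘ p) = 0 := by
      rw [← hπmul]
      ext i
      exact Ideal.Quotient.eq_zero_iff_mem.2 (hp i)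
    have h1 : π ∘ p = 0 := hφinj (by rw [Matrix.mulVecLin_apply, h0, map_zero])
    intro i
    exact Ideal.Quotient.eq_zero_iff_mem.1 (congrFun h1 i)
  have hred : Exact (fL.lTensor (C' ⧸ J)) (gL.lTensor (C' ⧸ J)) := by
    apply exact_lTensor_quotient_of J fL gL hfg
    intro q hq
    rw [hmem𝔍] at hq
    have h0 : Fintype.linearCombination (A' ⧸ 𝔍) (sm φ) (π ∘ q) = 0 := by
      have : π (Fintype.linearCombination A' f' q) = 0 := Ideal.Quotient.eq_zero_iff_mem.2 hq
      rw [Fintype.linearCombination_apply, map_sum] at this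
      rw [Fintype.linearCombination_apply, ← this]
      refine Finset.sum_congr rfl fun i _ => ?_
      rw [smul_eq_mul, smul_eq_mul, map_mul, hπf]
      rfl
    have h1 : (π ∘ q) ∈ LinearMap.range φ.mulVecLin := by
      rw [hφex]; exact h0
    obtain ⟨wb, hwb⟩ := h1
    have hsurj : ∀ i, ∃ a, π a = wb i := fun i => Ideal.Quotient.mk_surjective (wb i)
    choose w hw using hsurj
    refine ⟨w, ?_⟩
    rw [hpimem𝔍]
    intro i
    apply Ideal.Quotient.eq_zero_iff_mem.1
    show π ((q - φ'.mulVec w) i) = 0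
    rw [Pi.sub_apply, map_sub]
    have h2 : π (φ'.mulVec w i) = φ.mulVec (π ∘ w) i := congrFun (hπmul w) i
    rw [h2]
    have h3 : π ∘ w = wb := funext hw
    rw [h3]
    have h4 := congrFun hwb i
    rw [Matrix.mulVecLin_apply] at h4
    rw [h4]
    exact sub_self _
  obtain ⟨-, hex, hinjf⟩ :=
    flat_and_exact_of_complex' hJnil fL gL g hfg hgh hg hinj hred
  have hinj' : Function.Injective φ'.mulVecLin := hinjf
  have hex' : LinearMap.ker (Fintype.linearCombination A' f') = LinearMap.range φ'.mulVecLin := by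
    have := LinearMap.exact_iff.1 hex
    ext v
    exact SetLike.ext_iff.1 this v
  -- Step 5: Hilbert–Burch
  obtain ⟨a, ha⟩ := hb_factor r φ' (Fintype.linearCombination A' f') hinj' hex'
  have hfa : ∀ i, f' i = a * sm φ' i := by
    intro i
    have := ha (Pi.single i 1)
    rw [Fintype.linearCombination_apply_single, Fintype.linearCombination_apply_single,
      one_smul, one_smul] at this
    exact this
  -- Step 6: `a` is a unit
  have h𝔍nil : ∀ x ∈ 𝔍, IsNilpotent x := by
    obtain ⟨n, hn⟩ := hJnil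
    intro x hx
    refine ⟨n, ?_⟩
    have h1 : x ^ n ∈ 𝔍 ^ n := Ideal.pow_mem_pow hx n
    rw [h𝔍, ← Ideal.map_pow, hn, Ideal.zero_eq_bot, Ideal.map_bot] at h1
    exact h1
  have hunit : IsUnit a := by
    by_contra hna
    have hne : Ideal.span {a} ≠ ⊤ := by
      rw [Ne, Ideal.span_singleton_eq_top]
      exact hna
    obtain ⟨p', hp'⟩ := Ideal.nonempty_minimalPrimes hne
    haveI : p'.IsPrime := hp'.1.1
    have hht : p'.height ≤ 1 := Ideal.height_le_one_of_isPrincipal_of_mem_minimalPrimes _ p' hp'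
    have hap : a ∈ p' := hp'.1.2 (Ideal.mem_span_singleton_self a)
    have hI'p : I' ≤ p' := by
      rw [hI'eq, Ideal.span_le]
      rintro _ ⟨i, rfl⟩
      rw [hfa]
      exact p'.mul_mem_right _ hap
    have h𝔍p : 𝔍 ≤ p' := by
      intro x hx
      obtain ⟨n, hn⟩ := h𝔍nil x hx
      exact Ideal.IsPrime.mem_of_pow_mem inferInstance n (hn ▸ p'.zero_mem)
    have hkerle : RingHom.ker π ≤ p' := by
      rw [hπ, Ideal.mk_ker]; exact h𝔍p
    haveI hpprime : (p'.map π).IsPrime :=
      Ideal.map_isPrime_of_surjective Ideal.Quotient.mk_surjective hkerle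
    have hcomap : (p'.map π).comap π = p' := by
      rw [Ideal.comap_map_of_surjective π Ideal.Quotient.mk_surjective]
      apply sup_eq_left.2
      exact hkerle
    have h1 : Ideal.span (Set.range (sm φ)) ≤ p'.map π := by
      rw [← hI']
      exact Ideal.map_mono hI'p
    have h2 := hcodim (p'.map π) hpprime h1
    have h3 := height_le_height_comap π Ideal.Quotient.mk_surjective (p'.map π)
    rw [hcomap] at h3
    have h4 : (2 : ℕ∞) ≤ 1 := h2.trans (h3.trans hht)
    exact absurd h4 (by norm_num)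
  -- Step 7: conclusion
  obtain ⟨u, rfl⟩ := hunit
  refine ⟨φ', hφ'π, ?_, hinj', ?_⟩
  · rw [hI'eq]
    apply le_antisymm
    · rw [Ideal.span_le]
      rintro _ ⟨i, rfl⟩
      rw [hfa]
      exact Ideal.mul_mem_left _ _ (Ideal.subset_span ⟨i, rfl⟩)
    · rw [Ideal.span_le]
      rintro _ ⟨i, rfl⟩
      have : sm φ' i = (↑u⁻¹ : A') * f' i := by
        rw [hfa, ← mul_assoc, Units.inv_mul, one_mul]
      rw [this]
      exact Ideal.mul_mem_left _ _ (Ideal.subset_span ⟨i, rfl⟩)
  · rw [← hex']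
    ext v
    rw [LinearMap.mem_ker, LinearMap.mem_ker, ha v]
    constructor
    · intro h
      have := congrArg (fun z => (↑u⁻¹ : A') * z) h
      simpa [← mul_assoc] using this
    · intro h; rw [h, mul_zero]

end Groth.Agent.Lib.Helper21.HBLift
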