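import Mathlib

set_option autoImplicit false
universe u
namespace Groth.Agent.Lib.Helper21.HBurch

section Arith

/-- closed form of `∑_b (d - x_b + 2)(d - x_b + 1)` -/
lemma sumq_eq {n : ℕ} (x : Fin n → ℤ) (d : ℤ) :
    ∑ b, (d - x b + 2) * (d - x b + 1) =
      (n : ℤ) * d ^ 2 + (3 * (n : ℤ) - 2 * ∑ b, x b) * d +
        (∑ b, x b ^ 2 - 3 * ∑ b, x b + 2 * (n : ℤ)) := by
  have h : ∀ b, (d - x b + 2) * (d - x b + 1) =
      (d ^ 2 + 3 * d + 2) - (2 * d + 3) * x b + x b ^ 2 := fun b => by ring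
  simp_rw [h]
  rw [Finset.sum_add_distrib, Finset.sum_sub_distrib, Finset.sum_const, ← Finset.mul_sum,
    Finset.card_univ, Fintype.card_fin, nsmul_eq_mul]
  ring

lemma two_mul_choose (n : ℕ) : 2 * ((2 + n).choose 2 : ℤ) = ((n : ℤ) + 2) * ((n : ℤ) + 1) := by
  have h := Nat.choose_two_right (2 + n)
  have h2 : (2 + n).choose 2 * 2 = (2 + n) * (2 + n - 1) := by
    rw [h]
    exact Nat.div_mul_cancel (Nat.even_mul_pred_self (2 + n)).two_dvd
  have h3 : 2 + n - 1 = n + 1 := by omega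
  rw [h3] at h2
  have : (((2 + n).choose 2 * 2 : ℕ) : ℤ) = (((2 + n) * (n + 1) : ℕ) : ℤ) := by rw [h2]
  push_cast at this
  linarith

/-- a quadratic with integer coefficients bounded on a ray has vanishing top coefficients -/
lemma quad_bounded (α β γ W D0 : ℤ) (hW : 0 ≤ W)
    (h : ∀ d : ℤ, D0 ≤ d → 0 ≤ α * d ^ 2 + β * d + γ ∧ α * d ^ 2 + β * d + γ ≤ W) :
    α = 0 ∧ β = 0 := by
  set N : ℤ := W + 1 with hN
  have hNpos : 0 < N := by omega
  have h0 := h D0 le_rfl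
  have h1 := h (D0 + N) (by omega)
  have h2 := h (D0 + 2 * N) (by omega)
  have hα : α = 0 := by
    -- second difference: 2 α N^2
    have e : (α * (D0 + 2 * N) ^ 2 + β * (D0 + 2 * N) + γ) -
        2 * (α * (D0 + N) ^ 2 + β * (D0 + N) + γ) + (α * D0 ^ 2 + β * D0 + γ) = 2 * α * N ^ 2 := by
      ring
    have hb1 : 2 * α * N ^ 2 ≤ 2 * W := by linarith [h0.2, h1.1, h2.2]
    have hb2 : -(2 * W) ≤ 2 * α * N ^ 2 := by linarith [h0.1, h1.2, h2.1]
    by_contra hne
    rcases lt_or_gt_of_ne hne with hlt | hgt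
    · have : α ≤ -1 := by omega
      nlinarith [sq_nonneg N]
    · have : 1 ≤ α := by omega
      nlinarith [sq_nonneg N]
  subst hα
  refine ⟨rfl, ?_⟩
  have e : (0 * (D0 + N) ^ 2 + β * (D0 + N) + γ) - (0 * D0 ^ 2 + β * D0 + γ) = β * N := by ring
  have hb1 : β * N ≤ W := by linarith [h0.1, h1.2]
  have hb2 : -W ≤ β * N := by linarith [h0.2, h1.1]
  by_contra hne
  rcases lt_or_gt_of_ne hne with hlt | hgt
  · have : β ≤ -1 := by omega
    nlinarith
  · have : 1 ≤ β := by omega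
    nlinarith

end Arith

end Groth.Agent.Lib.Helper21.HBurch
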