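import Mathlib

set_option autoImplicit false
set_option linter.unusedSectionVars false
universe u
namespace Groth.Agent.Lib.Helper21.HBurch

section Block

variable {S : Type u} [CommRing S] [IsDomain S] {t : ℕ}
  (N : Matrix (Fin (t + 1)) (Fin t) S)

/-- extension by zero of a vector indexed by `{q // i ≤ q}` -/
noncomputable def ext0 (i : ℕ) (v : {q : Fin t // i ≤ q.val} → S) : Fin t → S :=
  fun q => if h : i ≤ q.val then v ⟨q, h⟩ else 0

lemma sum_mul_ext0 (i : ℕ) (f : Fin t → S) (v : {q : Fin t // i ≤ q.val} → S) :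
    ∑ q, f q * ext0 i v q = ∑ q : {q : Fin t // i ≤ q.val}, f q.1 * v q := by
  classical
  have e1 : ∑ q ∈ Finset.univ.filter (fun q : Fin t => i ≤ q.val), f q * ext0 i v q =
      ∑ q : {q : Fin t // i ≤ q.val}, f q.1 * ext0 i v q.1 :=
    Finset.sum_subtype (Finset.univ.filter fun q : Fin t => i ≤ q.val)
      (p := fun q : Fin t => i ≤ q.val) (by simp) (fun q => f q * ext0 i v q)
  have e2 : ∑ q, f q * ext0 i v q =
      ∑ q ∈ Finset.univ.filter (fun q : Fin t => i ≤ q.val), f q * ext0 i v q := by
    symm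
    apply Finset.sum_subset (Finset.filter_subset _ _)
    intro q _ hq
    rw [Finset.mem_filter] at hq
    push Not at hq
    have : ¬ i ≤ q.val := by
      have := hq (Finset.mem_univ _)
      omega
    rw [ext0, dif_neg this, mul_zero]
  rw [e2, e1]
  refine Finset.sum_congr rfl fun q _ => ?_
  rw [ext0, dif_pos q.2]

lemma ext0_eq_zero_iff (i : ℕ) (v : {q : Fin t // i ≤ q.val} → S) : ext0 i v = 0 ↔ v = 0 := by
  constructor
  · intro h
    ext q
    have := congrFun h q.1
    rw [ext0, dif_pos q.2] at this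
    exact this
  · rintro rfl
    ext q
    rw [ext0]
    split_ifs <;> rfl

/-- (B): more columns than rows in the support ⇒ not injective. -/
theorem false_of_block_succ (hinj : Function.Injective N.mulVec) (i : ℕ) (hi : i < t)
    (hz : ∀ (p : Fin (t + 1)) (q : Fin t), p.val ≤ i + 1 → i ≤ q.val → N p q = 0) : False := by
  classical
  let Q := {q : Fin t // i ≤ q.val}
  let P' := {p : Fin (t + 1) // i + 1 < p.val}
  let g : (Q → S) →ₗ[S] (P' → S) :=
    Matrix.mulVecLin (Matrix.of fun (p : P') (q : Q) => N p.1 q.1)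
  have hg : Function.Injective g := by
    rw [← LinearMap.ker_eq_bot, eq_bot_iff]
    intro v hv
    rw [LinearMap.mem_ker] at hv
    rw [Submodule.mem_bot, ← ext0_eq_zero_iff i v]
    apply hinj
    rw [Matrix.mulVec_zero]
    ext p
    change ∑ q, N p q * ext0 i v q = 0
    rw [sum_mul_ext0]
    by_cases hp : p.val ≤ i + 1
    · exact Finset.sum_eq_zero fun q _ => by rw [hz p q.1 hp q.2, zero_mul]
    · exact congrFun hv ⟨p, by omega⟩
  have hcard := card_le_of_injective S g hg
  have hlt : Fintype.card P' < Fintype.card Q := by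
    let f : P' → Q := fun p => ⟨⟨p.1.val - 2, by have := p.1.2; have := p.2; omega⟩,
        by have := p.2; change i ≤ p.1.val - 2; omega⟩
    have hf : Function.Injective f := by
      intro p p' h
      have h1 : p.1.val - 2 = p'.1.val - 2 := congrArg (fun q : Q => q.1.val) h
      have := p.2
      have := p'.2
      exact Subtype.ext (Fin.ext (by omega))
    have hnot : (⟨⟨t - 1, by omega⟩, by change i ≤ t - 1; omega⟩ : Q) ∉ Set.range f := by
      rintro ⟨p, hp⟩
      have h1 : p.1.val - 2 = t - 1 := congrArg (fun q : Q => q.1.val) hp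
      have := p.1.2
      have := p.2
      omega
    exact Fintype.card_lt_of_injective_of_notMem f hf hnot
  omega

/-- (A): a square zero-complement block ⇒ multiples of the basis vectors of the complementary rows
lie in the image. -/
theorem exists_mulVec_eq_smul_single (hinj : Function.Injective N.mulVec) (i : ℕ)
    (hz : ∀ (p : Fin (t + 1)) (q : Fin t), p.val ≤ i → i ≤ q.val → N p q = 0)
    (p : Fin (t + 1)) (hp : i < p.val) :
    ∃ δ : S, δ ≠ 0 ∧ ∃ w : Fin t → S, N.mulVec w = δ • (Pi.single p 1 : Fin (t + 1) → S) := by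
  classical
  let Q := {q : Fin t // i ≤ q.val}
  let N'' : Matrix Q Q S := Matrix.of fun q' q => N q'.1.succ q.1
  -- the row index in `Q` attached to a row `p' > i`
  have hrow : ∀ p' : Fin (t + 1), i < p'.val → ∃ q' : Q, q'.1.succ = p' := by
    intro p' hp'
    refine ⟨⟨⟨p'.val - 1, by have := p'.2; omega⟩, by change i ≤ p'.val - 1; omega⟩, ?_⟩
    apply Fin.ext
    change p'.val - 1 + 1 = p'.val
    omega
  have hmul : ∀ (v : Q → S) (p' : Fin (t + 1)), N.mulVec (ext0 i v) p' =
      if h : i < p'.val then N''.mulVec v (hrow p' h).choose else 0 := by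
    intro v p'
    change ∑ q, N p' q * ext0 i v q = _
    rw [sum_mul_ext0]
    split_ifs with h
    · have hq := (hrow p' h).choose_spec
      change _ = ∑ q : Q, N (hrow p' h).choose.1.succ q.1 * v q
      rw [hq]
    · exact Finset.sum_eq_zero fun q _ => by rw [hz p' q.1 (by omega) q.2, zero_mul]
  have hinj'' : ∀ v : Q → S, N''.mulVec v = 0 → v = 0 := by
    intro v hv
    rw [← ext0_eq_zero_iff i v]
    apply hinj
    rw [Matrix.mulVec_zero]
    ext p'
    rw [hmul, hv]
    simp
  have hdet : N''.det ≠ 0 := by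
    intro h0
    obtain ⟨v, hv0, hv⟩ := Matrix.exists_mulVec_eq_zero_iff.2 h0
    exact hv0 (hinj'' v hv)
  obtain ⟨q0, hq0⟩ := hrow p hp
  refine ⟨N''.det, hdet, ext0 i (fun q => N''.adjugate q q0), ?_⟩
  ext p'
  rw [hmul]
  have hadj : ∀ q'' : Q, N''.mulVec (fun q => N''.adjugate q q0) q'' =
      N''.det * (if q'' = q0 then 1 else 0) := by
    intro q''
    have := congrFun (congrFun (Matrix.mul_adjugate N'') q'') q0
    rw [Matrix.smul_apply, Matrix.one_apply, smul_eq_mul] at this
    rw [← this]
    rfl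
  rw [Pi.smul_apply, smul_eq_mul, Pi.single_apply]
  split_ifs with h1 h2 h2
  · rw [hadj, if_pos]
    apply Subtype.ext
    apply Fin.succ_injective
    rw [(hrow p' h1).choose_spec, hq0, h2]
  · rw [hadj, if_neg]
    intro h3
    apply h2
    rw [← (hrow p' h1).choose_spec, h3, hq0]
  · exfalso; rw [h2] at h1; exact h1 hp
  · rw [mul_zero]

end Block

end Groth.Agent.Lib.Helper21.HBurch
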