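import Mathlib
import Groth.Prelude.Def_GrSyz
import Groth.Prelude.Def_GrLC
import Groth.Agent.Lib.Helper24.GrSyzLemmas
import Groth.Agent.Lib.Helper21.GrSyzHilb

set_option autoImplicit false
set_option linter.unusedSectionVars false
universe u
namespace Groth.Agent.Lib.Helper21.HBurch
open GrSyz MvPolynomial DirectSum Groth.Agent.Lib.Helper24.GrSyzL

section Bound

variable {k : Type u} [Field k] {r : ℕ}

lemma weight_int_eq_cast (d : (Fin (r + 1)) →₀ ℕ) :
    Finsupp.weight (fun _ : (Fin (r + 1)) => (1 : ℤ)) d = ((Finsupp.weight (1 : (Fin (r + 1)) → ℕ) d : ℕ) : ℤ) := by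
  simp [Finsupp.weight_apply, Finsupp.sum]

lemma isHomogeneous_of_mem_stdGr {n : ℕ} {f : MvPolynomial (Fin (r + 1)) k} (hf : f ∈ stdGr k (Fin (r + 1)) (n : ℤ)) :
    f.IsHomogeneous n := by
  intro d hd
  have := hf hd
  rw [weight_int_eq_cast] at this
  exact_mod_cast this

lemma eq_zero_of_mem_stdGr_neg {n : ℤ} (hn : n < 0) {f : MvPolynomial (Fin (r + 1)) k}
    (hf : f ∈ stdGr k (Fin (r + 1)) n) : f = 0 := by
  by_contra hne
  obtain ⟨d, hd⟩ := MvPolynomial.ne_zero_iff.mp hne
  have hw := hf hd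
  have := weight_one_nonneg (Fin (r + 1)) d
  omega

variable {M : Type u} [AddCommGroup M] [Module k M] [Module (MvPolynomial (Fin (r + 1)) k) M]
  [IsScalarTower k (MvPolynomial (Fin (r + 1)) k) M]
  {ℳ : ℤ → Submodule k M} [DirectSum.Decomposition ℳ] [SetLike.GradedSMul (stdGr k (Fin (r + 1))) ℳ]
  (π : MvPolynomial (Fin (r + 1)) k →ₗ[MvPolynomial (Fin (r + 1)) k] M)
  (hπg : GrLC.IsGrHom (stdGr k (Fin (r + 1))) ℳ π)

include hπg in
lemma decompose_map (f : MvPolynomial (Fin (r + 1)) k) (d : ℤ) :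
    (decompose ℳ (π f) d : M) = π (decompose (stdGr k (Fin (r + 1))) f d : MvPolynomial (Fin (r + 1)) k) := by
  induction f using DirectSum.Decomposition.inductionOn (stdGr k (Fin (r + 1))) with
  | zero => simp
  | @homogeneous e f =>
    have hm : π (f : MvPolynomial (Fin (r + 1)) k) ∈ ℳ e := hπg e _ f.2
    by_cases h : e = d
    · subst h
      rw [decompose_of_mem_same ℳ hm, decompose_of_mem_same (stdGr k (Fin (r + 1))) f.2]
    · rw [decompose_of_mem_ne ℳ hm h, decompose_of_mem_ne (stdGr k (Fin (r + 1))) f.2 h, map_zero]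
  | add f g hf hg =>
    rw [map_add, decompose_add, decompose_add, DirectSum.add_apply, DirectSum.add_apply,
      AddMemClass.coe_add, AddMemClass.coe_add, hf, hg, map_add]

include hπg in
/-- homogeneous elements of the quotient lift to homogeneous polynomials -/
lemma exists_homogeneous_lift (hπ : Function.Surjective π) {d : ℤ} {m : M} (hm : m ∈ ℳ d) :
    ∃ f ∈ stdGr k (Fin (r + 1)) d, π f = m := by
  obtain ⟨f, rfl⟩ := hπ m
  refine ⟨(decompose (stdGr k (Fin (r + 1))) f d : MvPolynomial (Fin (r + 1)) k), SetLike.coe_mem _, ?_⟩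
  rw [← decompose_map π hπg, decompose_of_mem_same ℳ hm]

variable (Z : Finset ((Fin (r + 1)) → k)) (I : Ideal (MvPolynomial (Fin (r + 1)) k))
  (hI : ∀ f : MvPolynomial (Fin (r + 1)) k, f ∈ I ↔
      ∀ p ∈ Z, ∀ j : ℕ, MvPolynomial.eval p (MvPolynomial.homogeneousComponent j f) = 0)
  (hker : LinearMap.ker π = I)

include hI in
lemma mem_I_of_eval_eq_zero {d : ℤ} {f : MvPolynomial (Fin (r + 1)) k} (hf : f ∈ stdGr k (Fin (r + 1)) d)
    (h0 : ∀ p ∈ Z, MvPolynomial.eval p f = 0) : f ∈ I := by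
  rcases lt_or_ge d 0 with hd | hd
  · rw [eq_zero_of_mem_stdGr_neg hd hf]; exact I.zero_mem
  · obtain ⟨n, rfl⟩ := Int.eq_ofNat_of_zero_le hd
    rw [hI]
    intro p hp j
    rw [homogeneousComponent_of_mem (isHomogeneous_of_mem_stdGr hf)]
    split_ifs
    · exact h0 p hp
    · simp

include hπg hI hker in
theorem finrank_piece_le (hπ : Function.Surjective π) (d : ℤ) :
    Module.finrank k (ℳ d) ≤ Z.card := by
  classical
  -- restricted maps
  let πd : stdGr k (Fin (r + 1)) d →ₗ[k] ℳ d :=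
    (π.restrictScalars k).restrict (fun f hf => hπg d f hf)
  let φd : stdGr k (Fin (r + 1)) d →ₗ[k] (Z → k) :=
    { toFun := fun f p => MvPolynomial.eval p.1 (f : MvPolynomial (Fin (r + 1)) k)
      map_add' := fun f g => by ext p; simp
      map_smul' := fun c f => by ext p; simp [MvPolynomial.smul_eval] }
  have hsurj : Function.Surjective πd := by
    rintro ⟨m, hm⟩
    obtain ⟨f, hf, hfm⟩ := exists_homogeneous_lift π hπg hπ hm
    exact ⟨⟨f, hf⟩, Subtype.ext hfm⟩
  have hle : LinearMap.ker φd ≤ LinearMap.ker πd := by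
    rintro ⟨f, hf⟩ h
    rw [LinearMap.mem_ker] at h ⊢
    apply Subtype.ext
    change π f = 0
    have : f ∈ LinearMap.ker π := by
      rw [hker]
      apply mem_I_of_eval_eq_zero Z I hI hf
      intro p hp
      exact congrFun h ⟨p, hp⟩
    exact this
  have : Module.Finite k (stdGr k (Fin (r + 1)) d) := Groth.Agent.Lib.Helper21.GrSyzHilb.finite_stdGr k r d
  have h1 := LinearMap.finrank_range_add_finrank_ker πd
  have h2 := LinearMap.finrank_range_add_finrank_ker φd
  rw [LinearMap.range_eq_top.2 hsurj, finrank_top] at h1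
  have h3 : Module.finrank k (LinearMap.ker φd) ≤ Module.finrank k (LinearMap.ker πd) :=
    Submodule.finrank_mono hle
  have h4 : Module.finrank k (LinearMap.range φd) ≤ Module.finrank k (Z → k) :=
    Submodule.finrank_le _
  rw [Module.finrank_fintype_fun_eq_card, Fintype.card_coe] at h4
  omega

end Bound

end Groth.Agent.Lib.Helper21.HBurch
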