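import Mathlib
import Groth.Prelude.Def_GrSyz
import Groth.Agent.Lib.Helper24.GrSyzLemmas
import Groth.Agent.Lib.Helper21.HBurchBlock

set_option autoImplicit false
set_option linter.unusedSectionVars false
universe u v
namespace Groth.Agent.Lib.Helper21.HBurch
open GrSyz MvPolynomial Groth.Agent.Lib.Helper24.GrSyzL

section Part1

variable {k : Type u} [Field k] {σ : Type v}
  {M : Type (max u v)} [AddCommGroup M] [Module k M] [Module (MvPolynomial σ k) M]
  {ℳ : ℤ → Submodule k M} [DirectSum.Decomposition ℳ] [SetLike.GradedSMul (stdGr k σ) ℳ]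
  (F : FreeRes (stdGr k σ) ℳ) (hF : F.IsMinimal (irrel (stdGr k σ)).toIdeal)
  (hlen : F.HasLengthLE 2) (t : ℕ) (h1 : F.rk 1 = t + 1) (h2 : F.rk 2 = t)

/-- the Hilbert–Burch matrix with standard indices -/
def NN : Matrix (Fin (t + 1)) (Fin t) (MvPolynomial σ k) :=
  fun p q => F.d 1 (Fin.cast h1.symm p) (Fin.cast h2.symm q)

include hlen in
lemma dLin_one_injective : Function.Injective (F.dLin 1) := by
  rw [← LinearMap.ker_eq_bot, F.exact_succ 1, eq_bot_iff]
  rintro _ ⟨v, rfl⟩
  have hrk : F.rk 3 = 0 := hlen 3 (by omega)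
  have : v = 0 := by
    ext b
    exact (Fin.elim0 (hrk ▸ b))
  rw [this, map_zero]
  exact Submodule.zero_mem _

lemma NN_mulVec (w : Fin t → MvPolynomial σ k) (p : Fin (t + 1)) :
    (NN F t h1 h2).mulVec w p =
      (F.d 1).mulVec (fun b => w (Fin.cast h2 b)) (Fin.cast h1.symm p) := by
  change ∑ q, F.d 1 (Fin.cast h1.symm p) (Fin.cast h2.symm q) * w q =
    ∑ b, F.d 1 (Fin.cast h1.symm p) b * w (Fin.cast h2 b)
  exact Fintype.sum_equiv (finCongr h2.symm) _ _ (fun q => by simp)

include hlen in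
lemma NN_injective : Function.Injective (NN F t h1 h2).mulVec := by
  intro w w' h
  have h' : F.dLin 1 (fun b => w (Fin.cast h2 b)) = F.dLin 1 (fun b => w' (Fin.cast h2 b)) := by
    funext a
    have := congrFun h (Fin.cast h1 a)
    rw [NN_mulVec, NN_mulVec] at this
    simpa using this
  have h'' := dLin_one_injective F hlen h'
  funext q
  have := congrFun h'' (Fin.cast h2.symm q)
  simpa using this

include hF in
lemma NN_eq_zero_of_le (p : Fin (t + 1)) (q : Fin t)
    (h : F.deg 2 (Fin.cast h2.symm q) - F.deg 1 (Fin.cast h1.symm p) ≤ 0) :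
    NN F t h1 h2 p q = 0 := by
  by_contra hne
  have : (0 : ℤ) < F.deg 2 (Fin.cast h2.symm q) - F.deg 1 (Fin.cast h1.symm p) :=
    pos_of_mem_stdGr_of_mem_irrel k σ (F.d_mem 1 _ _) (hF 1 _ _) hne
  omega

variable (ha : ∀ i j : Fin (t + 1), i ≤ j → F.deg 1 (Fin.cast h1.symm j) ≤ F.deg 1 (Fin.cast h1.symm i))
  (hb : ∀ i j : Fin t, i ≤ j → F.deg 2 (Fin.cast h2.symm j) ≤ F.deg 2 (Fin.cast h2.symm i))

include hF hlen ha hb in
theorem one_le_e (i : Fin t) :
    1 ≤ F.deg 2 (Fin.cast h2.symm i) - F.deg 1 (Fin.cast h1.symm i.castSucc) := by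
  by_contra hcon
  have hz : ∀ (p : Fin (t + 1)) (q : Fin t), p.val ≤ i.val → i.val ≤ q.val →
      NN F t h1 h2 p q = 0 := by
    intro p q hp hq
    apply NN_eq_zero_of_le F hF t h1 h2
    have hbq := hb i q (Fin.le_def.2 hq)
    have hap := ha p i.castSucc (Fin.le_def.2 (by simpa using hp))
    omega
  obtain ⟨δ, hδ, w, hw⟩ := exists_mulVec_eq_smul_single (NN F t h1 h2)
    (NN_injective F hlen t h1 h2) i.val hz i.succ (by simp)
  -- transfer to `F.d 1`
  set p' : Fin (F.rk 1) := Fin.cast h1.symm i.succ with hp'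
  have hw' : F.dLin 1 (fun b => w (Fin.cast h2 b)) = δ • (Pi.single p' 1 : Fin (F.rk 1) → _) := by
    funext a
    have := congrFun hw (Fin.cast h1 a)
    rw [NN_mulVec] at this
    have e1 : Fin.cast h1.symm (Fin.cast h1 a) = a := by simp
    rw [e1] at this
    rw [Matrix.mulVecLin_apply, this, Pi.smul_apply, Pi.smul_apply, Pi.single_apply,
      Pi.single_apply]
    congr 1
    have : (Fin.cast h1 a = i.succ) ↔ (a = p') := by
      rw [hp']
      constructor
      · intro h; rw [← h]; simp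
      · intro h; rw [h]; simp
    simp only [this]
  have hzero : F.dLin 0 (δ • (Pi.single p' 1 : Fin (F.rk 1) → _)) = 0 := by
    rw [← hw']
    have : F.dLin 1 (fun b => w (Fin.cast h2 b)) ∈ LinearMap.ker (F.dLin 0) := by
      rw [F.exact_succ 0]; exact LinearMap.mem_range_self _ _
    exact this
  obtain ⟨a, hane⟩ := exists_entry_ne_zero F _ hF (one_notMem_irrel k σ) 0 p'
  apply hane
  have := congrFun hzero a
  rw [map_smul, Matrix.mulVecLin_apply, Matrix.mulVec_single_one, Pi.smul_apply, smul_eq_mul,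
    Pi.zero_apply] at this
  rcases mul_eq_zero.1 this with h | h
  · exact absurd h hδ
  · exact h

include hF hlen ha hb in
theorem one_le_f (i : Fin t) :
    1 ≤ F.deg 2 (Fin.cast h2.symm i) - F.deg 1 (Fin.cast h1.symm i.succ) := by
  by_contra hcon
  have hz : ∀ (p : Fin (t + 1)) (q : Fin t), p.val ≤ i.val + 1 → i.val ≤ q.val →
      NN F t h1 h2 p q = 0 := by
    intro p q hp hq
    apply NN_eq_zero_of_le F hF t h1 h2
    have hbq := hb i q (Fin.le_def.2 hq)
    have hap := ha p i.succ (Fin.le_def.2 (by simpa using hp))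
    omega
  exact false_of_block_succ (NN F t h1 h2) (NN_injective F hlen t h1 h2) i.val i.2 hz

end Part1

end Groth.Agent.Lib.Helper21.HBurch
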