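import Mathlib
import Groth.Prelude.Def_GrSyz
import Groth.Prelude.Def_GrLC
import Groth.Agent.Lib.Helper24.GrSyzLemmas
import Groth.Agent.Lib.Helper21.GrSyzHilb
import Groth.Agent.Lib.Helper21.HBurchBound
import Groth.Agent.Lib.Helper21.HBurchArith

set_option autoImplicit false
set_option linter.unusedSectionVars false
universe u
namespace Groth.Agent.Lib.Helper21.HBurch
open GrSyz MvPolynomial DirectSum Groth.Agent.Lib.Helper24.GrSyzL Groth.Agent.Lib.Helper21.GrSyzHilb

section Part2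

variable {k : Type u} [Field k] {r : ℕ}
  {M : Type u} [AddCommGroup M] [Module k M] [Module (MvPolynomial (Fin (r + 1)) k) M]
  [IsScalarTower k (MvPolynomial (Fin (r + 1)) k) M]
  {ℳ : ℤ → Submodule k M} [DirectSum.Decomposition ℳ] [SetLike.GradedSMul (stdGr k (Fin (r + 1))) ℳ]
  (F : FreeRes (stdGr k (Fin (r + 1))) ℳ)

/-- Hilbert function formula (as S15428, without the finiteness hypothesis). -/
theorem hilbert_formula (m : ℕ) (hF : F.HasLengthLE m) (d : ℤ) :
    (Module.finrank k ↥(ℳ d) : ℤ) =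
      ∑ i ∈ Finset.range (m + 1), (-1 : ℤ) ^ i * ∑ b : Fin (F.rk i),
        (if F.deg i b ≤ d then ((Nat.choose (r + (d - F.deg i b).toNat) r : ℕ) : ℤ) else 0) := by
  have h := finrank_eq_alternating_sum F m hF d
  rw [h]
  refine Finset.sum_congr rfl fun i _ => ?_
  congr 1
  rw [finrank_piece]
  push_cast
  refine Finset.sum_congr rfl fun b _ => ?_
  rw [finrank_stdGr]
  by_cases hb : F.deg i b ≤ d
  · rw [if_pos hb, if_pos (by omega)]
  · rw [if_neg hb, if_neg (by omega)]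
    simp

end Part2

section Part2b

variable {k : Type u} [Field k]
  {M : Type u} [AddCommGroup M] [Module k M] [Module (MvPolynomial (Fin (2 + 1)) k) M]
  [IsScalarTower k (MvPolynomial (Fin (2 + 1)) k) M]
  {ℳ : ℤ → Submodule k M} [DirectSum.Decomposition ℳ] [SetLike.GradedSMul (stdGr k (Fin (2 + 1))) ℳ]
  (F : FreeRes (stdGr k (Fin (2 + 1))) ℳ)

/-- a bound for all generator degrees in homological degrees `≤ 2` -/
def D0 : ℤ := ∑ i ∈ Finset.range 3, ∑ b : Fin (F.rk i), |F.deg i b|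

lemma deg_le_D0 {i : ℕ} (hi : i ∈ Finset.range 3) (b : Fin (F.rk i)) : F.deg i b ≤ D0 F := by
  unfold D0
  calc F.deg i b ≤ |F.deg i b| := le_abs_self _
    _ ≤ ∑ b : Fin (F.rk i), |F.deg i b| :=
        Finset.single_le_sum (f := fun b => |F.deg i b|) (fun b _ => abs_nonneg _) (Finset.mem_univ b)
    _ ≤ _ := Finset.single_le_sum (f := fun i => ∑ b : Fin (F.rk i), |F.deg i b|)
        (fun i _ => Finset.sum_nonneg fun b _ => abs_nonneg _) hi

theorem two_mul_hilbert (hlen : F.HasLengthLE 2) (d : ℤ) (hd : D0 F ≤ d) :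
    2 * (Module.finrank k ↥(ℳ d) : ℤ) =
      ∑ i ∈ Finset.range 3, (-1 : ℤ) ^ i * ∑ b : Fin (F.rk i),
        (d - F.deg i b + 2) * (d - F.deg i b + 1) := by
  rw [hilbert_formula F 2 hlen d, Finset.mul_sum]
  refine Finset.sum_congr rfl fun i hi => ?_
  rw [mul_left_comm, Finset.mul_sum]
  congr 1
  refine Finset.sum_congr rfl fun b _ => ?_
  have hb : F.deg i b ≤ d := (deg_le_D0 F hi b).trans hd
  rw [if_pos hb, two_mul_choose]
  have : ((d - F.deg i b).toNat : ℤ) = d - F.deg i b := Int.toNat_of_nonneg (by omega)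
  rw [this]

/-- the numerical consequences of a bounded Hilbert function -/
theorem coeffs_of_bounded (hlen : F.HasLengthLE 2) (W : ℕ)
    (hW : ∀ d : ℤ, Module.finrank k ↥(ℳ d) ≤ W) :
    (F.rk 0 : ℤ) - F.rk 1 + F.rk 2 = 0 ∧
      (∑ b, F.deg 0 b) - (∑ b, F.deg 1 b) + (∑ b, F.deg 2 b) = 0 := by
  set α : ℤ := (F.rk 0 : ℤ) - F.rk 1 + F.rk 2 with hα
  set B : ℤ := (∑ b, F.deg 0 b) - (∑ b, F.deg 1 b) + (∑ b, F.deg 2 b) with hB
  set Cc : ℤ := (∑ b, F.deg 0 b ^ 2) - (∑ b, F.deg 1 b ^ 2) + (∑ b, F.deg 2 b ^ 2) with hC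
  have hclosed : ∀ d : ℤ, ∑ i ∈ Finset.range 3, (-1 : ℤ) ^ i * ∑ b : Fin (F.rk i),
        (d - F.deg i b + 2) * (d - F.deg i b + 1) =
      α * d ^ 2 + (3 * α - 2 * B) * d + (Cc - 3 * B + 2 * α) := by
    intro d
    simp only [Finset.sum_range_succ, Finset.sum_range_zero, sumq_eq]
    rw [hα, hB, hC]
    ring
  have hq := quad_bounded α (3 * α - 2 * B) (Cc - 3 * B + 2 * α) (2 * W) (D0 F) (by positivity)
    (fun d hd => by
      rw [← hclosed d, ← two_mul_hilbert F hlen d hd]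
      have := hW d
      constructor
      · positivity
      · have : (Module.finrank k ↥(ℳ d) : ℤ) ≤ W := by exact_mod_cast this
        linarith)
  obtain ⟨h1, h2⟩ := hq
  refine ⟨h1, ?_⟩
  rw [h1] at h2
  omega

end Part2b

end Groth.Agent.Lib.Helper21.HBurch
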