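import Mathlib
import Groth.Agent.Lib.Helper21.HBurchBlock

set_option autoImplicit false
set_option linter.unusedSectionVars false
universe u

namespace Groth.Agent.Lib.Helper21.HBurch

section Mat
variable {S : Type u} [CommRing S] [IsDomain S] {t : ℕ}

theorem one_le_e_mat (N : Matrix (Fin (t + 1)) (Fin t) S) (hinj : Function.Injective N.mulVec)
    (a : Fin (t + 1) → ℤ) (b : Fin t → ℤ) (ha : Antitone a) (hb : Antitone b)
    (hz : ∀ p q, b q - a p ≤ 0 → N p q = 0)
    (g : Fin (t + 1) → S) (hg : ∀ p, g p ≠ 0) (hgN : ∀ q, ∑ p, g p * N p q = 0) (i : Fin t) :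
    1 ≤ b i - a i.castSucc := by
  classical
  by_contra hcon
  have hz' : ∀ (p : Fin (t + 1)) (q : Fin t), p.val ≤ i.val → i.val ≤ q.val → N p q = 0 := by
    intro p q hp hq
    apply hz
    have h1 : b q ≤ b i := hb (Fin.le_def.2 hq)
    have h2 : a i.castSucc ≤ a p := ha (Fin.le_def.2 (by simpa using hp))
    omega
  obtain ⟨δ, hδ, w, hw⟩ := exists_mulVec_eq_smul_single N hinj i.val hz' i.succ (by simp)
  have h1 : ∑ p, g p * (N.mulVec w) p = 0 := by
    have : ∀ p, g p * (N.mulVec w) p = ∑ q, g p * N p q * w q := by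
      intro p
      change g p * ∑ q, N p q * w q = _
      rw [Finset.mul_sum]
      exact Finset.sum_congr rfl fun q _ => (mul_assoc _ _ _).symm
    simp_rw [this]
    rw [Finset.sum_comm]
    refine Finset.sum_eq_zero fun q _ => ?_
    rw [← Finset.sum_mul, hgN q, zero_mul]
  rw [hw] at h1
  simp only [Pi.smul_apply, smul_eq_mul, Pi.single_apply, mul_ite, mul_one, mul_zero,
    Finset.sum_ite_eq', Finset.mem_univ, if_true] at h1
  rcases mul_eq_zero.mp h1 with h | h
  · exact hg _ h
  · exact hδ h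

/-- numerical consequence: the smallest generator degree is at least `t` -/
theorem le_of_sorted (a : Fin (t + 1) → ℤ) (b : Fin t → ℤ) (ha : Antitone a)
    (he : ∀ i : Fin t, 1 ≤ b i - a i.castSucc) (hsum : ∑ p, a p = ∑ q, b q) (p : Fin (t + 1)) :
    (t : ℤ) ≤ a p := by
  have h1 : a (Fin.last t) ≤ a p := ha (Fin.le_last p)
  have h2 : ∑ p, a p = (∑ i : Fin t, a i.castSucc) + a (Fin.last t) := Fin.sum_univ_castSucc a
  have h3 : (t : ℤ) ≤ ∑ i : Fin t, (b i - a i.castSucc) := by
    calc (t : ℤ) = ∑ _i : Fin t, (1 : ℤ) := by simp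
      _ ≤ _ := Finset.sum_le_sum fun i _ => he i
  rw [Finset.sum_sub_distrib] at h3
  omega

theorem le_of_unsorted (N : Matrix (Fin (t + 1)) (Fin t) S) (hinj : Function.Injective N.mulVec)
    (a : Fin (t + 1) → ℤ) (b : Fin t → ℤ)
    (hz : ∀ p q, b q - a p ≤ 0 → N p q = 0)
    (g : Fin (t + 1) → S) (hg : ∀ p, g p ≠ 0) (hgN : ∀ q, ∑ p, g p * N p q = 0)
    (hsum : ∑ p, a p = ∑ q, b q) (p : Fin (t + 1)) : (t : ℤ) ≤ a p := by
  classical
  set σ₁ := Tuple.sort (fun p => - a p) with hσ₁
  set σ₂ := Tuple.sort (fun q => - b q) with hσ₂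
  have ha' : Antitone (a ∘ σ₁) := by
    intro i j hij
    have := Tuple.monotone_sort (fun p => - a p) hij
    simp only [Function.comp_apply, neg_le_neg_iff] at this
    exact this
  have hb' : Antitone (b ∘ σ₂) := by
    intro i j hij
    have := Tuple.monotone_sort (fun q => - b q) hij
    simp only [Function.comp_apply, neg_le_neg_iff] at this
    exact this
  have hinj' : Function.Injective (N.submatrix σ₁ σ₂).mulVec := by
    intro w w' hww
    have h1 : N.mulVec (w ∘ σ₂.symm) = N.mulVec (w' ∘ σ₂.symm) := by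
      funext x
      have := congrFun hww (σ₁.symm x)
      rw [Matrix.submatrix_mulVec_equiv, Matrix.submatrix_mulVec_equiv] at this
      simpa using this
    have h2 := hinj h1
    funext q
    have := congrFun h2 (σ₂ q)
    simpa using this
  have he := one_le_e_mat (N.submatrix σ₁ σ₂) hinj' (a ∘ σ₁) (b ∘ σ₂) ha' hb'
    (fun p q h => hz _ _ h) (g ∘ σ₁) (fun p => hg _)
    (fun q => by
      have := hgN (σ₂ q)
      rw [← Equiv.sum_comp σ₁] at this
      exact this)
  have hsum' : ∑ p, (a ∘ σ₁) p = ∑ q, (b ∘ σ₂) q := by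
    simp only [Function.comp_apply]
    rw [Equiv.sum_comp σ₁ a, Equiv.sum_comp σ₂ b]
    exact hsum
  have := le_of_sorted (a ∘ σ₁) (b ∘ σ₂) ha' he hsum' (σ₁.symm p)
  simpa using this

end Mat

end Groth.Agent.Lib.Helper21.HBurch
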