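import Mathlib
import Groth.Prelude.Def_HensSch

set_option backward.isDefEq.respectTransparency.types false
set_option linter.style.haveILetI false
set_option autoImplicit false
universe u
open CategoryTheory AlgebraicGeometry TopologicalSpace Opposite

/-! Algebra for affine Henselian spectra: the Henselization `S` of `(A_f, I A_f)` (given only by its
universal property `HensSch.IsHensAway`) satisfies `S / I S = (A / I)_f`: every element of `S` is
congruent mod `I S` to `φ a / φ f ^ n`. -/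

namespace Groth.Agent.Lib.Helper21.HensSch1

theorem henselianRing_bot (R : Type u) [CommRing R] : HenselianRing R (⊥ : Ideal R) where
  jac := bot_le
  is_henselian := fun f _ a₀ h₁ _ => ⟨a₀, by
    rw [Ideal.mem_bot] at h₁
    exact h₁, by simp⟩

/-- the subring of `Q` of elements of the form `q (φ a) / q (φ f) ^ n`. -/
def fracSubring {A Q : Type u} [CommRing A] [CommRing Q] (ψ : A →+* Q) (f : A) : Subring Q where
  carrier := {x | ∃ (a : A) (n : ℕ), x * ψ f ^ n = ψ a}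
  mul_mem' := by
    rintro x y ⟨a, n, ha⟩ ⟨b, m, hb⟩
    refine ⟨a * b, n + m, ?_⟩
    rw [map_mul, ← ha, ← hb, pow_add]; ring
  one_mem' := ⟨1, 0, by simp⟩
  add_mem' := by
    rintro x y ⟨a, n, ha⟩ ⟨b, m, hb⟩
    refine ⟨a * f ^ m + b * f ^ n, n + m, ?_⟩
    rw [map_add, map_mul, map_mul, map_pow, map_pow, ← ha, ← hb, pow_add]; ring
  zero_mem' := ⟨0, 0, by simp⟩
  neg_mem' := by
    rintro x ⟨a, n, ha⟩
    exact ⟨-a, n, by rw [map_neg, ← ha]; ring⟩

theorem exists_congr_of_isHensAway {A : Type u} [CommRing A] (I : Ideal A) (f : A)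
    (S : Type u) [CommRing S] (φ : A →+* S) (h : HensSch.IsHensAway A I f S φ) (γ : S) :
    ∃ (a : A) (n : ℕ), γ * φ f ^ n - φ a ∈ I.map φ := by
  obtain ⟨hunit, -, huniv⟩ := h
  let q : S →+* S ⧸ I.map φ := Ideal.Quotient.mk _
  let ψ : A →+* S ⧸ I.map φ := q.comp φ
  have hψI : ∀ a ∈ I, ψ a = 0 := fun a ha =>
    Ideal.Quotient.eq_zero_iff_mem.mpr (Ideal.mem_map_of_mem φ ha)
  have hψf : IsUnit (ψ f) := hunit.map q
  let Q' : Subring (S ⧸ I.map φ) := fracSubring ψ f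
  have hmem : ∀ a, ψ a ∈ Q' := fun a => ⟨a, 0, by simp⟩
  let g : A →+* Q' := ψ.codRestrict Q' hmem
  have hgI : I.map g ≤ ⊥ := by
    rw [Ideal.map_le_iff_le_comap]
    intro a ha
    rw [Ideal.mem_comap, Ideal.mem_bot]
    exact Subtype.ext (hψI a ha)
  have hgf : IsUnit (g f) := by
    obtain ⟨w, hw⟩ := hψf
    have hinv : (↑w⁻¹ : S ⧸ I.map φ) ∈ Q' := ⟨1, 1, by rw [pow_one, ← hw, map_one]; simp⟩
    refine isUnit_iff_exists_inv.mpr ⟨⟨↑w⁻¹, hinv⟩, Subtype.ext ?_⟩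
    show ψ f * ↑w⁻¹ = 1
    rw [← hw]; simp
  obtain ⟨h', hh', -⟩ := huniv Q' ⊥ g (henselianRing_bot _) hgI hgf
  -- both `q` and `Q'.subtype ∘ h'` extend `ψ`
  have hψI' : I.map ψ ≤ ⊥ := by
    rw [Ideal.map_le_iff_le_comap]
    intro a ha
    rw [Ideal.mem_comap, Ideal.mem_bot]
    exact hψI a ha
  obtain ⟨k, -, hk⟩ := huniv (S ⧸ I.map φ) ⊥ ψ (henselianRing_bot _) hψI' hψf
  have e1 : q = k := hk q rfl
  have e2 : Q'.subtype.comp h' = k := hk _ (by
    show (Q'.subtype.comp h').comp φ = ψ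
    rw [RingHom.comp_assoc, hh']
    rfl)
  have hγ : q γ ∈ Q' := by
    rw [e1, ← e2]
    exact (h' γ).2
  obtain ⟨a, n, han⟩ := hγ
  refine ⟨a, n, ?_⟩
  rw [← Ideal.Quotient.eq_zero_iff_mem, map_sub, map_mul, map_pow]
  exact sub_eq_zero.mpr han

end Groth.Agent.Lib.Helper21.HensSch1
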