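import Mathlib
import Groth.Prelude.Def_HensSch
import Groth.Agent.Lib.Helper21.HensSch1

set_option backward.isDefEq.respectTransparency.types false
set_option linter.style.haveILetI false
set_option autoImplicit false
universe u
open CategoryTheory AlgebraicGeometry TopologicalSpace Opposite

/-! Locally ringed space lemmas for affine Henselian spectra. -/

namespace Groth.Agent.Lib.Helper21.HensSch2

variable {A : Type u} [CommRing A]

/-- The global section of `W` attached to `a : A` by `π : W ⟶ Spec A`. -/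
noncomputable abbrev gs {W : LocallyRingedSpace.{u}} (π : W ⟶ HensSch.specLRS A) (a : A) :
    W.presheaf.obj (op ((Opens.map π.base).obj ⊤)) :=
  π.c.app (op ⊤) ((Scheme.ΓSpecIso (CommRingCat.of A)).inv a)

theorem mem_dOpen_iff {W : LocallyRingedSpace.{u}} (π : W ⟶ HensSch.specLRS A) (a : A)
    (w : W.toTopCat) :
    w ∈ HensSch.dOpen π a ↔
      IsUnit (W.presheaf.germ ((Opens.map π.base).obj ⊤) w trivial (gs π a)) := by
  have h1 : HensSch.dOpen π a = (Opens.map π.base).obj
      ((Spec (CommRingCat.of A)).basicOpen ((Scheme.ΓSpecIso (CommRingCat.of A)).inv a)) := by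
    rw [basicOpen_eq_of_affine]
  rw [h1]
  have h2 := LocallyRingedSpace.preimage_basicOpen π
    ((Scheme.ΓSpecIso (CommRingCat.of A)).inv a)
  erw [h2]
  exact RingedSpace.mem_basicOpen W.toRingedSpace
    (U := (Opens.map π.base).obj ⊤) (gs π a) w trivial

/-- `secMap` is the restriction of `gs`. -/
theorem secMap_eq {W : LocallyRingedSpace.{u}} (π : W ⟶ HensSch.specLRS A)
    (O : Opens (PrimeSpectrum A)) (a : A) :
    HensSch.secMap π O a =
      W.presheaf.map ((Opens.map π.base).map (homOfLE (le_top : O ≤ ⊤))).op (gs π a) := rfl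

theorem germ_secMap {W : LocallyRingedSpace.{u}} (π : W ⟶ HensSch.specLRS A)
    (O : Opens (PrimeSpectrum A)) (a : A) (w : W.toTopCat) (hw : w ∈ (Opens.map π.base).obj O) :
    W.presheaf.germ _ w hw (HensSch.secMap π O a) =
      W.presheaf.germ ((Opens.map π.base).obj ⊤) w trivial (gs π a) := by
  rw [secMap_eq]
  exact TopCat.Presheaf.germ_res_apply _ _ _ _ _

/-- distinguished opens form a basis of an affine Henselian spectrum. -/
theorem exists_dOpen_le {W : LocallyRingedSpace.{u}} (π : W ⟶ HensSch.specLRS A)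
    (hπ : Topology.IsInducing π.base) (w : W.toTopCat) (O : Opens W.toTopCat) (hw : w ∈ O) :
    ∃ f : A, w ∈ HensSch.dOpen π f ∧ HensSch.dOpen π f ≤ O := by
  obtain ⟨O', hO', hOO'⟩ := hπ.isOpen_iff.mp O.2
  have hw' : π.base w ∈ O' := by
    have : w ∈ π.base ⁻¹' O' := hOO' ▸ hw
    exact this
  obtain ⟨_, ⟨f, rfl⟩, hwf, hfO'⟩ :=
    PrimeSpectrum.isTopologicalBasis_basic_opens.exists_subset_of_mem_open hw' hO'
  refine ⟨f, hwf, ?_⟩
  intro y hy
  have : y ∈ π.base ⁻¹' O' := hfO' hy
  rw [hOO'] at this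
  exact this

/-- Sections in `I · O(dOpen f)` are non-units at every point, when `π` lands in `V(I)`. -/
theorem not_isUnit_germ_of_mem_map {W : LocallyRingedSpace.{u}} (π : W ⟶ HensSch.specLRS A)
    (I : Ideal A) (hrange : Set.range π.base ⊆ PrimeSpectrum.zeroLocus (I : Set A))
    (f : A) (s : W.presheaf.obj (op (HensSch.dOpen π f)))
    (hs : s ∈ I.map (HensSch.secMap π (PrimeSpectrum.basicOpen f)))
    (w : W.toTopCat) (hw : w ∈ HensSch.dOpen π f) :
    ¬ IsUnit (W.presheaf.germ _ w hw s) := by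
  have hle : I.map (HensSch.secMap π (PrimeSpectrum.basicOpen f)) ≤
      Ideal.comap (W.presheaf.germ (HensSch.dOpen π f) w hw).hom
        (IsLocalRing.maximalIdeal (W.presheaf.stalk w)) := by
    rw [Ideal.map_le_iff_le_comap]
    intro a ha
    rw [Ideal.mem_comap, Ideal.mem_comap, IsLocalRing.mem_maximalIdeal, mem_nonunits_iff]
    show ¬ IsUnit (W.presheaf.germ _ w hw (HensSch.secMap π (PrimeSpectrum.basicOpen f) a))
    rw [germ_secMap, ← mem_dOpen_iff]
    intro hwa
    have hz : π.base w ∈ PrimeSpectrum.zeroLocus (I : Set A) := hrange ⟨w, rfl⟩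
    exact hwa (hz ha)
  have := hle hs
  rw [Ideal.mem_comap, IsLocalRing.mem_maximalIdeal, mem_nonunits_iff] at this
  exact this

theorem isUnit_germ_congr {X : LocallyRingedSpace.{u}} {O : Opens X.toTopCat}
    (s : X.presheaf.obj (op O)) {x x' : X.toTopCat} (h : x = x') (hx : x ∈ O) (hx' : x' ∈ O) :
    IsUnit (X.presheaf.germ O x hx s) ↔ IsUnit (X.presheaf.germ O x' hx' s) := by
  subst h; rfl

/-- Transport of a section along two open immersions with comparable images, keeping track of the
locus where it is invertible. -/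
theorem exists_section_isUnit_iff {X U V : LocallyRingedSpace.{u}}
    (iU : U ⟶ X) [LocallyRingedSpace.IsOpenImmersion iU]
    (iV : V ⟶ X) [LocallyRingedSpace.IsOpenImmersion iV]
    (N : Opens U.toTopCat) (W : Opens V.toTopCat)
    (hNW : iU.base '' (N : Set U.toTopCat) ⊆ iV.base '' (W : Set V.toTopCat))
    (gV : V.presheaf.obj (op W)) :
    ∃ γ : U.presheaf.obj (op N), ∀ (u : U.toTopCat) (hu : u ∈ N) (v : V.toTopCat) (hv : v ∈ W),
      iU.base u = iV.base v →
        (IsUnit (U.presheaf.germ N u hu γ) ↔ IsUnit (V.presheaf.germ W v hv gV)) := by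
  let fU := PresheafedSpace.IsOpenImmersion.opensFunctor iU.toHom
  let fV := PresheafedSpace.IsOpenImmersion.opensFunctor iV.toHom
  let gX : X.presheaf.obj (op (fV.obj W)) := LocallyRingedSpace.IsOpenImmersion.invApp iV W gV
  have hle : fU.obj N ≤ fV.obj W := hNW
  have hN : N ≤ (Opens.map iU.base).obj (fU.obj N) := fun y hy => ⟨y, hy, rfl⟩
  refine ⟨U.presheaf.map (homOfLE hN).op
    (iU.c.app (op (fU.obj N)) (X.presheaf.map (homOfLE hle).op gX)), ?_⟩
  intro u hu v hv huv
  have huN : iU.base u ∈ fU.obj N := ⟨u, hu, rfl⟩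
  have hvW : iV.base v ∈ fV.obj W := ⟨v, hv, rfl⟩
  have e1 : U.presheaf.germ N u hu (U.presheaf.map (homOfLE hN).op
      (iU.c.app (op (fU.obj N)) (X.presheaf.map (homOfLE hle).op gX))) =
      iU.stalkMap u (X.presheaf.germ (fV.obj W) (iU.base u) (hle huN) gX) := by
    rw [TopCat.Presheaf.germ_res_apply, ← LocallyRingedSpace.stalkMap_germ_apply iU (fU.obj N) u huN,
      TopCat.Presheaf.germ_res_apply]
  have e2 : V.presheaf.germ W v hv gV =
      iV.stalkMap v (X.presheaf.germ (fV.obj W) (iV.base v) hvW gX) := by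
    rw [LocallyRingedSpace.stalkMap_germ_apply iV (fV.obj W) v hvW]
    have := LocallyRingedSpace.IsOpenImmersion.invApp_app_apply iV W gV
    erw [this]
    exact (TopCat.Presheaf.germ_res_apply' _ _ _ _ _).symm
  rw [e1, e2]
  refine (isUnit_map_iff (iU.stalkMap u).hom _).trans (Iff.trans ?_
    (isUnit_map_iff (iV.stalkMap v).hom _).symm)
  exact isUnit_germ_congr gX huv _ _

theorem isUnit_iff_of_sub_not_isUnit {R : Type u} [CommRing R] [IsLocalRing R] {x y : R}
    (h : ¬ IsUnit (x - y)) : IsUnit x ↔ IsUnit y := by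
  have hm : x - y ∈ IsLocalRing.maximalIdeal R := (IsLocalRing.mem_maximalIdeal _).mpr h
  have key : x ∈ IsLocalRing.maximalIdeal R ↔ y ∈ IsLocalRing.maximalIdeal R := by
    constructor
    · intro hx
      exact (Submodule.sub_mem_iff_right _ hx).mp hm
    · intro hy
      exact (Submodule.sub_mem_iff_left _ hy).mp hm
  rw [IsLocalRing.mem_maximalIdeal, IsLocalRing.mem_maximalIdeal, mem_nonunits_iff,
    mem_nonunits_iff] at key
  exact not_iff_not.mp key

end Groth.Agent.Lib.Helper21.HensSch2
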