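import Mathlib
import Groth.Agent.Lib.Helper21.QuasiReg

/-!
# Hilbert function of `A/I^{s+1}` for an ideal generated by `r` elements with `A/I` simple,
and its relation with quasi-regularity.
-/

set_option autoImplicit false
universe u

namespace Groth.Agent.Lib.Helper21.HilbReg
open MvPolynomial Groth.Agent.Lib.Helper21.QuasiReg

variable {A : Type u} [CommRing A] {r : ℕ} (x : Fin r → A)

/-- exponent vectors of total degree `s` in `r` variables -/
abbrev Mon (r s : ℕ) := ↥(Finset.finsuppAntidiag (Finset.univ : Finset (Fin r)) s)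

lemma card_Mon (r s : ℕ) : Fintype.card (Mon r s) = (r + s - 1).choose s := by
  rw [Fintype.card_coe, Finset.card_finsuppAntidiag_nat_eq_choose]
  simp

lemma mem_Mon_iff {s : ℕ} (α : Fin r →₀ ℕ) :
    α ∈ Finset.finsuppAntidiag (Finset.univ : Finset (Fin r)) s ↔ ∑ i, α i = s := by
  rw [Finset.mem_finsuppAntidiag]
  simp

/-- the monomial `x^α` -/
def mono (α : Fin r →₀ ℕ) : A := ∏ i, x i ^ α i

/-- `c ↦ Σ_α c_α x^α` -/
noncomputable def Θ (s : ℕ) : (Mon r s → A) →ₗ[A] A :=
  Fintype.linearCombination A (fun α : Mon r s => mono x α.1)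

lemma Θ_apply (s : ℕ) (c : Mon r s → A) : Θ x s c = ∑ α, c α * mono x α.1 := by
  simp [Θ, Fintype.linearCombination_apply]

/-- coefficient vector of a polynomial -/
def coeffVec (s : ℕ) (P : MvPolynomial (Fin r) A) : Mon r s → A := fun α => coeff α.1 P

lemma eval_eq_Θ {s : ℕ} {P : MvPolynomial (Fin r) A} (hP : P.IsHomogeneous s) :
    eval x P = Θ x s (coeffVec s P) := by
  classical
  rw [Θ_apply, eval_eq']
  have hsub : P.support ⊆ Finset.finsuppAntidiag (Finset.univ : Finset (Fin r)) s := by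
    intro α hα
    rw [mem_Mon_iff]
    have := hP (mem_support_iff.mp hα)
    rw [← this, ← Finsupp.degree_eq_sum]
    exact congrFun (congrArg DFunLike.coe Finsupp.degree_eq_weight_one) α
  rw [Finset.sum_subset hsub]
  · rw [← Finset.sum_coe_sort]
    rfl
  · intro α _ hα
    rw [notMem_support_iff.mp hα, zero_mul]

/-- polynomial with prescribed coefficient vector -/
noncomputable def polyOf (s : ℕ) (c : Mon r s → A) : MvPolynomial (Fin r) A :=
  ∑ α : Mon r s, monomial α.1 (c α)

lemma polyOf_isHomogeneous (s : ℕ) (c : Mon r s → A) : (polyOf s c).IsHomogeneous s := by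
  refine IsHomogeneous.sum _ _ _ fun α _ => ?_
  refine isHomogeneous_monomial _ ?_
  have := (mem_Mon_iff α.1).mp α.2
  rw [Finsupp.degree_eq_sum]
  exact this

lemma coeff_polyOf (s : ℕ) (c : Mon r s → A) (α : Mon r s) : coeff α.1 (polyOf s c) = c α := by
  classical
  rw [polyOf, coeff_sum]
  rw [Finset.sum_eq_single α]
  · simp
  · intro β _ hβ
    rw [coeff_monomial, if_neg]
    intro h; exact hβ (Subtype.ext h)
  · intro h; exact absurd (Finset.mem_univ _) h

lemma eval_polyOf (s : ℕ) (c : Mon r s → A) : eval x (polyOf s c) = Θ x s c := by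
  rw [Θ_apply, polyOf, map_sum]
  refine Finset.sum_congr rfl fun α _ => ?_
  rw [eval_monomial, Finsupp.prod_fintype _ _ (fun i => pow_zero _)]
  rfl

lemma range_Θ (s : ℕ) :
    LinearMap.range (Θ x s) = Ideal.span (Set.range x) ^ s := by
  apply le_antisymm
  · rintro _ ⟨c, rfl⟩
    rw [← eval_polyOf]
    exact eval_mem_pow x (polyOf_isHomogeneous s c)
  · intro y hy
    obtain ⟨P, hP, rfl⟩ := exists_homogeneous_eval x s y hy
    exact ⟨coeffVec s P, (eval_eq_Θ x hP).symm⟩

/-- quasi-regularity in terms of `Θ` -/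
lemma qr_iff : QR x ↔ ∀ (s : ℕ) (c : Mon r s → A),
    Θ x s c ∈ Ideal.span (Set.range x) ^ (s + 1) → ∀ α, c α ∈ Ideal.span (Set.range x) := by
  constructor
  · intro h s c hc α
    have := h s (polyOf s c) (polyOf_isHomogeneous s c) (by rw [eval_polyOf]; exact hc) α.1
    rwa [coeff_polyOf] at this
  · intro h s P hP hev α
    by_cases hα : α ∈ Finset.finsuppAntidiag (Finset.univ : Finset (Fin r)) s
    · rw [eval_eq_Θ x hP] at hev
      exact h s (coeffVec s P) hev ⟨α, hα⟩
    · have : coeff α P = 0 := by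
        by_contra hne
        apply hα
        rw [mem_Mon_iff]
        have := hP hne
        rw [← this, ← Finsupp.degree_eq_sum]
        exact congrFun (congrArg DFunLike.coe Finsupp.degree_eq_weight_one) α
      rw [this]; exact Ideal.zero_mem _

section length

variable (I : Ideal A) [hmax : I.IsMaximal] (hI : Ideal.span (Set.range x) = I)

/-- `Φ_s : c ↦ [Σ c_α x^α] ∈ A/I^{s+1}` -/
noncomputable def Φ (s : ℕ) : (Mon r s → A) →ₗ[A] (A ⧸ I ^ (s + 1)) :=
  (Submodule.mkQ (I ^ (s + 1))) ∘ₗ Θ x s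

/-- coordinatewise reduction modulo `I` -/
noncomputable def redI (s : ℕ) : (Mon r s → A) →ₗ[A] (Mon r s → A ⧸ I) :=
  (Submodule.mkQ I).compLeft (Mon r s)

lemma redI_surjective (s : ℕ) : Function.Surjective (redI (r := r) I s) := by
  intro c
  choose d hd using fun α => Submodule.mkQ_surjective I (c α)
  exact ⟨d, funext hd⟩

lemma mem_ker_redI {s : ℕ} (c : Mon r s → A) : c ∈ LinearMap.ker (redI I s) ↔ ∀ α, c α ∈ I := by
  rw [LinearMap.mem_ker]
  constructor
  · intro h α
    have := congrFun h α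
    simpa [redI, Ideal.Quotient.eq_zero_iff_mem] using this
  · intro h
    funext α
    simpa [redI, Ideal.Quotient.eq_zero_iff_mem] using h α

include hI in
lemma ker_redI_le (s : ℕ) : LinearMap.ker (redI I s) ≤ LinearMap.ker (Φ x I s) := by
  intro c hc
  rw [mem_ker_redI] at hc
  rw [LinearMap.mem_ker, Φ, LinearMap.comp_apply, Submodule.mkQ_apply,
    Submodule.Quotient.mk_eq_zero, Θ_apply]
  refine Ideal.sum_mem _ fun α _ => ?_
  rw [pow_succ']
  refine Ideal.mul_mem_mul (hc α) ?_
  have h1 : mono x α.1 ∈ Ideal.span (Set.range x) ^ (∑ i, α.1 i) := prod_pow_mem x α.1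
  rw [(mem_Mon_iff α.1).mp α.2, hI] at h1
  exact h1

/-- the induced map `Φ̄_s : (Mon s → A/I) → A/I^{s+1}` -/
noncomputable def Φbar (s : ℕ) : (Mon r s → A ⧸ I) →ₗ[A] (A ⧸ I ^ (s + 1)) :=
  (Submodule.liftQ _ (Φ x I s) (ker_redI_le x I hI s)) ∘ₗ
    (LinearMap.quotKerEquivOfSurjective (redI I s) (redI_surjective I s)).symm.toLinearMap

lemma Φbar_redI (s : ℕ) (c : Mon r s → A) : Φbar x I hI s (redI I s c) = Φ x I s c := by
  rw [Φbar, LinearMap.comp_apply]
  have : (LinearMap.quotKerEquivOfSurjective (redI I s) (redI_surjective I s)).symm (redI I s c) =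
      Submodule.Quotient.mk c := by
    rw [LinearEquiv.symm_apply_eq]
    rfl
  rw [LinearEquiv.coe_coe, this]
  rfl

lemma range_Φbar (s : ℕ) : LinearMap.range (Φbar x I hI s) = LinearMap.range (Φ x I s) := by
  apply le_antisymm
  · rintro _ ⟨c, rfl⟩
    obtain ⟨d, rfl⟩ := redI_surjective I s c
    exact ⟨d, (Φbar_redI x I hI s d).symm⟩
  · rintro _ ⟨d, rfl⟩
    exact ⟨redI I s d, Φbar_redI x I hI s d⟩

include hI in
lemma range_Φ (s : ℕ) : LinearMap.range (Φ x I s) =
    LinearMap.ker (Submodule.factor (Ideal.pow_le_pow_right (Nat.le_succ s)) :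
      (A ⧸ I ^ (s + 1)) →ₗ[A] (A ⧸ I ^ s)) := by
  have hr : LinearMap.range (Θ x s) = I ^ s := by rw [range_Θ, hI]
  ext z
  obtain ⟨y, rfl⟩ := Submodule.mkQ_surjective _ z
  rw [LinearMap.mem_ker, Submodule.factor_mk, Submodule.mkQ_apply, Submodule.mkQ_apply,
    Submodule.Quotient.mk_eq_zero, ← hr]
  constructor
  · rintro ⟨c, hc⟩
    rw [Φ, LinearMap.comp_apply, Submodule.mkQ_apply,
      Submodule.Quotient.eq] at hc
    have h1 : Θ x s c - y ∈ LinearMap.range (Θ x s) := by
      rw [hr]
      exact Ideal.pow_le_pow_right (Nat.le_succ s) hc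
    have h2 : Θ x s c ∈ LinearMap.range (Θ x s) := ⟨c, rfl⟩
    have := Submodule.sub_mem _ h2 h1
    rwa [sub_sub_cancel] at this
  · rintro ⟨c, rfl⟩
    exact ⟨c, rfl⟩

include hI in
/-- additivity along `0 → I^s/I^{s+1} → A/I^{s+1} → A/I^s → 0` -/
lemma length_succ (s : ℕ) : Module.length A (A ⧸ I ^ (s + 1)) =
    Module.length A (LinearMap.range (Φ x I s)) + Module.length A (A ⧸ I ^ s) := by
  refine Module.length_eq_add_of_exact (LinearMap.range (Φ x I s)).subtype
    (Submodule.factor (Ideal.pow_le_pow_right (Nat.le_succ s)))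
    (Submodule.injective_subtype _) (Submodule.factor_surjective _) ?_
  rw [LinearMap.exact_iff, Submodule.range_subtype, range_Φ x I hI]

lemma length_source (s : ℕ) : Module.length A (Mon r s → A ⧸ I) = ((r + s - 1).choose s : ℕ∞) := by
  have : IsSimpleModule A (A ⧸ I) := isSimpleModule_iff_isCoatom.mpr (Ideal.isMaximal_def.mp hmax)
  rw [Module.length_pi, Module.length_eq_one, mul_one, ENat.card_eq_coe_fintype_card, card_Mon]

/-- `card = length (ker Φ̄) + length (range Φ)` -/
lemma length_ker_add (s : ℕ) : ((r + s - 1).choose s : ℕ∞) =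
    Module.length A (LinearMap.ker (Φbar x I hI s)) +
      Module.length A (LinearMap.range (Φ x I s)) := by
  rw [← length_source I s, ← range_Φbar x I hI]
  exact Module.length_eq_add_of_exact (LinearMap.ker (Φbar x I hI s)).subtype
    (Φbar x I hI s).rangeRestrict (Submodule.injective_subtype _)
    (LinearMap.surjective_rangeRestrict _) (by
      rw [LinearMap.exact_iff, Submodule.range_subtype, LinearMap.ker_rangeRestrict])

lemma ker_Φbar_eq_bot_iff (s : ℕ) : LinearMap.ker (Φbar x I hI s) = ⊥ ↔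
    ∀ c : Mon r s → A, Θ x s c ∈ I ^ (s + 1) → ∀ α, c α ∈ I := by
  constructor
  · intro h c hc
    rw [← mem_ker_redI, LinearMap.mem_ker]
    have : redI I s c ∈ LinearMap.ker (Φbar x I hI s) := by
      rw [LinearMap.mem_ker, Φbar_redI, Φ, LinearMap.comp_apply, Submodule.mkQ_apply,
        Submodule.Quotient.mk_eq_zero]
      exact hc
    rw [h] at this
    exact this
  · intro h
    rw [eq_bot_iff]
    intro d hd
    obtain ⟨c, rfl⟩ := redI_surjective I s d
    rw [LinearMap.mem_ker, Φbar_redI, Φ, LinearMap.comp_apply, Submodule.mkQ_apply,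
      Submodule.Quotient.mk_eq_zero] at hd
    rw [Submodule.mem_bot]
    exact (mem_ker_redI I c).mpr (h c hd)

/-- quasi-regular ⇔ all `Φ̄_s` injective -/
lemma qr_iff_ker : QR x ↔ ∀ s, LinearMap.ker (Φbar x I hI s) = ⊥ := by
  rw [qr_iff]
  simp_rw [ker_Φbar_eq_bot_iff, hI]

end length

end Groth.Agent.Lib.Helper21.HilbReg
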