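import Mathlib
import Groth.Agent.Lib.Helper21.ClosedGen5

/-!
# Helper21 — JacDesc1: the Jacobson property descends along faithfully flat ring maps of finite type
-/

set_option autoImplicit false
set_option backward.isDefEq.respectTransparency.types false
set_option linter.style.haveILetI false

namespace Groth.Agent.Lib.Helper21.JacDesc

open Groth.Agent.Lib.Helper21.ClosedGen

universe u

/-- a prime containing `𝔭`, avoiding `f`, and maximal for these properties. -/
theorem exists_prime_maximal_avoiding {A : Type u} [CommRing A] (𝔭 : Ideal A) (f : A)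
    (hf : ∀ n : ℕ, f ^ n ∉ 𝔭) :
    ∃ p : Ideal A, p.IsPrime ∧ 𝔭 ≤ p ∧ f ∉ p ∧ ∀ q : Ideal A, p < q → ∃ n : ℕ, f ^ n ∈ q := by
  have hdisj : Disjoint (𝔭 : Set A) (Submonoid.powers f : Set A) := by
    rw [Set.disjoint_left]
    rintro _ h ⟨n, rfl⟩
    exact hf n h
  have ⟨p, hIp, hp⟩ := zorn_le_nonempty₀ {p : Ideal A | Disjoint (p : Set A) (Submonoid.powers f)}
    (fun c hc hc' x hx ↦ ?_) 𝔭 hdisj
  · refine ⟨p, Ideal.isPrime_of_maximally_disjoint _ _ hp.1 (fun _ ↦ hp.not_prop_of_gt), hIp, ?_, ?_⟩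
    · intro h
      exact Set.disjoint_left.1 hp.1 h ⟨1, pow_one f⟩
    · intro q hq
      have h1 : ¬ Disjoint (q : Set A) (Submonoid.powers f : Set A) := hp.not_prop_of_gt hq
      rw [Set.not_disjoint_iff] at h1
      obtain ⟨_, hxq, ⟨n, rfl⟩⟩ := h1
      exact ⟨n, hxq⟩
  cases isEmpty_or_nonempty c
  · exact ⟨𝔭, hdisj, fun J hJ ↦ isEmptyElim (⟨J, hJ⟩ : c)⟩
  refine ⟨sSup c, Set.disjoint_left.mpr fun x hx ↦ ?_, fun _ ↦ le_sSup⟩
  have ⟨p, hp⟩ := (Submodule.mem_iSup_of_directed _ hc'.directed).mp (sSup_eq_iSup' c ▸ hx)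
  exact Set.disjoint_left.mp (hc p.2) hp

set_option maxHeartbeats 1600000 in
set_option synthInstance.maxHeartbeats 200000 in
theorem isJacobsonRing_of_faithfullyFlat_finiteType (A B : Type u) [CommRing A] [CommRing B]
    [Algebra A B] [Module.FaithfullyFlat A B] [Algebra.FiniteType A B] [IsJacobsonRing B] :
    IsJacobsonRing A := by
  classical
  rw [isJacobsonRing_iff_prime_eq]
  intro 𝔭 h𝔭
  refine le_antisymm ?_ Ideal.le_jacobson
  intro f hfJ
  by_contra hf𝔭
  have hfpow : ∀ n : ℕ, f ^ n ∉ 𝔭 := fun n h => hf𝔭 (h𝔭.mem_of_pow_mem n h)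
  obtain ⟨p, hpp, h𝔭p, hfp, hpmax⟩ := exists_prime_maximal_avoiding 𝔭 f hfpow
  haveI := hpp
  -- `p` is not maximal (else `f ∈ p`)
  have hpnm : ¬ p.IsMaximal := by
    intro hm
    apply hfp
    rw [Ideal.jacobson, Ideal.mem_sInf] at hfJ
    exact hfJ ⟨h𝔭p, hm⟩
  obtain ⟨𝔪, h𝔪max, hp𝔪⟩ := Ideal.exists_le_maximal p hpp.ne_top
  have hp𝔪lt : p < 𝔪 := lt_of_le_of_ne hp𝔪 (fun h => hpnm (h ▸ h𝔪max))
  -- a maximal ideal of `B` over `𝔪`
  have h𝔪B : 𝔪.map (algebraMap A B) ≠ ⊤ := by
    intro h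
    have h1 := Ideal.comap_map_eq_self_of_faithfullyFlat (B := B) 𝔪
    rw [h, Ideal.comap_top] at h1
    exact h𝔪max.ne_top h1.symm
  obtain ⟨𝔮, h𝔮max, h𝔪𝔮⟩ := Ideal.exists_le_maximal _ h𝔪B
  haveI := h𝔮max
  haveI : 𝔮.IsPrime := h𝔮max.isPrime
  have h𝔮c : 𝔮.comap (algebraMap A B) = 𝔪 := by
    symm
    apply h𝔪max.eq_of_le (Ideal.comap_ne_top _ h𝔮max.ne_top)
    rw [← Ideal.map_le_iff_le_comap]
    exact h𝔪𝔮
  haveI : 𝔪.IsMaximal := h𝔪max
  haveI : 𝔮.LiesOver 𝔪 := ⟨h𝔮c.symm⟩
  -- going down to `p`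
  obtain ⟨𝔮₀, h𝔮₀le, h𝔮₀p, h𝔮₀o⟩ :=
    Ideal.exists_ideal_le_liesOver_of_le (p := p) (q := 𝔪) 𝔮 hp𝔪
  haveI := h𝔮₀p
  have h𝔮₀c : 𝔮₀.comap (algebraMap A B) = p := (h𝔮₀o.over).symm
  -- algebraicity of `B/𝔮` over `A/𝔪`
  have halg : AlgMod (𝔮.comap (algebraMap A B)) 𝔮 := by
    rw [h𝔮c, algMod_iff]
    letI : Field (A ⧸ 𝔪) := Ideal.Quotient.field 𝔪
    letI : Field (B ⧸ 𝔮) := Ideal.Quotient.field 𝔮
    haveI : Algebra.FiniteType A (B ⧸ 𝔮) := inferInstance
    haveI : Algebra.FiniteType (A ⧸ 𝔪) (B ⧸ 𝔮) :=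
      Algebra.FiniteType.of_restrictScalars_finiteType A (A ⧸ 𝔪) (B ⧸ 𝔮)
    haveI : Module.Finite (A ⧸ 𝔪) (B ⧸ 𝔮) := finite_of_finite_type_of_isJacobsonRing _ _
    exact Algebra.IsAlgebraic.of_finite _ _
  have hne : 𝔮₀.comap (algebraMap A B) ≠ 𝔮.comap (algebraMap A B) := by
    rw [h𝔮₀c, h𝔮c]
    exact hp𝔪lt.ne
  have h1 : (1 : B) ∉ 𝔮₀ := fun h => h𝔮₀p.ne_top ((Ideal.eq_top_iff_one _).2 h)
  obtain ⟨q₁, hq₁p, h𝔮₀q₁, hq₁𝔮, hq₁c, -, halg₁⟩ :=
    exists_prime_between_algMod A B 𝔮₀ 𝔮 h𝔮₀le hne halg 1 h1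
  haveI := hq₁p
  rw [h𝔮₀c] at hq₁c halg₁
  -- `f` lies in every maximal ideal containing `q₁`
  have hfq₁ : algebraMap A B f ∈ q₁ := by
    have hJ : q₁.jacobson = q₁ := IsJacobsonRing.out inferInstance hq₁p.isRadical
    rw [← hJ, Ideal.jacobson, Ideal.mem_sInf]
    rintro M ⟨hq₁M, hMmax⟩
    haveI := hMmax
    have hMne : M ≠ q₁ := by
      intro h
      have h2 : q₁ = 𝔮 := by
        rw [← h] at hq₁𝔮 ⊢
        exact hMmax.eq_of_le h𝔮max.ne_top hq₁𝔮
      rw [h2, h𝔮c] at hq₁c
      exact hp𝔪lt.ne hq₁c.symm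
    obtain ⟨c, hcM, hcq₁⟩ : ∃ c ∈ M, c ∉ q₁ := by
      by_contra hcon
      push Not at hcon
      exact hMne (le_antisymm hcon hq₁M)
    obtain ⟨P, ⟨n, hn⟩, hP⟩ := halg₁ c
    -- the contraction of `M` strictly contains `p`
    have hlt : p < M.comap (algebraMap A B) := by
      have hle : p ≤ M.comap (algebraMap A B) := by
        rw [← hq₁c]
        exact Ideal.comap_mono hq₁M
      have key : ∀ (n : ℕ) (P : Polynomial A), P.coeff n ∉ p →
          Polynomial.eval₂ (algebraMap A B) c P ∈ q₁ →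
          ∃ a : A, a ∈ M.comap (algebraMap A B) ∧ a ∉ p := by
        intro n
        induction n with
        | zero =>
          intro P hP0 hPc
          refine ⟨P.coeff 0, ?_, hP0⟩
          rw [Ideal.mem_comap]
          have h3 : Polynomial.eval₂ (algebraMap A B) c P =
              Polynomial.eval₂ (algebraMap A B) c P.divX * c + algebraMap A B (P.coeff 0) := by
            conv_lhs => rw [← Polynomial.divX_mul_X_add P]
            rw [Polynomial.eval₂_add, Polynomial.eval₂_mul, Polynomial.eval₂_X, Polynomial.eval₂_C]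
          have h4 : algebraMap A B (P.coeff 0) =
              Polynomial.eval₂ (algebraMap A B) c P -
                Polynomial.eval₂ (algebraMap A B) c P.divX * c := by
            rw [h3]; ring
          rw [h4]
          exact M.sub_mem (hq₁M hPc) (M.mul_mem_left _ hcM)
        | succ n ih =>
          intro P hPn hPc
          by_cases hP0 : P.coeff 0 ∈ p
          · apply ih P.divX
            · rw [Polynomial.coeff_divX]
              exact hPn
            · have h3 : Polynomial.eval₂ (algebraMap A B) c P =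
                  Polynomial.eval₂ (algebraMap A B) c P.divX * c + algebraMap A B (P.coeff 0) := by
                conv_lhs => rw [← Polynomial.divX_mul_X_add P]
                rw [Polynomial.eval₂_add, Polynomial.eval₂_mul, Polynomial.eval₂_X,
                  Polynomial.eval₂_C]
              have h5 : algebraMap A B (P.coeff 0) ∈ q₁ := by
                rw [← Ideal.mem_comap, hq₁c]
                exact hP0
              have h6 : Polynomial.eval₂ (algebraMap A B) c P.divX * c ∈ q₁ := by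
                have h7 : Polynomial.eval₂ (algebraMap A B) c P.divX * c =
                    Polynomial.eval₂ (algebraMap A B) c P - algebraMap A B (P.coeff 0) := by
                  rw [h3]; ring
                rw [h7]
                exact q₁.sub_mem hPc h5
              exact (hq₁p.mem_or_mem h6).resolve_right hcq₁
          · refine ⟨P.coeff 0, ?_, hP0⟩
            rw [Ideal.mem_comap]
            have h3 : Polynomial.eval₂ (algebraMap A B) c P =
                Polynomial.eval₂ (algebraMap A B) c P.divX * c + algebraMap A B (P.coeff 0) := by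
              conv_lhs => rw [← Polynomial.divX_mul_X_add P]
              rw [Polynomial.eval₂_add, Polynomial.eval₂_mul, Polynomial.eval₂_X,
                Polynomial.eval₂_C]
            have h4 : algebraMap A B (P.coeff 0) =
                Polynomial.eval₂ (algebraMap A B) c P -
                  Polynomial.eval₂ (algebraMap A B) c P.divX * c := by
              rw [h3]; ring
            rw [h4]
            exact M.sub_mem (hq₁M hPc) (M.mul_mem_left _ hcM)
      obtain ⟨a, haM, hap⟩ := key n P hn hP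
      exact lt_of_le_of_ne hle (fun h => hap (h ▸ haM))
    obtain ⟨k, hk⟩ := hpmax _ hlt
    rw [Ideal.mem_comap, map_pow] at hk
    exact hMmax.isPrime.mem_of_pow_mem k hk
  apply hfp
  rw [← hq₁c, Ideal.mem_comap]
  exact hfq₁

end Groth.Agent.Lib.Helper21.JacDesc
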