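import Mathlib
import Groth.Agent.Lib.Helper22.KAModule
import Groth.Agent.Lib.Helper24.Lattice.Main

/-!
# Krull–Akizuki length bound (part A)

For a one-dimensional Noetherian domain `A` with fraction field `K`, a submodule `M ⊆ K^n` spanning
`K^n` and `x ≠ 0`: `length (M / xM) ≤ n * length (A / xA)`, with equality if `M` is finitely
generated.
-/

set_option autoImplicit false

namespace Groth.Agent.Lib.Helper21.KALen

open Submodule

variable {A : Type*} [CommRing A] {V : Type*} [AddCommGroup V] [Module A V]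

/-- The submodule `xM` of `M`. -/
abbrev xs (x : A) (M : Submodule A V) : Submodule A M :=
  Ideal.span ({x} : Set A) • (⊤ : Submodule A M)

theorem mem_xs {x : A} {M : Submodule A V} (y : M) : y ∈ xs x M ↔ ∃ z : M, x • z = y := by
  rw [xs, Submodule.ideal_span_singleton_smul, Submodule.mem_smul_pointwise_iff_exists]
  simp

/-- The map `M' / xM' → M / xM` induced by an inclusion. -/
noncomputable def qmap (x : A) {M' M : Submodule A V} (h : M' ≤ M) :
    (M' ⧸ xs x M') →ₗ[A] (M ⧸ xs x M) :=
  Submodule.mapQ (xs x M') (xs x M) (Submodule.inclusion h) (by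
    intro y hy
    obtain ⟨z, rfl⟩ := (mem_xs y).1 hy
    rw [Submodule.mem_comap, map_smul]
    exact (mem_xs _).2 ⟨_, rfl⟩)

theorem qmap_mk (x : A) {M' M : Submodule A V} (h : M' ≤ M) (y : M') :
    qmap x h (Submodule.Quotient.mk y) = Submodule.Quotient.mk (Submodule.inclusion h y) := rfl

theorem qmap_surjective (x : A) {M' M : Submodule A V} (h : M' ≤ M)
    (hsup : ∀ y ∈ M, ∃ y' ∈ M', ∃ z ∈ M, y = y' + x • z) : Function.Surjective (qmap x h) := by
  intro w
  obtain ⟨⟨y, hy⟩, rfl⟩ := Submodule.Quotient.mk_surjective _ w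
  obtain ⟨y', hy', z, hz, hyz⟩ := hsup y hy
  refine ⟨Submodule.Quotient.mk ⟨y', hy'⟩, ?_⟩
  rw [qmap_mk, Submodule.Quotient.eq]
  refine (mem_xs _).2 ⟨-⟨z, hz⟩, ?_⟩
  apply Subtype.ext
  simp [hyz]

theorem of_qmap_injective (x : A) {M' M : Submodule A V} (h : M' ≤ M)
    (hinj : Function.Injective (qmap x h)) (y : V) (hy : y ∈ M') (z : V) (hz : z ∈ M)
    (hyz : y = x • z) : ∃ z' ∈ M', y = x • z' := by
  have h0 : qmap x h (Submodule.Quotient.mk ⟨y, hy⟩) = 0 := by
    rw [qmap_mk, Submodule.Quotient.mk_eq_zero]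
    exact (mem_xs _).2 ⟨⟨z, hz⟩, Subtype.ext hyz.symm⟩
  have h1 : (Submodule.Quotient.mk ⟨y, hy⟩ : M' ⧸ xs x M') = 0 :=
    hinj (h0.trans (map_zero _).symm)
  rw [Submodule.Quotient.mk_eq_zero] at h1
  obtain ⟨z', hz'⟩ := (mem_xs _).1 h1
  exact ⟨z'.1, z'.2, by rw [← Submodule.coe_smul, hz']⟩

/-- A surjective linear map between modules of the same finite length is injective. -/
theorem injective_of_surjective_of_length_eq {N₁ N₂ : Type*} [AddCommGroup N₁] [Module A N₁]
    [AddCommGroup N₂] [Module A N₂] (f : N₁ →ₗ[A] N₂) (hf : Function.Surjective f)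
    (hlen : Module.length A N₁ = Module.length A N₂) (hfin : Module.length A N₂ ≠ ⊤) :
    Function.Injective f := by
  have h1 := Module.length_eq_add_of_exact (LinearMap.ker f).subtype f
    (Submodule.injective_subtype _) hf (LinearMap.exact_subtype_ker_map f)
  rw [hlen] at h1
  have h2 : Module.length A (LinearMap.ker f) = 0 := by
    have : (0 : ℕ∞) + Module.length A N₂ = Module.length A (LinearMap.ker f) +
        Module.length A N₂ := by rw [zero_add]; exact h1
    exact (ENat.add_left_injective_of_ne_top hfin this).symm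
  rw [Module.length_eq_zero_iff] at h2
  rw [← LinearMap.ker_eq_bot]
  exact Submodule.eq_bot_of_subsingleton

end Groth.Agent.Lib.Helper21.KALen
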