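import Groth.Agent.Lib.Helper21.KALenA

/-!
# Krull–Akizuki length bound (part B): the lattice case
-/

set_option autoImplicit false

namespace Groth.Agent.Lib.Helper21.KALen

open Submodule

variable {A : Type*} [CommRing A] [IsDomain A] [IsNoetherianRing A]
  {K : Type*} [Field K] [Algebra A K] [IsFractionRing A K]
  {V : Type*} [AddCommGroup V] [Module K V] [Module A V] [IsScalarTower A K V]
  [FiniteDimensional K V]

theorem length_of_isLattice (hA : ringKrullDim A = 1) (M : Submodule A V)
    [Submodule.IsLattice K M] (x : A) (hx : x ≠ 0) :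
    Module.length A (M ⧸ xs x M) =
      (Module.finrank K V : ℕ∞) * Module.length A (A ⧸ Ideal.span ({x} : Set A)) := by
  have : Ring.KrullDimLE 1 A := (Ring.krullDimLE_iff).mpr (le_of_eq hA)
  have hc : algebraMap A K x ≠ 0 :=
    (map_ne_zero_iff _ (IsFractionRing.injective A K)).2 hx
  let φ : V ≃ₗ[K] V := LinearEquiv.smulOfNeZero K V (algebraMap A K x) hc
  have hφ : ∀ v, φ v = x • v := fun v => by
    show algebraMap A K x • v = x • v
    rw [algebraMap_smul]
  obtain ⟨-, h1, -, h3⟩ := Groth.Agent.Lib.Helper24.LatDist.main A hA K V M φ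
  set xM := M.map (φ.toLinearMap.restrictScalars A) with hxM
  have hle : xM ≤ M := by
    rintro _ ⟨m, hm, rfl⟩
    show φ m ∈ M
    rw [hφ]; exact M.smul_mem x hm
  have hinf : M ⊓ xM = xM := inf_eq_right.2 hle
  have hsub : xM.submoduleOf M = xs x M := by
    ext y
    rw [mem_xs]
    constructor
    · intro hy
      obtain ⟨m, hm, hmy⟩ := (Submodule.mem_map.1 (show (y : V) ∈ xM from hy))
      refine ⟨⟨m, hm⟩, Subtype.ext ?_⟩
      rw [← hmy]
      exact (hφ m).symm
    · rintro ⟨z, rfl⟩
      show ((x • z : M) : V) ∈ xM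
      rw [Submodule.coe_smul, ← hφ]
      exact Submodule.mem_map_of_mem z.2
  have hself : xM.submoduleOf xM = ⊤ := by
    ext y
    simp only [Submodule.mem_top, iff_true]
    exact y.2
  rw [hinf, hsub, hself] at h3
  rw [hinf, hsub] at h1
  have h0 : Module.length A (xM ⧸ (⊤ : Submodule A xM)) = 0 := by
    rw [Module.length_eq_zero_iff]
    infer_instance
  rw [h0] at h3
  simp only [ENat.toNat_zero, Nat.cast_zero, sub_zero] at h3
  have hdet : LinearMap.det (φ : V →ₗ[K] V) = algebraMap A K x ^ Module.finrank K V := by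
    have : (φ : V →ₗ[K] V) = algebraMap A K x • LinearMap.id := by
      ext v
      rfl
    rw [this, LinearMap.det_smul, LinearMap.det_id, mul_one]
  have hord : CycAlg.ordFrac A K (algebraMap A K x ^ Module.finrank K V) =
      (Module.finrank K V : ℤ) * ((Ring.ord A x).toNat : ℤ) := by
    have := Groth.Agent.Lib.Helper24.LatDist.ordZ_prod (A := A) (K := K)
      (Finset.range (Module.finrank K V)) (fun _ => algebraMap A K x) (fun _ _ => hc)
    rw [Finset.prod_const, Finset.card_range, Finset.sum_const, Finset.card_range,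
      Groth.Agent.Lib.Helper24.LatDist.ordZ_algebraMap hx, nsmul_eq_mul] at this
    exact this
  rw [hdet, hord] at h3
  have hordfin : Ring.ord A x ≠ ⊤ := Ring.ord_ne_top (mem_nonZeroDivisors_of_ne_zero hx)
  have h4 : (Module.length A (M ⧸ xs x M)).toNat =
      Module.finrank K V * (Ring.ord A x).toNat := by
    have : ((Module.length A (M ⧸ xs x M)).toNat : ℤ) =
        ((Module.finrank K V * (Ring.ord A x).toNat : ℕ) : ℤ) := by
      push_cast
      exact h3
    exact_mod_cast this
  have h5 : Module.length A (M ⧸ xs x M) =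
      ((Module.finrank K V * (Ring.ord A x).toNat : ℕ) : ℕ∞) := by
    rw [← h4, ENat.natCast_toNat h1.ne]
  rw [h5]
  push_cast
  rw [ENat.natCast_toNat hordfin]
  rfl

end Groth.Agent.Lib.Helper21.KALen
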