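import Groth.Agent.Lib.Helper21.KALenB

/-!
# Krull–Akizuki length bound (part C): arbitrary submodules of `K^n`
-/

set_option autoImplicit false

namespace Groth.Agent.Lib.Helper21.KALen

open Submodule

variable {A : Type*} [CommRing A] [IsDomain A] [IsNoetherianRing A]
  {K : Type*} [Field K] [Algebra A K] [IsFractionRing A K] {n : ℕ}

theorem exists_lattice_le (hA : ringKrullDim A = 1) (M : Submodule A (Fin n → K))
    (hspan : Submodule.span K (M : Set (Fin n → K)) = ⊤) (x : A) (hx : x ≠ 0) :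
    ∃ M' : Submodule A (Fin n → K), M' ≤ M ∧ M'.FG ∧
      Submodule.span K (M' : Set (Fin n → K)) = ⊤ ∧
      ∀ y ∈ M, ∃ y' ∈ M', ∃ z ∈ M, y = y' + x • z := by
  classical
  have : Ring.KrullDimLE 1 A := (Ring.krullDimLE_iff).mpr (le_of_eq hA)
  -- a finite spanning subset
  obtain ⟨b, hbM, hbspan, hbli⟩ := exists_linearIndependent K (M : Set (Fin n → K))
  have hbfin : b.Finite := by
    have := hbli.finite
    exact Set.toFinite b
  -- finite generation of the quotient
  have hlen := Groth.Agent.Lib.Helper22.KAModule.length_quotient_ne_top (K := K) n M x hx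
  have hfl : IsFiniteLength A (M ⧸ xs x M) := Module.length_ne_top_iff.1 hlen
  have hnoeth : IsNoetherian A (M ⧸ xs x M) :=
    (isFiniteLength_iff_isNoetherian_isArtinian.1 hfl).1
  obtain ⟨T, hT⟩ := (Module.Finite.fg_top : (⊤ : Submodule A (M ⧸ xs x M)).FG)
  have hlift : ∀ t : M ⧸ xs x M, ∃ m : M, Submodule.Quotient.mk m = t :=
    fun t => Submodule.Quotient.mk_surjective _ t
  choose lift hliftspec using hlift
  let N : Submodule A M := Submodule.span A ((T.image lift : Finset M) : Set M)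
  have hNsup : N ⊔ xs x M = ⊤ := by
    have h1 : N.map (xs x M).mkQ = ⊤ := by
      rw [Submodule.map_span, eq_top_iff, ← hT]
      refine Submodule.span_mono ?_
      intro t ht
      refine ⟨lift t, ?_, hliftspec t⟩
      simp only [Finset.coe_image, Set.mem_image, Finset.mem_coe]
      exact ⟨t, ht, rfl⟩
    have h2 := Submodule.comap_map_eq (xs x M).mkQ N
    rw [h1, Submodule.comap_top, Submodule.ker_mkQ] at h2
    exact h2.symm
  refine ⟨Submodule.span A b ⊔ N.map M.subtype, ?_, ?_, ?_, ?_⟩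
  · refine sup_le (Submodule.span_le.2 hbM) ?_
    rintro _ ⟨m, -, rfl⟩
    exact m.2
  · exact (Submodule.fg_span hbfin).sup ((Submodule.fg_span (Finset.finite_toSet _)).map _)
  · rw [eq_top_iff, ← hspan, ← hbspan]
    refine Submodule.span_mono ?_
    intro v hv
    exact (le_sup_left : Submodule.span A b ≤ _) (Submodule.subset_span hv)
  · intro y hy
    have hy' : (⟨y, hy⟩ : M) ∈ N ⊔ xs x M := by rw [hNsup]; trivial
    obtain ⟨y', hy'N, w, hw, hyw⟩ := Submodule.mem_sup.1 hy'
    obtain ⟨z, hz⟩ := (mem_xs w).1 hw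
    refine ⟨y'.1, (le_sup_right : N.map M.subtype ≤ _) ⟨y', hy'N, rfl⟩, z.1, z.2, ?_⟩
    have := congrArg Subtype.val hyw
    rw [← hz] at this
    simpa using this.symm

theorem length_le (hA : ringKrullDim A = 1) (M : Submodule A (Fin n → K))
    (hspan : Submodule.span K (M : Set (Fin n → K)) = ⊤) (x : A) (hx : x ≠ 0) :
    Module.length A (M ⧸ xs x M) ≤
      (n : ℕ∞) * Module.length A (A ⧸ Ideal.span ({x} : Set A)) := by
  obtain ⟨M', hle, hfg, hspan', hsup⟩ := exists_lattice_le hA M hspan x hx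
  have : Submodule.IsLattice K M' := ⟨hfg, hspan'⟩
  have h1 := length_of_isLattice (K := K) hA M' x hx
  rw [Module.finrank_fin_fun] at h1
  rw [← h1]
  exact Module.length_le_of_surjective (qmap x hle) (qmap_surjective x hle hsup)

theorem length_eq_of_fg (hA : ringKrullDim A = 1) (M : Submodule A (Fin n → K))
    (hspan : Submodule.span K (M : Set (Fin n → K)) = ⊤) (hfg : M.FG) (x : A) (hx : x ≠ 0) :
    Module.length A (M ⧸ xs x M) =
      (n : ℕ∞) * Module.length A (A ⧸ Ideal.span ({x} : Set A)) := by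
  have : Submodule.IsLattice K M := ⟨hfg, hspan⟩
  have h1 := length_of_isLattice (K := K) hA M x hx
  rwa [Module.finrank_fin_fun] at h1

theorem fg_of_length_eq [IsLocalRing A] (hA : ringKrullDim A = 1) (M : Submodule A (Fin n → K))
    (hspan : Submodule.span K (M : Set (Fin n → K)) = ⊤) (x : A)
    (hxm : x ∈ IsLocalRing.maximalIdeal A) (hx : x ≠ 0)
    (heq : Module.length A (M ⧸ xs x M) =
      (n : ℕ∞) * Module.length A (A ⧸ Ideal.span ({x} : Set A))) : M.FG := by
  have : Ring.KrullDimLE 1 A := (Ring.krullDimLE_iff).mpr (le_of_eq hA)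
  obtain ⟨M', hle, hfg, hspan', hsup⟩ := exists_lattice_le hA M hspan x hx
  suffices h : M ≤ M' by
    rw [le_antisymm h hle]; exact hfg
  have hfin : (n : ℕ∞) * Module.length A (A ⧸ Ideal.span ({x} : Set A)) ≠ ⊤ :=
    WithTop.mul_ne_top (ENat.natCast_ne_top n)
      (Ring.ord_ne_top (mem_nonZeroDivisors_of_ne_zero hx))
  intro m hm
  set M'' := M' ⊔ Submodule.span A {m} with hM''
  have hle'' : M'' ≤ M := sup_le hle (by rw [Submodule.span_singleton_le_iff_mem]; exact hm)
  have hfg'' : M''.FG := hfg.sup (Submodule.fg_span_singleton m)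
  have hspan'' : Submodule.span K (M'' : Set (Fin n → K)) = ⊤ := by
    rw [eq_top_iff, ← hspan']
    exact Submodule.span_mono (le_sup_left : M' ≤ M'')
  have : Submodule.IsLattice K M'' := ⟨hfg'', hspan''⟩
  have hsup'' : ∀ y ∈ M, ∃ y' ∈ M'', ∃ z ∈ M, y = y' + x • z := by
    intro y hy
    obtain ⟨y', hy', z, hz, hyz⟩ := hsup y hy
    exact ⟨y', (le_sup_left : M' ≤ M'') hy', z, hz, hyz⟩
  have hlen'' := length_eq_of_fg (K := K) hA M'' hspan'' hfg'' x hx
  have hinj : Function.Injective (qmap x hle'') :=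
    injective_of_surjective_of_length_eq _ (qmap_surjective x hle'' hsup'')
      (hlen''.trans heq.symm) (heq ▸ hfin)
  have hnak : M'' ≤ M' ⊔ Ideal.span ({x} : Set A) • M'' := by
    intro y hy
    obtain ⟨y', hy', z, hz, hyz⟩ := hsup y (hle'' hy)
    have hxz : y - y' ∈ M'' := M''.sub_mem hy ((le_sup_left : M' ≤ M'') hy')
    obtain ⟨z', hz', hzz⟩ := of_qmap_injective x hle'' hinj (y - y') hxz z hz
      (by rw [hyz]; abel)
    rw [Submodule.ideal_span_singleton_smul]
    refine Submodule.mem_sup.2 ⟨y', hy', x • z', ?_, ?_⟩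
    · exact Submodule.smul_mem_pointwise_smul z' x M'' hz'
    · rw [← hzz]; abel
  have hjac : Ideal.span ({x} : Set A) ≤ Ideal.jacobson ⊥ := by
    rw [IsLocalRing.jacobson_eq_maximalIdeal ⊥ bot_ne_top, Ideal.span_le,
      Set.singleton_subset_iff]
    exact hxm
  have := Submodule.le_of_le_smul_of_le_jacobson_bot hfg'' hjac hnak
  exact this ((le_sup_right : Submodule.span A {m} ≤ M'') (Submodule.mem_span_singleton_self m))

end Groth.Agent.Lib.Helper21.KALen
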