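import Mathlib
import Groth.Agent.Lib.Helper21.KALenC
import Groth.Agent.Lib.Helper22.KAFinExt

/-!
# Bridge: a domain `B ⊇ A` with `Frac B` finite over `Frac A` as an `A`-submodule of `K^n`
-/

set_option autoImplicit false
set_option linter.unusedSectionVars false

namespace Groth.Agent.Lib.Helper21.KALen

open Module

universe u

variable {A : Type u} [CommRing A] [IsDomain A] [IsNoetherianRing A]
  {K : Type u} [Field K] [Algebra A K] [IsFractionRing A K]
  (B L : Type u) [CommRing B] [IsDomain B] [Algebra A B] [Field L] [Algebra B L]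
  [IsFractionRing B L] [Algebra K L] [Algebra A L] [IsScalarTower A K L] [IsScalarTower A B L]
  [FiniteDimensional K L]

/-- The embedding `B → K^n`, `n = [L : K]`. -/
noncomputable def emb : B →ₗ[A] (Fin (Module.finrank K L) → K) :=
  ((Module.finBasis K L).equivFun.restrictScalars A).toLinearMap ∘ₗ
    (IsScalarTower.toAlgHom A B L).toLinearMap

theorem emb_apply (b : B) : emb (A := A) (K := K) B L b =
    (Module.finBasis K L).equivFun (algebraMap B L b) := rfl

theorem emb_injective : Function.Injective (emb (A := A) (K := K) B L) := by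
  intro b b' h
  rw [emb_apply, emb_apply] at h
  exact IsFractionRing.injective B L ((Module.finBasis K L).equivFun.injective h)

theorem span_range_emb :
    Submodule.span K ((LinearMap.range (emb (A := A) (K := K) B L) :
      Submodule A (Fin (Module.finrank K L) → K)) : Set (Fin (Module.finrank K L) → K)) =
      ⊤ := by
  have h1 : ((LinearMap.range (emb (A := A) (K := K) B L) :
      Submodule A (Fin (Module.finrank K L) → K)) : Set (Fin (Module.finrank K L) → K)) =
      (Module.finBasis K L).equivFun '' (Set.range (algebraMap B L)) := by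
    ext y
    simp only [LinearMap.coe_range, Set.mem_range, Set.mem_image, exists_exists_eq_and]
    rfl
  rw [h1, ← LinearEquiv.coe_coe, ← Submodule.map_span,
    Groth.Agent.Lib.Helper22.KAFinExt.span_eq_top B K L, Submodule.map_top,
    LinearMap.range_eq_top]
  exact (Module.finBasis K L).equivFun.surjective

/-- `B ≃ range emb`. -/
noncomputable def embEquiv : B ≃ₗ[A] LinearMap.range (emb (A := A) (K := K) B L) :=
  LinearEquiv.ofInjective _ (emb_injective B L)

theorem map_embEquiv (x : A) :
    ((Ideal.span {algebraMap A B x}).restrictScalars A).map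
      (embEquiv (A := A) (K := K) B L).toLinearMap =
      xs x (LinearMap.range (emb (A := A) (K := K) B L)) := by
  ext y
  rw [mem_xs]
  constructor
  · rintro ⟨b, hb, rfl⟩
    rw [SetLike.mem_coe, Submodule.restrictScalars_mem, Ideal.mem_span_singleton'] at hb
    obtain ⟨c, rfl⟩ := hb
    refine ⟨embEquiv B L c, ?_⟩
    rw [← map_smul, Algebra.smul_def, mul_comm]
    rfl
  · rintro ⟨z, rfl⟩
    obtain ⟨c, rfl⟩ := (embEquiv (A := A) (K := K) B L).surjective z
    refine ⟨x • c, ?_, by rw [← map_smul]; rfl⟩
    rw [SetLike.mem_coe, Submodule.restrictScalars_mem, Ideal.mem_span_singleton',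
      Algebra.smul_def]
    exact ⟨c, mul_comm _ _⟩

/-- `B ⧸ xB ≃ M ⧸ xM`. -/
noncomputable def quotEquiv (x : A) :
    (B ⧸ Ideal.span {algebraMap A B x}) ≃ₗ[A]
      (LinearMap.range (emb (A := A) (K := K) B L) ⧸
        xs x (LinearMap.range (emb (A := A) (K := K) B L))) :=
  (Submodule.Quotient.restrictScalarsEquiv A (Ideal.span {algebraMap A B x})).symm ≪≫ₗ
    Submodule.Quotient.equiv _ _ (embEquiv B L) (map_embEquiv B L x)

theorem length_quot_le (hA : ringKrullDim A = 1) (x : A) (hx : x ≠ 0) :
    Module.length A (B ⧸ Ideal.span {algebraMap A B x}) ≤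
      (Module.finrank K L : ℕ∞) * Module.length A (A ⧸ Ideal.span ({x} : Set A)) := by
  rw [(quotEquiv (K := K) B L x).length_eq]
  exact length_le hA _ (span_range_emb B L) x hx

theorem length_quot_eq_iff [IsLocalRing A] (hA : ringKrullDim A = 1) (x : A)
    (hxm : x ∈ IsLocalRing.maximalIdeal A) (hx : x ≠ 0) :
    Module.length A (B ⧸ Ideal.span {algebraMap A B x}) =
      (Module.finrank K L : ℕ∞) * Module.length A (A ⧸ Ideal.span ({x} : Set A)) ↔
      Module.Finite A B := by
  rw [(quotEquiv (K := K) B L x).length_eq]
  constructor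
  · intro h
    have hfg := fg_of_length_eq hA _ (span_range_emb B L) x hxm hx h
    have : Module.Finite A (LinearMap.range (emb (A := A) (K := K) B L)) :=
      Module.Finite.iff_fg.2 hfg
    exact Module.Finite.equiv (embEquiv (A := A) (K := K) B L).symm
  · intro h
    have : Module.Finite A (LinearMap.range (emb (A := A) (K := K) B L)) :=
      Module.Finite.equiv (embEquiv (A := A) (K := K) B L)
    exact length_eq_of_fg hA _ (span_range_emb B L) (Module.Finite.iff_fg.1 this) x hx

end Groth.Agent.Lib.Helper21.KALen
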