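import Mathlib

/-!
# The sum formula `ℓ_A(B/xB) = Σ_m ℓ_A(B/m) ℓ_{B_m}(B_m/xB_m)` when `B/xB` is Artinian
-/

set_option autoImplicit false
set_option linter.unusedSectionVars false

namespace Groth.Agent.Lib.Helper21.KALen

open Module IsLocalRing

universe u

section E3

variable (A B : Type*) [CommRing A] [IsLocalRing A] [CommRing B] [Algebra A B]
  (m : Ideal B) [hm : m.IsMaximal]

theorem isLocalHom_atPrime (hu : m.under A = maximalIdeal A) :
    IsLocalHom (algebraMap A (Localization.AtPrime m)) := by
  refine ⟨fun a ha => ?_⟩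
  by_contra hna
  have h1 : a ∈ maximalIdeal A := (mem_maximalIdeal a).2 hna
  rw [← hu, Ideal.mem_under] at h1
  have h2 : algebraMap B (Localization.AtPrime m) (algebraMap A B a) ∈
      maximalIdeal (Localization.AtPrime m) :=
    (IsLocalization.AtPrime.to_map_mem_maximal_iff _ m _).2 h1
  rw [← IsScalarTower.algebraMap_apply] at h2
  exact (mem_maximalIdeal _).1 h2 ha

/-- `κ(B_m) ≃ B/m` as `A`-algebras. -/
noncomputable def residueEquiv :
    (B ⧸ m) ≃ₐ[A] (Localization.AtPrime m ⧸ maximalIdeal (Localization.AtPrime m)) :=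
  AlgEquiv.ofRingEquiv (f := IsLocalization.AtPrime.equivQuotMaximalIdeal m
    (Localization.AtPrime m)) (by
    intro a
    rw [IsScalarTower.algebraMap_apply A B (B ⧸ m), Ideal.Quotient.algebraMap_eq,
      IsLocalization.AtPrime.equivQuotMaximalIdeal_apply_mk,
      IsScalarTower.algebraMap_apply A (Localization.AtPrime m)
        (Localization.AtPrime m ⧸ maximalIdeal (Localization.AtPrime m)),
      Ideal.Quotient.algebraMap_eq, ← IsScalarTower.algebraMap_apply])

theorem length_atPrime_module (hu : m.under A = maximalIdeal A) (M : Type*) [AddCommGroup M]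
    [Module A M] [Module (Localization.AtPrime m) M] [IsScalarTower A (Localization.AtPrime m) M] :
    Module.length A M =
      Module.length A (B ⧸ m) * Module.length (Localization.AtPrime m) M := by
  have := isLocalHom_atPrime A B m hu
  rw [IsLocalRing.length_restrictScalars A (Localization.AtPrime m) M, mul_comm,
    (residueEquiv A B m).toLinearEquiv.length_eq]
  congr 1
  exact (Module.length_eq_of_surjective (S := A) (R := ResidueField A)
    (M := ResidueField (Localization.AtPrime m)) residue_surjective).symm

end E3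

section E2

variable {B : Type*} [CommRing B] (J : Ideal B) (mb : Ideal (B ⧸ J)) [mb.IsPrime]

theorem algebraMapSubmonoid_comap :
    Algebra.algebraMapSubmonoid (B ⧸ J) (mb.comap (Ideal.Quotient.mk J)).primeCompl =
      mb.primeCompl := by
  ext c
  constructor
  · rintro ⟨b, hb, rfl⟩
    exact hb
  · intro hc
    obtain ⟨b, rfl⟩ := Ideal.Quotient.mk_surjective c
    exact ⟨b, hc, rfl⟩

instance isLocalization_quot :
    IsLocalization.AtPrime
      (Localization.AtPrime (mb.comap (Ideal.Quotient.mk J)) ⧸
        J.map (algebraMap B (Localization.AtPrime (mb.comap (Ideal.Quotient.mk J))))) mb := by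
  have h : IsLocalization
      (Algebra.algebraMapSubmonoid (B ⧸ J) (mb.comap (Ideal.Quotient.mk J)).primeCompl)
      (Localization.AtPrime (mb.comap (Ideal.Quotient.mk J)) ⧸
        J.map (algebraMap B (Localization.AtPrime (mb.comap (Ideal.Quotient.mk J))))) :=
    inferInstance
  rw [algebraMapSubmonoid_comap] at h
  exact h

instance tower_quot (A : Type*) [CommRing A] [Algebra A B] (m : Ideal B) [m.IsPrime] :
    IsScalarTower A (B ⧸ J)
      (Localization.AtPrime m ⧸ J.map (algebraMap B (Localization.AtPrime m))) :=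
  IsScalarTower.of_algebraMap_eq fun a => by
    rw [IsScalarTower.algebraMap_apply A B (B ⧸ J), Ideal.Quotient.algebraMap_eq,
      Ideal.Quotient.algebraMap_quotient_map_quotient,
      IsScalarTower.algebraMap_apply A (Localization.AtPrime m)
        (Localization.AtPrime m ⧸ J.map (algebraMap B (Localization.AtPrime m))),
      Ideal.Quotient.algebraMap_eq, ← IsScalarTower.algebraMap_apply A B]

/-- `(B/J)_m̄ ≃ B_m / J B_m`. -/
noncomputable def locQuotEquiv :
    Localization.AtPrime mb ≃ₐ[B ⧸ J]
      (Localization.AtPrime (mb.comap (Ideal.Quotient.mk J)) ⧸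
        J.map (algebraMap B (Localization.AtPrime (mb.comap (Ideal.Quotient.mk J))))) :=
  IsLocalization.algEquiv mb.primeCompl _ _

end E2

section E5

variable (A B : Type u) [CommRing A] [IsLocalRing A] [CommRing B] [Algebra A B] (x : A)

/-- The summand. -/
noncomputable def term (m : MaximalSpectrum B) : ℕ∞ :=
  Module.length A (B ⧸ m.asIdeal) *
    Module.length (Localization.AtPrime m.asIdeal)
      (Localization.AtPrime m.asIdeal ⧸
        Ideal.span ({algebraMap A (Localization.AtPrime m.asIdeal) x} : Set _))

theorem term_eq_zero (m : MaximalSpectrum B) (hxm : algebraMap A B x ∉ m.asIdeal) :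
    term A B x m = 0 := by
  have hu : IsUnit (algebraMap A (Localization.AtPrime m.asIdeal) x) := by
    rw [IsScalarTower.algebraMap_apply A B]
    exact IsLocalization.map_units _ (⟨_, hxm⟩ : m.asIdeal.primeCompl)
  have h1 : Ideal.span ({algebraMap A (Localization.AtPrime m.asIdeal) x} : Set _) = ⊤ :=
    Ideal.span_singleton_eq_top.2 hu
  have : Subsingleton (Localization.AtPrime m.asIdeal ⧸
      Ideal.span ({algebraMap A (Localization.AtPrime m.asIdeal) x} : Set _)) :=
    Ideal.Quotient.subsingleton_iff.2 h1
  rw [term, Module.length_eq_zero (R := Localization.AtPrime m.asIdeal), mul_zero]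

/-- Maximal ideals of the quotient to maximal ideals of `B`. -/
def phi (J : Ideal B) (mb : MaximalSpectrum (B ⧸ J)) : MaximalSpectrum B :=
  ⟨mb.asIdeal.comap (Ideal.Quotient.mk J),
    Ideal.comap_isMaximal_of_surjective _ Ideal.Quotient.mk_surjective⟩

theorem phi_injective (J : Ideal B) : Function.Injective (phi B J) := by
  intro m₁ m₂ h
  apply MaximalSpectrum.ext
  have h' : m₁.asIdeal.comap (Ideal.Quotient.mk J) = m₂.asIdeal.comap (Ideal.Quotient.mk J) :=
    congrArg MaximalSpectrum.asIdeal h
  exact Ideal.comap_injective_of_surjective _ Ideal.Quotient.mk_surjective h'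

theorem mem_range_phi (J : Ideal B) (m : MaximalSpectrum B) (h : J ≤ m.asIdeal) :
    m ∈ Set.range (phi B J) := by
  have hker : RingHom.ker (Ideal.Quotient.mk J) ≤ m.asIdeal := by rwa [Ideal.mk_ker]
  have := m.isMaximal
  refine ⟨⟨m.asIdeal.map (Ideal.Quotient.mk J),
    Ideal.IsMaximal.map_of_surjective_of_ker_le Ideal.Quotient.mk_surjective hker⟩, ?_⟩
  apply MaximalSpectrum.ext
  change (m.asIdeal.map _).comap _ = m.asIdeal
  rw [Ideal.comap_map_of_surjective _ Ideal.Quotient.mk_surjective, ← RingHom.ker_eq_comap_bot]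
  exact sup_eq_left.mpr hker

theorem le_phi (J : Ideal B) (mb : MaximalSpectrum (B ⧸ J)) : J ≤ (phi B J mb).asIdeal := by
  intro b hb
  change Ideal.Quotient.mk J b ∈ mb.asIdeal
  rw [Ideal.Quotient.eq_zero_iff_mem.2 hb]
  exact zero_mem _

theorem term_phi
    (hloc : ∀ m : Ideal B, m.IsMaximal → algebraMap A B x ∈ m → m.under A = maximalIdeal A)
    (mb : MaximalSpectrum (B ⧸ Ideal.span ({algebraMap A B x} : Set B))) :
    term A B x (phi B _ mb) = Module.length A (Localization.AtPrime mb.asIdeal) := by
  have hmax : (phi B _ mb).asIdeal.IsMaximal := (phi B _ mb).isMaximal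
  have hxm : algebraMap A B x ∈ (phi B _ mb).asIdeal :=
    le_phi B _ mb (Ideal.subset_span rfl)
  have hu := hloc _ hmax hxm
  have h2 : (Ideal.span ({algebraMap A B x} : Set B)).map
      (algebraMap B (Localization.AtPrime (phi B _ mb).asIdeal)) =
      Ideal.span ({algebraMap A (Localization.AtPrime (phi B _ mb).asIdeal) x} : Set _) := by
    rw [Ideal.map_span, Set.image_singleton, ← IsScalarTower.algebraMap_apply]
  rw [term, ← length_atPrime_module A B (phi B _ mb).asIdeal hu, ← h2]
  exact ((locQuotEquiv (Ideal.span ({algebraMap A B x} : Set B)) mb.asIdeal).restrictScalars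
    A).toLinearEquiv.length_eq.symm

theorem sum_formula
    (hart : IsArtinianRing (B ⧸ Ideal.span ({algebraMap A B x} : Set B)))
    (hloc : ∀ m : Ideal B, m.IsMaximal → algebraMap A B x ∈ m → m.under A = maximalIdeal A) :
    ∑ᶠ m : MaximalSpectrum B, term A B x m =
      Module.length A (B ⧸ Ideal.span ({algebraMap A B x} : Set B)) := by
  have : Fintype (MaximalSpectrum (B ⧸ Ideal.span ({algebraMap A B x} : Set B))) :=
    Fintype.ofFinite _
  have hsupp : ∀ m ∈ Function.support (term A B x),
      m ∈ (Set.univ : Set (MaximalSpectrum B)) ↔ m ∈ Set.range (phi B (Ideal.span {algebraMap A B x})) := by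
    intro m hm
    refine ⟨fun _ => ?_, fun _ => Set.mem_univ _⟩
    apply mem_range_phi
    rw [Ideal.span_singleton_le_iff_mem]
    by_contra hx
    exact hm (term_eq_zero A B x m hx)
  rw [← finsum_mem_univ, finsum_mem_inter_support_eq' _ _ _ hsupp,
    finsum_mem_range (phi_injective B _), finsum_congr (term_phi A B x hloc),
    finsum_eq_sum_of_fintype, ← Module.length_pi_of_fintype]
  exact ((MaximalSpectrum.toPiLocalizationEquiv
    (B ⧸ Ideal.span ({algebraMap A B x} : Set B))).restrictScalars A).toLinearEquiv.length_eq.symm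

theorem finite_setOf_mem
    (hart : IsArtinianRing (B ⧸ Ideal.span ({algebraMap A B x} : Set B))) :
    {m : MaximalSpectrum B | algebraMap A B x ∈ m.asIdeal}.Finite := by
  refine (Set.finite_range (phi B (Ideal.span {algebraMap A B x}))).subset ?_
  intro m hm
  apply mem_range_phi
  rwa [Ideal.span_singleton_le_iff_mem]

end E5

end Groth.Agent.Lib.Helper21.KALen
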