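import Mathlib
import Groth.Agent.Lib.Helper21.KALenD
import Groth.Agent.Lib.Helper21.KALenE

/-!
# Assembly: `Σ_m [κ(m):κ(A)] ord_{B_m}(x) ≤ [L:K] ord_A(x)` with equality iff `B` finite
-/

set_option autoImplicit false
set_option linter.unusedSectionVars false

namespace Groth.Agent.Lib.Helper21.KALen

open Module IsLocalRing

universe u

variable (A B K L : Type u)
  [CommRing A] [IsDomain A] [IsNoetherianRing A] [IsLocalRing A]
  [CommRing B] [IsDomain B] [Algebra A B]
  [Field K] [Field L] [Algebra A K] [IsFractionRing A K] [Algebra B L] [IsFractionRing B L]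
  [Algebra K L] [Algebra A L] [IsScalarTower A K L] [IsScalarTower A B L] [FiniteDimensional K L]

include K L in
theorem isAlgebraic_of_finite (b : B) : IsAlgebraic A b := by
  have : Algebra.IsAlgebraic K L := Algebra.IsAlgebraic.of_finite K L
  have h1 : IsAlgebraic K (algebraMap B L b) := Algebra.IsAlgebraic.isAlgebraic _
  have h2 : IsAlgebraic A (algebraMap B L b) := (IsFractionRing.isAlgebraic_iff A K L).2 h1
  exact (isAlgebraic_algebraMap_iff (IsFractionRing.injective B L)).1 h2

include K L in
theorem under_eq_maximalIdeal (hdim : ringKrullDim A = 1) (m : Ideal B) (hm : m.IsPrime)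
    (hne : m ≠ ⊥) : m.under A = maximalIdeal A := by
  have : Ring.KrullDimLE 1 A := (Ring.krullDimLE_iff).mpr (le_of_eq hdim)
  obtain ⟨b, hbm, hb0⟩ := Submodule.exists_mem_ne_zero_of_ne_bot hne
  have h1 : m.under A ≠ ⊥ :=
    Ideal.comap_ne_bot_of_algebraic_mem hb0 hbm (isAlgebraic_of_finite A B K L b)
  have h2 : (m.under A).IsMaximal := Ideal.isMaximal_of_isPrime_of_ne_bot _ h1
  exact IsLocalRing.eq_maximalIdeal h2

include K L in
theorem main (hdim : ringKrullDim A = 1) (x : A) (hx : x ∈ maximalIdeal A) (hx0 : x ≠ 0) :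
    Finite (MaximalSpectrum B) ∧
      (∑ᶠ m : MaximalSpectrum B, term A B x m ≤
        (Module.finrank K L : ℕ∞) * Module.length A (A ⧸ Ideal.span ({x} : Set A))) ∧
      ((∑ᶠ m : MaximalSpectrum B, term A B x m =
        (Module.finrank K L : ℕ∞) * Module.length A (A ⧸ Ideal.span ({x} : Set A))) ↔
        Module.Finite A B) := by
  have hKD : Ring.KrullDimLE 1 A := (Ring.krullDimLE_iff).mpr (le_of_eq hdim)
  have hle := length_quot_le (K := K) B L hdim x hx0
  have hℓ : Module.length A (A ⧸ Ideal.span ({x} : Set A)) ≠ ⊤ :=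
    Ring.ord_ne_top (mem_nonZeroDivisors_of_ne_zero hx0)
  have hfin : Module.length A (B ⧸ Ideal.span ({algebraMap A B x} : Set B)) ≠ ⊤ := by
    refine ne_top_of_le_ne_top ?_ hle
    exact WithTop.mul_ne_top (ENat.natCast_ne_top _) hℓ
  have hart : IsArtinianRing (B ⧸ Ideal.span ({algebraMap A B x} : Set B)) := by
    have h1 := (isFiniteLength_iff_isNoetherian_isArtinian.1
      (Module.length_ne_top_iff.1 hfin)).2
    exact isArtinian_of_tower A h1
  have hinj : Function.Injective (algebraMap A B) := by
    have h1 : Function.Injective (algebraMap A L) := by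
      rw [IsScalarTower.algebraMap_eq A K L]
      exact (algebraMap K L).injective.comp (IsFractionRing.injective A K)
    rw [IsScalarTower.algebraMap_eq A B L] at h1
    exact Function.Injective.of_comp h1
  have hxB : algebraMap A B x ≠ 0 := fun h => hx0 (hinj (h.trans (map_zero _).symm))
  have hloc : ∀ m : Ideal B, m.IsMaximal → algebraMap A B x ∈ m →
      m.under A = maximalIdeal A := by
    intro m hm hxm
    refine under_eq_maximalIdeal A B K L hdim m hm.isPrime ?_
    rintro rfl
    exact hxB hxm
  have hsum := sum_formula A B x hart hloc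
  refine ⟨?_, ?_, ?_⟩
  · have h1 := finite_setOf_mem A B x hart
    have h2 : {m : MaximalSpectrum B | algebraMap A B x ∉ m.asIdeal}.Subsingleton := by
      have hbot : ∀ m : MaximalSpectrum B, algebraMap A B x ∉ m.asIdeal → m.asIdeal = ⊥ := by
        intro m hxm
        by_contra hne
        have := under_eq_maximalIdeal A B K L hdim m.asIdeal m.isMaximal.isPrime hne
        apply hxm
        rw [← Ideal.mem_under (A := A), this]
        exact hx
      intro m₁ h₁ m₂ h₂
      apply MaximalSpectrum.ext
      rw [hbot m₁ h₁, hbot m₂ h₂]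
    have h3 : (Set.univ : Set (MaximalSpectrum B)) =
        {m | algebraMap A B x ∈ m.asIdeal} ∪ {m | algebraMap A B x ∉ m.asIdeal} := by
      ext m
      simp [em]
    rw [← Set.finite_univ_iff, h3]
    exact h1.union h2.finite
  · rw [hsum]
    exact hle
  · rw [hsum]
    exact length_quot_eq_iff (K := K) B L hdim x hx hx0

end Groth.Agent.Lib.Helper21.KALen
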