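import Mathlib
import Groth.Agent.Lib.Helper13.KrullAkizuki

/-!
# Helper21 — KAProd: Krull–Akizuki for reduced rings.

A subring `C` of a reduced Noetherian ring `T`, containing the image of a Noetherian ring `R₁` all of
whose prime quotients have dimension `≤ 1` and of which `T` is "a ring of fractions", is Noetherian.
-/

set_option autoImplicit false

namespace Groth.Agent.Lib.Helper21.KAProd

universe u

/-- a Noetherian quotient ring is a Noetherian module. -/
theorem isNoetherian_of_surjective_algebraMap (R S : Type*) [CommRing R] [CommRing S] [Algebra R S]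
    (hs : Function.Surjective (algebraMap R S)) [hS : IsNoetherianRing S] : IsNoetherian R S := by
  rw [isNoetherian_def]
  intro N
  let N' : Submodule S S :=
    { carrier := N
      add_mem' := N.add_mem
      zero_mem' := N.zero_mem
      smul_mem' := fun c x hx => by
        obtain ⟨r, rfl⟩ := hs c
        rw [algebraMap_smul]
        exact N.smul_mem r hx }
  obtain ⟨X, hX⟩ := (isNoetherian_def.1 hS) N'
  refine ⟨X, ?_⟩
  rw [← Submodule.restrictScalars_span R S hs, hX]
  rfl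

/-- a ring with finitely many ideals of zero intersection and Noetherian quotients is Noetherian. -/
theorem isNoetherianRing_of_iInf_eq_bot {C : Type*} [CommRing C] {ι : Type*} [Finite ι]
    (J : ι → Ideal C) (hJ : ⨅ i, J i = ⊥) (h : ∀ i, IsNoetherianRing (C ⧸ J i)) :
    IsNoetherianRing C := by
  haveI : ∀ i, IsNoetherian C (C ⧸ J i) := fun i =>
    isNoetherian_of_surjective_algebraMap C (C ⧸ J i) Ideal.Quotient.mk_surjective
  let f : C →ₗ[C] (∀ i, C ⧸ J i) := LinearMap.pi (fun i => (J i).mkQ)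
  have hf : Function.Injective f := by
    rw [injective_iff_map_eq_zero]
    intro x hx
    have h1 : x ∈ ⨅ i, J i := by
      rw [Ideal.mem_iInf]
      intro i
      have h2 : f x i = 0 := by rw [hx]; rfl
      exact (Submodule.Quotient.mk_eq_zero _).1 h2
    rw [hJ] at h1
    exact h1
  exact isNoetherian_of_injective f hf

/-- an integral extension does not raise the dimension. -/
theorem ringKrullDim_le_of_isIntegral (R S : Type*) [CommRing R] [CommRing S] [Algebra R S]
    [Algebra.IsIntegral R S] : ringKrullDim S ≤ ringKrullDim R :=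
  Order.krullDim_le_of_strictMono (PrimeSpectrum.comap (algebraMap R S))
    (fun _ _ hab => Ideal.IsIntegral.comap_lt_comap hab)

/-- quotients of a ring integral over a ring of dimension `≤ 1` have dimension `≤ 1`. -/
theorem krullDimLE_one_quotient_of_isIntegral (B₀ R₁ : Type*) [CommRing B₀] [CommRing R₁]
    [Algebra B₀ R₁] [Algebra.IsIntegral B₀ R₁] [Ring.KrullDimLE 1 B₀] (P : Ideal R₁) :
    Ring.KrullDimLE 1 (R₁ ⧸ P) := by
  haveI : Algebra.IsIntegral R₁ (R₁ ⧸ P) :=
    Algebra.IsIntegral.of_surjective (Algebra.ofId R₁ (R₁ ⧸ P)) Ideal.Quotient.mk_surjective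
  haveI : Algebra.IsIntegral B₀ (R₁ ⧸ P) := Algebra.IsIntegral.trans (R := B₀) R₁
  rw [Ring.krullDimLE_iff]
  exact (ringKrullDim_le_of_isIntegral B₀ (R₁ ⧸ P)).trans (Ring.krullDimLE_iff.1 inferInstance)

section Main
variable {T R₁ : Type u} [CommRing T] [CommRing R₁] [IsNoetherianRing R₁] (φ : R₁ →+* T)
  (hdim : ∀ P : Ideal R₁, P.IsPrime → Ring.KrullDimLE 1 (R₁ ⧸ P))
  (hfrac : ∀ t : T, ∃ r s : R₁, IsUnit (φ s) ∧ t * φ s = φ r)
  (C : Subring T) (hC : φ.range ≤ C)

include hdim hfrac hC in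
/-- Krull–Akizuki at a prime of `T`. -/
theorem isNoetherianRing_quotient_comap (𝔪 : Ideal T) [𝔪.IsPrime] :
    IsNoetherianRing (C ⧸ 𝔪.comap C.subtype) := by
  classical
  let F := FractionRing (T ⧸ 𝔪)
  let σ : T →+* F := (algebraMap (T ⧸ 𝔪) F).comp (Ideal.Quotient.mk 𝔪)
  have hσ0 : ∀ t : T, σ t = 0 ↔ t ∈ 𝔪 := by
    intro t
    show algebraMap (T ⧸ 𝔪) F (Ideal.Quotient.mk 𝔪 t) = 0 ↔ _
    rw [IsFractionRing.to_map_eq_zero_iff, Ideal.Quotient.eq_zero_iff_mem]
  let BF : Subring F := (σ.comp φ).range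
  let CF : Subring F := (σ.comp C.subtype).range
  have hle : BF ≤ CF := by
    rintro _ ⟨r, rfl⟩
    exact ⟨⟨φ r, hC ⟨r, rfl⟩⟩, rfl⟩
  -- every element of `F` is a quotient of elements of `BF`
  have hT : ∀ t : T, ∃ x y : BF, (y : F) ≠ 0 ∧ σ t = (x : F) / (y : F) := by
    intro t
    obtain ⟨r, s, hs, hts⟩ := hfrac t
    have hsu : IsUnit (σ (φ s)) := hs.map σ
    refine ⟨⟨σ (φ r), r, rfl⟩, ⟨σ (φ s), s, rfl⟩, hsu.ne_zero, ?_⟩
    rw [eq_div_iff hsu.ne_zero, ← map_mul, hts]
  haveI : IsFractionRing BF F := by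
    refine IsFractionRing.of_field (R := BF) (K := F) ?_
    intro z
    obtain ⟨a, b, hb, rfl⟩ := IsFractionRing.div_surjective (A := T ⧸ 𝔪) z
    obtain ⟨t₁, rfl⟩ := Ideal.Quotient.mk_surjective a
    obtain ⟨t₂, rfl⟩ := Ideal.Quotient.mk_surjective b
    obtain ⟨x₁, y₁, hy₁, h₁⟩ := hT t₁
    obtain ⟨x₂, y₂, hy₂, h₂⟩ := hT t₂
    have h₁' : algebraMap (T ⧸ 𝔪) F (Ideal.Quotient.mk 𝔪 t₁) = (x₁ : F) / (y₁ : F) := h₁
    have h₂' : algebraMap (T ⧸ 𝔪) F (Ideal.Quotient.mk 𝔪 t₂) = (x₂ : F) / (y₂ : F) := h₂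
    have hb0 : algebraMap (T ⧸ 𝔪) F (Ideal.Quotient.mk 𝔪 t₂) ≠ 0 := by
      rw [Ne, IsFractionRing.to_map_eq_zero_iff]
      exact nonZeroDivisors.ne_zero hb
    have hx₂ : (x₂ : F) ≠ 0 := by
      intro h
      rw [h₂', h, zero_div] at hb0
      exact hb0 rfl
    refine ⟨x₁ * y₂, y₁ * x₂, ?_⟩
    show _ = ((x₁ : F) * (y₂ : F)) / ((y₁ : F) * (x₂ : F))
    rw [h₁', h₂', div_div_div_eq]
  haveI : IsNoetherianRing BF :=
    isNoetherianRing_of_surjective R₁ BF (σ.comp φ).rangeRestrict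
      (σ.comp φ).rangeRestrict_surjective
  haveI : Ring.KrullDimLE 1 BF := by
    have e := RingHom.quotientKerEquivRange (σ.comp φ)
    haveI : (RingHom.ker (σ.comp φ)).IsPrime := RingHom.ker_isPrime _
    haveI := hdim (RingHom.ker (σ.comp φ)) inferInstance
    have h1 : ringKrullDim (R₁ ⧸ RingHom.ker (σ.comp φ)) ≤ 1 := Ring.krullDimLE_iff.1 inferInstance
    rw [Ring.krullDimLE_iff]
    rw [ringKrullDim_eq_of_ringEquiv e] at h1
    exact h1
  obtain ⟨hN, -⟩ := Groth.Agent.Lib.Helper13.KA.krullAkizuki BF CF hle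
  have hker : RingHom.ker (σ.comp C.subtype) = 𝔪.comap C.subtype := by
    ext x
    rw [RingHom.mem_ker, RingHom.comp_apply, hσ0, Ideal.mem_comap]
  exact isNoetherianRing_of_ringEquiv CF
    ((Ideal.quotEquivOfEq hker.symm).trans (RingHom.quotientKerEquivRange _)).symm

include hdim hfrac hC in
/-- **Krull–Akizuki for reduced rings**. -/
theorem isNoetherianRing_subring [IsReduced T] [IsNoetherianRing T] : IsNoetherianRing C := by
  classical
  have hfin : (minimalPrimes T).Finite := minimalPrimes.finite_of_isNoetherianRing T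
  haveI : Finite (minimalPrimes T) := hfin.to_subtype
  refine isNoetherianRing_of_iInf_eq_bot
    (fun 𝔪 : minimalPrimes T => (𝔪 : Ideal T).comap C.subtype) ?_ ?_
  · rw [eq_bot_iff]
    intro x hx
    rw [Ideal.mem_iInf] at hx
    have h1 : (x : T) ∈ sInf (minimalPrimes T) := by
      rw [Ideal.mem_sInf]
      intro 𝔪 h𝔪
      exact hx ⟨𝔪, h𝔪⟩
    have h2 : sInf (minimalPrimes T) = nilradical T := by
      rw [minimalPrimes, Ideal.sInf_minimalPrimes]
      rfl
    rw [h2, nilradical_eq_zero] at h1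
    rw [Ideal.mem_bot]
    exact Subtype.ext h1
  · intro 𝔪
    haveI : (𝔪 : Ideal T).IsPrime := 𝔪.2.1.1
    exact isNoetherianRing_quotient_comap φ hdim hfrac C hC (𝔪 : Ideal T)

end Main

end Groth.Agent.Lib.Helper21.KAProd
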