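import Mathlib
import Groth.Prelude.Def_ega3
import Groth.Agent.Lib.Helper16.Kos3

open CategoryTheory CategoryTheory.Limits CochainComplex HomComplex
open scoped Pointwise

namespace Groth.Agent.Lib.Helper21.KosTop

universe u
variable {A : Type u} [CommRing A]

attribute [local instance] HasDerivedCategory.standard

open Groth.Agent.Lib.Helper16.Kos

/-- `H^0(K) → H^0(cone(x on K))` is surjective when `K^1 = 0`. -/
lemma cone_top_surj (K : CochainComplex (ModuleCat.{u} A) ℤ) (hK : IsZero (K.X 1)) (x : A) :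
    Function.Surjective
      (ModuleCat.Hom.hom (HomologicalComplex.homologyMap (mappingCone.inr (x • 𝟙 K)) 0)) := by
  set φ : K ⟶ K := x • 𝟙 K with hφ
  let T := mappingCone.triangle φ
  have hT : DerivedCategory.Q.mapTriangle.obj T ∈ distTriang _ :=
    DerivedCategory.mappingCone_triangle_distinguished φ
  have h3 := CochainComplex.homologyMap_exact₃_of_distTriang T hT 0 1 (by omega)
  have hz : IsZero (K.homology 1) := by
    rw [← HomologicalComplex.exactAt_iff_isZero_homology]
    exact HomologicalComplex.ExactAt.of_isZero hK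
  have hepi : Epi (HomologicalComplex.homologyMap (mappingCone.inr φ) 0) :=
    h3.epi_f (hz.eq_of_tgt _ _)
  exact (ModuleCat.epi_iff_surjective _).1 hepi

/-- kernel of `H^0(K) → H^0(cone(x on K))` is `x H^0(K)`. -/
lemma cone_top_ker (K : CochainComplex (ModuleCat.{u} A) ℤ) (x : A) (y : K.homology 0) :
    (ModuleCat.Hom.hom (HomologicalComplex.homologyMap (mappingCone.inr (x • 𝟙 K)) 0)) y = 0 ↔
      ∃ z : K.homology 0, y = x • z := by
  set φ : K ⟶ K := x • 𝟙 K with hφ
  let T := mappingCone.triangle φ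
  have hT : DerivedCategory.Q.mapTriangle.obj T ∈ distTriang _ :=
    DerivedCategory.mappingCone_triangle_distinguished φ
  have h2 := CochainComplex.homologyMap_exact₂_of_distTriang T hT 0
  have hφ0 : HomologicalComplex.homologyMap φ 0 = x • 𝟙 (K.homology 0) := homologyMap_smul_id K x 0
  have hzero : HomologicalComplex.homologyMap φ 0 ≫
      HomologicalComplex.homologyMap (mappingCone.inr φ) 0 = 0 :=
    CochainComplex.homologyMap_comp_eq_zero_of_distTriang T hT 0
  have hφapp : ∀ z : K.homology 0,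
      (ModuleCat.Hom.hom (HomologicalComplex.homologyMap φ 0)) z = x • z := by
    intro z
    rw [hφ0]
    rfl
  constructor
  · intro hy
    rw [ShortComplex.moduleCat_exact_iff] at h2
    obtain ⟨z, hz⟩ := h2 y hy
    exact ⟨z, ((hφapp _).symm.trans hz).symm⟩
  · rintro ⟨z, rfl⟩
    have := congr($(hzero).hom z)
    rw [ModuleCat.hom_comp, LinearMap.comp_apply, hφapp] at this
    exact this

/-- The canonical chain map `M[0] ⟶ K(fs; M)` (inclusion of the top Koszul degree). -/
noncomputable def iota (M : ModuleCat.{u} A) : ∀ fs : List A,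
    (HomologicalComplex.single (ModuleCat.{u} A) (ComplexShape.up ℤ) 0).obj M ⟶ CohIII.koszulCx M fs
  | [] => 𝟙 _
  | f :: fs => iota M fs ≫ mappingCone.inr (f • 𝟙 (CohIII.koszulCx M fs))

lemma iota_cons (M : ModuleCat.{u} A) (f : A) (fs : List A) :
    iota M (f :: fs) = iota M fs ≫ mappingCone.inr (f • 𝟙 (CohIII.koszulCx M fs)) := rfl

/-- The canonical map `M → H^0(K(fs; M))`. -/
noncomputable def topMap (M : ModuleCat.{u} A) (fs : List A) :
    M ⟶ (CohIII.koszulCx M fs).homology 0 :=
  (HomologicalComplex.singleObjHomologySelfIso (ComplexShape.up ℤ) 0 M).inv ≫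
    HomologicalComplex.homologyMap (iota M fs) 0

lemma topMap_cons (M : ModuleCat.{u} A) (f : A) (fs : List A) :
    topMap M (f :: fs) = topMap M fs ≫
      HomologicalComplex.homologyMap (mappingCone.inr (f • 𝟙 (CohIII.koszulCx M fs))) 0 := by
  have h := HomologicalComplex.homologyMap_comp (iota M fs)
    (mappingCone.inr (f • 𝟙 (CohIII.koszulCx M fs))) 0
  unfold topMap
  rw [Category.assoc]
  exact congrArg (fun t =>
    (HomologicalComplex.singleObjHomologySelfIso (ComplexShape.up ℤ) 0 M).inv ≫ t) h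

lemma topMap_cons_apply (M : ModuleCat.{u} A) (f : A) (fs : List A) (y : M) :
    (ModuleCat.Hom.hom (topMap M (f :: fs))) y =
      (ModuleCat.Hom.hom (HomologicalComplex.homologyMap
        (mappingCone.inr (f • 𝟙 (CohIII.koszulCx M fs))) 0))
        ((ModuleCat.Hom.hom (topMap M fs)) y) := by
  have h := topMap_cons M f fs
  exact congr($(h).hom y)

lemma topMap_nil (M : ModuleCat.{u} A) :
    topMap M [] = (HomologicalComplex.singleObjHomologySelfIso (ComplexShape.up ℤ) 0 M).inv := by
  have h : HomologicalComplex.homologyMap (iota M []) 0 = 𝟙 _ :=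
    HomologicalComplex.homologyMap_id _ 0
  unfold topMap
  exact (congrArg (fun t =>
    (HomologicalComplex.singleObjHomologySelfIso (ComplexShape.up ℤ) 0 M).inv ≫ t) h).trans
    (Category.comp_id _)

lemma topMap_surjective (M : ModuleCat.{u} A) : ∀ fs : List A,
    Function.Surjective (ModuleCat.Hom.hom (topMap M fs))
  | [] => by
    have : IsIso (topMap M []) := by
      rw [topMap_nil]
      infer_instance
    exact ((ModuleCat.epi_iff_surjective _).1 inferInstance)
  | f :: fs => by
    intro z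
    obtain ⟨w, hw⟩ := cone_top_surj _ (isZero_koszulCx_X_pos M fs 1 (by norm_num)) f z
    obtain ⟨v, rfl⟩ := topMap_surjective M fs w
    exact ⟨v, (topMap_cons_apply M f fs v).trans hw⟩

lemma topMap_eq_zero_iff (M : ModuleCat.{u} A) : ∀ (fs : List A) (y : M),
    (ModuleCat.Hom.hom (topMap M fs)) y = 0 ↔ y ∈ Ideal.ofList fs • (⊤ : Submodule A M)
  | [], y => by
    have : IsIso (topMap M []) := by
      rw [topMap_nil]
      infer_instance
    have hinj : Function.Injective (ModuleCat.Hom.hom (topMap M [])) :=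
      (ModuleCat.mono_iff_injective _).1 inferInstance
    rw [Ideal.ofList_nil, Submodule.bot_smul, Submodule.mem_bot]
    constructor
    · intro h
      exact hinj (h.trans (map_zero _).symm)
    · rintro rfl
      exact map_zero _
  | f :: fs, y => by
    rw [topMap_cons_apply]
    refine (cone_top_ker _ f _).trans ?_
    rw [Ideal.ofList_cons, Submodule.sup_smul, Submodule.mem_sup]
    constructor
    · rintro ⟨z, hz⟩
      obtain ⟨w, rfl⟩ := topMap_surjective M fs z
      have h0 : (ModuleCat.Hom.hom (topMap M fs)) (y - f • w) = 0 := by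
        rw [map_sub, map_smul, hz, sub_self]
      refine ⟨f • w, ?_, y - f • w, (topMap_eq_zero_iff M fs _).1 h0, by abel⟩
      exact Submodule.smul_mem_smul (Ideal.mem_span_singleton_self f) Submodule.mem_top
    · rintro ⟨a, ha, b, hb, rfl⟩
      rw [Submodule.ideal_span_singleton_smul, Submodule.mem_smul_pointwise_iff_exists] at ha
      obtain ⟨w, -, rfl⟩ := ha
      refine ⟨(ModuleCat.Hom.hom (topMap M fs)) w, ?_⟩
      rw [map_add, map_smul, (topMap_eq_zero_iff M fs b).2 hb, add_zero]

lemma inr_map {K₁ L₁ K₂ L₂ : CochainComplex (ModuleCat.{u} A) ℤ} (φ₁ : K₁ ⟶ L₁) (φ₂ : K₂ ⟶ L₂)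
    (a : K₁ ⟶ K₂) (b : L₁ ⟶ L₂) (comm : φ₁ ≫ b = a ≫ φ₂) :
    mappingCone.inr φ₁ ≫ mappingCone.map φ₁ φ₂ a b comm = b ≫ mappingCone.inr φ₂ := by
  rw [mappingCone.map_eq_mapOfHomotopy, mappingCone.triangleMapOfHomotopy_comm₂]

lemma iota_trans (M : ModuleCat.{u} A) (n m : ℕ) (h : n ≤ m) : ∀ fs : List A,
    iota M (fs.map (· ^ n)) ≫ CohIII.koszulTrans M n m h fs =
      (fs.prod ^ (m - n)) • iota M (fs.map (· ^ m))
  | [] => by
    have e : ∀ (X : CochainComplex (ModuleCat.{u} A) ℤ),
        𝟙 X ≫ 𝟙 X = ((1 : A) ^ (m - n)) • 𝟙 X := by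
      intro X
      rw [one_pow, one_smul, Category.comp_id]
    exact e _
  | f :: fs => by
    have ih := iota_trans M n m h fs
    show (iota M (fs.map (· ^ n)) ≫ mappingCone.inr (f ^ n • 𝟙 _)) ≫
      mappingCone.map (f ^ n • 𝟙 (CohIII.koszulCx M (fs.map (· ^ n))))
      (f ^ m • 𝟙 (CohIII.koszulCx M (fs.map (· ^ m)))) (CohIII.koszulTrans M n m h fs)
      (f ^ (m - n) • CohIII.koszulTrans M n m h fs) _ =
      ((f * fs.prod) ^ (m - n)) • (iota M (fs.map (· ^ m)) ≫ mappingCone.inr (f ^ m • 𝟙 _))
    rw [Category.assoc, inr_map, ← Category.assoc, Linear.comp_smul, ih, Linear.smul_comp,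
      Linear.smul_comp, smul_smul, mul_pow]

lemma homologyMap_smul' {K L : CochainComplex (ModuleCat.{u} A) ℤ} (g : K ⟶ L) (x : A) (n : ℤ) :
    HomologicalComplex.homologyMap (x • g) n = x • HomologicalComplex.homologyMap g n := by
  have h : (HomologicalComplex.shortComplexFunctor (ModuleCat.{u} A) (ComplexShape.up ℤ) n).map
      (x • g) = x • (HomologicalComplex.shortComplexFunctor (ModuleCat.{u} A)
        (ComplexShape.up ℤ) n).map g := by
    ext <;> rfl
  change ShortComplex.homologyMap _ = _
  rw [h, ShortComplex.homologyMap_smul]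
  rfl

lemma topMap_trans (M : ModuleCat.{u} A) (n m : ℕ) (h : n ≤ m) (fs : List A) :
    topMap M (fs.map (· ^ n)) ≫ HomologicalComplex.homologyMap (CohIII.koszulTrans M n m h fs) 0 =
      (fs.prod ^ (m - n)) • topMap M (fs.map (· ^ m)) := by
  unfold topMap
  rw [Category.assoc, ← HomologicalComplex.homologyMap_comp, iota_trans, homologyMap_smul',
    Linear.comp_smul]

lemma topMap_trans_apply (M : ModuleCat.{u} A) (n m : ℕ) (h : n ≤ m) (fs : List A) (y : M) :
    (ModuleCat.Hom.hom (HomologicalComplex.homologyMap (CohIII.koszulTrans M n m h fs) 0))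
      ((ModuleCat.Hom.hom (topMap M (fs.map (· ^ n)))) y) =
      (ModuleCat.Hom.hom (topMap M (fs.map (· ^ m)))) ((fs.prod ^ (m - n)) • y) := by
  have h1 := topMap_trans M n m h fs
  have h2 := congr($(h1).hom y)
  rw [map_smul]
  exact h2

end Groth.Agent.Lib.Helper21.KosTop
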