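import Mathlib
import Groth.Prelude.Def_W4stkremschemesLRS

set_option backward.isDefEq.respectTransparency.types false
set_option linter.style.haveILetI false
set_option autoImplicit false
universe u
open CategoryTheory AlgebraicGeometry TopologicalSpace Opposite

/-! Basic lemmas on closed immersions of locally ringed spaces (`LRSImm.IsClosedImmersion`). -/

namespace Groth.Agent.Lib.Helper21.LRSImm1

variable {Z X : LocallyRingedSpace.{u}} (i : Z ⟶ X)

/-- The stalk map of `i.c : O_X ⟶ i_* O_Z` at `x`, as a ring hom. -/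
noncomputable abbrev stalkC (x : X.toTopCat) :
    X.presheaf.stalk x →+* (i.base _* Z.presheaf).stalk x :=
  ((TopCat.Presheaf.stalkFunctor CommRingCat x).map i.c).hom

theorem stalkC_germ (U : Opens X.toTopCat) (x : X.toTopCat) (hx : x ∈ U)
    (a : X.presheaf.obj (op U)) :
    stalkC i x (X.presheaf.germ U x hx a) =
      (i.base _* Z.presheaf).germ U x hx (i.c.app (op U) a) :=
  TopCat.Presheaf.stalkFunctor_map_germ_apply U x hx i.c a

/-- naturality of `i.c` w.r.t. restriction, elementwise. -/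
theorem c_res {U V : Opens X.toTopCat} (h : V ≤ U) (a : X.presheaf.obj (op U)) :
    i.c.app (op V) (X.presheaf.map (homOfLE h).op a) =
      Z.presheaf.map (homOfLE ((Opens.map i.base).monotone h)).op (i.c.app (op U) a) := by
  have := i.c.naturality (homOfLE h).op
  exact congr($(this) a)

/-- The kernel of the stalk map of `i.c` consists of germs of local sections killed by `i.c`. -/
theorem stalkC_eq_zero_iff (x : X.toTopCat) (a : X.presheaf.stalk x) :
    stalkC i x a = 0 ↔ ∃ (V : Opens X.toTopCat) (hx : x ∈ V) (t : X.presheaf.obj (op V)),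
      X.presheaf.germ V x hx t = a ∧ i.c.app (op V) t = 0 := by
  constructor
  · intro h
    obtain ⟨V, hxV, t, rfl⟩ := X.presheaf.exists_germ_eq (x := x) a
    rw [stalkC_germ] at h
    have h' : (i.base _* Z.presheaf).germ V x hxV (i.c.app (op V) t) =
        (i.base _* Z.presheaf).germ V x hxV 0 := by rw [h, map_zero]
    obtain ⟨W, hxW, iU, iV, hW⟩ := TopCat.Presheaf.germ_eq (i.base _* Z.presheaf) x hxV hxV _ _ h'
    refine ⟨W, hxW, X.presheaf.map iU.op t, X.presheaf.germ_res_apply iU x hxW t, ?_⟩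
    rw [map_zero] at hW
    exact (c_res i iU.le t).trans hW
  · rintro ⟨V, hxV, t, rfl, ht⟩
    rw [stalkC_germ, ht, map_zero]

/-- sections over an empty open vanish -/
theorem subsingleton_of_eq_bot {N : Opens Z.toTopCat} (h : N = ⊥) :
    Subsingleton (Z.presheaf.obj (op N)) :=
  CommRingCat.subsingleton_of_isTerminal (Z.sheaf.isTerminalOfEqEmpty h)

/-- For an inducing `i` with `O_X → i_*O_Z` locally surjective, the stalk maps are surjective. -/
theorem stalkMap_surjective (hind : Topology.IsInducing i.base)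
    (hs : TopCat.Presheaf.IsLocallySurjective i.c) (z : Z.toTopCat) :
    Function.Surjective (i.stalkMap z) := by
  intro w
  obtain ⟨N, hzN, σ, rfl⟩ := Z.presheaf.exists_germ_eq (x := z) w
  obtain ⟨V, hV, hVN⟩ := hind.isOpen_iff.mp N.2
  obtain rfl : N = (Opens.map i.base).obj ⟨V, hV⟩ := Opens.ext hVN.symm
  obtain ⟨V₁, hV₁, ⟨s, hs⟩, hz₁⟩ :=
    (TopCat.Presheaf.isLocallySurjective_iff i.c).mp hs ⟨V, hV⟩ σ (i.base z) hzN
  refine ⟨X.presheaf.germ V₁ (i.base z) hz₁ s, ?_⟩
  rw [LocallyRingedSpace.stalkMap_germ_apply, hs]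
  exact Z.presheaf.germ_res_apply (homOfLE ((Opens.map i.base).monotone hV₁)) z hz₁ σ

/-- Off the closed range of `i`, the stalks of `i_*O_Z` vanish. -/
theorem stalkC_eq_zero_of_notMem_range (hcl : IsClosed (Set.range i.base)) (x : X.toTopCat)
    (hx : x ∉ Set.range i.base) (a : X.presheaf.stalk x) : stalkC i x a = 0 := by
  obtain ⟨V, hxV, t, rfl⟩ := X.presheaf.exists_germ_eq (x := x) a
  rw [stalkC_eq_zero_iff]
  let W : Opens X.toTopCat := V ⊓ ⟨(Set.range i.base)ᶜ, hcl.isOpen_compl⟩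
  have hxW : x ∈ W := ⟨hxV, hx⟩
  have hWV : W ≤ V := inf_le_left
  refine ⟨W, hxW, X.presheaf.map (homOfLE hWV).op t, X.presheaf.germ_res_apply _ x hxW t, ?_⟩
  have : (Opens.map i.base).obj W = ⊥ := by
    ext z
    simp only [Opens.map_coe, Set.mem_preimage, SetLike.mem_coe, Opens.coe_bot,
      Set.mem_empty_iff_false, iff_false]
    intro hz
    exact hz.2 ⟨z, rfl⟩
  exact (subsingleton_of_eq_bot this).elim _ _

theorem stalkMap_eq_zero_of_stalkC_eq_zero (z : Z.toTopCat) (a : X.presheaf.stalk (i.base z))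
    (h : stalkC i (i.base z) a = 0) : i.stalkMap z a = 0 := by
  obtain ⟨V, hV, t, rfl, ht⟩ := (stalkC_eq_zero_iff i _ a).mp h
  rw [LocallyRingedSpace.stalkMap_germ_apply, ht, map_zero]

theorem stalkC_eq_zero_of_stalkMap_eq_zero (hind : Topology.IsInducing i.base) (z : Z.toTopCat)
    (a : X.presheaf.stalk (i.base z)) (h : i.stalkMap z a = 0) : stalkC i (i.base z) a = 0 := by
  obtain ⟨V, hV, t, rfl⟩ := X.presheaf.exists_germ_eq (x := i.base z) a
  rw [LocallyRingedSpace.stalkMap_germ_apply] at h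
  have h' : Z.presheaf.germ ((Opens.map i.base).obj V) z hV (i.c.app (op V) t) =
      Z.presheaf.germ ((Opens.map i.base).obj V) z hV 0 := by rw [h, map_zero]
  obtain ⟨N, hzN, iU, iV, hN⟩ := TopCat.Presheaf.germ_eq Z.presheaf z hV hV _ _ h'
  rw [map_zero] at hN
  obtain ⟨V₁, hV₁, hVN⟩ := hind.isOpen_iff.mp N.2
  obtain rfl : N = (Opens.map i.base).obj ⟨V₁, hV₁⟩ := Opens.ext hVN.symm
  rw [stalkC_eq_zero_iff]
  have hWV : V ⊓ ⟨V₁, hV₁⟩ ≤ V := inf_le_left
  refine ⟨V ⊓ ⟨V₁, hV₁⟩, ⟨hV, hzN⟩, X.presheaf.map (homOfLE hWV).op t,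
    X.presheaf.germ_res_apply _ _ _ t, ?_⟩
  rw [c_res]
  have hle : (Opens.map i.base).obj (V ⊓ ⟨V₁, hV₁⟩) ≤ (Opens.map i.base).obj ⟨V₁, hV₁⟩ :=
    (Opens.map i.base).monotone inf_le_right
  have : (homOfLE ((Opens.map i.base).monotone hWV)).op = iU.op ≫ (homOfLE hle).op := rfl
  rw [this, Functor.map_comp, CommRingCat.comp_apply, hN, map_zero]

/-- A section of `O_X` is killed by `i.c` iff all its germs are killed by the stalk maps. -/
theorem c_app_eq_zero_iff (V : Opens X.toTopCat) (t : X.presheaf.obj (op V)) :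
    i.c.app (op V) t = 0 ↔ ∀ (x : X.toTopCat) (hx : x ∈ V),
      stalkC i x (X.presheaf.germ V x hx t) = 0 := by
  constructor
  · intro h x hx
    rw [stalkC_germ, h, map_zero]
  · intro h
    refine TopCat.Presheaf.section_ext Z.sheaf _ _ _ fun z hz => ?_
    have := stalkMap_eq_zero_of_stalkC_eq_zero i z _ (h (i.base z) hz)
    rw [LocallyRingedSpace.stalkMap_germ_apply] at this
    exact this.trans (map_zero _).symm

end Groth.Agent.Lib.Helper21.LRSImm1
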