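import Mathlib
import Groth.Prelude.Def_W4stkremschemesLRS
import Groth.Agent.Lib.Helper21.LRSImm1

set_option backward.isDefEq.respectTransparency.types false
set_option linter.style.haveILetI false
set_option autoImplicit false
universe u
open CategoryTheory AlgebraicGeometry TopologicalSpace Opposite

/-! The kernel ideal sheaf of a closed immersion of a locally ringed space into a scheme is
quasi-coherent: on an affine open `U` its stalks are generated by the kernel on `U`. -/

namespace Groth.Agent.Lib.Helper21.LRSImm2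

open Groth.Agent.Lib.Helper21.LRSImm1

/-- local-global principle for ideal membership on an affine open. -/
theorem mem_of_forall_germ_mem {X : Scheme.{u}} {V : X.Opens} (hV : IsAffineOpen V)
    (J : Ideal Γ(X, V)) (β : Γ(X, V))
    (h : ∀ (x : X) (hx : x ∈ V),
      (X.presheaf.germ V x hx).hom β ∈ Ideal.map (X.presheaf.germ V x hx).hom J) : β ∈ J := by
  let C : Ideal Γ(X, V) := J.colon {β}
  have hC : ∀ r, r ∈ C ↔ r * β ∈ J := fun r => by
    simp only [C, Submodule.mem_colon_singleton, smul_eq_mul]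
  have hcov : V ≤ ⨆ f : (C : Set Γ(X, V)), X.basicOpen f.1 := by
    intro x hx
    let _ := X.presheaf.algebra_section_stalk ⟨x, hx⟩
    have hloc := hV.isLocalization_stalk ⟨x, hx⟩
    obtain ⟨⟨p, m⟩, hpm⟩ := (IsLocalization.mem_map_algebraMap_iff
      (hV.primeIdealOf ⟨x, hx⟩).asIdeal.primeCompl (X.presheaf.stalk x)).mp (h x hx)
    have hpm' : algebraMap Γ(X, V) (X.presheaf.stalk x) (β * m.1) =
        algebraMap Γ(X, V) (X.presheaf.stalk x) p.1 := by
      rw [map_mul]; exact hpm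
    obtain ⟨c, hc⟩ := (IsLocalization.eq_iff_exists
      (hV.primeIdealOf ⟨x, hx⟩).asIdeal.primeCompl (X.presheaf.stalk x)).mp hpm'
    have hr : (c.1 * m.1) ∈ C := by
      rw [hC]
      have : c.1 * m.1 * β = c.1 * (β * m.1) := by ring
      rw [this, hc]
      exact J.mul_mem_left _ p.2
    have hu : IsUnit ((X.presheaf.germ V x hx).hom (c.1 * m.1)) :=
      IsLocalization.map_units (M := (hV.primeIdealOf ⟨x, hx⟩).asIdeal.primeCompl)
        (X.presheaf.stalk x) (c * m)
    refine Opens.mem_iSup.mpr ⟨⟨c.1 * m.1, hr⟩, ?_⟩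
    exact (X.mem_basicOpen _ x hx).mpr hu
  have htop := hV.self_le_iSup_basicOpen_iff.mp hcov
  rw [Ideal.span_eq] at htop
  have h1 : (1 : Γ(X, V)) ∈ C := htop ▸ Submodule.mem_top
  rw [hC, one_mul] at h1
  exact h1

variable {X : Scheme.{u}} {Z : LocallyRingedSpace.{u}} (i : Z ⟶ X.toLocallyRingedSpace)

/-- Key local step: if `b|_{D(f)}` is killed by `i.c`, then near every point `q ∈ U` some
`f ^ N * b` is killed by `i.c` on a basic open neighbourhood of `q`. -/
theorem exists_pow_mul_res_ker (hK : LRSImm.KerLocallyGenerated i) {U : X.Opens}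
    (hU : IsAffineOpen U) (f b : Γ(X, U))
    (hb : i.c.app (op (X.basicOpen f)) (X.presheaf.map (homOfLE (X.basicOpen_le f)).op b) = 0)
    (q : X) (hq : q ∈ U) :
    ∃ (g : Γ(X, U)) (N : ℕ), q ∈ X.basicOpen g ∧
      i.c.app (op (X.basicOpen g))
        (X.presheaf.map (homOfLE (X.basicOpen_le g)).op (f ^ N * b)) = 0 := by
  obtain ⟨U₀, hqU₀, ι, s, hs0, hspan⟩ := hK q
  obtain ⟨g, hgle, hqg⟩ := hU.exists_basicOpen_le ⟨q, hqU₀⟩ hq
  have hDg : IsAffineOpen (X.basicOpen g) := hU.basicOpen g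
  let rg : Γ(X, U) →+* Γ(X, X.basicOpen g) :=
    (X.presheaf.map (homOfLE (X.basicOpen_le g)).op).hom
  let s' : ι → Γ(X, X.basicOpen g) := fun k => (X.presheaf.map (homOfLE hgle).op).hom (s k)
  let J : Ideal Γ(X, X.basicOpen g) := Ideal.span (Set.range s')
  have hJ : J ≤ RingHom.ker (i.c.app (op (X.basicOpen g))).hom := by
    rw [Ideal.span_le]
    rintro _ ⟨k, rfl⟩
    show i.c.app (op (X.basicOpen g)) ((X.presheaf.map (homOfLE hgle).op).hom (s k)) = 0
    rw [c_res i hgle (s k), hs0 k, map_zero]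
  have hDfg : IsAffineOpen (X.basicOpen (rg f)) := hDg.basicOpen (rg f)
  have hle_f : X.basicOpen (rg f) ≤ X.basicOpen f := by
    rw [X.basicOpen_res]; exact inf_le_right
  -- the claim: `b` restricted to `D(f) ∩ D(g)` lies in the ideal generated by the `s k`.
  have hβ : algebraMap Γ(X, X.basicOpen g) Γ(X, X.basicOpen (rg f)) (rg b) ∈
      Ideal.map (algebraMap Γ(X, X.basicOpen g) Γ(X, X.basicOpen (rg f))) J := by
    apply mem_of_forall_germ_mem hDfg
    intro x hx
    have hxg : x ∈ X.basicOpen g := X.basicOpen_le (rg f) hx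
    have hxU₀ : x ∈ U₀ := hgle hxg
    have hxU : x ∈ U := X.basicOpen_le g hxg
    have e1 : (X.presheaf.germ _ x hx).hom
        (algebraMap Γ(X, X.basicOpen g) Γ(X, X.basicOpen (rg f)) (rg b)) =
        (X.presheaf.germ U x hxU).hom b := by
      show (X.presheaf.germ _ x hx).hom ((X.presheaf.map (homOfLE (X.basicOpen_le (rg f))).op).hom
        ((X.presheaf.map (homOfLE (X.basicOpen_le g)).op).hom b)) = _
      rw [TopCat.Presheaf.germ_res_apply, TopCat.Presheaf.germ_res_apply]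
    have e2 : stalkC i x ((X.presheaf.germ U x hxU).hom b) = 0 :=
      (stalkC_eq_zero_iff i x _).mpr ⟨X.basicOpen f, hle_f hx, _,
        TopCat.Presheaf.germ_res_apply _ _ _ _ _, hb⟩
    have e3 : (X.presheaf.germ U x hxU).hom b ∈
        Ideal.span (Set.range fun k => X.presheaf.germ U₀ x hxU₀ (s k)) := by
      rw [hspan x hxU₀]; exact e2
    rw [e1, Ideal.map_map, Ideal.map_span]
    refine Ideal.span_mono ?_ e3
    rintro _ ⟨k, rfl⟩
    refine ⟨s' k, ⟨k, rfl⟩, ?_⟩
    show (X.presheaf.germ _ x hx).hom ((X.presheaf.map (homOfLE (X.basicOpen_le (rg f))).op).hom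
        ((X.presheaf.map (homOfLE hgle).op).hom (s k))) = _
    rw [TopCat.Presheaf.germ_res_apply, TopCat.Presheaf.germ_res_apply]
  haveI := hDg.isLocalization_basicOpen (rg f)
  obtain ⟨⟨y, m⟩, hym⟩ := (IsLocalization.mem_map_algebraMap_iff (Submonoid.powers (rg f))
    Γ(X, X.basicOpen (rg f))).mp hβ
  obtain ⟨N, hN⟩ := m.2
  have hym' : algebraMap Γ(X, X.basicOpen g) Γ(X, X.basicOpen (rg f)) (rg b * m.1) =
      algebraMap Γ(X, X.basicOpen g) Γ(X, X.basicOpen (rg f)) y.1 := by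
    rw [map_mul]; exact hym
  obtain ⟨c, hc⟩ := (IsLocalization.eq_iff_exists (Submonoid.powers (rg f))
    Γ(X, X.basicOpen (rg f))).mp hym'
  obtain ⟨N', hN'⟩ := c.2
  refine ⟨g, N' + N, hqg, ?_⟩
  have : (X.presheaf.map (homOfLE (X.basicOpen_le g)).op).hom (f ^ (N' + N) * b) = c.1 * y.1 := by
    rw [← hc, ← hN', ← hN]
    show rg (f ^ (N' + N) * b) = _
    rw [map_mul, map_pow, pow_add]
    ring
  show i.c.app (op (X.basicOpen g))
    ((X.presheaf.map (homOfLE (X.basicOpen_le g)).op).hom (f ^ (N' + N) * b)) = 0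
  rw [this]
  exact hJ (J.mul_mem_left _ y.2)

/-- Global version on an affine open: if `b|_{D(f)}` is killed by `i.c` then so is `f ^ N * b`. -/
theorem exists_pow_mul_mem_ker (hK : LRSImm.KerLocallyGenerated i) {U : X.Opens}
    (hU : IsAffineOpen U) (f b : Γ(X, U))
    (hb : i.c.app (op (X.basicOpen f)) (X.presheaf.map (homOfLE (X.basicOpen_le f)).op b) = 0) :
    ∃ N : ℕ, i.c.app (op U) (f ^ N * b) = 0 := by
  choose g N hq hgN using fun q : U => exists_pow_mul_res_ker i hK hU f b hb q.1 q.2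
  obtain ⟨t, ht⟩ := hU.isCompact.elim_finite_subcover (fun q : U => (X.basicOpen (g q) : Set X))
    (fun q => (X.basicOpen (g q)).2) (fun x hx => Set.mem_iUnion.mpr ⟨⟨x, hx⟩, hq ⟨x, hx⟩⟩)
  refine ⟨t.sup N, ?_⟩
  rw [c_app_eq_zero_iff]
  intro x hx
  obtain ⟨q, hqt, hxq⟩ : ∃ q ∈ t, x ∈ X.basicOpen (g q) := by
    have := ht hx
    simp only [Set.mem_iUnion] at this
    obtain ⟨q, hqt, hxq⟩ := this
    exact ⟨q, hqt, hxq⟩
  refine (stalkC_eq_zero_iff i x _).mpr ⟨X.basicOpen (g q), hxq,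
    X.presheaf.map (homOfLE (X.basicOpen_le (g q))).op (f ^ t.sup N * b),
    TopCat.Presheaf.germ_res_apply _ _ _ _ _, ?_⟩
  have hle : N q ≤ t.sup N := Finset.le_sup hqt
  have : f ^ t.sup N * b = f ^ (t.sup N - N q) * (f ^ N q * b) := by
    rw [← mul_assoc, ← pow_add, Nat.sub_add_cancel hle]
  rw [this, map_mul, map_mul, hgN q, mul_zero]

/-- **Quasi-coherence of the kernel**: on an affine open `U`, the kernel of the stalk map of
`O_X → i_*O_Z` at `x ∈ U` is generated by the germs of the kernel of `Γ(X, U) → Γ(Z, i⁻¹U)`. -/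
theorem stalkC_ker_le_map (hK : LRSImm.KerLocallyGenerated i) {U : X.Opens}
    (hU : IsAffineOpen U) (x : X) (hx : x ∈ U) (a : X.presheaf.stalk x)
    (ha : stalkC i x a = 0) :
    a ∈ Ideal.map (X.presheaf.germ U x hx).hom (RingHom.ker (i.c.app (op U)).hom) := by
  obtain ⟨V, hxV, t, rfl, ht⟩ := (stalkC_eq_zero_iff i x a).mp ha
  obtain ⟨f, hfV, hxf⟩ := hU.exists_basicOpen_le ⟨x, hxV⟩ hx
  have ht' : i.c.app (op (X.basicOpen f)) (X.presheaf.map (homOfLE hfV).op t) = 0 := by
    rw [c_res i hfV t, ht, map_zero]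
  haveI := hU.isLocalization_basicOpen f
  obtain ⟨⟨b, m⟩, hbm⟩ := IsLocalization.surj (Submonoid.powers f)
    ((X.presheaf.map (homOfLE hfV).op).hom t)
  obtain ⟨n, hn⟩ := m.2
  have hbm' : (X.presheaf.map (homOfLE hfV).op).hom t *
      (X.presheaf.map (homOfLE (X.basicOpen_le f)).op).hom m.1 =
      (X.presheaf.map (homOfLE (X.basicOpen_le f)).op).hom b := hbm
  have hb : i.c.app (op (X.basicOpen f)) (X.presheaf.map (homOfLE (X.basicOpen_le f)).op b) = 0 := by
    show i.c.app (op (X.basicOpen f)) ((X.presheaf.map (homOfLE (X.basicOpen_le f)).op).hom b) = 0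
    rw [← hbm', map_mul]
    show i.c.app (op (X.basicOpen f)) (X.presheaf.map (homOfLE hfV).op t) * _ = 0
    rw [ht', zero_mul]
  obtain ⟨N, hN⟩ := exists_pow_mul_mem_ker i hK hU f b hb
  have hmem : (X.presheaf.germ U x hx).hom (f ^ N * b) ∈
      Ideal.map (X.presheaf.germ U x hx).hom (RingHom.ker (i.c.app (op U)).hom) :=
    Ideal.mem_map_of_mem _ hN
  have hu : IsUnit ((X.presheaf.germ U x hx).hom f) := (X.mem_basicOpen f x hx).mp hxf
  have e : (X.presheaf.germ U x hx).hom b =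
      (X.presheaf.germ V x hxV).hom t * (X.presheaf.germ U x hx).hom f ^ n := by
    have e1 := congrArg (X.presheaf.germ (X.basicOpen f) x hxf).hom hbm'
    rw [map_mul] at e1
    erw [TopCat.Presheaf.germ_res_apply, TopCat.Presheaf.germ_res_apply,
      TopCat.Presheaf.germ_res_apply] at e1
    rw [← e1, ← hn, map_pow]
  rw [map_mul, map_pow, e, mul_comm _ ((X.presheaf.germ U x hx).hom f ^ n), ← mul_assoc,
    ← pow_add] at hmem
  exact (Ideal.unit_mul_mem_iff_mem _ (hu.pow _)).mp hmem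

end Groth.Agent.Lib.Helper21.LRSImm2
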