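import Mathlib
import Groth.Prelude.Def_W4stkremschemesLRS
import Groth.Agent.Lib.Helper21.LRSImm1
import Groth.Agent.Lib.Helper21.LRSImm2

set_option backward.isDefEq.respectTransparency.types false
set_option linter.style.haveILetI false
set_option autoImplicit false
universe u
open CategoryTheory AlgebraicGeometry TopologicalSpace Opposite

/-! A closed immersion of a locally ringed space into an affine scheme which factors through a
closed immersion `ι` with the same kernel on global sections is isomorphic to it. -/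

namespace Groth.Agent.Lib.Helper21.LRSImm3

open Groth.Agent.Lib.Helper21.LRSImm1 Groth.Agent.Lib.Helper21.LRSImm2

/-- The (transfer-friendly) properties of a closed immersion of a locally ringed space into an
(affine) scheme that are used to identify it with `Spec (R ⧸ I)`. -/
structure GoodImm {X : Scheme.{u}} {Z : LocallyRingedSpace.{u}}
    (i : Z ⟶ X.toLocallyRingedSpace) : Prop where
  emb : Topology.IsClosedEmbedding i.base
  surj : ∀ z, Function.Surjective (i.stalkMap z)
  ker_top : ∀ x : X, x ∉ Set.range i.base →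
    (1 : X.presheaf.stalk x) ∈ Ideal.map (X.presheaf.germ ⊤ x trivial).hom
      (RingHom.ker (i.c.app (op ⊤)).hom)
  ker_stalk : ∀ (z : Z.toTopCat) (a : X.presheaf.stalk (i.base z)), i.stalkMap z a = 0 →
    a ∈ Ideal.map (X.presheaf.germ ⊤ (i.base z) trivial).hom (RingHom.ker (i.c.app (op ⊤)).hom)

theorem GoodImm.of_isClosedImmersion {X : Scheme.{u}} {Z : LocallyRingedSpace.{u}}
    (i : Z ⟶ X.toLocallyRingedSpace) (hX : IsAffineOpen (⊤ : X.Opens))
    (hi : LRSImm.IsClosedImmersion i) : GoodImm i := by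
  obtain ⟨hemb, hsurj, hK⟩ := hi
  refine ⟨hemb, stalkMap_surjective i hemb.isInducing hsurj, fun x hx => ?_, fun z a ha => ?_⟩
  · exact stalkC_ker_le_map i hK hX _ trivial 1
      (stalkC_eq_zero_of_notMem_range i hemb.isClosed_range _ hx 1)
  · exact stalkC_ker_le_map i hK hX _ trivial a
      (stalkC_eq_zero_of_stalkMap_eq_zero i hemb.isInducing z a ha)

theorem isIso_of_fac' {X : Scheme.{u}} {Y Z : LocallyRingedSpace.{u}} (e0 : Z ⟶ Y)
    (ι : Y ⟶ X.toLocallyRingedSpace)
    (h1 : GoodImm (e0 ≫ ι))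
    (hι1 : Topology.IsClosedEmbedding ι.base)
    (hι2 : ∀ q, Function.Surjective (ι.stalkMap q))
    (h2 : ∀ a : Γ(X, ⊤), (e0 ≫ ι).c.app (op ⊤) a = 0 → ι.c.app (op ⊤) a = 0) :
    IsIso e0 := by
  obtain ⟨hemb, hsurj, hk1, hk2⟩ := h1
  have hKer : ∀ q : Y.toTopCat,
      Ideal.map (X.presheaf.germ ⊤ (ι.base q) trivial).hom
        (RingHom.ker ((e0 ≫ ι).c.app (op ⊤)).hom) ≤ RingHom.ker (ι.stalkMap q).hom := by
    intro q
    rw [Ideal.map_le_iff_le_comap]
    intro a ha
    rw [Ideal.mem_comap, RingHom.mem_ker]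
    have := LocallyRingedSpace.stalkMap_germ_apply ι ⊤ q trivial a
    refine this.trans ?_
    rw [h2 a ha, map_zero]
  have hbase : ((e0 ≫ ι).base : Z.toTopCat → X) = ι.base ∘ e0.base := rfl
  have hce : Topology.IsClosedEmbedding e0.base :=
    (Topology.IsClosedEmbedding.of_comp_iff hι1).mp (hbase ▸ hemb)
  have hsurjb : Function.Surjective e0.base := by
    intro q
    by_contra hq
    have hp : ι.base q ∉ Set.range (e0 ≫ ι).base := by
      rintro ⟨z, hz⟩
      exact hq ⟨z, hι1.injective hz⟩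
    have h1' := hKer q (hk1 _ hp)
    rw [RingHom.mem_ker, map_one] at h1'
    exact one_ne_zero h1'
  have hbij : ∀ z, Function.Bijective (e0.stalkMap z) := by
    intro z
    have hcomp : (e0 ≫ ι).stalkMap z = ι.stalkMap (e0.base z) ≫ e0.stalkMap z :=
      LocallyRingedSpace.stalkMap_comp e0 ι z
    constructor
    · rw [injective_iff_map_eq_zero]
      intro y hy
      obtain ⟨a, rfl⟩ := hι2 (e0.base z) y
      have h3 : (e0 ≫ ι).stalkMap z a = 0 := by
        rw [hcomp]; exact hy
      exact hKer (e0.base z) (hk2 z a h3)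
    · have := hsurj z
      rw [hcomp] at this
      exact Function.Surjective.of_comp this
  haveI : ∀ z, IsIso (e0.stalkMap z) := fun z =>
    (ConcreteCategory.isIso_iff_bijective _).mpr (hbij z)
  have hopen : Topology.IsOpenEmbedding e0.base :=
    (isHomeomorph_iff_isEmbedding_surjective.mpr ⟨hce.isEmbedding, hsurjb⟩).isOpenEmbedding
  haveI := LocallyRingedSpace.IsOpenImmersion.of_stalk_iso e0 hopen
  haveI : Epi e0.base := (TopCat.epi_iff_surjective _).mpr hsurjb
  exact LocallyRingedSpace.IsOpenImmersion.to_iso e0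

theorem isIso_of_fac {X : Scheme.{u}} {Y Z : LocallyRingedSpace.{u}} (e0 : Z ⟶ Y)
    (ι : Y ⟶ X.toLocallyRingedSpace)
    (hX : IsAffineOpen (⊤ : X.Opens))
    (h1 : LRSImm.IsClosedImmersion (e0 ≫ ι))
    (hι1 : Topology.IsClosedEmbedding ι.base)
    (hι2 : ∀ q, Function.Surjective (ι.stalkMap q))
    (h2 : ∀ a : Γ(X, ⊤), (e0 ≫ ι).c.app (op ⊤) a = 0 → ι.c.app (op ⊤) a = 0) :
    IsIso e0 :=
  isIso_of_fac' e0 ι (GoodImm.of_isClosedImmersion _ hX h1) hι1 hι2 h2

/-- The affine case: a good immersion into `Spec R` is `Spec (R ⧸ I)`. -/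
theorem exists_iso_Spec_quotient (R : Type u) [CommRing R] (Z : LocallyRingedSpace.{u})
    (i : Z ⟶ (Spec (CommRingCat.of R)).toLocallyRingedSpace) (hi : GoodImm i)
    (I : Ideal R)
    (hI : I = RingHom.ker ((Scheme.ΓSpecIso (CommRingCat.of R)).inv ≫ i.c.app (op ⊤)).hom) :
    ∃ e : Z ≅ (Spec (CommRingCat.of (R ⧸ I))).toLocallyRingedSpace,
      e.hom ≫ (Spec.map (CommRingCat.ofHom (Ideal.Quotient.mk I))).toLRSHom = i := by
  let φ : CommRingCat.of R ⟶ LocallyRingedSpace.Γ.obj (op Z) :=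
    (Scheme.ΓSpecIso (CommRingCat.of R)).inv ≫ i.c.app (op ⊤)
  have hφ : ∀ a ∈ I, φ.hom a = 0 := fun a ha => by rw [hI] at ha; exact ha
  let ψ : CommRingCat.of (R ⧸ I) ⟶ LocallyRingedSpace.Γ.obj (op Z) :=
    CommRingCat.ofHom (Ideal.Quotient.lift I φ.hom hφ)
  let mkh : CommRingCat.of R ⟶ CommRingCat.of (R ⧸ I) :=
    CommRingCat.ofHom (Ideal.Quotient.mk I)
  have hmk : mkh ≫ ψ = φ := by
    ext a
    exact Ideal.Quotient.lift_mk I φ.hom hφ
  let e0 : Z ⟶ (Spec (CommRingCat.of (R ⧸ I))).toLocallyRingedSpace :=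
    Z.toΓSpec ≫ Spec.locallyRingedSpaceMap ψ
  have hi_eq : i = Z.toΓSpec ≫ Spec.locallyRingedSpaceMap φ := by
    have h := (ΓSpec.locallyRingedSpaceAdjunction.homEquiv Z
      (op (CommRingCat.of R))).apply_symm_apply i
    rw [ΓSpec.locallyRingedSpaceAdjunction_homEquiv_apply] at h
    rw [← h]
    rfl
  have hfac : e0 ≫ (Spec.map mkh).toLRSHom = i := by
    rw [hi_eq, ← hmk, Spec.locallyRingedSpaceMap_comp]
    rfl
  haveI : IsClosedImmersion (Spec.map mkh) :=
    IsClosedImmersion.spec_of_surjective mkh Ideal.Quotient.mk_surjective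
  have h2 : ∀ a : Γ(Spec (CommRingCat.of R), ⊤), i.c.app (op ⊤) a = 0 →
      (Spec.map mkh).toLRSHom.c.app (op ⊤) a = 0 := by
    intro a ha
    have hr : (Scheme.ΓSpecIso (CommRingCat.of R)).hom a ∈ I := by
      rw [hI, RingHom.mem_ker]
      have e : (Scheme.ΓSpecIso (CommRingCat.of R)).inv
          ((Scheme.ΓSpecIso (CommRingCat.of R)).hom a) = a := by
        rw [← CommRingCat.comp_apply, Iso.hom_inv_id, CommRingCat.id_apply]
      have e' : ((Scheme.ΓSpecIso (CommRingCat.of R)).inv ≫ i.c.app (op ⊤)).hom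
          ((Scheme.ΓSpecIso (CommRingCat.of R)).hom a) =
          i.c.app (op ⊤) ((Scheme.ΓSpecIso (CommRingCat.of R)).inv
            ((Scheme.ΓSpecIso (CommRingCat.of R)).hom a)) := rfl
      rw [e', e]
      exact ha
    have hnat := congr($(Scheme.ΓSpecIso_naturality mkh) a)
    rw [CommRingCat.comp_apply, CommRingCat.comp_apply] at hnat
    have hz : mkh ((Scheme.ΓSpecIso (CommRingCat.of R)).hom a) = 0 :=
      Ideal.Quotient.eq_zero_iff_mem.mpr hr
    rw [hz] at hnat
    have := congrArg (Scheme.ΓSpecIso (CommRingCat.of (R ⧸ I))).inv hnat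
    rw [← CommRingCat.comp_apply, Iso.hom_inv_id, CommRingCat.id_apply, map_zero] at this
    exact this
  haveI : IsIso e0 := by
    refine isIso_of_fac' e0 (Spec.map mkh).toLRSHom ?_ (Spec.map mkh).isClosedEmbedding
      (fun q => (Spec.map mkh).stalkMap_surjective q) ?_
    · rw [hfac]; exact hi
    · rw [hfac]; exact h2
  exact ⟨asIso e0, hfac⟩

end Groth.Agent.Lib.Helper21.LRSImm3
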