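import Mathlib
import Groth.Prelude.Def_W4stkremschemesLRS
import Groth.Agent.Lib.Helper21.LRSImm1
import Groth.Agent.Lib.Helper21.LRSImm2
import Groth.Agent.Lib.Helper21.LRSImm3

set_option backward.isDefEq.respectTransparency.types false
set_option linter.style.haveILetI false
set_option autoImplicit false
universe u
open CategoryTheory AlgebraicGeometry TopologicalSpace Opposite

/-! Restriction of a closed immersion of locally ringed spaces to an affine open of the target:
transfer of the `GoodImm` properties along a cartesian square of open immersions. -/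

namespace Groth.Agent.Lib.Helper21.LRSImm4

open Groth.Agent.Lib.Helper21.LRSImm1 Groth.Agent.Lib.Helper21.LRSImm2
  Groth.Agent.Lib.Helper21.LRSImm3

theorem stalkMap_germ_congr {Z X : LocallyRingedSpace.{u}} {f g : Z ⟶ X} (h : f = g)
    (V : Opens X.toTopCat) (t : X.presheaf.obj (op V)) (z : Z.toTopCat) (hz : f.base z ∈ V) :
    f.stalkMap z (X.presheaf.germ V (f.base z) hz t) =
      g.stalkMap z (X.presheaf.germ V (g.base z) (h ▸ hz) t) := by
  subst h; rfl

theorem c_app_congr {Z X : LocallyRingedSpace.{u}} {f g : Z ⟶ X} (h : f = g)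
    (V : Opens X.toTopCat) (t : X.presheaf.obj (op V)) :
    f.c.app (op V) t = 0 ↔ g.c.app (op V) t = 0 := by
  subst h; rfl

variable {X X' : Scheme.{u}} {Z Z' : LocallyRingedSpace.{u}}
  (i : Z ⟶ X.toLocallyRingedSpace) (j : Z' ⟶ X'.toLocallyRingedSpace)
  (u : X'.toLocallyRingedSpace ⟶ X.toLocallyRingedSpace) [LocallyRingedSpace.IsOpenImmersion u]
  (v : Z' ⟶ Z) [LocallyRingedSpace.IsOpenImmersion v]

include i j u v in
theorem base_comp_eq (sq : j ≫ u = v ≫ i) (z' : Z'.toTopCat) :
    u.base (j.base z') = i.base (v.base z') :=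
  congrArg (fun f : Z' ⟶ X.toLocallyRingedSpace => f.base z') sq

theorem notMem_range_of_square (sq : j ≫ u = v ≫ i)
    (hpb : ∀ z, i.base z ∈ Set.range u.base → z ∈ Set.range v.base)
    (x' : X') (hx' : x' ∉ Set.range j.base) : u.base x' ∉ Set.range i.base := by
  rintro ⟨z, hz⟩
  obtain ⟨z', rfl⟩ := hpb z (hz ▸ ⟨x', rfl⟩)
  have hu : Topology.IsOpenEmbedding u.base :=
    PresheafedSpace.IsOpenImmersion.base_open (f := u.toHom)
  exact hx' ⟨z', hu.injective ((base_comp_eq i j u v sq z').trans hz)⟩

theorem isClosedEmbedding_of_square (sq : j ≫ u = v ≫ i)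
    (hpb : ∀ z, i.base z ∈ Set.range u.base → z ∈ Set.range v.base)
    (hemb : Topology.IsClosedEmbedding i.base) : Topology.IsClosedEmbedding j.base := by
  have hu : Topology.IsOpenEmbedding u.base :=
    PresheafedSpace.IsOpenImmersion.base_open (f := u.toHom)
  have hv : Topology.IsOpenEmbedding v.base :=
    PresheafedSpace.IsOpenImmersion.base_open (f := v.toHom)
  have hcomp : (u.base : X' → X) ∘ j.base = i.base ∘ v.base :=
    funext fun z' => base_comp_eq i j u v sq z'
  have hemb' : Topology.IsEmbedding j.base :=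
    hu.isEmbedding.of_comp_iff.mp (hcomp ▸ hemb.isEmbedding.comp hv.isEmbedding)
  have hr : Set.range j.base = u.base ⁻¹' Set.range i.base := by
    ext x'
    constructor
    · rintro ⟨z', rfl⟩
      exact ⟨v.base z', (base_comp_eq i j u v sq z').symm⟩
    · intro hx
      by_contra hx'
      exact notMem_range_of_square i j u v sq hpb x' hx' hx
  exact ⟨hemb', hr ▸ hemb.isClosed_range.preimage u.base.hom.continuous⟩

theorem square_germ (sq : j ≫ u = v ≫ i) (V : X.Opens) (t : Γ(X, V)) (z' : Z'.toTopCat)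
    (hV : u.base (j.base z') ∈ V) (hV' : i.base (v.base z') ∈ V) :
    j.stalkMap z' (u.stalkMap (j.base z') (X.presheaf.germ V (u.base (j.base z')) hV t)) =
    v.stalkMap z' (i.stalkMap (v.base z') (X.presheaf.germ V (i.base (v.base z')) hV' t)) := by
  have h1 := stalkMap_germ_congr sq V t z' hV
  rw [LocallyRingedSpace.stalkMap_comp, LocallyRingedSpace.stalkMap_comp] at h1
  exact h1

theorem stalkMap_surjective_of_square (sq : j ≫ u = v ≫ i)
    (hs : ∀ z, Function.Surjective (i.stalkMap z)) (z' : Z'.toTopCat) :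
    Function.Surjective (j.stalkMap z') := by
  intro w
  obtain ⟨w₁, rfl⟩ := (ConcreteCategory.bijective_of_isIso (v.stalkMap z')).2 w
  obtain ⟨a, rfl⟩ := hs (v.base z') w₁
  obtain ⟨V, hV, t, rfl⟩ := X.presheaf.exists_germ_eq (x := i.base (v.base z')) a
  have hV' : u.base (j.base z') ∈ V := (base_comp_eq i j u v sq z') ▸ hV
  exact ⟨u.stalkMap (j.base z') (X.presheaf.germ V (u.base (j.base z')) hV' t),
    square_germ i j u v sq V t z' hV' hV⟩

theorem map_stalkMap_le (sq : j ≫ u = v ≫ i) {U : X.Opens} (hUr : ∀ x' : X', u.base x' ∈ U)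
    (x' : X') :
    Ideal.map (u.stalkMap x').hom (Ideal.map (X.presheaf.germ U (u.base x') (hUr x')).hom
      (RingHom.ker (i.c.app (op U)).hom)) ≤
      Ideal.map (X'.presheaf.germ ⊤ x' trivial).hom (RingHom.ker (j.c.app (op ⊤)).hom) := by
  rw [Ideal.map_map, Ideal.map_le_iff_le_comap]
  intro b hb
  rw [Ideal.mem_comap]
  show u.stalkMap x' (X.presheaf.germ U (u.base x') (hUr x') b) ∈ _
  rw [LocallyRingedSpace.stalkMap_germ_apply]
  have hle : (⊤ : Opens X') ≤ (Opens.map u.base).obj U := fun y _ => hUr y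
  have hb' : X'.presheaf.germ ⊤ x' trivial (X'.presheaf.map (homOfLE hle).op (u.c.app (op U) b)) =
      X'.presheaf.germ _ x' (hUr x') (u.c.app (op U) b) :=
    TopCat.Presheaf.germ_res_apply _ _ _ _ _
  rw [← hb']
  apply Ideal.mem_map_of_mem
  rw [RingHom.mem_ker]
  show j.c.app (op ⊤) (X'.presheaf.map (homOfLE hle).op (u.c.app (op U) b)) = 0
  rw [c_res j hle]
  have : j.c.app (op ((Opens.map u.base).obj U)) (u.c.app (op U) b) = 0 := by
    have h0 : (v ≫ i).c.app (op U) b = 0 := by
      show v.c.app _ (i.c.app (op U) b) = 0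
      rw [RingHom.mem_ker] at hb
      erw [hb, map_zero]
    exact (c_app_congr sq U b).mpr h0
  rw [this, map_zero]

/-- Transfer of the good-immersion properties along a cartesian square of open immersions whose
bottom open immersion `u : X' → X` lands in an affine open `U` of `X`. -/
theorem goodImm_of_square (sq : j ≫ u = v ≫ i)
    (hpb : ∀ z, i.base z ∈ Set.range u.base → z ∈ Set.range v.base)
    (hi : LRSImm.IsClosedImmersion i) {U : X.Opens} (hU : IsAffineOpen U)
    (hUr : ∀ x' : X', u.base x' ∈ U) : GoodImm j := by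
  obtain ⟨hemb, hsurj, hK⟩ := hi
  refine ⟨isClosedEmbedding_of_square i j u v sq hpb hemb,
    stalkMap_surjective_of_square i j u v sq (stalkMap_surjective i hemb.isInducing hsurj),
    fun x' hx' => ?_, fun z' a' ha' => ?_⟩
  · have hx := notMem_range_of_square i j u v sq hpb x' hx'
    have h1 := stalkC_ker_le_map i hK hU _ (hUr x') 1
      (stalkC_eq_zero_of_notMem_range i hemb.isClosed_range _ hx 1)
    have h2 := Ideal.mem_map_of_mem (u.stalkMap x').hom h1
    rw [map_one] at h2
    exact map_stalkMap_le i j u v sq hUr x' h2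
  · obtain ⟨a, rfl⟩ := (ConcreteCategory.bijective_of_isIso (u.stalkMap (j.base z'))).2 a'
    obtain ⟨V, hV, t, rfl⟩ := X.presheaf.exists_germ_eq (x := u.base (j.base z')) a
    have hpt := base_comp_eq i j u v sq z'
    have hV' : i.base (v.base z') ∈ V := hpt ▸ hV
    have h1 := square_germ i j u v sq V t z' hV hV'
    rw [ha'] at h1
    have h2 : i.stalkMap (v.base z') (X.presheaf.germ V (i.base (v.base z')) hV' t) = 0 := by
      apply (ConcreteCategory.bijective_of_isIso (v.stalkMap z')).1
      rw [← h1, map_zero]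
    have h3 := stalkC_eq_zero_of_stalkMap_eq_zero i hemb.isInducing _ _ h2
    have h4 := stalkC_ker_le_map i hK hU _ (hpt ▸ hUr (j.base z')) _ h3
    have key : ∀ (x : X) (_ : x = i.base (v.base z')) (hxV : x ∈ V) (hxU : x ∈ U),
        (X.presheaf.germ V x hxV).hom t ∈ Ideal.map (X.presheaf.germ U x hxU).hom
          (RingHom.ker (i.c.app (op U)).hom) := by
      rintro x rfl hxV hxU; exact h4
    have h5 := key _ hpt hV (hUr _)
    exact map_stalkMap_le i j u v sq hUr (j.base z')
      (Ideal.mem_map_of_mem (u.stalkMap (j.base z')).hom h5)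

omit [LocallyRingedSpace.IsOpenImmersion u] [LocallyRingedSpace.IsOpenImmersion v] in
/-- The restriction of a closed immersion `i : Z → X` of locally ringed spaces into a scheme to the
preimage of an affine open is an affine scheme. -/
theorem exists_restrict_iso_Spec (hi : LRSImm.IsClosedImmersion i) {U : X.Opens}
    (hU : IsAffineOpen U) :
    ∃ R : CommRingCat.{u}, Nonempty (Z.restrict ((Opens.map i.base).obj U).isOpenEmbedding ≅
      Spec.toLocallyRingedSpace.obj (op R)) := by
  let v := Z.ofRestrict ((Opens.map i.base).obj U).isOpenEmbedding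
  let u := hU.fromSpec.toLRSHom
  have hrange : Set.range (v ≫ i).base ⊆ Set.range u.base := by
    rintro _ ⟨z', rfl⟩
    have : i.base (v.base z') ∈ (U : Set X) := z'.2
    rw [← hU.range_fromSpec] at this
    exact this
  let j := LocallyRingedSpace.IsOpenImmersion.lift u (v ≫ i) hrange
  have sq : j ≫ u = v ≫ i := LocallyRingedSpace.IsOpenImmersion.lift_fac u (v ≫ i) hrange
  have hpb : ∀ z, i.base z ∈ Set.range u.base → z ∈ Set.range v.base := by
    intro z hz
    have : i.base z ∈ (U : Set X) := by rw [← hU.range_fromSpec]; exact hz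
    exact ⟨⟨z, this⟩, rfl⟩
  have hUr : ∀ x' : Spec Γ(X, U), u.base x' ∈ U := fun x' => by
    have : u.base x' ∈ Set.range hU.fromSpec := ⟨x', rfl⟩
    rw [hU.range_fromSpec] at this; exact this
  have hgood : GoodImm (X := Spec (CommRingCat.of Γ(X, U))) j :=
    goodImm_of_square i j u v sq hpb hi hU hUr
  obtain ⟨e, -⟩ := exists_iso_Spec_quotient Γ(X, U) _ j hgood _ rfl
  exact ⟨_, ⟨e⟩⟩

end Groth.Agent.Lib.Helper21.LRSImm4
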