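import Mathlib

set_option autoImplicit false
set_option backward.isDefEq.respectTransparency.types false
set_option linter.style.haveILetI false
universe u v
open CategoryTheory CategoryTheory.Limits

namespace Groth.Agent.Lib.Helper21.LesDim

/-- exactness in the middle bounds the dimension of the middle term. -/
theorem finrank_le_of_range_eq_ker {k : Type*} [Field k] {U V W : Type*} [AddCommGroup U]
    [AddCommGroup V] [AddCommGroup W] [Module k U] [Module k V] [Module k W]
    [Module.Finite k U] [Module.Finite k V] [Module.Finite k W]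
    (f : U →ₗ[k] V) (g : V →ₗ[k] W) (h : LinearMap.range f = LinearMap.ker g) :
    Module.finrank k V ≤ Module.finrank k U + Module.finrank k W := by
  have h1 := LinearMap.finrank_range_add_finrank_ker g
  have h2 : Module.finrank k (LinearMap.ker g) ≤ Module.finrank k U := by
    rw [← h]
    exact LinearMap.finrank_range_le f
  have h3 : Module.finrank k (LinearMap.range g) ≤ Module.finrank k W :=
    Submodule.finrank_le _
  omega

section
variable {C : Type u} [Category.{v} C] [Abelian C]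

/-- splitting a long exact sequence into short exact pieces. -/
theorem shortExact_kernelLift {A B C' D : C} (f : A ⟶ B) [Mono f] (d : B ⟶ C') (d' : C' ⟶ D)
    (w : f ≫ d = 0) (w' : d ≫ d' = 0) (h1 : (ShortComplex.mk f d w).Exact)
    (h2 : (ShortComplex.mk d d' w').Exact) :
    (ShortComplex.mk f (kernel.lift d' d w') (by
      rw [← cancel_mono (kernel.ι d'), Category.assoc, kernel.lift_ι, w, zero_comp])).ShortExact := by
  have hz : f ≫ kernel.lift d' d w' = 0 := by
    rw [← cancel_mono (kernel.ι d'), Category.assoc, kernel.lift_ι, w, zero_comp]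
  let φ : ShortComplex.mk f (kernel.lift d' d w') hz ⟶ ShortComplex.mk f d w :=
    { τ₁ := 𝟙 _, τ₂ := 𝟙 _, τ₃ := kernel.ι d'
      comm₁₂ := by simp
      comm₂₃ := by simp }
  haveI : Epi φ.τ₁ := by dsimp [φ]; infer_instance
  haveI : IsIso φ.τ₂ := by dsimp [φ]; infer_instance
  haveI : Mono φ.τ₃ := by dsimp [φ]; infer_instance
  have hex : (ShortComplex.mk f (kernel.lift d' d w') hz).Exact :=
    (ShortComplex.exact_iff_of_epi_of_isIso_of_mono φ).mpr h1
  haveI : Epi (kernel.lift d' d w') := by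
    have := (ShortComplex.exact_iff_epi_kernel_lift (ShortComplex.mk d d' w')).mp h2
    exact this
  exact { exact := hex, mono_f := ‹Mono f›, epi_g := ‹_› }

end


theorem claimZ (H HZ : ℕ → ℕ → ℕ)
    (z0 : ∀ j, HZ (j + 1) 0 ≤ H (j + 1) 0)
    (zs : ∀ j m, HZ (j + 1) (m + 1) ≤ HZ (j + 2) m + H (j + 1) (m + 1)) :
    ∀ m j, HZ (j + 1) m ≤ ∑ t ∈ Finset.range (m + 1), H (j + 1 + t) (m - t) := by
  intro m
  induction m with
  | zero =>
    intro j
    simpa using z0 j
  | succ m ih =>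
    intro j
    have h1 := zs j m
    have h2 : HZ (j + 2) m ≤ ∑ t ∈ Finset.range (m + 1), H (j + 2 + t) (m - t) := ih (j + 1)
    have h3 : ∑ t ∈ Finset.range (m + 1 + 1), H (j + 1 + t) (m + 1 - t) =
        ∑ t ∈ Finset.range (m + 1), H (j + 2 + t) (m - t) + H (j + 1) (m + 1) := by
      rw [Finset.sum_range_succ']
      congr 1
      refine Finset.sum_congr rfl (fun t _ => ?_)
      rw [show j + 1 + (t + 1) = j + 2 + t by omega, show m + 1 - (t + 1) = m - t by omega]
    rw [h3]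
    omega

theorem sum_Icc_reindex (F : ℕ → ℕ → ℕ) (n : ℕ) :
    (Finset.Icc 1 n).sum (fun j => ((F (j + 1) (n - j) : ℕ) : ℤ)) =
      ((∑ t ∈ Finset.range n, F (2 + t) (n - 1 - t) : ℕ) : ℤ) := by
  have h1 : Finset.Icc 1 n = Finset.Ico 1 (n + 1) := by
    ext x; simp
  rw [h1, Finset.sum_Ico_eq_sum_range]
  push_cast
  refine Finset.sum_congr (by simp) (fun t _ => ?_)
  rw [show 1 + t + 1 = 2 + t by omega, show n - (1 + t) = n - 1 - t by omega]

theorem arith (H HZ : ℕ → ℕ → ℕ)
    (z0 : ∀ j, HZ (j + 1) 0 ≤ H (j + 1) 0)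
    (zs : ∀ j m, HZ (j + 1) (m + 1) ≤ HZ (j + 2) m + H (j + 1) (m + 1))
    (a : ∀ m, H 1 m ≤ H 0 m + HZ 2 m)
    (b : ∀ m, H 0 (m + 1) ≤ HZ 2 m + H 1 (m + 1))
    (b0 : H 0 0 ≤ H 1 0) (i : ℕ) :
    |(H 0 i : ℤ) - (H 1 i : ℤ)| ≤
      (Finset.Icc 1 (i + 1)).sum (fun j => ((H (j + 1) (i + 1 - j) : ℕ) : ℤ)) +
        (Finset.Icc 1 i).sum (fun j => ((H (j + 1) (i - j) : ℕ) : ℤ)) := by
  have hZ : ∀ m, HZ 2 m ≤ ∑ t ∈ Finset.range (m + 1), H (2 + t) (m - t) := fun m => by
    have := claimZ H HZ z0 zs m 1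
    simpa using this
  rw [sum_Icc_reindex H (i + 1), sum_Icc_reindex H i]
  have e1 : HZ 2 i ≤ ∑ t ∈ Finset.range (i + 1), H (2 + t) (i + 1 - 1 - t) := by
    simpa using hZ i
  generalize (∑ t ∈ Finset.range (i + 1), H (2 + t) (i + 1 - 1 - t)) = s1 at *
  rw [abs_le]
  cases i with
  | zero =>
    have := a 0
    simp only [Finset.range_zero, Finset.sum_empty]
    constructor <;> push_cast <;> omega
  | succ i =>
    have e2 : HZ 2 i ≤ ∑ t ∈ Finset.range (i + 1), H (2 + t) (i + 1 - 1 - t) := by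
      simpa using hZ i
    generalize (∑ t ∈ Finset.range (i + 1), H (2 + t) (i + 1 - 1 - t)) = s2 at *
    have ha := a (i + 1)
    have hb := b i
    constructor <;> push_cast <;> omega


section
variable {C : Type u} [Category.{v} C] [Abelian C]

/-- the short complex `ker d_{j+1} → C_{j+1} → ker d_{j+2}`. -/
noncomputable abbrev pieceT (M : ℕ → C) (d : ∀ j, M j ⟶ M (j + 1)) (hd : ∀ j, d j ≫ d (j + 1) = 0)
    (j : ℕ) : ShortComplex C :=
  ShortComplex.mk (kernel.ι (d (j + 1))) (kernel.lift (d (j + 2)) (d (j + 1)) (hd (j + 1))) (by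
    rw [← cancel_mono (kernel.ι (d (j + 2))), Category.assoc, kernel.lift_ι, kernel.condition,
      zero_comp])

/-- the short complex `C_0 → C_1 → ker d_2`. -/
noncomputable abbrev pieceT' (M : ℕ → C) (d : ∀ j, M j ⟶ M (j + 1)) (hd : ∀ j, d j ≫ d (j + 1) = 0) :
    ShortComplex C :=
  ShortComplex.mk (d 0) (kernel.lift (d 2) (d 1) (hd 1)) (by
    rw [← cancel_mono (kernel.ι (d 2)), Category.assoc, kernel.lift_ι, hd 0, zero_comp])

theorem pieceT_shortExact (M : ℕ → C) (d : ∀ j, M j ⟶ M (j + 1)) (hd : ∀ j, d j ≫ d (j + 1) = 0)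
    (hex : ∀ j, (ShortComplex.mk (d j) (d (j + 1)) (hd j)).Exact) (j : ℕ) :
    (pieceT M d hd j).ShortExact :=
  shortExact_kernelLift (kernel.ι (d (j + 1))) (d (j + 1)) (d (j + 2))
    (kernel.condition _) (hd (j + 1))
    (ShortComplex.exact_of_f_is_kernel _ (kernelIsKernel (d (j + 1)))) (hex (j + 1))

theorem pieceT'_shortExact (M : ℕ → C) (d : ∀ j, M j ⟶ M (j + 1)) (hd : ∀ j, d j ≫ d (j + 1) = 0)
    [Mono (d 0)] (hex : ∀ j, (ShortComplex.mk (d j) (d (j + 1)) (hd j)).Exact) :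
    (pieceT' M d hd).ShortExact :=
  shortExact_kernelLift (d 0) (d 1) (d 2) (hd 0) (hd 1) (hex 0) (hex 1)

end

end Groth.Agent.Lib.Helper21.LesDim
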