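import Mathlib

/-!
# Helper21 — LiftQuotA: a finite birational extension `A' ⊆ A` (`A'_f = A_f`) is `f⁻ᶜ I` for an
ideal `I ⊆ A'`.
-/

set_option autoImplicit false

namespace Groth.Agent.Lib.Helper21.LiftQuot

universe u

section Stage1
variable {A' A : Type u} [CommRing A'] [CommRing A] [Algebra A' A] [Module.Finite A' A] (f : A')
  (hf : algebraMap A' A f ∈ nonZeroDivisors A)

include hf in
/-- a power of `f` multiplies `A` into the image of `A'`. -/
theorem exists_pow_smul_mem_range
    (hsurj : Function.Surjective (IsLocalization.Away.map (Localization.Away f)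
      (Localization.Away (algebraMap A' A f)) (algebraMap A' A) f)) :
    ∃ c : ℕ, ∀ a : A, ∃ x : A', algebraMap A' A x = f ^ c • a := by
  classical
  let ι : A' →ₗ[A'] A := Algebra.linearMap A' A
  let N : ℕ → Submodule A' A := fun k =>
    (LinearMap.range ι).comap ((f ^ k) • (LinearMap.id : A →ₗ[A'] A))
  have hN : ∀ k a, a ∈ N k ↔ ∃ x : A', algebraMap A' A x = f ^ k • a := by
    intro k a
    show (f ^ k) • a ∈ LinearMap.range ι ↔ _
    rw [LinearMap.mem_range]
    rfl
  have hmono : ∀ k k', k ≤ k' → N k ≤ N k' := by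
    intro k k' hkk' a ha
    rw [hN] at ha ⊢
    obtain ⟨x, hx⟩ := ha
    refine ⟨f ^ (k' - k) * x, ?_⟩
    rw [map_mul, hx, ← Algebra.smul_def, smul_smul, ← pow_add, Nat.sub_add_cancel hkk']
  have hex : ∀ a : A, ∃ k, a ∈ N k := by
    intro a
    obtain ⟨w, hw⟩ := hsurj (algebraMap A (Localization.Away (algebraMap A' A f)) a)
    obtain ⟨⟨x', ⟨_, k, rfl⟩⟩, hx'⟩ := IsLocalization.surj (Submonoid.powers f) w
    have h1 := congrArg (IsLocalization.Away.map (Localization.Away f)
      (Localization.Away (algebraMap A' A f)) (algebraMap A' A) f) hx'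
    rw [map_mul, hw] at h1
    simp only [IsLocalization.Away.map, IsLocalization.map_eq] at h1
    rw [← map_mul, ← sub_eq_zero, ← map_sub,
      IsLocalization.map_eq_zero_iff (Submonoid.powers (algebraMap A' A f))] at h1
    obtain ⟨⟨_, m, rfl⟩, hm⟩ := h1
    have h2 : a * algebraMap A' A (f ^ k) - algebraMap A' A x' = 0 := by
      have hnz : (algebraMap A' A f) ^ m ∈ nonZeroDivisors A := pow_mem hf m
      exact (mul_left_mem_nonZeroDivisors_eq_zero_iff hnz).1 hm
    refine ⟨k, (hN k a).2 ⟨x', ?_⟩⟩
    rw [Algebra.smul_def, mul_comm]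
    exact (sub_eq_zero.1 h2).symm
  obtain ⟨s, hs⟩ := Module.Finite.fg_top (R := A') (M := A)
  choose k hk using hex
  refine ⟨s.sup k, fun a => ?_⟩
  have hle : (⊤ : Submodule A' A) ≤ N (s.sup k) := by
    rw [← hs, Submodule.span_le]
    intro b hb
    exact hmono _ _ (Finset.le_sup hb) (hk b)
  exact (hN _ a).1 (hle trivial)

end Stage1

section Stage2
variable {A' A : Type u} [CommRing A'] [CommRing A] [Algebra A' A]
  (hinj : Function.Injective (algebraMap A' A)) (f : A')
  (hf : algebraMap A' A f ∈ nonZeroDivisors A) (c : ℕ)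
  (hc : ∀ a : A, ∃ x : A', algebraMap A' A x = f ^ c • a)

/-- `θ a = fᶜ a`, as an element of `A'`. -/
noncomputable def theta : A →ₗ[A'] A' :=
  ((LinearEquiv.ofInjective (Algebra.linearMap A' A) hinj).symm.toLinearMap).comp
    (((f ^ c) • (LinearMap.id : A →ₗ[A'] A)).codRestrict (LinearMap.range (Algebra.linearMap A' A))
      (fun a => by
        obtain ⟨x, hx⟩ := hc a
        exact ⟨x, hx⟩))

theorem algebraMap_theta (a : A) : algebraMap A' A (theta hinj f c hc a) = f ^ c • a := by
  have h := (LinearEquiv.ofInjective (Algebra.linearMap A' A) hinj).apply_symm_apply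
    ((((f ^ c) • (LinearMap.id : A →ₗ[A'] A)).codRestrict
      (LinearMap.range (Algebra.linearMap A' A)) (fun a => by
        obtain ⟨x, hx⟩ := hc a
        exact ⟨x, hx⟩)) a)
  exact congrArg Subtype.val h

theorem theta_eq_iff (a : A) (x : A') : theta hinj f c hc a = x ↔ algebraMap A' A x = f ^ c • a := by
  constructor
  · rintro rfl
    exact algebraMap_theta hinj f c hc a
  · intro h
    apply hinj
    rw [algebraMap_theta, h]

include hf in
theorem theta_injective : Function.Injective (theta hinj f c hc) := by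
  rw [injective_iff_map_eq_zero]
  intro a ha
  have h1 := algebraMap_theta hinj f c hc a
  rw [ha, map_zero, Algebra.smul_def, map_pow] at h1
  exact (mul_left_mem_nonZeroDivisors_eq_zero_iff (pow_mem hf c)).1 h1.symm

theorem theta_one : theta hinj f c hc 1 = f ^ c := by
  rw [theta_eq_iff, Algebra.smul_def, mul_one]

theorem theta_mul (a b : A) :
    theta hinj f c hc a * theta hinj f c hc b = f ^ c * theta hinj f c hc (a * b) := by
  apply hinj
  rw [map_mul, map_mul, algebraMap_theta, algebraMap_theta, algebraMap_theta]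
  simp only [Algebra.smul_def]
  ring

theorem theta_algebraMap (x : A') : theta hinj f c hc (algebraMap A' A x) = f ^ c * x := by
  rw [theta_eq_iff, map_mul, Algebra.smul_def]

theorem theta_f_mul (a : A) :
    theta hinj f c hc (algebraMap A' A f * a) = f * theta hinj f c hc a := by
  rw [← Algebra.smul_def, map_smul, smul_eq_mul]

/-- the ideal `I = fᶜ A` of `A'`. -/
noncomputable def idealI : Ideal A' := LinearMap.range (theta hinj f c hc)

theorem theta_mem (a : A) : theta hinj f c hc a ∈ idealI hinj f c hc := ⟨a, rfl⟩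

theorem pow_mul_mem (x : A') : f ^ c * x ∈ idealI hinj f c hc :=
  ⟨algebraMap A' A x, theta_algebraMap hinj f c hc x⟩

theorem idealI_fg [Module.Finite A' A] : (idealI hinj f c hc).FG := by
  have h : (⊤ : Submodule A' A).FG := Module.Finite.fg_top
  have h2 := h.map (theta hinj f c hc)
  rwa [Submodule.map_top] at h2

end Stage2

end Groth.Agent.Lib.Helper21.LiftQuot
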