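import Mathlib

/-!
# Helper21 — LiftQuotB: transporting an ideal along an isomorphism `A'/fⁿ ≃ B'/gⁿ`.
-/

set_option autoImplicit false

namespace Groth.Agent.Lib.Helper21.LiftQuot

universe u

section Rel
variable {A' B' : Type u} [CommRing A'] [CommRing B'] (f : A') (g : B') (n : ℕ)
  (φ' : (A' ⧸ Ideal.span {f ^ n}) ≃+* (B' ⧸ Ideal.span {g ^ n}))

/-- `x` and `y` correspond under `φ'`. -/
def Rel (x : A') (y : B') : Prop :=
  φ' (Ideal.Quotient.mk (Ideal.span {f ^ n}) x) = Ideal.Quotient.mk (Ideal.span {g ^ n}) y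

variable {f g n φ'}

theorem rel_zero : Rel f g n φ' 0 0 := by
  unfold Rel
  rw [map_zero, map_zero, map_zero]

theorem rel_one : Rel f g n φ' 1 1 := by
  unfold Rel
  rw [map_one, map_one, map_one]

theorem Rel.add {x x' : A'} {y y' : B'} (h : Rel f g n φ' x y) (h' : Rel f g n φ' x' y') :
    Rel f g n φ' (x + x') (y + y') := by
  unfold Rel at *
  rw [map_add, map_add, map_add, h, h']

theorem Rel.mul {x x' : A'} {y y' : B'} (h : Rel f g n φ' x y) (h' : Rel f g n φ' x' y') :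
    Rel f g n φ' (x * x') (y * y') := by
  unfold Rel at *
  rw [map_mul, map_mul, map_mul, h, h']

theorem Rel.pow {x : A'} {y : B'} (h : Rel f g n φ' x y) (k : ℕ) :
    Rel f g n φ' (x ^ k) (y ^ k) := by
  unfold Rel at *
  rw [map_pow, map_pow, map_pow, h]

theorem rel_pow_n_mul (w : B') : Rel f g n φ' 0 (g ^ n * w) := by
  unfold Rel
  rw [map_zero, map_zero]
  symm
  rw [Ideal.Quotient.eq_zero_iff_mem]
  exact Ideal.mul_mem_right _ _ (Ideal.mem_span_singleton_self _)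

theorem exists_right (x : A') : ∃ y : B', Rel f g n φ' x y := by
  obtain ⟨y, hy⟩ := Ideal.Quotient.mk_surjective
    (φ' (Ideal.Quotient.mk (Ideal.span {f ^ n}) x))
  exact ⟨y, hy.symm⟩

theorem exists_left (y : B') : ∃ x : A', Rel f g n φ' x y := by
  obtain ⟨x, hx⟩ := Ideal.Quotient.mk_surjective
    (φ'.symm (Ideal.Quotient.mk (Ideal.span {g ^ n}) y))
  refine ⟨x, ?_⟩
  unfold Rel
  rw [hx, RingEquiv.apply_symm_apply]

theorem Rel.right_unique {x : A'} {y y' : B'} (h : Rel f g n φ' x y) (h' : Rel f g n φ' x y') :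
    ∃ w : B', y' = y + g ^ n * w := by
  unfold Rel at *
  have h1 : Ideal.Quotient.mk (Ideal.span {g ^ n}) y' = Ideal.Quotient.mk (Ideal.span {g ^ n}) y :=
    h'.symm.trans h
  rw [Ideal.Quotient.eq, Ideal.mem_span_singleton'] at h1
  obtain ⟨w, hw⟩ := h1
  exact ⟨w, by rw [mul_comm, hw]; ring⟩

theorem Rel.left_unique {x x' : A'} {y : B'} (h : Rel f g n φ' x y) (h' : Rel f g n φ' x' y) :
    ∃ u : A', x' = x + f ^ n * u := by
  unfold Rel at *
  have h1 : Ideal.Quotient.mk (Ideal.span {f ^ n}) x' = Ideal.Quotient.mk (Ideal.span {f ^ n}) x :=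
    φ'.injective (h'.trans h.symm)
  rw [Ideal.Quotient.eq, Ideal.mem_span_singleton'] at h1
  obtain ⟨w, hw⟩ := h1
  exact ⟨w, by rw [mul_comm, hw]; ring⟩

end Rel

section Transport
variable {A' B' : Type u} [CommRing A'] [CommRing B'] (f : A') (g : B') (n : ℕ)
  (φ' : (A' ⧸ Ideal.span {f ^ n}) ≃+* (B' ⧸ Ideal.span {g ^ n}))
  (I : Ideal A')

/-- the transported ideal. -/
def idealB : Ideal B' where
  carrier := {y | ∃ x ∈ I, Rel f g n φ' x y}
  zero_mem' := ⟨0, I.zero_mem, rel_zero⟩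
  add_mem' := by
    rintro y y' ⟨x, hx, h⟩ ⟨x', hx', h'⟩
    exact ⟨x + x', I.add_mem hx hx', h.add h'⟩
  smul_mem' := by
    rintro b y ⟨x, hx, h⟩
    obtain ⟨xb, hxb⟩ := exists_left (f := f) (g := g) (n := n) (φ' := φ') b
    exact ⟨xb * x, I.mul_mem_left _ hx, hxb.mul h⟩

variable {f g n φ' I}

theorem mem_idealB {y : B'} : y ∈ idealB f g n φ' I ↔ ∃ x ∈ I, Rel f g n φ' x y := Iff.rfl

theorem mem_idealB_of_rel {x : A'} {y : B'} (hx : x ∈ I) (h : Rel f g n φ' x y) :
    y ∈ idealB f g n φ' I := ⟨x, hx, h⟩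

variable (c : ℕ) (hcn : c ≤ n) (hI : ∀ x : A', f ^ c * x ∈ I)

include hcn hI in
theorem mem_of_rel_of_mem_idealB {x : A'} {y : B'} (hy : y ∈ idealB f g n φ' I)
    (h : Rel f g n φ' x y) : x ∈ I := by
  obtain ⟨x', hx', h'⟩ := hy
  obtain ⟨u, rfl⟩ := h'.left_unique h
  refine I.add_mem hx' ?_
  have : f ^ n * u = f ^ c * (f ^ (n - c) * u) := by
    rw [← mul_assoc, ← pow_add, Nat.add_sub_cancel' hcn]
  rw [this]
  exact hI _

variable (hfg : Rel f g n φ' f g)

include hI hfg in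
theorem pow_mul_mem_idealB (b : B') : g ^ c * b ∈ idealB f g n φ' I := by
  obtain ⟨xb, hxb⟩ := exists_left (f := f) (g := g) (n := n) (φ' := φ') b
  exact ⟨f ^ c * xb, hI xb, (hfg.pow c).mul hxb⟩

include hcn hI hfg in
theorem pow_n_mul_mem_idealB (b : B') : g ^ n * b ∈ idealB f g n φ' I := by
  have : g ^ n * b = g ^ c * (g ^ (n - c) * b) := by
    rw [← mul_assoc, ← pow_add, Nat.add_sub_cancel' hcn]
  rw [this]
  exact pow_mul_mem_idealB c hI hfg _

variable (h2cn : 2 * c ≤ n) (hmul : ∀ x ∈ I, ∀ x' ∈ I, ∃ z ∈ I, x * x' = f ^ c * z)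

include h2cn hI hfg hmul in
theorem exists_mul_eq_pow_mul {y y' : B'} (hy : y ∈ idealB f g n φ' I)
    (hy' : y' ∈ idealB f g n φ' I) : ∃ y₃ ∈ idealB f g n φ' I, y * y' = g ^ c * y₃ := by
  obtain ⟨x, hx, h⟩ := hy
  obtain ⟨x', hx', h'⟩ := hy'
  obtain ⟨z, hz, hxz⟩ := hmul x hx x' hx'
  obtain ⟨y₃, h₃⟩ := exists_right (f := f) (g := g) (n := n) (φ' := φ') z
  have h4 : Rel f g n φ' (x * x') (g ^ c * y₃) := by
    rw [hxz]
    exact (hfg.pow c).mul h₃
  obtain ⟨w, hw⟩ := h4.right_unique (h.mul h')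
  have hcn : c ≤ n := by omega
  refine ⟨y₃ + g ^ (n - 2 * c) * (g ^ c * w), ?_, ?_⟩
  · refine Ideal.add_mem _ (mem_idealB_of_rel hz h₃) (Ideal.mul_mem_left _ _ ?_)
    exact pow_mul_mem_idealB c hI hfg w
  · rw [hw, mul_add]
    congr 1
    have : g ^ n = g ^ c * (g ^ (n - 2 * c) * g ^ c) := by
      rw [← pow_add, ← pow_add]
      congr 1
      omega
    rw [this]
    ring

include hcn hI hfg in
theorem idealB_fg (hIfg : I.FG) : (idealB f g n φ' I).FG := by
  classical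
  obtain ⟨s, hs⟩ := hIfg
  let yy : A' → B' := fun x => Classical.choose (exists_right (f := f) (g := g) (n := n) (φ' := φ') x)
  have hyy : ∀ x, Rel f g n φ' x (yy x) := fun x =>
    Classical.choose_spec (exists_right (f := f) (g := g) (n := n) (φ' := φ') x)
  let J : Ideal B' := Ideal.span ((s.image yy : Finset B') : Set B') ⊔ Ideal.span {g ^ n}
  have hJfg : J.FG := Submodule.FG.sup ⟨s.image yy, rfl⟩ ⟨{g ^ n}, by simp⟩
  have hgn : ∀ w : B', g ^ n * w ∈ J := fun w =>
    Ideal.mul_mem_right _ _ (Ideal.mem_sup_right (Ideal.mem_span_singleton_self _))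
  have key : ∀ x ∈ Ideal.span (s : Set A'), ∀ y, Rel f g n φ' x y → y ∈ J := by
    intro x hx
    induction hx using Submodule.span_induction with
    | mem x hx =>
      intro y hy
      obtain ⟨w, rfl⟩ := (hyy x).right_unique hy
      refine J.add_mem (Ideal.mem_sup_left (Ideal.subset_span ?_)) (hgn w)
      exact Finset.mem_coe.2 (Finset.mem_image_of_mem _ hx)
    | zero =>
      intro y hy
      obtain ⟨w, rfl⟩ := (rel_zero (f := f) (g := g) (n := n) (φ' := φ')).right_unique hy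
      rw [zero_add]
      exact hgn w
    | add x₁ x₂ _ _ ih₁ ih₂ =>
      intro y hy
      obtain ⟨w, rfl⟩ := ((hyy x₁).add (hyy x₂)).right_unique hy
      exact J.add_mem (J.add_mem (ih₁ _ (hyy x₁)) (ih₂ _ (hyy x₂))) (hgn w)
    | smul α x _ ih =>
      intro y hy
      have h1 : Rel f g n φ' (α • x) (yy α * yy x) := (hyy α).mul (hyy x)
      obtain ⟨w, rfl⟩ := h1.right_unique hy
      exact J.add_mem (J.mul_mem_left _ (ih _ (hyy x))) (hgn w)
  have heq : idealB f g n φ' I = J := by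
    apply le_antisymm
    · rintro y ⟨x, hx, h⟩
      rw [← hs] at hx
      exact key x hx y h
    · refine sup_le ?_ ?_
      · rw [Ideal.span_le]
        intro y hy
        obtain ⟨x, hx, rfl⟩ := Finset.mem_image.1 (Finset.mem_coe.1 hy)
        refine mem_idealB_of_rel ?_ (hyy x)
        rw [← hs]
        exact Ideal.subset_span hx
      · rw [Ideal.span_singleton_le_iff_mem]
        have := pow_n_mul_mem_idealB (φ' := φ') (I := I) c hcn hI hfg 1
        rwa [mul_one] at this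
  rw [heq]
  exact hJfg

end Transport

end Groth.Agent.Lib.Helper21.LiftQuot
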