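import Mathlib
import Groth.Agent.Lib.Helper21.LiftQuotA
import Groth.Agent.Lib.Helper21.LiftQuotB

/-!
# Helper21 — LiftQuotC: the ring `g⁻ᶜ I_B ⊆ B'_g`.
-/

set_option autoImplicit false

namespace Groth.Agent.Lib.Helper21.LiftQuot

universe u

section RingB
variable {B' : Type u} [CommRing B'] (g : B') (c : ℕ) (IB : Ideal B')
  (Q1 : ∀ b : B', g ^ c * b ∈ IB)
  (Q2 : ∀ y ∈ IB, ∀ y' ∈ IB, ∃ y₃ ∈ IB, y * y' = g ^ c * y₃)

theorem isUnit_u : IsUnit (algebraMap B' (Localization.Away g) g) :=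
  IsLocalization.Away.algebraMap_isUnit g

theorem cancel_pow {z z' : Localization.Away g}
    (h : z * algebraMap B' (Localization.Away g) g ^ c =
      z' * algebraMap B' (Localization.Away g) g ^ c) : z = z' :=
  ((isUnit_u g).pow c).mul_left_injective h

/-- the ring `g⁻ᶜ I_B`. -/
def ringB : Subring (Localization.Away g) where
  carrier := {z | ∃ y ∈ IB, z * algebraMap B' (Localization.Away g) g ^ c =
    algebraMap B' (Localization.Away g) y}
  one_mem' := ⟨g ^ c, by simpa using Q1 1, by rw [one_mul, map_pow]⟩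
  mul_mem' := by
    rintro z z' ⟨y, hy, h⟩ ⟨y', hy', h'⟩
    obtain ⟨y₃, hy₃, h₃⟩ := Q2 y hy y' hy'
    refine ⟨y₃, hy₃, cancel_pow g c ?_⟩
    calc z * z' * algebraMap B' (Localization.Away g) g ^ c *
          algebraMap B' (Localization.Away g) g ^ c
        = (z * algebraMap B' (Localization.Away g) g ^ c) *
          (z' * algebraMap B' (Localization.Away g) g ^ c) := by ring
      _ = algebraMap B' (Localization.Away g) (y * y') := by rw [h, h', map_mul]
      _ = algebraMap B' (Localization.Away g) y₃ * algebraMap B' (Localization.Away g) g ^ c := by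
          rw [h₃, map_mul, map_pow, mul_comm]
  zero_mem' := ⟨0, IB.zero_mem, by rw [zero_mul, map_zero]⟩
  add_mem' := by
    rintro z z' ⟨y, hy, h⟩ ⟨y', hy', h'⟩
    exact ⟨y + y', IB.add_mem hy hy', by rw [add_mul, h, h', map_add]⟩
  neg_mem' := by
    rintro z ⟨y, hy, h⟩
    exact ⟨-y, IB.neg_mem hy, by rw [neg_mul, h, map_neg]⟩

/-- the structure map `B' → g⁻ᶜ I_B`. -/
def algB : B' →+* ringB g c IB Q1 Q2 :=
  (algebraMap B' (Localization.Away g)).codRestrict (ringB g c IB Q1 Q2)
    (fun b => ⟨g ^ c * b, Q1 b, by rw [map_mul, map_pow, mul_comm]⟩)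

theorem algB_coe (b : B') :
    ((algB g c IB Q1 Q2 b : ringB g c IB Q1 Q2) : Localization.Away g) =
      algebraMap B' (Localization.Away g) b := rfl

/-- the element `y / gᶜ`. -/
noncomputable def zB (y : B') (hy : y ∈ IB) : ringB g c IB Q1 Q2 :=
  ⟨algebraMap B' (Localization.Away g) y * (((isUnit_u g).pow c).unit⁻¹ : (Localization.Away g)ˣ),
    ⟨y, hy, by rw [mul_assoc, IsUnit.val_inv_mul, mul_one]⟩⟩

theorem zB_spec (y : B') (hy : y ∈ IB) :
    ((zB g c IB Q1 Q2 y hy : ringB g c IB Q1 Q2) : Localization.Away g) *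
      algebraMap B' (Localization.Away g) g ^ c = algebraMap B' (Localization.Away g) y := by
  show algebraMap B' (Localization.Away g) y * _ * _ = _
  rw [mul_assoc, IsUnit.val_inv_mul, mul_one]

theorem eq_zB {z : ringB g c IB Q1 Q2} {y : B'} (hy : y ∈ IB)
    (h : (z : Localization.Away g) * algebraMap B' (Localization.Away g) g ^ c =
      algebraMap B' (Localization.Away g) y) : z = zB g c IB Q1 Q2 y hy := by
  apply Subtype.ext
  apply cancel_pow g c
  rw [h, zB_spec]

theorem exists_eq_zB (z : ringB g c IB Q1 Q2) : ∃ y, ∃ hy : y ∈ IB, z = zB g c IB Q1 Q2 y hy := by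
  obtain ⟨y, hy, h⟩ := z.2
  exact ⟨y, hy, eq_zB g c IB Q1 Q2 hy h⟩

theorem zB_add (y y' : B') (hy : y ∈ IB) (hy' : y' ∈ IB) :
    zB g c IB Q1 Q2 (y + y') (IB.add_mem hy hy') =
      zB g c IB Q1 Q2 y hy + zB g c IB Q1 Q2 y' hy' := by
  symm
  apply eq_zB
  rw [Subring.coe_add, add_mul, zB_spec, zB_spec, map_add]

theorem zB_pow_mul (b : B') :
    zB g c IB Q1 Q2 (g ^ c * b) (Q1 b) = algB g c IB Q1 Q2 b := by
  symm
  apply eq_zB
  rw [algB_coe, map_mul, map_pow, mul_comm]

theorem zB_mul_left (b y : B') (hy : y ∈ IB) :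
    zB g c IB Q1 Q2 (b * y) (IB.mul_mem_left b hy) =
      algB g c IB Q1 Q2 b * zB g c IB Q1 Q2 y hy := by
  symm
  apply eq_zB
  rw [Subring.coe_mul, algB_coe, mul_assoc, zB_spec, map_mul]

theorem zB_mul (y y' y₃ : B') (hy : y ∈ IB) (hy' : y' ∈ IB) (hy₃ : y₃ ∈ IB)
    (h : y * y' = g ^ c * y₃) :
    zB g c IB Q1 Q2 y hy * zB g c IB Q1 Q2 y' hy' = zB g c IB Q1 Q2 y₃ hy₃ := by
  apply eq_zB
  apply cancel_pow g c
  rw [Subring.coe_mul]
  calc (zB g c IB Q1 Q2 y hy : Localization.Away g) * (zB g c IB Q1 Q2 y' hy' : Localization.Away g) *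
        algebraMap B' (Localization.Away g) g ^ c * algebraMap B' (Localization.Away g) g ^ c
      = ((zB g c IB Q1 Q2 y hy : Localization.Away g) * algebraMap B' (Localization.Away g) g ^ c) *
        ((zB g c IB Q1 Q2 y' hy' : Localization.Away g) *
          algebraMap B' (Localization.Away g) g ^ c) := by ring
    _ = algebraMap B' (Localization.Away g) (y * y') := by rw [zB_spec, zB_spec, map_mul]
    _ = _ := by rw [h, map_mul, map_pow, mul_comm]

theorem zB_congr {y y' : B'} (hy : y ∈ IB) (hy' : y' ∈ IB) (h : y = y') :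
    zB g c IB Q1 Q2 y hy = zB g c IB Q1 Q2 y' hy' := by
  subst h
  rfl

variable (hg : g ∈ nonZeroDivisors B')

include hg in
theorem algebraMap_injective : Function.Injective (algebraMap B' (Localization.Away g)) :=
  IsLocalization.injective (Localization.Away g) (Submonoid.powers_le.2 hg)

include hg in
theorem algB_injective : Function.Injective (algB g c IB Q1 Q2) := by
  intro b b' h
  exact algebraMap_injective g hg (congrArg Subtype.val h)

include hg in
theorem zB_injective {y y' : B'} (hy : y ∈ IB) (hy' : y' ∈ IB)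
    (h : zB g c IB Q1 Q2 y hy = zB g c IB Q1 Q2 y' hy') : y = y' := by
  apply algebraMap_injective g hg
  rw [← zB_spec g c IB Q1 Q2 y hy, ← zB_spec g c IB Q1 Q2 y' hy', h]

end RingB

end Groth.Agent.Lib.Helper21.LiftQuot
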