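import Mathlib
import Groth.Agent.Lib.Helper21.LiftQuotC

/-!
# Helper21 — LiftQuotD: lifting a finite birational extension along `A'/fⁿ ≃ B'/gⁿ`.
-/

set_option autoImplicit false

namespace Groth.Agent.Lib.Helper21.LiftQuot

universe u

section Aux
variable {B' : Type u} [CommRing B'] (g : B') (c : ℕ) (IB : Ideal B')
  (Q1 : ∀ b : B', g ^ c * b ∈ IB)
  (Q2 : ∀ y ∈ IB, ∀ y' ∈ IB, ∃ y₃ ∈ IB, y * y' = g ^ c * y₃)

theorem zB_zero : zB g c IB Q1 Q2 0 IB.zero_mem = 0 := by
  symm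
  apply eq_zB
  rw [Subring.coe_zero, zero_mul, map_zero]

theorem zB_pow_mul_mem_span (k : ℕ) (hk : c + 1 ≤ k) (w : B') (h : g ^ k * w ∈ IB) :
    zB g c IB Q1 Q2 (g ^ k * w) h ∈ Ideal.span {algB g c IB Q1 Q2 g} := by
  have e : g ^ k * w = g ^ c * (g * (g ^ (k - c - 1) * w)) := by
    have : g ^ k = g ^ c * (g * g ^ (k - c - 1)) := by
      rw [← pow_succ', ← pow_add]
      congr 1
      omega
    rw [this]
    ring
  rw [zB_congr g c IB Q1 Q2 h (Q1 _) e, zB_pow_mul, map_mul]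
  exact Ideal.mul_mem_right _ _ (Ideal.mem_span_singleton_self _)

theorem mk_zB_eq_of_eq_add (k : ℕ) (hk : c + 1 ≤ k) (y y' w : B') (hy : y ∈ IB) (hy' : y' ∈ IB)
    (h : y' = y + g ^ k * w) :
    Ideal.Quotient.mk (Ideal.span {algB g c IB Q1 Q2 g}) (zB g c IB Q1 Q2 y' hy') =
      Ideal.Quotient.mk (Ideal.span {algB g c IB Q1 Q2 g}) (zB g c IB Q1 Q2 y hy) := by
  have hw : g ^ k * w ∈ IB := by
    have : g ^ k * w = y' - y := by rw [h]; ring
    rw [this]
    exact IB.sub_mem hy' hy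
  rw [zB_congr g c IB Q1 Q2 hy' (IB.add_mem hy hw) h, zB_add g c IB Q1 Q2 y (g ^ k * w) hy hw, map_add,
    Ideal.Quotient.eq_zero_iff_mem.2 (zB_pow_mul_mem_span g c IB Q1 Q2 k hk w hw), add_zero]

end Aux

set_option maxHeartbeats 1600000 in
theorem exists_iso {A' A : Type u} [CommRing A'] [CommRing A] [Algebra A' A]
    (hinj : Function.Injective (algebraMap A' A)) (f : A')
    (hf : algebraMap A' A f ∈ nonZeroDivisors A) (c : ℕ)
    (hc : ∀ a : A, ∃ x : A', algebraMap A' A x = f ^ c • a)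
    (n : ℕ) (hn : 2 * c + 1 ≤ n)
    {B' : Type u} [CommRing B'] (g : B') (hg : g ∈ nonZeroDivisors B')
    (φ' : (A' ⧸ Ideal.span {f ^ n}) ≃+* (B' ⧸ Ideal.span {g ^ n}))
    (hfg : Rel f g n φ' f g)
    (Q1 : ∀ b : B', g ^ c * b ∈ idealB f g n φ' (idealI hinj f c hc))
    (Q2 : ∀ y ∈ idealB f g n φ' (idealI hinj f c hc), ∀ y' ∈ idealB f g n φ' (idealI hinj f c hc),
      ∃ y₃ ∈ idealB f g n φ' (idealI hinj f c hc), y * y' = g ^ c * y₃) :
    ∃ φ : (A ⧸ Ideal.span {algebraMap A' A f}) ≃+*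
        (ringB g c (idealB f g n φ' (idealI hinj f c hc)) Q1 Q2 ⧸
          Ideal.span {algB g c (idealB f g n φ' (idealI hinj f c hc)) Q1 Q2 g}),
      ∀ (a' : A') (b' : B'), Rel f g n φ' a' b' →
        φ (Ideal.Quotient.mk _ (algebraMap A' A a')) =
          Ideal.Quotient.mk _ (algB g c (idealB f g n φ' (idealI hinj f c hc)) Q1 Q2 b') := by
  classical
  have hcn : c ≤ n := by omega
  have hθI : ∀ a : A, theta hinj f c hc a ∈ idealI hinj f c hc := theta_mem hinj f c hc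
  have hI : ∀ x : A', f ^ c * x ∈ idealI hinj f c hc := pow_mul_mem hinj f c hc
  set IB := idealB f g n φ' (idealI hinj f c hc) with hIBdef
  choose yy hyy using fun a : A =>
    exists_right (f := f) (g := g) (n := n) (φ' := φ') (theta hinj f c hc a)
  have hyyI : ∀ a, yy a ∈ IB := fun a => mem_idealB_of_rel (hθI a) (hyy a)
  have key : ∀ (a : A) (y : B') (hy : y ∈ IB), Rel f g n φ' (theta hinj f c hc a) y →
      Ideal.Quotient.mk (Ideal.span {algB g c IB Q1 Q2 g}) (zB g c IB Q1 Q2 (yy a) (hyyI a)) =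
        Ideal.Quotient.mk (Ideal.span {algB g c IB Q1 Q2 g}) (zB g c IB Q1 Q2 y hy) := by
    intro a y hy h
    obtain ⟨w, hw⟩ := h.right_unique (hyy a)
    exact mk_zB_eq_of_eq_add g c IB Q1 Q2 n (by omega) y (yy a) w hy (hyyI a) hw
  let Φ : A →+* (ringB g c IB Q1 Q2 ⧸ Ideal.span {algB g c IB Q1 Q2 g}) :=
    { toFun := fun a => Ideal.Quotient.mk (Ideal.span {algB g c IB Q1 Q2 g})
        (zB g c IB Q1 Q2 (yy a) (hyyI a))
      map_one' := by
        have h1 : Rel f g n φ' (theta hinj f c hc 1) (g ^ c * 1) := by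
          rw [theta_one, mul_one]
          exact hfg.pow c
        show Ideal.Quotient.mk (Ideal.span {algB g c IB Q1 Q2 g})
          (zB g c IB Q1 Q2 (yy 1) (hyyI 1)) = 1
        rw [key 1 _ (Q1 1) h1, zB_pow_mul, map_one, map_one]
      map_mul' := by
        intro a b
        show Ideal.Quotient.mk (Ideal.span {algB g c IB Q1 Q2 g})
          (zB g c IB Q1 Q2 (yy (a * b)) (hyyI (a * b))) =
          Ideal.Quotient.mk (Ideal.span {algB g c IB Q1 Q2 g}) (zB g c IB Q1 Q2 (yy a) (hyyI a)) *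
          Ideal.Quotient.mk (Ideal.span {algB g c IB Q1 Q2 g}) (zB g c IB Q1 Q2 (yy b) (hyyI b))
        obtain ⟨y₃, hy₃, h₃⟩ := Q2 (yy a) (hyyI a) (yy b) (hyyI b)
        rw [← map_mul, zB_mul g c IB Q1 Q2 (yy a) (yy b) y₃ (hyyI a) (hyyI b) hy₃ h₃]
        have h4 : Rel f g n φ' (f ^ c * theta hinj f c hc (a * b)) (g ^ c * y₃) := by
          rw [← theta_mul, ← h₃]
          exact (hyy a).mul (hyy b)
        have h5 : Rel f g n φ' (f ^ c * theta hinj f c hc (a * b)) (g ^ c * yy (a * b)) :=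
          (hfg.pow c).mul (hyy (a * b))
        obtain ⟨w, hw⟩ := h5.right_unique h4
        have h6 : y₃ = yy (a * b) + g ^ (n - c) * w := by
          have hgc : g ^ c ∈ nonZeroDivisors B' := pow_mem hg c
          have : g ^ c * y₃ = g ^ c * (yy (a * b) + g ^ (n - c) * w) := by
            rw [hw, mul_add, ← mul_assoc, ← pow_add, Nat.add_sub_cancel' hcn]
          exact (mul_cancel_left_mem_nonZeroDivisors hgc).1 this
        exact (mk_zB_eq_of_eq_add g c IB Q1 Q2 (n - c) (by omega) (yy (a * b)) y₃ w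
          (hyyI _) hy₃ h6).symm
      map_zero' := by
        have h0 : Rel f g n φ' (theta hinj f c hc 0) 0 := by
          rw [map_zero]
          exact rel_zero
        show Ideal.Quotient.mk (Ideal.span {algB g c IB Q1 Q2 g})
          (zB g c IB Q1 Q2 (yy 0) (hyyI 0)) = 0
        rw [key 0 0 IB.zero_mem h0, zB_zero, map_zero]
      map_add' := by
        intro a b
        have h1 : Rel f g n φ' (theta hinj f c hc (a + b)) (yy a + yy b) := by
          rw [map_add]
          exact (hyy a).add (hyy b)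
        show Ideal.Quotient.mk (Ideal.span {algB g c IB Q1 Q2 g})
          (zB g c IB Q1 Q2 (yy (a + b)) (hyyI (a + b))) =
          Ideal.Quotient.mk (Ideal.span {algB g c IB Q1 Q2 g}) (zB g c IB Q1 Q2 (yy a) (hyyI a)) +
          Ideal.Quotient.mk (Ideal.span {algB g c IB Q1 Q2 g}) (zB g c IB Q1 Q2 (yy b) (hyyI b))
        rw [key (a + b) _ (IB.add_mem (hyyI a) (hyyI b)) h1,
          zB_add g c IB Q1 Q2 (yy a) (yy b) (hyyI a) (hyyI b), map_add] }
  have hΦ : ∀ (a : A) (y : B') (hy : y ∈ IB), Rel f g n φ' (theta hinj f c hc a) y →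
      Φ a = Ideal.Quotient.mk (Ideal.span {algB g c IB Q1 Q2 g}) (zB g c IB Q1 Q2 y hy) := key
  have hker : ∀ a ∈ Ideal.span {algebraMap A' A f}, Φ a = 0 := by
    intro a ha
    obtain ⟨a', rfl⟩ := Ideal.mem_span_singleton'.1 ha
    have h1 : Rel f g n φ' (theta hinj f c hc (a' * algebraMap A' A f)) (g * yy a') := by
      rw [mul_comm, theta_f_mul]
      exact hfg.mul (hyy a')
    rw [hΦ _ _ (IB.mul_mem_left g (hyyI a')) h1, zB_mul_left g c IB Q1 Q2 g (yy a') (hyyI a'), map_mul,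
      Ideal.Quotient.eq_zero_iff_mem.2 (Ideal.mem_span_singleton_self _), zero_mul]
  refine ⟨RingEquiv.ofBijective (Ideal.Quotient.lift _ Φ hker) ⟨?_, ?_⟩, ?_⟩
  · -- injective
    rw [injective_iff_map_eq_zero]
    intro q hq
    obtain ⟨a, rfl⟩ := Ideal.Quotient.mk_surjective q
    rw [Ideal.Quotient.lift_mk] at hq
    rw [Ideal.Quotient.eq_zero_iff_mem]
    have hq' : zB g c IB Q1 Q2 (yy a) (hyyI a) ∈ Ideal.span {algB g c IB Q1 Q2 g} :=
      Ideal.Quotient.eq_zero_iff_mem.1 hq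
    obtain ⟨z', hz'⟩ := Ideal.mem_span_singleton'.1 hq'
    obtain ⟨y', hy', rfl⟩ := exists_eq_zB g c IB Q1 Q2 z'
    rw [mul_comm, ← zB_mul_left g c IB Q1 Q2 g y' hy'] at hz'
    have h1 : g * y' = yy a := zB_injective g c IB Q1 Q2 hg _ _ hz'
    have hy'2 := hy'
    obtain ⟨x', hx', hrel⟩ := hy'2
    obtain ⟨a', rfl⟩ := hx'
    have h2 : Rel f g n φ' (f * theta hinj f c hc a') (yy a) := by
      rw [← h1]
      exact hfg.mul hrel
    obtain ⟨u, hu⟩ := h2.left_unique (hyy a)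
    have e : f ^ n = f * (f ^ c * f ^ (n - 1 - c)) := by
      rw [← pow_add, ← pow_succ']
      congr 1
      omega
    have h3 : theta hinj f c hc a = theta hinj f c hc
        (algebraMap A' A f * (a' + algebraMap A' A (f ^ (n - 1 - c) * u))) := by
      rw [theta_f_mul, map_add, theta_algebraMap, hu, e]
      ring
    rw [theta_injective hinj f hf c hc h3]
    exact Ideal.mul_mem_right _ _ (Ideal.mem_span_singleton_self _)
  · -- surjective
    intro q
    obtain ⟨z, rfl⟩ := Ideal.Quotient.mk_surjective q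
    obtain ⟨y, hy, rfl⟩ := exists_eq_zB g c IB Q1 Q2 z
    have hy2 := hy
    obtain ⟨x, hx, hrel⟩ := hy2
    obtain ⟨a, rfl⟩ := hx
    refine ⟨Ideal.Quotient.mk _ a, ?_⟩
    rw [Ideal.Quotient.lift_mk]
    exact hΦ a y hy hrel
  · intro a' b' h
    show Ideal.Quotient.lift _ Φ hker (Ideal.Quotient.mk _ (algebraMap A' A a')) = _
    rw [Ideal.Quotient.lift_mk]
    have h1 : Rel f g n φ' (theta hinj f c hc (algebraMap A' A a')) (g ^ c * b') := by
      rw [theta_algebraMap]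
      exact (hfg.pow c).mul h
    rw [hΦ _ _ (Q1 b') h1, zB_pow_mul]

set_option maxHeartbeats 1600000 in
theorem exists_lift {A' A : Type u} [CommRing A'] [CommRing A] [Algebra A' A] [Module.Finite A' A]
    (hinj : Function.Injective (algebraMap A' A)) (f : A')
    (hf : algebraMap A' A f ∈ nonZeroDivisors A) (c : ℕ)
    (hc : ∀ a : A, ∃ x : A', algebraMap A' A x = f ^ c • a)
    (n : ℕ) (hn : 2 * c + 1 ≤ n)
    (B' : Type u) [CommRing B'] (g : B') (hg : g ∈ nonZeroDivisors B')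
    (φ' : (A' ⧸ Ideal.span {f ^ n}) ≃+* (B' ⧸ Ideal.span {g ^ n}))
    (hφ' : φ' (Ideal.Quotient.mk (Ideal.span {f ^ n}) f) = Ideal.Quotient.mk (Ideal.span {g ^ n}) g) :
    ∃ (B : Type u) (_ : CommRing B) (_ : Algebra B' B),
      Function.Injective (algebraMap B' B) ∧ Module.Finite B' B ∧
      ∃ φ : (A ⧸ Ideal.span {algebraMap A' A f}) ≃+* (B ⧸ Ideal.span {algebraMap B' B g}),
        ∀ (a' : A') (b' : B'),
          φ' (Ideal.Quotient.mk (Ideal.span {f ^ n}) a') = Ideal.Quotient.mk (Ideal.span {g ^ n}) b' →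
          φ (Ideal.Quotient.mk (Ideal.span {algebraMap A' A f}) (algebraMap A' A a')) =
            Ideal.Quotient.mk (Ideal.span {algebraMap B' B g}) (algebraMap B' B b') := by
  classical
  have hθI : ∀ a : A, theta hinj f c hc a ∈ idealI hinj f c hc := theta_mem hinj f c hc
  have hI : ∀ x : A', f ^ c * x ∈ idealI hinj f c hc := pow_mul_mem hinj f c hc
  have hmul : ∀ x ∈ idealI hinj f c hc, ∀ x' ∈ idealI hinj f c hc,
      ∃ z ∈ idealI hinj f c hc, x * x' = f ^ c * z := by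
    rintro _ ⟨a, rfl⟩ _ ⟨b, rfl⟩
    exact ⟨theta hinj f c hc (a * b), hθI _, theta_mul hinj f c hc a b⟩
  have hfg : Rel f g n φ' f g := hφ'
  have hcn : c ≤ n := by omega
  have h2cn : 2 * c ≤ n := by omega
  have Q1 : ∀ b : B', g ^ c * b ∈ idealB f g n φ' (idealI hinj f c hc) :=
    pow_mul_mem_idealB (φ' := φ') (I := idealI hinj f c hc) c hI hfg
  have Q2 : ∀ y ∈ idealB f g n φ' (idealI hinj f c hc), ∀ y' ∈ idealB f g n φ' (idealI hinj f c hc),
      ∃ y₃ ∈ idealB f g n φ' (idealI hinj f c hc), y * y' = g ^ c * y₃ :=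
    fun y hy y' hy' => exists_mul_eq_pow_mul c hI hfg h2cn hmul hy hy'
  letI : Algebra B' (ringB g c (idealB f g n φ' (idealI hinj f c hc)) Q1 Q2) :=
    (algB g c (idealB f g n φ' (idealI hinj f c hc)) Q1 Q2).toAlgebra
  refine ⟨ringB g c (idealB f g n φ' (idealI hinj f c hc)) Q1 Q2, inferInstance, inferInstance,
    algB_injective g c _ Q1 Q2 hg, ?_, ?_⟩
  · -- finiteness
    haveI : Module.Finite B' (idealB f g n φ' (idealI hinj f c hc)) :=
      Module.Finite.iff_fg.2 (idealB_fg c hcn hI hfg (idealI_fg hinj f c hc))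
    let ψ : idealB f g n φ' (idealI hinj f c hc) →ₗ[B']
        ringB g c (idealB f g n φ' (idealI hinj f c hc)) Q1 Q2 :=
      { toFun := fun y => zB g c _ Q1 Q2 y.1 y.2
        map_add' := fun y y' => zB_add g c _ Q1 Q2 y.1 y'.1 y.2 y'.2
        map_smul' := fun b y => by
          rw [RingHom.id_apply, Algebra.smul_def]
          exact zB_mul_left g c _ Q1 Q2 b y.1 y.2 }
    refine Module.Finite.of_surjective ψ ?_
    intro z
    obtain ⟨y, hy, rfl⟩ := exists_eq_zB g c _ Q1 Q2 z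
    exact ⟨⟨y, hy⟩, rfl⟩
  · -- the isomorphism
    exact exists_iso hinj f hf c hc n hn g hg φ' hfg Q1 Q2

end Groth.Agent.Lib.Helper21.LiftQuot
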