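import Mathlib
import Groth.Agent.Lib.Helper21.ExactRes

/-!
# Free resolutions given by matrices (helper21)

`MatRes R M`: a resolution `… → R^{rk 1} → R^{rk 0} → M → 0` given by matrices. If all entries lie
in a maximal ideal `𝔪`, then `Tor_i(R/𝔪, M)` has length `rk i`.
-/

set_option autoImplicit false
set_option linter.dupNamespace false
set_option backward.isDefEq.respectTransparency false
set_option backward.defeqAttrib.useBackward true
universe u

namespace Groth.Agent.Lib.Helper21.MatRes

open CategoryTheory Limits MonoidalCategory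
open Groth.Agent.Lib.Helper21.ExactRes

/-- a free resolution by finite free modules in matrix form -/
structure MatRes (R : Type u) [CommRing R] (M : Type u) [AddCommGroup M] [Module R M] where
  rk : ℕ → ℕ
  d : (i : ℕ) → Matrix (Fin (rk i)) (Fin (rk (i + 1))) R
  aug : (Fin (rk 0) → R) →ₗ[R] M
  aug_surjective : Function.Surjective aug
  exact_zero : LinearMap.ker aug = LinearMap.range (Matrix.mulVecLin (d 0))
  exact_succ : ∀ i : ℕ,
    LinearMap.ker (Matrix.mulVecLin (d i)) = LinearMap.range (Matrix.mulVecLin (d (i + 1)))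

variable {R : Type u} [CommRing R] {M : Type u} [AddCommGroup M] [Module R M] (F : MatRes R M)

namespace MatRes

/-- The exact data of projectives attached to a matrix resolution. -/
noncomputable def exactData : ExactData (ModuleCat.of R M) where
  X i := ModuleCat.of R (Fin (F.rk i) → R)
  proj i := (IsProjective.iff_projective (Fin (F.rk i) → R)).1 inferInstance
  d i := ModuleCat.ofHom (Matrix.mulVecLin (F.d i))
  ε := ModuleCat.ofHom F.aug
  epi := (ModuleCat.epi_iff_surjective _).2 F.aug_surjective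
  w0 := by
    apply ModuleCat.hom_ext
    apply LinearMap.ext
    intro x
    have : Matrix.mulVecLin (F.d 0) x ∈ LinearMap.ker F.aug := by
      rw [F.exact_zero]; exact LinearMap.mem_range_self _ _
    exact this
  ex0 := by
    apply ModuleCat.shortComplex_exact
    change Function.Exact (Matrix.mulVecLin (F.d 0)) F.aug
    rw [LinearMap.exact_iff]
    exact F.exact_zero
  w i := by
    apply ModuleCat.hom_ext
    apply LinearMap.ext
    intro x
    have : Matrix.mulVecLin (F.d (i + 1)) x ∈ LinearMap.ker (Matrix.mulVecLin (F.d i)) := by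
      rw [F.exact_succ i]; exact LinearMap.mem_range_self _ _
    exact this
  ex i := by
    apply ModuleCat.shortComplex_exact
    change Function.Exact (Matrix.mulVecLin (F.d (i + 1))) (Matrix.mulVecLin (F.d i))
    rw [LinearMap.exact_iff]
    exact F.exact_succ i

lemma lTensor_mulVecLin_eq_zero (𝔪 : Ideal R) {m n : ℕ} (D : Matrix (Fin m) (Fin n) R)
    (hD : ∀ a b, D a b ∈ 𝔪) :
    LinearMap.lTensor (R ⧸ 𝔪) (Matrix.mulVecLin D) = 0 := by
  apply TensorProduct.ext'
  intro x v
  rw [LinearMap.lTensor_tmul, LinearMap.zero_apply]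
  have hv : Matrix.mulVecLin D v =
      ∑ a, (Matrix.mulVecLin D v a) • (Pi.single a (1 : R) : Fin m → R) := by
    conv_lhs => rw [pi_eq_sum_univ' (Matrix.mulVecLin D v)]
  rw [hv, TensorProduct.tmul_sum]
  refine Finset.sum_eq_zero fun a _ => ?_
  rw [TensorProduct.tmul_smul, TensorProduct.smul_tmul']
  have hmem : Matrix.mulVecLin D v a ∈ 𝔪 := by
    change ∑ b, D a b * v b ∈ 𝔪
    exact Ideal.sum_mem _ fun b _ => Ideal.mul_mem_right _ _ (hD a b)
  have : (Matrix.mulVecLin D v a) • x = 0 := by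
    obtain ⟨y, rfl⟩ := Ideal.Quotient.mk_surjective x
    rw [← Ideal.Quotient.mk_eq_mk, Algebra.smul_def]
    change Ideal.Quotient.mk 𝔪 _ * _ = 0
    rw [Ideal.Quotient.eq_zero_iff_mem.2 hmem, zero_mul]
  rw [this, TensorProduct.zero_tmul]

/-- For a resolution with all entries in `𝔪`, `Tor_i(R/𝔪, M) ≅ (R/𝔪) ⊗ F_i`. -/
noncomputable def torIso (𝔪 : Ideal R) (hF : ∀ i a b, F.d i a b ∈ 𝔪) (i : ℕ) :
    ((Tor (ModuleCat.{u} R) i).obj (ModuleCat.of R (R ⧸ 𝔪))).obj (ModuleCat.of R M) ≅
      ModuleCat.of R (TensorProduct R (R ⧸ 𝔪) (Fin (F.rk i) → R)) :=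
  (exactData F).leftDerivedIsoOfMapZero
    ((tensoringLeft (ModuleCat.{u} R)).obj (ModuleCat.of R (R ⧸ 𝔪)))
    (fun j => by
      apply ModuleCat.hom_ext
      exact lTensor_mulVecLin_eq_zero 𝔪 (F.d j) (hF j)) i

lemma length_tensor_pi (𝔪 : Ideal R) [𝔪.IsMaximal] (n : ℕ) :
    Module.length R (TensorProduct R (R ⧸ 𝔪) (Fin n → R)) = n := by
  rw [(TensorProduct.piScalarRight R R (R ⧸ 𝔪) (Fin n)).length_eq, Module.length_pi]
  have : IsSimpleModule R (R ⧸ 𝔪) := by
    rw [isSimpleModule_iff_isCoatom]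
    exact Ideal.isMaximal_def.1 inferInstance
  simp

lemma length_tor (𝔪 : Ideal R) [𝔪.IsMaximal] (hF : ∀ i a b, F.d i a b ∈ 𝔪) (i : ℕ) :
    Module.length R
      (((Tor (ModuleCat.{u} R) i).obj (ModuleCat.of R (R ⧸ 𝔪))).obj (ModuleCat.of R M)) =
      F.rk i := by
  rw [(torIso F 𝔪 hF i).toLinearEquiv.length_eq]
  exact length_tensor_pi 𝔪 _

end MatRes

end Groth.Agent.Lib.Helper21.MatRes
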