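import Mathlib
import Groth.Agent.Lib.Helper21.MatRes
import Groth.Agent.Lib.Helper21.TorLES

/-!
# Localizing matrix resolutions; projective dimension of a minimal matrix resolution (helper21)
-/

set_option autoImplicit false
set_option linter.dupNamespace false
set_option backward.isDefEq.respectTransparency false
set_option backward.defeqAttrib.useBackward true
universe u

namespace Groth.Agent.Lib.Helper21.MatResLoc

open CategoryTheory Limits MonoidalCategory
open Groth.Agent.Lib.Helper21.ExactRes Groth.Agent.Lib.Helper21.MatRes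
  Groth.Agent.Lib.Helper21.TorLES Groth.Agent.Lib.Helper21.TorShift

section TorPD

variable {R : Type u} [CommRing R]

/-- `Tor_ℓ(X, Y) = 0` if `pd Y < ℓ`. -/
theorem isZero_tor_of_hasProjectiveDimensionLT : ∀ (ℓ : ℕ) (Y : ModuleCat.{u} R),
    HasProjectiveDimensionLT Y ℓ → ∀ X : ModuleCat.{u} R,
      IsZero (((Tor (ModuleCat.{u} R) ℓ).obj X).obj Y)
  | 0, Y, h, X => by
    have hY : IsZero Y := isZero_of_hasProjectiveDimensionLT_zero Y
    haveI : ((tensoringLeft (ModuleCat.{u} R)).obj X).Additive :=
      inferInstanceAs ((tensorLeft X).Additive)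
    exact IsZero.of_iso (Functor.map_isZero ((tensoringLeft (ModuleCat.{u} R)).obj X) hY)
      ((Functor.leftDerivedZeroIsoSelf ((tensoringLeft (ModuleCat.{u} R)).obj X)).app Y)
  | 1, Y, h, X => by
    haveI : Projective Y := projective_iff_hasProjectiveDimensionLT_one.2 h
    exact isZero_Tor_succ_of_projective (C := ModuleCat.{u} R) X Y 0
  | (ℓ + 2), Y, h, X => by
    have hS := presentation_shortExact Y
    have hK : HasProjectiveDimensionLT (kernel (Projective.π Y)) (ℓ + 1) :=
      (hS.hasProjectiveDimensionLT_X₃_iff ℓ (by dsimp; infer_instance)).1 h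
    exact IsZero.of_iso (isZero_tor_of_hasProjectiveDimensionLT (ℓ + 1) _ hK X)
      (torShiftIso X _ _ _ hS ℓ)

end TorPD

section Localize

variable {R : Type u} [CommRing R] (T : Submonoid R)

/-- componentwise localization map `R^n → (T⁻¹R)^n` -/
noncomputable def φ (n : ℕ) : (Fin n → R) →ₗ[R] (Fin n → Localization T) :=
  LinearMap.pi fun i => Algebra.linearMap R (Localization T) ∘ₗ LinearMap.proj i

instance (n : ℕ) : IsLocalizedModule T (φ T n) := by
  unfold φ
  infer_instance

lemma φ_apply {n : ℕ} (v : Fin n → R) (i : Fin n) : φ T n v i = algebraMap R _ (v i) := rfl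

lemma mulVecLin_map_φ {m n : ℕ} (D : Matrix (Fin m) (Fin n) R) (v : Fin n → R) :
    Matrix.mulVecLin (D.map (algebraMap R (Localization T))) (φ T n v) =
      φ T m (Matrix.mulVecLin D v) := by
  ext i
  simp only [Matrix.mulVecLin_apply, Matrix.mulVec, dotProduct, Matrix.map_apply, φ_apply,
    map_sum, map_mul]

lemma map_mulVecLin {m n : ℕ} (D : Matrix (Fin m) (Fin n) R) :
    IsLocalizedModule.map T (φ T n) (φ T m) (Matrix.mulVecLin D) =
      (Matrix.mulVecLin (D.map (algebraMap R (Localization T)))).restrictScalars R := by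
  apply IsLocalizedModule.linearMap_ext T (φ T n) (φ T m)
  apply LinearMap.ext
  intro v
  rw [LinearMap.comp_apply, IsLocalizedModule.map_apply, LinearMap.comp_apply,
    LinearMap.restrictScalars_apply, mulVecLin_map_φ]

lemma exact_map {m n p : ℕ} (D : Matrix (Fin m) (Fin n) R) (D' : Matrix (Fin n) (Fin p) R)
    (h : LinearMap.ker (Matrix.mulVecLin D) = LinearMap.range (Matrix.mulVecLin D')) :
    LinearMap.ker (Matrix.mulVecLin (D.map (algebraMap R (Localization T)))) =
      LinearMap.range (Matrix.mulVecLin (D'.map (algebraMap R (Localization T)))) := by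
  have hex : Function.Exact (Matrix.mulVecLin D') (Matrix.mulVecLin D) := LinearMap.exact_iff.2 h
  have := IsLocalizedModule.map_exact T (φ T p) (φ T n) (φ T m) _ _ hex
  rw [map_mulVecLin, map_mulVecLin] at this
  exact LinearMap.exact_iff.1 (this : Function.Exact
    (Matrix.mulVecLin (D'.map (algebraMap R (Localization T))))
    (Matrix.mulVecLin (D.map (algebraMap R (Localization T)))))

variable {M : Type u} [AddCommGroup M] [Module R M] (F : MatRes R M)

/-- the localized resolution -/
noncomputable def localize : MatRes (Localization T) (LocalizedModule T M) where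
  rk := F.rk
  d i := (F.d i).map (algebraMap R (Localization T))
  aug := IsLocalizedModule.mapExtendScalars T (φ T (F.rk 0)) (LocalizedModule.mkLinearMap T M)
    (Localization T) F.aug
  aug_surjective := by
    have := IsLocalizedModule.map_surjective T (φ T (F.rk 0)) (LocalizedModule.mkLinearMap T M)
      F.aug F.aug_surjective
    exact this
  exact_zero := by
    have hex : Function.Exact (Matrix.mulVecLin (F.d 0)) F.aug := LinearMap.exact_iff.2 F.exact_zero
    have := IsLocalizedModule.map_exact T (φ T (F.rk 1)) (φ T (F.rk 0))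
      (LocalizedModule.mkLinearMap T M) _ _ hex
    rw [map_mulVecLin] at this
    exact LinearMap.exact_iff.1 (this : Function.Exact
      (Matrix.mulVecLin ((F.d 0).map (algebraMap R (Localization T))))
      (IsLocalizedModule.mapExtendScalars T (φ T (F.rk 0)) (LocalizedModule.mkLinearMap T M)
        (Localization T) F.aug))
  exact_succ i := exact_map T (F.d i) (F.d (i + 1)) (F.exact_succ i)

@[simp] lemma localize_rk (i : ℕ) : (localize T F).rk i = F.rk i := rfl

lemma localize_d (i : ℕ) (a : Fin (F.rk i)) (b : Fin (F.rk (i + 1))) :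
    (localize T F).d i a b = algebraMap R (Localization T) (F.d i a b) := rfl

end Localize

section PD

variable {R : Type u} [CommRing R] {M : Type u} [AddCommGroup M] [Module R M] (F : MatRes R M)

lemma hasProjectiveDimensionLT_of_rk (ℓ : ℕ) (h : ∀ i, ℓ < i → F.rk i = 0) :
    HasProjectiveDimensionLT (ModuleCat.of R M) (ℓ + 1) := by
  apply ExactData.hasProjectiveDimensionLT ℓ (MatRes.exactData F)
  intro i hi
  have : F.rk i = 0 := h i hi
  rw [ModuleCat.isZero_iff_subsingleton]
  change Subsingleton (Fin (F.rk i) → R)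
  rw [this]
  infer_instance

lemma not_hasProjectiveDimensionLT (𝔪 : Ideal R) [𝔪.IsMaximal] (hF : ∀ i a b, F.d i a b ∈ 𝔪)
    (ℓ : ℕ) (hℓ : F.rk ℓ ≠ 0) : ¬ HasProjectiveDimensionLT (ModuleCat.of R M) ℓ := by
  intro h
  have hz := isZero_tor_of_hasProjectiveDimensionLT ℓ _ h (ModuleCat.of R (R ⧸ 𝔪))
  have hlen := MatRes.length_tor F 𝔪 hF ℓ
  rw [ModuleCat.isZero_iff_subsingleton] at hz
  rw [Module.length_eq_zero] at hlen
  exact hℓ (by exact_mod_cast hlen.symm)

end PD

end Groth.Agent.Lib.Helper21.MatResLoc
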