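import Mathlib
import Groth.Prelude.Def_EGA4b
import Groth.Prelude.Def_FDesc
import Groth.Agent.Lib.Helper21.CompDim1
import Groth.Agent.Lib.Helper17.TensorSupp
import Groth.Agent.Lib.Helper7.StalkFree
import Groth.Agent.Lib.Helper18.Cyc.PullSheaf

/-!
# Helper21 — MaxSupp1: maximal points of the support of `f^*E ⊗ F` for `F` flat over the base
(EGA IV 3.3-type statement, S4653).
-/

set_option autoImplicit false
set_option backward.isDefEq.respectTransparency.types false

namespace Groth.Agent.Lib.Helper21.MaxSupp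

open AlgebraicGeometry CategoryTheory IsLocalRing TensorProduct TopologicalSpace Topology
open Groth.Agent.Lib.Helper21.FibreStalk Groth.Agent.Lib.Helper17.ModStalk
open Groth.Agent.Lib.Helper24.FibreDim Groth.Agent.Lib.Helper21.FlatDesc
open Groth.Agent.Lib.Helper21.MCop Groth.Agent.Lib.Helper21.FibDepth
open Groth.Agent.Lib.Helper21.FlatOpen Groth.Agent.Lib.Helper21.CompDim
open Groth.Agent.Lib.Helper17.TensorSupp

universe u

section Alg

theorem nontrivial_tensor_of_isLocalHom (R S M : Type u) [CommRing R] [IsLocalRing R] [CommRing S]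
    [IsLocalRing S] [Algebra R S] [IsLocalHom (algebraMap R S)] [AddCommGroup M] [Module R M]
    [Module.Finite R M] [Nontrivial M] : Nontrivial (S ⊗[R] M) := by
  have h1 : Nontrivial (ResidueField R ⊗[R] M) := by
    rw [← not_subsingleton_iff_nontrivial, IsLocalRing.subsingleton_tensorProduct]
    exact not_subsingleton M
  have h2 : Nontrivial (ResidueField S ⊗[ResidueField R] (ResidueField R ⊗[R] M)) :=
    (nontrivial_tensor_field_iff (K := ResidueField R)).2 ⟨inferInstance, h1⟩
  let e1 := AlgebraTensorModule.cancelBaseChange R (ResidueField R) (ResidueField S)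
    (ResidueField S) M
  let e2 := AlgebraTensorModule.cancelBaseChange R S (ResidueField S) (ResidueField S) M
  by_contra hn
  rw [not_nontrivial_iff_subsingleton] at hn
  haveI := hn
  haveI h3 : Subsingleton (ResidueField S ⊗[S] (S ⊗[R] M)) := inferInstance
  haveI h4 : Subsingleton (ResidueField S ⊗[R] M) := e2.symm.toEquiv.subsingleton
  haveI h5 : Subsingleton (ResidueField S ⊗[ResidueField R] (ResidueField R ⊗[R] M)) :=
    e1.toEquiv.subsingleton
  exact not_subsingleton _ h5

end Alg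

variable {X Y : Scheme.{u}}

section Supp

theorem mem_support_pullback_iff (f : X ⟶ Y) (E : Y.Modules) [E.IsQuasicoherent]
    [∀ y : Y, Module.Finite (Y.presheaf.stalk y) (E.presheaf.stalk y)] (x : X) :
    x ∈ CohB1.support ((Scheme.Modules.pullback f).obj E) ↔ f x ∈ CohB1.support E := by
  unfold CohB1.support
  simp only [Set.mem_setOf_eq, not_subsingleton_iff_nontrivial]
  constructor
  · exact Groth.Agent.Lib.Helper18.CycPull.nontrivial_stalk_of_nontrivial_stalk_pullback f E x
  · intro h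
    haveI := h
    letI := (f.stalkMap x).hom.toAlgebra
    haveI : IsLocalHom (algebraMap (Y.presheaf.stalk (f x)) (X.presheaf.stalk x)) :=
      inferInstanceAs (IsLocalHom (f.stalkMap x).hom)
    obtain ⟨e⟩ := nonempty_linearEquiv_stalk_pullback f E x
    haveI := nontrivial_tensor_of_isLocalHom (Y.presheaf.stalk (f x)) (X.presheaf.stalk x)
      (E.presheaf.stalk (f x))
    exact e.toEquiv.nontrivial

end Supp

section GoingDown

set_option maxHeartbeats 1600000 in
/-- **going down for the support of a flat module**, for schemes. -/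
theorem exists_generization_mem_support (f : X ⟶ Y) (F : X.Modules) [F.IsQuasicoherent]
    [SheafOfModules.IsFiniteType.{u} (R := X.ringCatSheaf) F] (x : X)
    (hx : Nontrivial (F.presheaf.stalk x)) (hfl : FlatMod.IsFlatOverAt f F x) (y' : Y)
    (hy' : y' ⤳ f x) :
    ∃ x' : X, x' ⤳ x ∧ f x' = y' ∧ Nontrivial (F.presheaf.stalk x') := by
  obtain ⟨_, ⟨V, hV : IsAffineOpen V, rfl⟩, hfxV, -⟩ :=
    Y.isBasis_affineOpens.exists_subset_of_mem_open (Set.mem_univ (f x)) isOpen_univ
  obtain ⟨_, ⟨U, hU : IsAffineOpen U, rfl⟩, hxU, hUV⟩ :=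
    X.isBasis_affineOpens.exists_subset_of_mem_open (show x ∈ (f ⁻¹ᵁ V : Set X) from hfxV)
      (f ⁻¹ᵁ V).isOpen
  have hy'V : y' ∈ V := hy'.mem_open V.2 hfxV
  letI algCB : Algebra Γ(Y, V) Γ(X, U) := (f.appLE V U hUV).hom.toAlgebra
  letI mC : Module Γ(Y, V) Γ(F, U) := Module.compHom Γ(F, U) (algebraMap Γ(Y, V) Γ(X, U))
  haveI : IsScalarTower Γ(Y, V) Γ(X, U) Γ(F, U) := IsScalarTower.of_compHom _ _ _
  haveI : Module.Finite Γ(X, U) Γ(F, U) :=
    Groth.Agent.Lib.Helper28.FinType.finite_of_isAffineOpen F hU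
  have hcomap : ∀ (z : X) (hz : z ∈ U),
      PrimeSpectrum.comap (algebraMap Γ(Y, V) Γ(X, U)) (hU.primeIdealOf ⟨z, hz⟩) =
        hV.primeIdealOf ⟨f z, hUV hz⟩ := fun z hz =>
    IsAffineOpen.comap_primeIdealOf_appLE V hV U hU hUV hz
  have hq := (nontrivial_stalk_iff_mem_support F hU x hxU).1 hx
  have hflq := (isFlatOverAt_iff_flat_localized f F hU hV hUV x hxU).1 hfl
  have hp' : hV.primeIdealOf ⟨y', hy'V⟩ ≤
      PrimeSpectrum.comap (algebraMap Γ(Y, V) Γ(X, U)) (hU.primeIdealOf ⟨x, hxU⟩) := by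
    rw [hcomap x hxU]
    exact (primeIdealOf_le_iff hV hy'V (hUV hxU)).2 hy'
  obtain ⟨q', hq'le, hq'supp, hq'c⟩ := exists_le_mem_support_of_flat Γ(Y, V) Γ(X, U) Γ(F, U)
    (hU.primeIdealOf ⟨x, hxU⟩) hq hflq (hV.primeIdealOf ⟨y', hy'V⟩) hp'
  obtain ⟨x', hx'U, rfl⟩ := exists_primeIdealOf_eq hU q'
  refine ⟨x', (primeIdealOf_le_iff hU hx'U hxU).1 hq'le, ?_,
    (nontrivial_stalk_iff_mem_support F hU x' hx'U).2 hq'supp⟩
  rw [hcomap x' hx'U] at hq'c
  have h2 := congrArg hV.fromSpec hq'c
  rw [hV.fromSpec_primeIdealOf, hV.fromSpec_primeIdealOf] at h2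
  exact h2

end GoingDown

section Main

set_option maxHeartbeats 1600000 in
/-- **S4653**: maximal points of the support of `f^*E ⊗ F`. -/
theorem maximal_support_tensor_iff (f : X ⟶ Y) (F : X.Modules) (hF : Coh.IsCoh F)
    (hfl : FlatMod.IsFlatOver f F) (E : Y.Modules) (hE : Coh.IsCoh E) (x : X) :
    (x ∈ CohB1.support (CohB1.tensorMod ((Scheme.Modules.pullback f).obj E) F) ∧
        ∀ z ∈ CohB1.support (CohB1.tensorMod ((Scheme.Modules.pullback f).obj E) F),
          z ⤳ x → z = x) ↔
      ((f x ∈ CohB1.support E ∧ ∀ w ∈ CohB1.support E, w ⤳ f x → w = f x) ∧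
        (f.asFiber x ∈ CohB1.support ((Scheme.Modules.pullback (f.fiberι (f x))).obj F) ∧
          ∀ z ∈ CohB1.support ((Scheme.Modules.pullback (f.fiberι (f x))).obj F),
            z ⤳ f.asFiber x → z = f.asFiber x)) := by
  haveI : F.IsQuasicoherent := hF.1
  haveI : SheafOfModules.IsFiniteType.{u} (R := X.ringCatSheaf) F := hF.2
  haveI : E.IsQuasicoherent := hE.1
  haveI : SheafOfModules.IsFiniteType.{u} (R := Y.ringCatSheaf) E := hE.2
  haveI : ∀ x : X, Module.Finite (X.presheaf.stalk x) (F.presheaf.stalk x) :=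
    Groth.Agent.Lib.Helper7.StalkFree.finite_stalk_of_isCoh X F hF
  haveI : ∀ y : Y, Module.Finite (Y.presheaf.stalk y) (E.presheaf.stalk y) :=
    Groth.Agent.Lib.Helper7.StalkFree.finite_stalk_of_isCoh Y E hE
  haveI := isFiniteType_pullback f E
  have hT : ∀ z : X, z ∈ CohB1.support (CohB1.tensorMod ((Scheme.Modules.pullback f).obj E) F) ↔
      f z ∈ CohB1.support E ∧ z ∈ CohB1.support F := by
    intro z
    rw [support_tensorMod, Set.mem_inter_iff, mem_support_pullback_iff]
  have hfib : ∀ (y : Y) (z : f.fiber y),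
      z ∈ CohB1.support ((Scheme.Modules.pullback (f.fiberι y)).obj F) ↔
        f.fiberι y z ∈ CohB1.support F := by
    intro y z
    unfold CohB1.support
    simp only [Set.mem_setOf_eq, not_subsingleton_iff_nontrivial]
    exact nontrivial_stalk_pullback_fiber_iff f F y z
  have hsuppF : ∀ z : X, z ∈ CohB1.support F ↔ Nontrivial (F.presheaf.stalk z) := fun z =>
    not_subsingleton_iff_nontrivial
  constructor
  · rintro ⟨hxT, hmax⟩
    obtain ⟨hxE, hxF⟩ := (hT x).1 hxT
    refine ⟨⟨hxE, ?_⟩, ⟨?_, ?_⟩⟩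
    · intro w hw hwx
      obtain ⟨x', hx'x, hfx', hx'F⟩ := exists_generization_mem_support f F x
        ((hsuppF x).1 hxF) (hfl x) w hwx
      have hx'T : x' ∈ CohB1.support (CohB1.tensorMod ((Scheme.Modules.pullback f).obj E) F) :=
        (hT x').2 ⟨hfx' ▸ hw, (hsuppF x').2 hx'F⟩
      have := hmax x' hx'T hx'x
      rw [← hfx', this]
    · rw [hfib, f.fiberι_asFiber]
      exact hxF
    · intro z hz hzx
      have hz' := (hfib (f x) z).1 hz
      have hsp : f.fiberι (f x) z ⤳ x := by
        have := hzx.map (f.fiberι (f x)).continuous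
        rwa [f.fiberι_asFiber] at this
      have hzT : f.fiberι (f x) z ∈
          CohB1.support (CohB1.tensorMod ((Scheme.Modules.pullback f).obj E) F) := by
        rw [hT, apply_fiberι]
        exact ⟨hxE, hz'⟩
      have h1 := hmax _ hzT hsp
      apply (f.fiberι (f x)).isEmbedding.injective
      rw [h1, f.fiberι_asFiber]
  · rintro ⟨⟨hyE, hymax⟩, ⟨hzF, hzmax⟩⟩
    have hxF : x ∈ CohB1.support F := by
      rw [hfib, f.fiberι_asFiber] at hzF
      exact hzF
    refine ⟨(hT x).2 ⟨hyE, hxF⟩, ?_⟩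
    intro z hzT hzx
    obtain ⟨hzE, hzF'⟩ := (hT z).1 hzT
    have hfz : f z = f x := hymax (f z) hzE (hzx.map f.continuous)
    obtain ⟨z', hz'⟩ := exists_fibre_point f z (f x) hfz
    have hz'supp : z' ∈ CohB1.support ((Scheme.Modules.pullback (f.fiberι (f x))).obj F) := by
      rw [hfib, hz']
      exact hzF'
    have hz'sp : z' ⤳ f.asFiber x := by
      rw [← (f.fiberι (f x)).isEmbedding.isInducing.specializes_iff, hz', f.fiberι_asFiber]
      exact hzx
    have := hzmax z' hz'supp hz'sp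
    rw [← hz', this, f.fiberι_asFiber]

end Main

end Groth.Agent.Lib.Helper21.MaxSupp
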