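import Mathlib
import Groth.Agent.Lib.Helper21.NFlatKit4

set_option autoImplicit false
universe u
open TensorProduct Function RingTheory.Sequence

namespace Groth.Agent.Lib.Helper21.NFlatKit

section
variable {A : Type u} [CommRing A]

/-- `(Y/P)/f(Y/P) ≅ Y/(P + (f)Y)`. -/
noncomputable def quotSMulTopQuotEquiv' (Y : Type u) [AddCommGroup Y] [Module A Y]
    (P : Submodule A Y) (f : A) :
    QuotSMulTop f (Y ⧸ P) ≃ₗ[A] Y ⧸ (P ⊔ (Ideal.span {f} • ⊤ : Submodule A Y)) :=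
  (Submodule.quotEquivOfEq _ _ (by
    rw [Submodule.map_smul'', Submodule.map_top, Submodule.range_mkQ,
      Submodule.ideal_span_singleton_smul])) ≪≫ₗ
    Submodule.quotientQuotientEquivQuotientSup P (Ideal.span {f} • ⊤ : Submodule A Y)

/-- `(X/RX)/f(X/RX) ≅ X/(R+(f))X`. -/
noncomputable def quotSMulTopQuotSMulEquiv (X : Type u) [AddCommGroup X] [Module A X]
    (R : Ideal A) (f : A) :
    QuotSMulTop f (X ⧸ (R • ⊤ : Submodule A X)) ≃ₗ[A]
      X ⧸ ((R ⊔ Ideal.span {f}) • ⊤ : Submodule A X) :=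
  quotSMulTopQuotEquiv' X (R • ⊤ : Submodule A X) f ≪≫ₗ
    Submodule.quotEquivOfEq _ _ (by rw [Submodule.sup_smul])

/-- `(A/R)/f(A/R) ≅ A/(R+(f))`. -/
noncomputable def quotSMulTopQuotRingEquiv (R : Ideal A) (f : A) :
    QuotSMulTop f (A ⧸ R) ≃ₗ[A] A ⧸ (R ⊔ Ideal.span {f}) :=
  quotSMulTopQuotEquiv' A R f ≪≫ₗ
    Submodule.quotEquivOfEq _ _ (by rw [smul_eq_mul, Ideal.mul_top])

variable [IsNoetherianRing A]

/-- Flatness of `X/RX` over `A/R` can be tested after killing a regular sequence in the radical. -/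
theorem flat_quot_iff (fs : List A) (hfs : ∀ f ∈ fs, f ∈ Ideal.jacobson (⊥ : Ideal A))
    (X : Type u) [AddCommGroup X] [Module A X] [Module.Finite A X] :
    ∀ (R Q : Ideal A), Q = R ⊔ Ideal.ofList fs → IsWeaklyRegular (A ⧸ R) fs →
      (Module.Flat (A ⧸ R) (X ⧸ (R • ⊤ : Submodule A X)) ↔
        Module.Flat (A ⧸ Q) (X ⧸ (Q • ⊤ : Submodule A X)) ∧
          IsWeaklyRegular (X ⧸ (R • ⊤ : Submodule A X)) fs) := by
  induction fs with
  | nil =>
    intro R Q hQ _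
    have : Q = R := by rw [hQ, Ideal.ofList_nil, sup_bot_eq]
    subst this
    exact ⟨fun h => ⟨h, IsWeaklyRegular.nil _ _⟩, fun h => h.1⟩
  | cons f fs ih =>
    intro R Q hQ hreg
    rw [isWeaklyRegular_cons_iff] at hreg
    have hf : f ∈ Ideal.jacobson (⊥ : Ideal A) := hfs f List.mem_cons_self
    have hfs' : ∀ g ∈ fs, g ∈ Ideal.jacobson (⊥ : Ideal A) :=
      fun g hg => hfs g (List.mem_cons_of_mem _ hg)
    have hQ' : Q = (R ⊔ Ideal.span {f}) ⊔ Ideal.ofList fs := by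
      rw [hQ, Ideal.ofList_cons, sup_assoc]
    have hreg' : IsWeaklyRegular (A ⧸ (R ⊔ Ideal.span {f})) fs :=
      ((quotSMulTopQuotRingEquiv R f).isWeaklyRegular_congr fs).1 hreg.2
    have IH := ih hfs' (R ⊔ Ideal.span {f}) Q hQ' hreg'
    have hstep := flat_quot_iff_step X R f hf hreg.1
    rw [isWeaklyRegular_cons_iff, hstep, IH,
      (quotSMulTopQuotSMulEquiv X R f).isWeaklyRegular_congr fs]
    tauto

end

end Groth.Agent.Lib.Helper21.NFlatKit
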