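import Mathlib
import Groth.Agent.Lib.Helper21.TorShift
import Groth.Agent.Lib.Helper21.PolyPDA

set_option autoImplicit false
universe u
namespace Groth.Agent.Lib.Helper21.PolyPD
open MvPolynomial CategoryTheory

variable (k : Type u) [Field k] (m : ℕ)

section SES
variable {j : ℕ} (hj : j < m)

/-- multiplication by `x_j` on `S/I_j` -/
noncomputable def μ : (MvPolynomial (Fin m) k ⧸ I k m j) →ₗ[MvPolynomial (Fin m) k]
    (MvPolynomial (Fin m) k ⧸ I k m j) :=
  LinearMap.lsmul (MvPolynomial (Fin m) k) _ (X ⟨j, hj⟩)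

/-- the projection `S/I_j → S/I_{j+1}` -/
noncomputable def q (j : ℕ) : (MvPolynomial (Fin m) k ⧸ I k m j) →ₗ[MvPolynomial (Fin m) k]
    (MvPolynomial (Fin m) k ⧸ I k m (j + 1)) :=
  Submodule.mapQ (I k m j) (I k m (j + 1)) LinearMap.id (by
    intro f hf
    exact I_le_succ k m j hf)

lemma μ_injective : Function.Injective (μ k m hj) := by
  rw [← LinearMap.ker_eq_bot, eq_bot_iff]
  intro x hx
  obtain ⟨f, rfl⟩ := Submodule.Quotient.mk_surjective _ x
  rw [LinearMap.mem_ker] at hx
  change (X ⟨j, hj⟩ : MvPolynomial (Fin m) k) •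
    (Submodule.Quotient.mk f : MvPolynomial (Fin m) k ⧸ I k m j) = 0 at hx
  rw [← Submodule.Quotient.mk_smul, Submodule.Quotient.mk_eq_zero, smul_eq_mul] at hx
  rw [Submodule.mem_bot, Submodule.Quotient.mk_eq_zero]
  exact regular k m hj hx

lemma q_surjective : Function.Surjective (q k m j) := by
  intro y
  obtain ⟨f, rfl⟩ := Submodule.Quotient.mk_surjective _ y
  exact ⟨Submodule.Quotient.mk f, rfl⟩

lemma exact_μ_q : Function.Exact (μ k m hj) (q k m j) := by
  intro y
  obtain ⟨f, rfl⟩ := Submodule.Quotient.mk_surjective _ y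
  constructor
  · intro h
    change Submodule.Quotient.mk f = (0 : MvPolynomial (Fin m) k ⧸ I k m (j + 1)) at h
    rw [Submodule.Quotient.mk_eq_zero, I_succ k m hj] at h
    obtain ⟨a, ha, b, hb, rfl⟩ := Submodule.mem_sup.1 h
    obtain ⟨c, rfl⟩ := Ideal.mem_span_singleton'.1 hb
    refine ⟨Submodule.Quotient.mk c, ?_⟩
    change (X ⟨j, hj⟩ : MvPolynomial (Fin m) k) •
      (Submodule.Quotient.mk c : MvPolynomial (Fin m) k ⧸ I k m j) = _
    rw [← Submodule.Quotient.mk_smul, smul_eq_mul, eq_comm, ← sub_eq_zero,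
      ← Submodule.Quotient.mk_sub, Submodule.Quotient.mk_eq_zero]
    have : a + c * X ⟨j, hj⟩ - X ⟨j, hj⟩ * c = a := by ring
    rw [this]
    exact ha
  · rintro ⟨x, hx⟩
    obtain ⟨c, rfl⟩ := Submodule.Quotient.mk_surjective _ x
    rw [← hx]
    change Submodule.Quotient.mk ((X ⟨j, hj⟩ : MvPolynomial (Fin m) k) • c) =
      (0 : MvPolynomial (Fin m) k ⧸ I k m (j + 1))
    rw [Submodule.Quotient.mk_eq_zero, smul_eq_mul]
    exact Ideal.mul_mem_right _ _ (X_mem_I k m (by simp))

end SES

open Groth.Agent.Lib.Helper21.TorShift in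
theorem pd_quot (j : ℕ) (hj : j ≤ m) :
    HasProjectiveDimensionLT
      (ModuleCat.of (MvPolynomial (Fin m) k) (MvPolynomial (Fin m) k ⧸ I k m j)) (j + 1) := by
  induction j with
  | zero =>
    have e : (MvPolynomial (Fin m) k ⧸ I k m 0) ≃ₗ[MvPolynomial (Fin m) k] MvPolynomial (Fin m) k :=
      Submodule.quotEquivOfEqBot _ (I_zero k m)
    have : Module.Projective (MvPolynomial (Fin m) k) (MvPolynomial (Fin m) k ⧸ I k m 0) :=
      Module.Projective.of_equiv e.symm
    have : Projective (ModuleCat.of (MvPolynomial (Fin m) k) (MvPolynomial (Fin m) k ⧸ I k m 0)) :=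
      (IsProjective.iff_projective _).1 this
    infer_instance
  | succ j ih =>
    have hj' : j < m := by omega
    have h1 := ih (by omega)
    have hS := shortExact_of (μ k m hj') (q k m j) (μ_injective k m hj') (exact_μ_q k m hj')
      (q_surjective k m)
    have h2 : HasProjectiveDimensionLT
        (ModuleCat.of (MvPolynomial (Fin m) k) (MvPolynomial (Fin m) k ⧸ I k m j)) (j + 1 + 1) :=
      hasProjectiveDimensionLT_of_ge _ (j + 1) (j + 1 + 1) (by omega)
    exact hS.hasProjectiveDimensionLT_X₃ (j + 1) h1 h2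

end Groth.Agent.Lib.Helper21.PolyPD
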