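import Mathlib
import Groth.Agent.Lib.Helper21.PolyPD

set_option autoImplicit false
universe u
namespace Groth.Agent.Lib.Helper21.Node
open MvPolynomial Groth.Agent.Lib.Helper21.PolyPD

variable (k : Type u) [Field k]

abbrev P := MvPolynomial (Fin 2) k
noncomputable abbrev J : Ideal (P k) := Ideal.span {(X 0 * X 1 : MvPolynomial (Fin 2) k)}
abbrev A := P k ⧸ J k
noncomputable abbrev xb : A k := Ideal.Quotient.mk (J k) (X 0)
noncomputable abbrev yb : A k := Ideal.Quotient.mk (J k) (X 1)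

lemma xb_mul_yb : xb k * yb k = 0 := by
  rw [← map_mul, Ideal.Quotient.eq_zero_iff_mem]
  exact Ideal.subset_span rfl

/-- a polynomial vanishing at `x = 0` is divisible by `x` -/
lemma dvd_of_ev_zero (p : P k) (h : ev k 2 1 p = 0) : ∃ q, p = X 0 * q := by
  have hp : p ∈ I k 2 1 := h
  rw [I_succ k 2 (by norm_num : 0 < 2), I_zero, bot_sup_eq, Ideal.mem_span_singleton'] at hp
  obtain ⟨q, hq⟩ := hp
  exact ⟨q, by rw [← hq, mul_comm]; rfl⟩

/-- the swap automorphism -/
noncomputable def sw : P k ≃ₐ[k] P k := MvPolynomial.renameEquiv k (Equiv.swap (0 : Fin 2) 1)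

lemma sw_X0 : sw k (X 0) = X 1 := by simp [sw]
lemma sw_X1 : sw k (X 1) = X 0 := by simp [sw]

lemma ann_x (a : A k) (h : a * xb k = 0) : ∃ a', a = a' * yb k := by
  obtain ⟨p, rfl⟩ := Ideal.Quotient.mk_surjective a
  rw [← map_mul, Ideal.Quotient.eq_zero_iff_mem, Ideal.mem_span_singleton'] at h
  obtain ⟨q, hq⟩ := h
  have : p = q * X 1 := by
    have h2 : X 0 * p = X 0 * (q * X 1) := by rw [mul_comm (X 0) p, ← hq]; ring
    exact mul_left_cancel₀ (X_ne_zero 0) h2
  exact ⟨Ideal.Quotient.mk _ q, by rw [this, map_mul]⟩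

lemma ann_y (a : A k) (h : a * yb k = 0) : ∃ a', a = a' * xb k := by
  obtain ⟨p, rfl⟩ := Ideal.Quotient.mk_surjective a
  rw [← map_mul, Ideal.Quotient.eq_zero_iff_mem, Ideal.mem_span_singleton'] at h
  obtain ⟨q, hq⟩ := h
  have : p = q * X 0 := by
    have h2 : X 1 * p = X 1 * (q * X 0) := by rw [mul_comm (X 1) p, ← hq]; ring
    exact mul_left_cancel₀ (X_ne_zero 1) h2
  exact ⟨Ideal.Quotient.mk _ q, by rw [this, map_mul]⟩

lemma ker_xy (a b : A k) (h : a * xb k + b * yb k = 0) :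
    ∃ a' b', a = a' * yb k ∧ b = b' * xb k := by
  obtain ⟨p, rfl⟩ := Ideal.Quotient.mk_surjective a
  obtain ⟨r, rfl⟩ := Ideal.Quotient.mk_surjective b
  rw [← map_mul, ← map_mul, ← map_add, Ideal.Quotient.eq_zero_iff_mem,
    Ideal.mem_span_singleton'] at h
  obtain ⟨q, hq⟩ := h
  -- hq : q * (X 0 * X 1) = p * X 0 + r * X 1
  -- set x = 0: r(0,y) * y = 0
  have h1 : ev k 2 1 r = 0 := by
    have e0 : ev k 2 1 (X 0) = 0 := by rw [ev_X]; simp
    have e1 : ev k 2 1 (X 1) = X 1 := by rw [ev_X]; simp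
    have := congrArg (ev k 2 1) hq
    rw [map_mul, map_mul, map_add, map_mul, map_mul, e0, e1, zero_mul, mul_zero, mul_zero,
      zero_add] at this
    rcases mul_eq_zero.1 this.symm with h | h
    · exact h
    · exact absurd h (X_ne_zero 1)
  obtain ⟨r', hr'⟩ := dvd_of_ev_zero k r h1
  -- then p * X0 = X0 * (q * X1 - r' * X1)
  have h2 : p = (q - r') * X 1 := by
    have : X 0 * p = X 0 * ((q - r') * X 1) := by
      have e : p * X 0 = q * (X 0 * X 1) - r * X 1 := by rw [hq]; ring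
      rw [mul_comm (X 0) p, e, hr']
      ring
    exact mul_left_cancel₀ (X_ne_zero 0) this
  refine ⟨Ideal.Quotient.mk _ (q - r'), Ideal.Quotient.mk _ r', ?_, ?_⟩
  · rw [h2, map_mul]
  · rw [hr', map_mul, mul_comm]

end Groth.Agent.Lib.Helper21.Node
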