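import Mathlib

/-!
# Helper21 — NormBCA: integrality of determinants/norms; integrally closed polynomial rings.
-/

set_option autoImplicit false

namespace Groth.Agent.Lib.Helper21.NormBC

open Polynomial

/-- the determinant of a matrix over a domain killed by a monic polynomial over `A₁` is integral
over `A₁`. -/
theorem isIntegral_det_of_aeval_eq_zero {A₁ Λ₁ : Type*} [CommRing A₁] [CommRing Λ₁] [IsDomain Λ₁]
    [Algebra A₁ Λ₁] {ι : Type*} [Fintype ι] [DecidableEq ι] (μ : Matrix ι ι Λ₁) (g : A₁[X])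
    (hg : g.Monic) (h : Polynomial.aeval μ g = 0) : IsIntegral A₁ μ.det := by
  classical
  rcases isEmpty_or_nonempty ι with hι | hι
  · rw [Matrix.det_isEmpty]
    exact isIntegral_one
  let F := AlgebraicClosure (FractionRing Λ₁)
  have hj : Function.Injective (algebraMap Λ₁ F) := by
    rw [IsScalarTower.algebraMap_eq Λ₁ (FractionRing Λ₁) F]
    exact (algebraMap (FractionRing Λ₁) F).injective.comp (IsFractionRing.injective Λ₁ _)
  let f : Λ₁ →ₐ[A₁] F := IsScalarTower.toAlgHom A₁ Λ₁ F
  let μF : Matrix ι ι F := f.mapMatrix μ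
  have h1 : Polynomial.aeval μF g = 0 := by
    show Polynomial.aeval (f.mapMatrix μ) g = 0
    rw [Polynomial.aeval_algHom_apply, h, map_zero]
  have h2 : Polynomial.aeval μF (g.map (algebraMap A₁ F)) = 0 := by
    rw [Polynomial.aeval_map_algebraMap, h1]
  have hroot : ∀ r ∈ μF.charpoly.roots, IsIntegral A₁ r := by
    intro r hr
    have hr1 : IsRoot μF.charpoly r := (Polynomial.mem_roots'.1 hr).2
    have hr2 : r ∈ spectrum F μF := Matrix.mem_spectrum_iff_isRoot_charpoly.2 hr1
    have hr3 := spectrum.subset_polynomial_aeval μF (g.map (algebraMap A₁ F)) ⟨r, hr2, rfl⟩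
    rw [h2, spectrum.zero_eq, Set.mem_singleton_iff] at hr3
    refine ⟨g, hg, ?_⟩
    rw [← Polynomial.eval_map]
    exact hr3
  have h3 : IsIntegral A₁ μF.det := by
    rw [Matrix.det_eq_prod_roots_charpoly]
    exact IsIntegral.multiset_prod hroot
  have h4 : μF.det = algebraMap Λ₁ F μ.det := by
    show (f.mapMatrix μ).det = _
    rw [AlgHom.mapMatrix_apply]
    exact (RingHom.map_det (f : Λ₁ →+* F) μ).symm
  rw [h4] at h3
  exact (isIntegral_algebraMap_iff hj).1 h3

/-- the norm of an element integral over `A₁` is integral over `A₁`. -/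
theorem isIntegral_norm_of_basis {A₁ Λ₁ M₁ : Type*} [CommRing A₁] [CommRing Λ₁] [IsDomain Λ₁]
    [CommRing M₁] [Algebra A₁ Λ₁] [Algebra Λ₁ M₁] [Algebra A₁ M₁] [IsScalarTower A₁ Λ₁ M₁]
    {ι : Type*} [Fintype ι] [DecidableEq ι] (e : Module.Basis ι Λ₁ M₁) (β : M₁)
    (hβ : IsIntegral A₁ β) : IsIntegral A₁ (Algebra.norm Λ₁ β) := by
  obtain ⟨g, hg, hgβ⟩ := hβ
  rw [Algebra.norm_eq_matrix_det e]
  refine isIntegral_det_of_aeval_eq_zero _ g hg ?_
  have := Polynomial.aeval_algHom_apply ((Algebra.leftMulMatrix e).restrictScalars A₁) β g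
  rw [AlgHom.restrictScalars_apply] at this
  rw [this]
  have h0 : Polynomial.aeval β g = 0 := hgβ
  rw [h0, map_zero]

attribute [local instance] MvPolynomial.algebraMvPolynomial in
/-- an element of `K[t]` integral over `A[t]` comes from `A[t]` when `A` is integrally closed with
fraction field `K`. -/
theorem mvPolynomial_mem_range_of_isIntegral {A K : Type*} [CommRing A] [IsDomain A]
    [IsIntegrallyClosed A] [Field K] [Algebra A K] [IsFractionRing A K] {σ : Type*}
    (q : MvPolynomial σ K) (hq : IsIntegral (MvPolynomial σ A) q) :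
    q ∈ Set.range (MvPolynomial.map (σ := σ) (algebraMap A K)) := by
  rw [MvPolynomial.mem_range_map_iff_coeffs_subset]
  intro c hc
  have hc' := hc
  rw [Finset.mem_coe, MvPolynomial.mem_coeffs_iff] at hc'
  obtain ⟨n, -, rfl⟩ := hc'
  have h1 : IsIntegral A (q.coeff n) := MvPolynomial.isIntegral_iff_isIntegral_coeff.1 hq n
  exact IsIntegrallyClosed.isIntegral_iff.1 h1

end Groth.Agent.Lib.Helper21.NormBC
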