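import Mathlib
import Groth.Agent.Lib.Helper21.NormBCA

/-!
# Helper21 — NormBCB: the basis `bⱼ ⊗ 1` of `L ⊗ R` over `K ⊗ R`, naturality of the norm in `R`.
-/

set_option autoImplicit false

namespace Groth.Agent.Lib.Helper21.NormBC

open scoped TensorProduct

universe u

section Setup
variable (k K L : Type u) [Field k] [Field K] [Field L] [Algebra k K] [Algebra K L] [Algebra k L]
  [IsScalarTower k K L]
variable (R : Type u) [CommRing R] [Algebra k R]

/-- the ring hom `K ⊗ R → L ⊗ R`. -/
noncomputable abbrev tmap : K ⊗[k] R →ₐ[k] L ⊗[k] R :=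
  Algebra.TensorProduct.map (IsScalarTower.toAlgHom k K L) (AlgHom.id k R)

/-- the algebra structure of `L ⊗ R` over `K ⊗ R`. -/
noncomputable abbrev talg : Algebra (K ⊗[k] R) (L ⊗[k] R) := (tmap k K L R).toRingHom.toAlgebra

theorem talg_smul_def (x : K ⊗[k] R) (m : L ⊗[k] R) :
    letI := talg k K L R
    x • m = tmap k K L R x * m := by
  letI := talg k K L R
  rfl

theorem talg_tmul_smul_tmul (x : K) (r : R) (l : L) (r' : R) :
    letI := talg k K L R
    (x ⊗ₜ[k] r) • (l ⊗ₜ[k] r') = (x • l) ⊗ₜ[k] (r * r') := by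
  letI := talg k K L R
  rw [talg_smul_def]
  simp [Algebra.smul_def]

variable {K L} {ι : Type u} [Fintype ι] [DecidableEq ι] (b : Module.Basis ι K L)

/-- `k`-linear equivalence `L ⊗ R ≃ (ι → K ⊗ R)`. -/
noncomputable def eqv : L ⊗[k] R ≃ₗ[k] (ι → K ⊗[k] R) :=
  (TensorProduct.congr (b.equivFun.restrictScalars k) (LinearEquiv.refl k R)).trans
    (TensorProduct.piLeft k R (fun _ : ι => K))

theorem eqv_tmul (l : L) (r : R) (i : ι) :
    eqv k R b (l ⊗ₜ[k] r) i = (b.repr l i) ⊗ₜ[k] r := by
  simp [eqv]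

/-- the `K ⊗ R`-linear map `(ι → K ⊗ R) → L ⊗ R`, `c ↦ ∑ cᵢ • (bᵢ ⊗ 1)`. -/
noncomputable def phi :
    letI := talg k K L R
    (ι → K ⊗[k] R) →ₗ[K ⊗[k] R] L ⊗[k] R :=
  letI := talg k K L R
  Fintype.linearCombination (K ⊗[k] R) (fun i => b i ⊗ₜ[k] (1 : R))

theorem phi_apply (c : ι → K ⊗[k] R) :
    letI := talg k K L R
    phi k R b c = ∑ i, c i • (b i ⊗ₜ[k] (1 : R)) := by
  letI := talg k K L R
  rfl

theorem phi_eqv (m : L ⊗[k] R) : phi k R b (eqv k R b m) = m := by
  letI := talg k K L R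
  induction m using TensorProduct.induction_on with
  | zero => rw [map_zero, map_zero]
  | tmul l r =>
    rw [phi_apply]
    have : ∀ i, eqv k R b (l ⊗ₜ[k] r) i • (b i ⊗ₜ[k] (1 : R)) = (b.repr l i • b i) ⊗ₜ[k] r := by
      intro i
      rw [eqv_tmul, talg_tmul_smul_tmul, mul_one]
    rw [Finset.sum_congr rfl (fun i _ => this i), ← TensorProduct.sum_tmul, b.sum_repr]
  | add x y hx hy => rw [map_add, map_add, hx, hy]

theorem phi_bijective : Function.Bijective (phi k R b) := by
  have h : (phi k R b : (ι → K ⊗[k] R) → L ⊗[k] R) = (eqv k R b).symm := by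
    funext c
    obtain ⟨m, rfl⟩ := (eqv k R b).surjective c
    rw [phi_eqv, LinearEquiv.symm_apply_apply]
  rw [h]
  exact (eqv k R b).symm.bijective

/-- the basis `bᵢ ⊗ 1` of `L ⊗ R` over `K ⊗ R`. -/
noncomputable def tbasis :
    letI := talg k K L R
    Module.Basis ι (K ⊗[k] R) (L ⊗[k] R) :=
  letI := talg k K L R
  Module.Basis.ofEquivFun (LinearEquiv.ofBijective (phi k R b) (phi_bijective k R b)).symm

theorem tbasis_apply (i : ι) : tbasis k R b i = b i ⊗ₜ[k] (1 : R) := by
  letI := talg k K L R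
  unfold tbasis
  rw [Module.Basis.coe_ofEquivFun, LinearEquiv.symm_symm]
  show (LinearEquiv.ofBijective (phi k R b) (phi_bijective k R b)) (Pi.single i 1) = _
  rw [LinearEquiv.ofBijective_apply, phi_apply]
  rw [Finset.sum_eq_single i]
  · rw [Pi.single_eq_same, one_smul]
  · intro j _ hj
    rw [Pi.single_eq_of_ne hj, zero_smul]
  · intro h
    exact absurd (Finset.mem_univ i) h

end Setup

section Nat
variable (k : Type u) {K L : Type u} [Field k] [Field K] [Field L] [Algebra k K] [Algebra K L]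
  [Algebra k L] [IsScalarTower k K L]
variable {R R' : Type u} [CommRing R] [Algebra k R] [CommRing R'] [Algebra k R'] (φ : R →ₐ[k] R')
variable {ι : Type u} [Fintype ι] [DecidableEq ι] (b : Module.Basis ι K L)

/-- `id ⊗ φ`. -/
noncomputable abbrev fK (K : Type u) [CommRing K] [Algebra k K] : K ⊗[k] R →ₐ[k] K ⊗[k] R' :=
  Algebra.TensorProduct.map (AlgHom.id k K) φ

theorem tmap_comm (x : K ⊗[k] R) :
    tmap k K L R' (fK k φ K x) = fK k φ L (tmap k K L R x) := by
  induction x using TensorProduct.induction_on with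
  | zero => rw [map_zero, map_zero, map_zero, map_zero]
  | tmul x r => simp
  | add x y hx hy => rw [map_add, map_add, map_add, map_add, hx, hy]

theorem fL_smul (x : K ⊗[k] R) (m : L ⊗[k] R) :
    letI := talg k K L R
    letI := talg k K L R'
    fK k φ L (x • m) = fK k φ K x • fK k φ L m := by
  letI := talg k K L R
  letI := talg k K L R'
  rw [talg_smul_def, talg_smul_def, map_mul, tmap_comm]

theorem fL_tbasis (i : ι) : fK k φ L (tbasis k R b i) = tbasis k R' b i := by
  rw [tbasis_apply, tbasis_apply]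
  simp

theorem repr_fL (m : L ⊗[k] R) (i : ι) :
    letI := talg k K L R
    letI := talg k K L R'
    (tbasis k R' b).repr (fK k φ L m) i = fK k φ K ((tbasis k R b).repr m i) := by
  letI := talg k K L R
  letI := talg k K L R'
  have h1 : fK k φ L m = ∑ j, (fun j => fK k φ K ((tbasis k R b).repr m j)) j • tbasis k R' b j := by
    conv_lhs => rw [← (tbasis k R b).sum_repr m]
    rw [map_sum]
    refine Finset.sum_congr rfl fun j _ => ?_
    rw [fL_smul, fL_tbasis]
  rw [h1, Module.Basis.repr_sum_self]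

theorem leftMulMatrix_fL (x : L ⊗[k] R) :
    letI := talg k K L R
    letI := talg k K L R'
    Algebra.leftMulMatrix (tbasis k R' b) (fK k φ L x) =
      (Algebra.leftMulMatrix (tbasis k R b) x).map (fK k φ K) := by
  letI := talg k K L R
  letI := talg k K L R'
  ext i j
  rw [Algebra.leftMulMatrix_eq_repr_mul, Matrix.map_apply, Algebra.leftMulMatrix_eq_repr_mul,
    ← fL_tbasis k φ b j, ← map_mul, repr_fL]

include b in
theorem norm_fL (x : L ⊗[k] R) :
    letI := talg k K L R
    letI := talg k K L R'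
    Algebra.norm (K ⊗[k] R') (fK k φ L x) = fK k φ K (Algebra.norm (K ⊗[k] R) x) := by
  letI := talg k K L R
  letI := talg k K L R'
  rw [Algebra.norm_eq_matrix_det (tbasis k R' b), Algebra.norm_eq_matrix_det (tbasis k R b),
    leftMulMatrix_fL]
  exact (RingHom.map_det (fK k φ K : K ⊗[k] R →+* K ⊗[k] R') _).symm

end Nat

end Groth.Agent.Lib.Helper21.NormBC
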