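import Mathlib
import Groth.Agent.Lib.Helper21.NormBCB

/-!
# Helper21 — NormBCC: the norm of an element of `B ⊗ R` lies in `A ⊗ R`.
-/

set_option autoImplicit false

namespace Groth.Agent.Lib.Helper21.NormBC

open scoped TensorProduct

universe u

section Main
variable (k A K L : Type u) [Field k]
  [CommRing A] [IsDomain A] [IsIntegrallyClosed A] [Algebra k A]
  [Field K] [Algebra A K] [IsFractionRing A K] [Algebra k K] [IsScalarTower k A K]
  [Field L] [Algebra K L] [FiniteDimensional K L] [Algebra A L] [IsScalarTower A K L]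
  [Algebra k L] [IsScalarTower k K L] [IsScalarTower k A L]
variable (R : Type u) [CommRing R] [Algebra k R]

/-- `A ⊗ R → K ⊗ R`. -/
noncomputable abbrev aK : A ⊗[k] R →ₐ[k] K ⊗[k] R :=
  Algebra.TensorProduct.map (IsScalarTower.toAlgHom k A K) (AlgHom.id k R)

/-- `A ⊗ R → L ⊗ R`. -/
noncomputable abbrev aL : A ⊗[k] R →ₐ[k] L ⊗[k] R :=
  Algebra.TensorProduct.map (IsScalarTower.toAlgHom k A L) (AlgHom.id k R)

/-- `B ⊗ R → L ⊗ R`. -/
noncomputable abbrev bL : (integralClosure A L) ⊗[k] R →ₐ[k] L ⊗[k] R :=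
  Algebra.TensorProduct.map ((integralClosure A L).val.restrictScalars k) (AlgHom.id k R)

theorem tmap_aK (y : A ⊗[k] R) : tmap k K L R (aK k A K R y) = aL k A L R y := by
  induction y using TensorProduct.induction_on with
  | zero => rw [map_zero, map_zero, map_zero]
  | tmul a r =>
    simp only [Algebra.TensorProduct.map_tmul, IsScalarTower.coe_toAlgHom', AlgHom.coe_id, id_eq]
    rw [← IsScalarTower.algebraMap_apply]
  | add x y hx hy => rw [map_add, map_add, map_add, hx, hy]

variable {R} in
theorem fK_aK {R' : Type u} [CommRing R'] [Algebra k R'] (φ : R →ₐ[k] R') (y : A ⊗[k] R) :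
    fK k φ K (aK k A K R y) = aK k A K R' (fK k φ A y) := by
  induction y using TensorProduct.induction_on with
  | zero => rw [map_zero, map_zero, map_zero, map_zero]
  | tmul a r => simp
  | add x y hx hy => rw [map_add, map_add, map_add, map_add, hx, hy]

variable {R} in
theorem fK_bL {R' : Type u} [CommRing R'] [Algebra k R'] (φ : R →ₐ[k] R')
    (y : (integralClosure A L) ⊗[k] R) :
    fK k φ L (bL k A L R y) = bL k A L R' (fK k φ (integralClosure A L) y) := by
  induction y using TensorProduct.induction_on with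
  | zero => rw [map_zero, map_zero, map_zero, map_zero]
  | tmul a r => simp
  | add x y hx hy => rw [map_add, map_add, map_add, map_add, hx, hy]

/-- the image of `B ⊗ R` in `L ⊗ R` is integral over `A ⊗ R`. -/
theorem isIntegralElem_bL (y : (integralClosure A L) ⊗[k] R) :
    (aL k A L R : A ⊗[k] R →+* L ⊗[k] R).IsIntegralElem (bL k A L R y) := by
  induction y using TensorProduct.induction_on with
  | zero =>
    rw [map_zero]
    exact RingHom.isIntegralElem_zero _
  | tmul x r =>
    have h1 : bL k A L R (x ⊗ₜ[k] r) =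
        ((x : L) ⊗ₜ[k] (1 : R)) * aL k A L R ((1 : A) ⊗ₜ[k] r) := by
      simp
    rw [h1]
    refine RingHom.IsIntegralElem.mul _ ?_ (RingHom.isIntegralElem_map _)
    obtain ⟨p, hp, hpx⟩ := x.2
    refine ⟨p.map (Algebra.TensorProduct.includeLeft : A →ₐ[k] A ⊗[k] R).toRingHom,
      hp.map _, ?_⟩
    rw [Polynomial.eval₂_map]
    have h2 : ((aL k A L R : A ⊗[k] R →+* L ⊗[k] R).comp
        (Algebra.TensorProduct.includeLeft : A →ₐ[k] A ⊗[k] R).toRingHom) =
        ((Algebra.TensorProduct.includeLeft : L →ₐ[k] L ⊗[k] R).toRingHom).comp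
          (algebraMap A L) := by
      ext a
      simp
    rw [h2]
    have h3 := Polynomial.hom_eval₂ p (algebraMap A L)
      ((Algebra.TensorProduct.includeLeft : L →ₐ[k] L ⊗[k] R).toRingHom) (x : L)
    rw [hpx, map_zero] at h3
    exact h3.symm
  | add x y hx hy =>
    rw [map_add]
    exact RingHom.IsIntegralElem.add _ hx hy

section Poly
variable (σ : Type u)

theorem epsK_aK (y : A ⊗[k] MvPolynomial σ k) :
    MvPolynomial.algebraTensorAlgEquiv k K (aK k A K (MvPolynomial σ k) y) =
      MvPolynomial.map (algebraMap A K) (MvPolynomial.algebraTensorAlgEquiv k A y) := by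
  induction y using TensorProduct.induction_on with
  | zero => rw [map_zero, map_zero, map_zero, map_zero]
  | tmul a p =>
    simp only [Algebra.TensorProduct.map_tmul, IsScalarTower.coe_toAlgHom', AlgHom.coe_id, id_eq,
      MvPolynomial.algebraTensorAlgEquiv_tmul]
    rw [MvPolynomial.smul_eq_C_mul, MvPolynomial.smul_eq_C_mul, map_mul, MvPolynomial.map_C,
      MvPolynomial.map_map, ← IsScalarTower.algebraMap_eq]
  | add x y hx hy => rw [map_add, map_add, map_add, map_add, hx, hy]

attribute [local instance] MvPolynomial.algebraMvPolynomial in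
set_option maxHeartbeats 800000 in
theorem norm_mem_range_poly (β₀ : (integralClosure A L) ⊗[k] MvPolynomial σ k) :
    letI := talg k K L (MvPolynomial σ k)
    Algebra.norm (K ⊗[k] MvPolynomial σ k) (bL k A L (MvPolynomial σ k) β₀) ∈
      Set.range (aK k A K (MvPolynomial σ k)) := by
  classical
  letI := talg k K L (MvPolynomial σ k)
  letI i1 : Algebra (A ⊗[k] MvPolynomial σ k) (K ⊗[k] MvPolynomial σ k) :=
    (aK k A K (MvPolynomial σ k)).toRingHom.toAlgebra
  letI i2 : Algebra (A ⊗[k] MvPolynomial σ k) (L ⊗[k] MvPolynomial σ k) :=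
    (aL k A L (MvPolynomial σ k)).toRingHom.toAlgebra
  haveI : IsScalarTower (A ⊗[k] MvPolynomial σ k) (K ⊗[k] MvPolynomial σ k)
      (L ⊗[k] MvPolynomial σ k) :=
    IsScalarTower.of_algebraMap_eq (fun y => (tmap_aK k A K L (MvPolynomial σ k) y).symm)
  haveI : IsDomain (K ⊗[k] MvPolynomial σ k) :=
    (MvPolynomial.algebraTensorAlgEquiv (σ := σ) k K).toMulEquiv.isDomain _
  let b := Module.Free.chooseBasis K L
  have hβ : IsIntegral (A ⊗[k] MvPolynomial σ k) (bL k A L (MvPolynomial σ k) β₀) :=
    isIntegralElem_bL k A L (MvPolynomial σ k) β₀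
  obtain ⟨g₀, hg₀, hg₀N⟩ := isIntegral_norm_of_basis (tbasis k (MvPolynomial σ k) b) _ hβ
  set N := Algebra.norm (K ⊗[k] MvPolynomial σ k) (bL k A L (MvPolynomial σ k) β₀) with hN
  let eK : K ⊗[k] MvPolynomial σ k →+* MvPolynomial σ K :=
    RingHomClass.toRingHom (MvPolynomial.algebraTensorAlgEquiv (σ := σ) k K)
  let eA : A ⊗[k] MvPolynomial σ k →+* MvPolynomial σ A :=
    RingHomClass.toRingHom (MvPolynomial.algebraTensorAlgEquiv (σ := σ) k A)
  have hq : IsIntegral (MvPolynomial σ A) (MvPolynomial.algebraTensorAlgEquiv k K N) := by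
    refine ⟨g₀.map eA, hg₀.map _, ?_⟩
    rw [Polynomial.eval₂_map]
    have h2 : (algebraMap (MvPolynomial σ A) (MvPolynomial σ K)).comp eA =
        eK.comp (algebraMap (A ⊗[k] MvPolynomial σ k) (K ⊗[k] MvPolynomial σ k)) :=
      RingHom.ext fun y => (epsK_aK k A K σ y).symm
    rw [h2]
    have h3 := Polynomial.hom_eval₂ g₀
      (algebraMap (A ⊗[k] MvPolynomial σ k) (K ⊗[k] MvPolynomial σ k)) eK N
    rw [hg₀N, map_zero] at h3
    exact h3.symm
  obtain ⟨q, hq⟩ := mvPolynomial_mem_range_of_isIntegral _ hq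
  refine ⟨(MvPolynomial.algebraTensorAlgEquiv (σ := σ) k A).symm q, ?_⟩
  apply (MvPolynomial.algebraTensorAlgEquiv (σ := σ) k K).injective
  rw [epsK_aK, AlgEquiv.apply_symm_apply, hq]

end Poly

set_option maxHeartbeats 800000 in
/-- the norm of an element of `B ⊗ R` lies in the image of `A ⊗ R`. -/
theorem norm_mem_range (y : (integralClosure A L) ⊗[k] R) :
    letI := talg k K L R
    Algebra.norm (K ⊗[k] R) (bL k A L R y) ∈ Set.range (aK k A K R) := by
  classical
  letI := talg k K L R
  letI := talg k K L (MvPolynomial R k)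
  let φ : MvPolynomial R k →ₐ[k] R := MvPolynomial.aeval (fun r : R => r)
  have hsurj : Function.Surjective (fK k φ (integralClosure A L)) := by
    intro y
    induction y using TensorProduct.induction_on with
    | zero => exact ⟨0, map_zero _⟩
    | tmul x r => exact ⟨x ⊗ₜ[k] MvPolynomial.X r, by simp [φ]⟩
    | add y y' h h' =>
      obtain ⟨z, rfl⟩ := h
      obtain ⟨z', rfl⟩ := h'
      exact ⟨z + z', map_add _ _ _⟩
  obtain ⟨β₀, rfl⟩ := hsurj y
  obtain ⟨z, hz⟩ := norm_mem_range_poly k A K L R β₀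
  refine ⟨fK k φ A z, ?_⟩
  rw [← fK_aK, hz, ← norm_fL k φ (Module.Free.chooseBasis K L), fK_bL]

end Main

end Groth.Agent.Lib.Helper21.NormBC
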