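import Mathlib
import Groth.Agent.Lib.Helper21.NormBCC

/-!
# Helper21 — NormBCD: regular elements of `B ⊗ R` and regularity of the norm.
-/

set_option autoImplicit false

namespace Groth.Agent.Lib.Helper21.NormBC

open scoped TensorProduct Matrix

universe u

/-- McCoy: `x` is a nonzerodivisor of a finite free algebra iff its norm is a nonzerodivisor. -/
theorem norm_mem_nonZeroDivisors_iff {Λ M ι : Type*} [CommRing Λ] [CommRing M] [Algebra Λ M]
    [Fintype ι] [DecidableEq ι] (e : Module.Basis ι Λ M) (x : M) :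
    Algebra.norm Λ x ∈ nonZeroDivisors Λ ↔ x ∈ nonZeroDivisors M := by
  rw [Algebra.norm_eq_matrix_det e, ← Matrix.nonsingular_iff_det_mem_nonZeroDivisors,
    ← Matrix.isLeftRegular_iff_nonsingular, Matrix.isLeftRegular_iff_mulVec_injective]
  constructor
  · intro h
    rw [mem_nonZeroDivisors_iff_left]
    intro m hm
    have h1 := Algebra.leftMulMatrix_mulVec_repr e x m
    rw [hm, map_zero, Finsupp.coe_zero] at h1
    have h2 : Algebra.leftMulMatrix e x *ᵥ (e.repr m) = Algebra.leftMulMatrix e x *ᵥ 0 := by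
      rw [h1, Matrix.mulVec_zero]
    have h3 := h h2
    have h4 : e.repr m = 0 := by
      ext i
      exact congrFun h3 i
    exact (LinearEquiv.map_eq_zero_iff _).1 h4
  · intro h v w hvw
    have hv := Algebra.leftMulMatrix_mulVec_repr e x (e.equivFun.symm v)
    have hw := Algebra.leftMulMatrix_mulVec_repr e x (e.equivFun.symm w)
    have e1 : ⇑(e.repr (e.equivFun.symm v)) = v := by
      have := e.equivFun.apply_symm_apply v
      exact this
    have e2 : ⇑(e.repr (e.equivFun.symm w)) = w := by
      have := e.equivFun.apply_symm_apply w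
      exact this
    rw [e1] at hv
    rw [e2] at hw
    have h5 : e.repr (x * e.equivFun.symm v) = e.repr (x * e.equivFun.symm w) := by
      ext i
      rw [← hv, ← hw, hvw]
    have h6 : x * e.equivFun.symm v = x * e.equivFun.symm w := e.repr.injective h5
    have h7 : e.equivFun.symm v = e.equivFun.symm w :=
      (mul_cancel_left_mem_nonZeroDivisors h).1 h6
    exact e.equivFun.symm.injective h7

section Main
variable (k A K L : Type u) [Field k]
  [CommRing A] [IsDomain A] [IsIntegrallyClosed A] [Algebra k A]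
  [Field K] [Algebra A K] [IsFractionRing A K] [Algebra k K] [IsScalarTower k A K]
  [Field L] [Algebra K L] [FiniteDimensional K L] [Algebra A L] [IsScalarTower A K L]
  [Algebra k L] [IsScalarTower k K L] [IsScalarTower k A L]
variable (R : Type u) [CommRing R] [Algebra k R]

theorem free_finite :
    letI := talg k K L R
    Module.Free (K ⊗[k] R) (L ⊗[k] R) ∧ Module.Finite (K ⊗[k] R) (L ⊗[k] R) := by
  classical
  letI := talg k K L R
  exact ⟨Module.Free.of_basis (tbasis k R (Module.Free.chooseBasis K L)),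
    Module.Finite.of_basis (tbasis k R (Module.Free.chooseBasis K L))⟩

theorem bL_injective : Function.Injective (bL k A L R) := by
  have h : ⇑(bL k A L R) =
      ⇑(LinearMap.rTensor R ((integralClosure A L).val.restrictScalars k).toLinearMap) := by
    funext y
    induction y using TensorProduct.induction_on with
    | zero => rw [map_zero, map_zero]
    | tmul x r => rfl
    | add x y hx hy => rw [map_add, map_add, hx, hy]
  rw [h]
  exact Module.Flat.rTensor_preserves_injective_linearMap _ Subtype.val_injective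

include K in
theorem algebraMap_AL_ne_zero {a : A} (ha : a ≠ 0) : algebraMap A L a ≠ 0 := by
  rw [IsScalarTower.algebraMap_apply A K L]
  intro h
  have h1 : algebraMap A K a = 0 := (algebraMap K L).injective (h.trans (map_zero _).symm)
  exact ha ((IsFractionRing.injective A K) (h1.trans (map_zero _).symm))

include K in
theorem isUnit_tmul_one {a : A} (ha : a ≠ 0) :
    IsUnit ((algebraMap A L a) ⊗ₜ[k] (1 : R) : L ⊗[k] R) :=
  (Ne.isUnit (algebraMap_AL_ne_zero A K L ha)).map
    (Algebra.TensorProduct.includeLeft : L →ₐ[k] L ⊗[k] R)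

include K in
theorem exists_denominator (m : L ⊗[k] R) :
    ∃ a : A, a ≠ 0 ∧ ((algebraMap A L a) ⊗ₜ[k] (1 : R)) * m ∈ Set.range (bL k A L R) := by
  induction m using TensorProduct.induction_on with
  | zero => exact ⟨1, one_ne_zero, 0, by rw [map_zero, mul_zero]⟩
  | tmul l r =>
    have hl : IsAlgebraic A l :=
      (IsFractionRing.isAlgebraic_iff A K L).2 (Algebra.IsAlgebraic.isAlgebraic l)
    obtain ⟨a, ha, hal⟩ := hl.exists_integral_multiple
    refine ⟨a, ha, (⟨a • l, hal⟩ : integralClosure A L) ⊗ₜ[k] r, ?_⟩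
    simp [Algebra.smul_def]
  | add m m' h h' =>
    obtain ⟨a, ha, z, hz⟩ := h
    obtain ⟨a', ha', z', hz'⟩ := h'
    refine ⟨a * a', mul_ne_zero ha ha',
      ((algebraMap A (integralClosure A L) a') ⊗ₜ[k] (1 : R)) * z +
        ((algebraMap A (integralClosure A L) a) ⊗ₜ[k] (1 : R)) * z', ?_⟩
    have e1 : bL k A L R ((algebraMap A (integralClosure A L) a') ⊗ₜ[k] (1 : R)) =
        (algebraMap A L a') ⊗ₜ[k] (1 : R) := rfl
    have e2 : bL k A L R ((algebraMap A (integralClosure A L) a) ⊗ₜ[k] (1 : R)) =
        (algebraMap A L a) ⊗ₜ[k] (1 : R) := rfl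
    have e3 : ((algebraMap A L (a * a')) ⊗ₜ[k] (1 : R) : L ⊗[k] R) =
        ((algebraMap A L a) ⊗ₜ[k] (1 : R)) * ((algebraMap A L a') ⊗ₜ[k] (1 : R)) := by
      rw [Algebra.TensorProduct.tmul_mul_tmul, map_mul, mul_one]
    rw [map_add, map_mul, map_mul, hz, hz', e1, e2, e3]
    ring

include K in
theorem bL_mem_nonZeroDivisors {y : (integralClosure A L) ⊗[k] R}
    (hy : y ∈ nonZeroDivisors ((integralClosure A L) ⊗[k] R)) :
    bL k A L R y ∈ nonZeroDivisors (L ⊗[k] R) := by
  rw [mem_nonZeroDivisors_iff_left]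
  intro m hm
  obtain ⟨a, ha, z, hz⟩ := exists_denominator k A K L R m
  have h1 : bL k A L R (y * z) = 0 := by
    rw [map_mul, hz, ← mul_assoc, mul_comm (bL k A L R y), mul_assoc, hm, mul_zero]
  have h2 : y * z = 0 := bL_injective k A L R (h1.trans (map_zero _).symm)
  have h3 : z = 0 := (mem_nonZeroDivisors_iff_left.1 hy) z h2
  rw [h3, map_zero] at hz
  exact (isUnit_tmul_one k A K L R ha).mul_right_eq_zero.1 hz.symm

theorem mem_nonZeroDivisors_of_bL {y : (integralClosure A L) ⊗[k] R}
    (hy : bL k A L R y ∈ nonZeroDivisors (L ⊗[k] R)) :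
    y ∈ nonZeroDivisors ((integralClosure A L) ⊗[k] R) := by
  rw [mem_nonZeroDivisors_iff_left]
  intro z hz
  have h1 : bL k A L R y * bL k A L R z = 0 := by rw [← map_mul, hz, map_zero]
  have h2 : bL k A L R z = 0 := (mem_nonZeroDivisors_iff_left.1 hy) _ h1
  exact bL_injective k A L R (h2.trans (map_zero _).symm)

theorem regular_iff (y : (integralClosure A L) ⊗[k] R) :
    letI := talg k K L R
    IsRegular y ↔ IsRegular (Algebra.norm (K ⊗[k] R) (bL k A L R y)) := by
  classical
  letI := talg k K L R
  rw [isRegular_iff_mem_nonZeroDivisors, isRegular_iff_mem_nonZeroDivisors,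
    norm_mem_nonZeroDivisors_iff (tbasis k R (Module.Free.chooseBasis K L))]
  exact ⟨bL_mem_nonZeroDivisors k A K L R, mem_nonZeroDivisors_of_bL k A L R⟩

end Main

end Groth.Agent.Lib.Helper21.NormBC
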