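import Mathlib
import Groth.Agent.Lib.Helper21.QuasiReg

set_option autoImplicit false
universe u

namespace Groth.Agent.Lib.Helper21.OrdVal
open MvPolynomial Groth.Agent.Lib.Helper21.QuasiReg
open scoped WithZero

section grdomain
variable {A : Type u} [CommRing A] {n : ℕ} (x : Fin n → A)

/-- the associated graded ring of a prime ideal generated by a quasi-regular sequence is a
domain, in elementary form -/
theorem mul_notMem_pow (hqr : QR x) [hI : (Ideal.span (Set.range x)).IsPrime] {p q : ℕ} {a b : A}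
    (ha : a ∈ Ideal.span (Set.range x) ^ p) (ha' : a ∉ Ideal.span (Set.range x) ^ (p + 1))
    (hb : b ∈ Ideal.span (Set.range x) ^ q) (hb' : b ∉ Ideal.span (Set.range x) ^ (q + 1)) :
    a * b ∉ Ideal.span (Set.range x) ^ (p + q + 1) := by
  obtain ⟨F, hF, rfl⟩ := exists_homogeneous_eval x p a ha
  obtain ⟨G, hG, rfl⟩ := exists_homogeneous_eval x q b hb
  intro hab
  have h1 := hqr (p + q) (F * G) (hF.mul hG) (by simpa using hab)
  have h2 : map (Ideal.Quotient.mk (Ideal.span (Set.range x))) (F * G) = 0 := by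
    ext m
    rw [coeff_map, coeff_zero, Ideal.Quotient.eq_zero_iff_mem]
    exact h1 m
  rw [map_mul, mul_eq_zero] at h2
  rcases h2 with h2 | h2
  · apply ha'
    apply eval_mem_pow_succ x hF
    intro m
    have := congrArg (coeff m) h2
    rwa [coeff_map, coeff_zero, Ideal.Quotient.eq_zero_iff_mem] at this
  · apply hb'
    apply eval_mem_pow_succ x hG
    intro m
    have := congrArg (coeff m) h2
    rwa [coeff_map, coeff_zero, Ideal.Quotient.eq_zero_iff_mem] at this

end grdomain

section ord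
variable {A : Type u} [CommRing A] (J : Ideal A)

open Classical in
/-- the `J`-adic order of an element (junk value `0` if the element lies in all powers) -/
noncomputable def ord (a : A) : ℕ :=
  if h : ∃ n, a ∉ J ^ (n + 1) then Nat.find h else 0

lemma mem_pow_ord (a : A) : a ∈ J ^ ord J a := by
  classical
  unfold ord
  split_ifs with h
  · rcases hn : Nat.find h with _ | k
    · simp
    · have := Nat.find_min h (m := k) (by omega)
      simpa using this
  · simp

lemma notMem_pow_ord_succ {a : A} (h : ∃ n, a ∉ J ^ (n + 1)) : a ∉ J ^ (ord J a + 1) := by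
  classical
  unfold ord
  rw [dif_pos h]
  exact Nat.find_spec h

lemma le_ord_iff {a : A} (h : ∃ n, a ∉ J ^ (n + 1)) (k : ℕ) : k ≤ ord J a ↔ a ∈ J ^ k := by
  constructor
  · intro hk
    exact Ideal.pow_le_pow_right hk (mem_pow_ord J a)
  · intro hk
    by_contra hlt
    push Not at hlt
    exact notMem_pow_ord_succ J h (Ideal.pow_le_pow_right (by omega) hk)

lemma ord_eq {a : A} {k : ℕ} (h1 : a ∈ J ^ k) (h2 : a ∉ J ^ (k + 1)) : ord J a = k := by
  have h : ∃ n, a ∉ J ^ (n + 1) := ⟨k, h2⟩
  apply le_antisymm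
  · by_contra hlt
    push Not at hlt
    exact h2 ((le_ord_iff J h _).mp hlt)
  · exact (le_ord_iff J h _).mpr h1

end ord

/-- data for the order valuation -/
structure Setup (A : Type u) [CommRing A] where
  n : ℕ
  x : Fin (n + 1) → A
  hqr : QR x
  hprime : (Ideal.span (Set.range x)).IsPrime
  hsep : ∀ a : A, a ≠ 0 → ∃ k, a ∉ Ideal.span (Set.range x) ^ (k + 1)

namespace Setup
variable {A : Type u} [CommRing A] (S : Setup A)

/-- the ideal -/
def J : Ideal A := Ideal.span (Set.range S.x)

instance : S.J.IsPrime := S.hprime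

/-- order function -/
noncomputable def o (a : A) : ℕ := ord S.J a

lemma mem_pow_o (a : A) : a ∈ S.J ^ S.o a := mem_pow_ord _ _

lemma notMem_pow_o_succ {a : A} (ha : a ≠ 0) : a ∉ S.J ^ (S.o a + 1) :=
  notMem_pow_ord_succ _ (S.hsep a ha)

lemma le_o_iff {a : A} (ha : a ≠ 0) (k : ℕ) : k ≤ S.o a ↔ a ∈ S.J ^ k :=
  le_ord_iff _ (S.hsep a ha) k

include S in
lemma mul_ne_zero' {a b : A} (ha : a ≠ 0) (hb : b ≠ 0) : a * b ≠ 0 := by
  intro h
  have := mul_notMem_pow S.x S.hqr (hI := S.hprime) (S.mem_pow_o a) (S.notMem_pow_o_succ ha)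
    (S.mem_pow_o b) (S.notMem_pow_o_succ hb)
  rw [h] at this
  exact this (zero_mem _)

lemma o_mul {a b : A} (ha : a ≠ 0) (hb : b ≠ 0) : S.o (a * b) = S.o a + S.o b := by
  apply ord_eq
  · rw [pow_add]
    exact Ideal.mul_mem_mul (S.mem_pow_o a) (S.mem_pow_o b)
  · exact mul_notMem_pow S.x S.hqr (hI := S.hprime) (S.mem_pow_o a) (S.notMem_pow_o_succ ha)
      (S.mem_pow_o b) (S.notMem_pow_o_succ hb)

include S in
lemma one_ne_zero' : (1 : A) ≠ 0 := by
  intro h
  apply S.hprime.ne_top
  rw [Ideal.eq_top_iff_one, h]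
  exact zero_mem _

lemma o_one : S.o 1 = 0 := by
  apply ord_eq
  · simp
  · rw [zero_add, pow_one]
    exact (Ideal.ne_top_iff_one _).mp S.hprime.ne_top

lemma min_le_o_add {a b : A} (hab : a + b ≠ 0) : min (S.o a) (S.o b) ≤ S.o (a + b) := by
  rw [S.le_o_iff hab]
  exact add_mem (Ideal.pow_le_pow_right (min_le_left _ _) (S.mem_pow_o a))
    (Ideal.pow_le_pow_right (min_le_right _ _) (S.mem_pow_o b))

open Classical in
/-- the order valuation on `A` -/
noncomputable def v : Valuation A ℤᵐ⁰ where
  toFun a := if a = 0 then 0 else WithZero.exp (-(S.o a : ℤ))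
  map_zero' := by simp
  map_one' := by
    rw [if_neg S.one_ne_zero', S.o_one]
    simp
  map_mul' a b := by
    by_cases ha : a = 0
    · simp [ha]
    by_cases hb : b = 0
    · simp [hb]
    rw [if_neg ha, if_neg hb, if_neg (S.mul_ne_zero' ha hb), S.o_mul ha hb, ← WithZero.exp_add]
    congr 1
    push_cast
    ring
  map_add_le_max' a b := by
    by_cases hab : a + b = 0
    · simp [hab]
    by_cases ha : a = 0
    · simp [ha]
    by_cases hb : b = 0
    · simp [hb]
    rw [if_neg ha, if_neg hb, if_neg hab]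
    have := S.min_le_o_add hab
    rcases le_total (S.o a) (S.o b) with h | h
    · rw [min_eq_left h] at this
      refine le_max_of_le_left ?_
      rw [WithZero.exp_le_exp]
      omega
    · rw [min_eq_right h] at this
      refine le_max_of_le_right ?_
      rw [WithZero.exp_le_exp]
      omega

lemma v_apply {a : A} (ha : a ≠ 0) : S.v a = WithZero.exp (-(S.o a : ℤ)) := by
  classical
  show (if a = 0 then 0 else WithZero.exp (-(S.o a : ℤ))) = _
  rw [if_neg ha]

lemma v_eq_zero_iff {a : A} : S.v a = 0 ↔ a = 0 := by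
  constructor
  · intro h
    by_contra ha
    rw [S.v_apply ha] at h
    exact WithZero.exp_ne_zero h
  · rintro rfl
    exact map_zero _

end Setup

namespace Setup
variable {A : Type u} [CommRing A] (S : Setup A)

include S in
lemma nontrivial : Nontrivial A := ⟨⟨1, 0, S.one_ne_zero'⟩⟩

lemma nzd_le : nonZeroDivisors A ≤ S.v.supp.primeCompl := by
  have := S.nontrivial
  intro a ha hmem
  rw [SetLike.mem_coe, Valuation.mem_supp_iff, S.v_eq_zero_iff] at hmem
  rw [hmem] at ha
  exact zero_notMem_nonZeroDivisors ha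

lemma v_le_one (a : A) : S.v a ≤ 1 := by
  by_cases ha : a = 0
  · simp [ha]
  · rw [S.v_apply ha, ← WithZero.exp_zero, WithZero.exp_le_exp]
    omega

lemma o_x0 : S.o (S.x 0) = 1 ∧ S.x 0 ≠ 0 := by
  have h2 : S.x 0 ∉ S.J ^ (1 + 1) := by
    intro h
    have := S.hqr 1 (X 0) (isHomogeneous_X A 0) (by simpa [J] using h) (Finsupp.single 0 1)
    rw [coeff_X, if_pos rfl] at this
    exact (Ideal.ne_top_iff_one _).mp S.hprime.ne_top this
  refine ⟨ord_eq _ ?_ h2, ?_⟩
  · rw [pow_one]
    exact Ideal.subset_span ⟨0, rfl⟩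
  · intro h
    rw [h] at h2
    exact h2 (zero_mem _)

variable (K : Type u) [Field K] [Algebra A K] [IsFractionRing A K]

/-- the order valuation on the fraction field -/
noncomputable def vK : Valuation K ℤᵐ⁰ := S.v.extendToLocalization S.nzd_le K

lemma vK_algebraMap (a : A) : S.vK K (algebraMap A K a) = S.v a :=
  Valuation.extendToLocalization_apply_map_apply _ _ _ _

/-- the valuation ring as an `A`-subalgebra of `K` -/
noncomputable def V : Subalgebra A K :=
  { (S.vK K).integer.toSubsemiring with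
    algebraMap_mem' := fun a => by
      show S.vK K (algebraMap A K a) ≤ 1
      rw [vK_algebraMap]
      exact S.v_le_one a }

lemma mem_V_iff (z : K) : z ∈ S.V K ↔ S.vK K z ≤ 1 := Iff.rfl

lemma integers : (S.vK K).Integers (S.V K) where
  hom_inj := Subtype.val_injective
  map_le_one := fun z => z.2
  exists_of_le_one := fun z hz => ⟨⟨z, hz⟩, rfl⟩

/-- the uniformizer -/
noncomputable def π : S.V K := ⟨algebraMap A K (S.x 0), (S.V K).algebraMap_mem _⟩

lemma vK_π : S.vK K (S.π K) = WithZero.exp (-1 : ℤ) := by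
  show S.vK K (algebraMap A K (S.x 0)) = _
  rw [vK_algebraMap, S.v_apply S.o_x0.2, S.o_x0.1]
  rfl

lemma exists_vK_eq (z : K) (hz : z ≠ 0) : ∃ k : ℤ, S.vK K z = WithZero.exp k := by
  have h : S.vK K z ≠ 0 := (Valuation.ne_zero_iff _).mpr hz
  exact ⟨WithZero.log (S.vK K z), (WithZero.exp_log h).symm⟩

lemma exists_vK_eq_nat (z : S.V K) (hz : z ≠ 0) :
    ∃ n : ℕ, S.vK K z = WithZero.exp (-(n : ℤ)) := by
  obtain ⟨k, hk⟩ := S.exists_vK_eq K (z : K) (by simpa using hz)
  have h1 : S.vK K z ≤ 1 := z.2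
  rw [hk, ← WithZero.exp_zero, WithZero.exp_le_exp] at h1
  refine ⟨(-k).toNat, ?_⟩
  rw [hk]
  congr 1
  omega

lemma isUnit_iff (z : S.V K) : IsUnit z ↔ S.vK K z = 1 :=
  (S.integers K).isUnit_iff_valuation_eq_one

lemma irreducible_π : Irreducible (S.π K) := by
  rw [irreducible_iff]
  constructor
  · rw [S.isUnit_iff, S.vK_π]
    intro h
    rw [← WithZero.exp_zero, WithZero.exp_inj] at h
    omega
  · intro a b hab
    have ha : a ≠ 0 := by
      rintro rfl
      have := congrArg (fun z : S.V K => S.vK K z) hab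
      simp only [zero_mul, ZeroMemClass.coe_zero, map_zero, S.vK_π] at this
      exact WithZero.exp_ne_zero this
    have hb : b ≠ 0 := by
      rintro rfl
      have := congrArg (fun z : S.V K => S.vK K z) hab
      simp only [mul_zero, ZeroMemClass.coe_zero, map_zero, S.vK_π] at this
      exact WithZero.exp_ne_zero this
    obtain ⟨i, hi⟩ := S.exists_vK_eq_nat K a ha
    obtain ⟨j, hj⟩ := S.exists_vK_eq_nat K b hb
    have := congrArg (fun z : S.V K => S.vK K z) hab
    simp only [S.vK_π, MulMemClass.coe_mul, map_mul, hi, hj, ← WithZero.exp_add,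
      WithZero.exp_inj] at this
    rw [S.isUnit_iff, S.isUnit_iff, hi, hj]
    rcases Nat.eq_zero_or_pos i with h | h
    · left; rw [h]; simp
    · right
      have : j = 0 := by omega
      rw [this]; simp

lemma associated_π_pow (z : S.V K) (hz : z ≠ 0) : ∃ n : ℕ, Associated (S.π K ^ n) z := by
  obtain ⟨n, hn⟩ := S.exists_vK_eq_nat K z hz
  refine ⟨n, associated_of_dvd_dvd ?_ ?_⟩
  · apply (S.integers K).dvd_of_le
    show S.vK K z ≤ S.vK K ((S.π K ^ n : S.V K) : K)
    rw [SubmonoidClass.coe_pow, map_pow, S.vK_π, hn, ← WithZero.exp_nsmul]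
    simp
  · apply (S.integers K).dvd_of_le
    show S.vK K ((S.π K ^ n : S.V K) : K) ≤ S.vK K z
    rw [SubmonoidClass.coe_pow, map_pow, S.vK_π, hn, ← WithZero.exp_nsmul]
    simp

theorem isDiscreteValuationRing : IsDiscreteValuationRing (S.V K) :=
  IsDiscreteValuationRing.ofHasUnitMulPowIrreducibleFactorization
    ⟨S.π K, S.irreducible_π K, fun {z} hz => S.associated_π_pow K z hz⟩

theorem isFractionRing : IsFractionRing (S.V K) K := by
  haveI : FaithfulSMul (S.V K) K :=
    (faithfulSMul_iff_algebraMap_injective _ _).mpr Subtype.val_injective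
  apply IsFractionRing.of_field
  intro z
  obtain ⟨a, b, -, rfl⟩ := IsFractionRing.div_surjective (A := A) z
  exact ⟨algebraMap A (S.V K) a, algebraMap A (S.V K) b, rfl⟩

lemma mem_maximalIdeal_iff [IsLocalRing (S.V K)] (z : S.V K) :
    z ∈ IsLocalRing.maximalIdeal (S.V K) ↔ S.vK K z < 1 := by
  rw [IsLocalRing.mem_maximalIdeal, mem_nonunits_iff, S.isUnit_iff]
  have h1 : S.vK K z ≤ 1 := z.2
  exact ⟨fun h => lt_of_le_of_ne h1 h, fun h => ne_of_lt h⟩

lemma v_lt_one_iff (a : A) : S.v a < 1 ↔ a ∈ S.J := by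
  by_cases ha : a = 0
  · simp [ha]
  · rw [S.v_apply ha, ← WithZero.exp_zero, WithZero.exp_lt_exp, ← pow_one S.J, ← S.le_o_iff ha]
    omega

theorem comap_maximalIdeal [IsLocalRing (S.V K)] :
    (IsLocalRing.maximalIdeal (S.V K)).comap (algebraMap A (S.V K)) = S.J := by
  ext a
  rw [Ideal.mem_comap, S.mem_maximalIdeal_iff, ← S.v_lt_one_iff, ← S.vK_algebraMap K]
  rfl

end Setup

section homog

lemma aeval_mul_of_isHomogeneous {σ : Type*} {R S : Type*} [CommRing R] [CommRing S] [Algebra R S]
    (c : S) (w : σ → S) {d : ℕ} {F : MvPolynomial σ R} (hF : F.IsHomogeneous d) :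
    aeval (fun i => c * w i) F = c ^ d * aeval w F := by
  conv_lhs => rw [F.as_sum]
  conv_rhs => rw [F.as_sum]
  rw [map_sum, map_sum, Finset.mul_sum]
  refine Finset.sum_congr rfl fun m hm => ?_
  have hd := hF.degree_eq_sum_deg_support hm
  rw [aeval_monomial, aeval_monomial]
  simp only [Finsupp.prod, mul_pow, Finset.prod_mul_distrib, Finset.prod_pow_eq_pow_sum]
  rw [← hd]
  ring

variable {A : Type u} [CommRing A] {n : ℕ}

/-- dehomogenization -/
noncomputable def θ : MvPolynomial (Fin (n + 1)) A →ₐ[A] MvPolynomial (Fin n) A :=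
  aeval (Fin.cases 1 X : Fin (n + 1) → MvPolynomial (Fin n) A)

lemma θ_monomial_cons (k : ℕ) (m : Fin n →₀ ℕ) (c : A) :
    θ (monomial (Finsupp.cons k m) c) = monomial m c := by
  unfold θ
  rw [aeval_monomial, Finsupp.prod_fintype _ _ (by simp), Fin.prod_univ_succ]
  simp only [Fin.cases_zero, Fin.cases_succ, Finsupp.cons_zero, Finsupp.cons_succ, one_pow, one_mul]
  rw [monomial_eq, Finsupp.prod_fintype _ _ (by simp)]
  rfl

lemma exists_homogeneous_lift (G : MvPolynomial (Fin n) A) :
    ∃ (d : ℕ) (F : MvPolynomial (Fin (n + 1)) A), F.IsHomogeneous d ∧ θ F = G := by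
  refine ⟨G.totalDegree,
    ∑ m ∈ G.support, monomial (Finsupp.cons (G.totalDegree - m.degree) m) (coeff m G), ?_, ?_⟩
  · refine IsHomogeneous.sum _ _ _ fun m hm => isHomogeneous_monomial _ ?_
    have h1 : m.degree ≤ G.totalDegree := by
      have := le_totalDegree hm
      simpa [Finsupp.degree, Finsupp.sum] using this
    rw [Finsupp.degree_eq_sum, Fin.sum_univ_succ]
    simp only [Finsupp.cons_zero, Finsupp.cons_succ]
    rw [← Finsupp.degree_eq_sum]
    omega
  · rw [map_sum]
    conv_rhs => rw [G.as_sum]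
    exact Finset.sum_congr rfl fun m _ => θ_monomial_cons _ _ _

lemma θ_mem_map_C (J : Ideal A) {F : MvPolynomial (Fin (n + 1)) A}
    (hF : ∀ m, F.coeff m ∈ J) (m : Fin n →₀ ℕ) : (θ F).coeff m ∈ J := by
  have h1 : F ∈ Ideal.map (C : A →+* MvPolynomial (Fin (n + 1)) A) J := mem_map_C_iff.mpr hF
  have h2 : (θ (A := A) (n := n)).toRingHom F ∈
      Ideal.map (θ (A := A) (n := n)).toRingHom (Ideal.map (C : A →+* _) J) :=
    Ideal.mem_map_of_mem _ h1
  rw [Ideal.map_map] at h2
  have h3 : (θ (A := A) (n := n)).toRingHom.comp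
      (C : A →+* MvPolynomial (Fin (n + 1)) A) = C := by
    ext a
    simp [θ]
  have h4 : θ F ∈ Ideal.map (C : A →+* MvPolynomial (Fin n) A) J := by
    rw [← h3]; exact h2
  exact mem_map_C_iff.mp h4 m

end homog

namespace Setup
variable {A : Type u} [CommRing A] (S : Setup A)

lemma v_le_exp_iff (a : A) (d : ℕ) : S.v a ≤ WithZero.exp (-(d : ℤ)) ↔ a ∈ S.J ^ d := by
  by_cases ha : a = 0
  · simp [ha]
  · rw [S.v_apply ha, WithZero.exp_le_exp, ← S.le_o_iff ha]
    omega

lemma v_lt_exp_iff (a : A) (d : ℕ) : S.v a < WithZero.exp (-(d : ℤ)) ↔ a ∈ S.J ^ (d + 1) := by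
  by_cases ha : a = 0
  · simp [ha]
  · rw [S.v_apply ha, WithZero.exp_lt_exp, ← S.le_o_iff ha]
    omega

variable (K : Type u) [Field K] [Algebra A K] [IsFractionRing A K]

lemma algebraMap_x0_ne_zero : algebraMap A K (S.x 0) ≠ 0 := by
  intro h
  have := S.vK_algebraMap K (S.x 0)
  rw [h, map_zero, S.v_apply S.o_x0.2] at this
  exact WithZero.exp_ne_zero this.symm

lemma vK_x0 : S.vK K (algebraMap A K (S.x 0)) = WithZero.exp (-1 : ℤ) := S.vK_π K

/-- the ratios `x_{i+1}/x_0` -/
noncomputable def τ (i : Fin S.n) : S.V K :=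
  ⟨algebraMap A K (S.x i.succ) / algebraMap A K (S.x 0), by
    rw [mem_V_iff, map_div₀, S.vK_x0, S.vK_algebraMap]
    have h1 : S.v (S.x i.succ) ≤ WithZero.exp (-((1 : ℕ) : ℤ)) := by
      rw [S.v_le_exp_iff, pow_one]
      exact Ideal.subset_span ⟨_, rfl⟩
    rw [div_le_one₀ (by simp)]
    simpa using h1⟩

/-- the affine chart of the blow-up mapping to the valuation ring -/
noncomputable def ψ : MvPolynomial (Fin S.n) A →ₐ[A] S.V K := aeval (S.τ K)

lemma key_identity {d : ℕ} {F : MvPolynomial (Fin (S.n + 1)) A} (hF : F.IsHomogeneous d) :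
    algebraMap A K (eval S.x F) =
      (algebraMap A K (S.x 0)) ^ d * ((S.ψ K (θ F) : S.V K) : K) := by
  set c := algebraMap A K (S.x 0) with hc
  set w : Fin (S.n + 1) → K := Fin.cases 1 (fun i => (S.τ K i : K)) with hw
  have h1 : algebraMap A K (eval S.x F) = aeval (fun i => c * w i) F := by
    have : (fun i => c * w i) = fun i => algebraMap A K (S.x i) := by
      funext i
      induction i using Fin.cases with
      | zero => simp [hw, hc]
      | succ i =>
        simp only [hw, Fin.cases_succ, τ]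
        rw [mul_div_cancel₀ _ (S.algebraMap_x0_ne_zero K)]
    rw [this, eval₂_comp]
    rfl
  have h2 : aeval w F = ((S.ψ K (θ F) : S.V K) : K) := by
    have : (aeval w : MvPolynomial (Fin (S.n + 1)) A →ₐ[A] K) =
        (S.V K).val.comp ((S.ψ K).comp θ) := by
      apply MvPolynomial.algHom_ext
      intro i
      rw [aeval_X]
      induction i using Fin.cases with
      | zero => simp [hw, θ]
      | succ i => simp [hw, θ, ψ]
    rw [this]
    rfl
  rw [h1, aeval_mul_of_isHomogeneous _ _ hF, h2]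

lemma coeff_mem_of_vK_lt (G : MvPolynomial (Fin S.n) A) (h : S.vK K (S.ψ K G) < 1) :
    ∀ m, G.coeff m ∈ S.J := by
  obtain ⟨d, F, hF, rfl⟩ := exists_homogeneous_lift G
  have h1 := congrArg (S.vK K) (S.key_identity K hF)
  rw [S.vK_algebraMap, map_mul, map_pow, S.vK_x0] at h1
  have h2 : S.v (eval S.x F) < WithZero.exp (-(d : ℤ)) := by
    rw [h1]
    calc WithZero.exp (-1 : ℤ) ^ d * S.vK K (S.ψ K (θ F))
        < WithZero.exp (-1 : ℤ) ^ d * 1 := by
          apply mul_lt_mul_of_pos_left h
          exact pow_pos (by simp [zero_lt_iff]) d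
      _ = WithZero.exp (-(d : ℤ)) := by
          rw [mul_one, ← WithZero.exp_nsmul]; simp
  rw [S.v_lt_exp_iff] at h2
  exact θ_mem_map_C S.J (S.hqr d F hF h2)

section residue
open IsLocalRing
variable [IsLocalRing A] (hJ : S.J = maximalIdeal A) [IsLocalRing (S.V K)]

omit [IsLocalRing (S.V K)] in
include hJ in
lemma isLocalHom : IsLocalHom (algebraMap A (S.V K)) := ⟨fun a ha => by
  rw [S.isUnit_iff] at ha
  by_contra hu
  have h1 : a ∈ maximalIdeal A := hu
  rw [← hJ, ← S.v_lt_one_iff, ← S.vK_algebraMap K] at h1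
  exact (ne_of_lt h1) ha⟩

/-- the residue classes of the ratios -/
noncomputable def t' (i : Fin S.n) : ResidueField (S.V K) := residue (S.V K) (S.τ K i)

lemma aeval_t'_map (φ : ResidueField A →+* ResidueField (S.V K))
    (hφ : φ.comp (residue A) = (residue (S.V K)).comp (algebraMap A (S.V K)))
    (G : MvPolynomial (Fin S.n) A) :
    letI := φ.toAlgebra
    aeval (S.t' K) (map (residue A) G) = residue (S.V K) (S.ψ K G) := by
  letI := φ.toAlgebra
  have : ((aeval (S.t' K) : MvPolynomial (Fin S.n) (ResidueField A) →ₐ[ResidueField A] _).toRingHom.comp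
      (map (residue A))) = (residue (S.V K)).comp (S.ψ K).toRingHom := by
    apply MvPolynomial.ringHom_ext
    · intro a
      simp only [RingHom.comp_apply, map_C, AlgHom.toRingHom_eq_coe, RingHom.coe_coe, aeval_C]
      rw [RingHom.algebraMap_toAlgebra]
      have := congrArg (fun f => f a) hφ
      simp only [RingHom.comp_apply] at this
      rw [this]
      congr 1
      exact ((S.ψ K).commutes a).symm
    · intro i
      simp [t', ψ]
  exact congrArg (fun f => f G) this

include hJ in
theorem residue_purely_transcendental :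
    ∃ (φ : ResidueField A →+* ResidueField (S.V K)),
      φ.comp (residue A) = (residue (S.V K)).comp (algebraMap A (S.V K)) ∧
      letI := φ.toAlgebra
      ∃ (ι : Type u) (t : ι → ResidueField (S.V K)),
        AlgebraicIndependent (ResidueField A) t ∧
          IntermediateField.adjoin (ResidueField A) (Set.range t) = ⊤ := by
  haveI := S.isLocalHom K hJ
  refine ⟨ResidueField.map (algebraMap A (S.V K)), ResidueField.map_comp_residue _, ?_⟩
  set φ := ResidueField.map (algebraMap A (S.V K)) with hφdef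
  have hφ : φ.comp (residue A) = (residue (S.V K)).comp (algebraMap A (S.V K)) :=
    ResidueField.map_comp_residue _
  letI := φ.toAlgebra
  have hind : AlgebraicIndependent (ResidueField A) (S.t' K) := by
    rw [algebraicIndependent_iff]
    intro p hp
    obtain ⟨G, rfl⟩ := MvPolynomial.map_surjective (residue A) residue_surjective p
    have h1 := S.aeval_t'_map K φ hφ G
    rw [h1, residue_eq_zero_iff, S.mem_maximalIdeal_iff] at hp
    have h2 := S.coeff_mem_of_vK_lt K G hp
    ext m
    rw [coeff_map, coeff_zero, residue_eq_zero_iff, ← hJ]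
    exact h2 m
  have hmem : ∀ G : MvPolynomial (Fin S.n) A, residue (S.V K) (S.ψ K G) ∈
      IntermediateField.adjoin (ResidueField A) (Set.range (S.t' K)) := by
    intro G
    rw [← S.aeval_t'_map K φ hφ G]
    apply IntermediateField.algebra_adjoin_le_adjoin
    rw [Algebra.adjoin_range_eq_range_aeval]
    exact ⟨_, rfl⟩
  have hgen : IntermediateField.adjoin (ResidueField A) (Set.range (S.t' K)) = ⊤ := by
    rw [eq_top_iff]
    intro y _
    obtain ⟨z, rfl⟩ := residue_surjective y
    by_cases hz : z = 0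
    · rw [hz, map_zero]; exact zero_mem _
    have hzK : (z : K) ≠ 0 := by simpa using hz
    obtain ⟨a, b, hb, hab⟩ := IsFractionRing.div_surjective (A := A) (z : K)
    have hb0 : algebraMap A K b ≠ 0 := by
      intro h; rw [h, div_zero] at hab; exact hzK hab.symm
    have hbA : b ≠ 0 := by rintro rfl; exact hb0 (map_zero _)
    have hz1 : S.vK K (z : K) ≤ 1 := z.2
    rw [← hab, map_div₀, S.vK_algebraMap, S.vK_algebraMap,
      div_le_one₀ (lt_of_le_of_ne zero_le (Ne.symm (fun h => hbA (S.v_eq_zero_iff.mp h)))),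
      S.v_apply hbA, S.v_le_exp_iff] at hz1
    obtain ⟨F, hF, hFa⟩ := exists_homogeneous_eval S.x (S.o b) a hz1
    obtain ⟨G, hG, hGb⟩ := exists_homogeneous_eval S.x (S.o b) b (S.mem_pow_o b)
    have kF := S.key_identity K hF
    have kG := S.key_identity K hG
    rw [hFa] at kF
    rw [hGb] at kG
    have hc := S.algebraMap_x0_ne_zero K
    have hcd : (algebraMap A K (S.x 0)) ^ (S.o b) ≠ 0 := pow_ne_zero _ hc
    have hG0 : ((S.ψ K (θ G) : S.V K) : K) ≠ 0 := by
      intro h; rw [h, mul_zero] at kG; exact hb0 kG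
    have hunit : IsUnit (S.ψ K (θ G)) := by
      rw [S.isUnit_iff]
      have := congrArg (S.vK K) kG
      rw [S.vK_algebraMap, S.v_apply hbA, map_mul, map_pow, S.vK_x0, ← WithZero.exp_nsmul] at this
      have h2 : WithZero.exp (S.o b • (-1 : ℤ)) = WithZero.exp (-(S.o b : ℤ)) := by simp
      rw [h2] at this
      have h3 : WithZero.exp (-(S.o b : ℤ)) ≠ 0 := WithZero.exp_ne_zero
      exact (mul_eq_left₀ h3).mp this.symm
    have hmul : z * S.ψ K (θ G) = S.ψ K (θ F) := by
      apply Subtype.ext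
      rw [MulMemClass.coe_mul, ← hab, kF, kG]
      field_simp
    have hres := congrArg (residue (S.V K)) hmul
    rw [map_mul] at hres
    have hne : residue (S.V K) (S.ψ K (θ G)) ≠ 0 := (residue_ne_zero_iff_isUnit _).mpr hunit
    have : residue (S.V K) z = residue (S.V K) (S.ψ K (θ F)) / residue (S.V K) (S.ψ K (θ G)) := by
      rw [eq_div_iff hne, hres]
    rw [this]
    exact div_mem (hmem _) (hmem _)
  refine ⟨ULift.{u} (Fin S.n), S.t' K ∘ ULift.down, ?_, ?_⟩
  · exact hind.comp _ ULift.down_injective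
  · rw [Set.range_comp, Set.range_eq_univ.mpr ULift.down_surjective, Set.image_univ]
    exact hgen

end residue

end Setup

end Groth.Agent.Lib.Helper21.OrdVal
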