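import Mathlib

/-!
# A form not vanishing at finitely many nonzero points (helper21)
-/

set_option autoImplicit false
universe u

namespace Groth.Agent.Lib.Helper21.PtsForm
open MvPolynomial

variable {k : Type u} [Field k] {n : ℕ}

lemma eval_smul_of_isHomogeneous {d : ℕ} {F : MvPolynomial (Fin n) k} (hF : F.IsHomogeneous d)
    (c : k) (q : Fin n → k) : eval (c • q) F = c ^ d * eval q F := by
  conv_lhs => rw [F.as_sum]
  conv_rhs => rw [F.as_sum]
  rw [map_sum, map_sum, Finset.mul_sum]
  refine Finset.sum_congr rfl fun m hm => ?_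
  have hd := hF.degree_eq_sum_deg_support hm
  rw [eval_monomial, eval_monomial]
  simp only [Finsupp.prod, Pi.smul_apply, smul_eq_mul, mul_pow, Finset.prod_mul_distrib,
    Finset.prod_pow_eq_pow_sum]
  rw [← hd]
  ring

/-- a linear form vanishing at `q` but not at `p`, when `p` is not a multiple of `q ≠ 0` -/
lemma exists_linear_sep {p q : Fin n → k} (hq : q ≠ 0) (hpq : ∀ c : k, p ≠ c • q) :
    ∃ L : MvPolynomial (Fin n) k, L.IsHomogeneous 1 ∧ eval q L = 0 ∧ eval p L ≠ 0 := by
  obtain ⟨i, hi⟩ : ∃ i, q i ≠ 0 := by
    by_contra h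
    push Not at h
    exact hq (funext h)
  by_cases hj : ∃ j, q i * p j - q j * p i ≠ 0
  · obtain ⟨j, hj⟩ := hj
    refine ⟨C (q i) * X j - C (q j) * X i, ?_, ?_, ?_⟩
    · exact ((isHomogeneous_X k j).C_mul (q i)).sub ((isHomogeneous_X k i).C_mul (q j))
    · simp only [map_sub, map_mul, eval_C, eval_X]; ring
    · simpa only [map_sub, map_mul, eval_C, eval_X] using hj
  · exfalso
    push Not at hj
    apply hpq (p i / q i)
    funext j
    have := hj j
    simp only [Pi.smul_apply, smul_eq_mul]
    field_simp
    linear_combination this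

theorem exists_form_ne_zero (hn : 0 < n) (Z : Finset (Fin n → k)) (hZ : ∀ p ∈ Z, p ≠ 0) :
    ∃ (e : ℕ) (h : MvPolynomial (Fin n) k), 0 < e ∧ h.IsHomogeneous e ∧ ∀ p ∈ Z, eval p h ≠ 0 := by
  classical
  induction Z using Finset.induction_on with
  | empty => exact ⟨1, X ⟨0, hn⟩, one_pos, isHomogeneous_X k _, by simp⟩
  | insert p Z' hp ih =>
    obtain ⟨e, h, he, hh, hne⟩ := ih (fun q hq => hZ q (Finset.mem_insert_of_mem hq))
    have hp0 : p ≠ 0 := hZ p (Finset.mem_insert_self _ _)
    by_cases hph : eval p h ≠ 0
    · refine ⟨e, h, he, hh, ?_⟩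
      intro q hq
      rcases Finset.mem_insert.mp hq with rfl | hq
      · exact hph
      · exact hne q hq
    · push Not at hph
      obtain ⟨i, hi⟩ : ∃ i, p i ≠ 0 := by
        by_contra hcon
        push Not at hcon
        exact hp0 (funext hcon)
      have hsep : ∀ q ∈ Z', ∃ L : MvPolynomial (Fin n) k,
          L.IsHomogeneous 1 ∧ eval q L = 0 ∧ eval p L ≠ 0 := by
        intro q hq
        apply exists_linear_sep (hZ q (Finset.mem_insert_of_mem hq))
        intro c hc
        have h1 := eval_smul_of_isHomogeneous hh c q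
        rw [← hc, hph] at h1
        rcases mul_eq_zero.mp h1.symm with h2 | h2
        · have hc0 : c = 0 := by
            by_contra hc0
            exact pow_ne_zero e hc0 h2
          rw [hc0, zero_smul] at hc
          exact hp0 hc
        · exact hne q hq h2
      choose! L hL1 hL2 hL3 using hsep
      set s := Z'.card with hs
      set g : MvPolynomial (Fin n) k := ∏ q ∈ Z', L q with hg
      have hghom : g.IsHomogeneous s := by
        have := IsHomogeneous.prod Z' L (fun _ => 1) (fun q hq => hL1 q hq)
        simpa [hs] using this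
      have hgq : ∀ q ∈ Z', eval q g = 0 := by
        intro q hq
        rw [hg, map_prod]
        exact Finset.prod_eq_zero hq (hL2 q hq)
      have hgp : eval p g ≠ 0 := by
        rw [hg, map_prod]
        exact Finset.prod_ne_zero_iff.mpr (fun q hq => hL3 q hq)
      refine ⟨e * (s + 1), h ^ (s + 1) + g ^ e * X i ^ e, by positivity, ?_, ?_⟩
      · have h1 : (h ^ (s + 1)).IsHomogeneous (e * (s + 1)) := hh.pow (s + 1)
        have h2 : (g ^ e * X i ^ e).IsHomogeneous (e * (s + 1)) := by
          have := (hghom.pow e).mul ((isHomogeneous_X k i).pow e)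
          convert this using 1
          ring
        exact h1.add h2
      · intro q hq
        rcases Finset.mem_insert.mp hq with rfl | hq
        · simp only [map_add, map_pow, map_mul, eval_X, hph]
          rw [zero_pow (by omega), zero_add]
          exact mul_ne_zero (pow_ne_zero _ hgp) (pow_ne_zero _ hi)
        · simp only [map_add, map_pow, map_mul, eval_X, hgq q hq]
          rw [zero_pow (by omega), zero_mul, add_zero]
          exact pow_ne_zero _ (hne q hq)

end Groth.Agent.Lib.Helper21.PtsForm
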