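import Mathlib
import Groth.Prelude.Def_GrSyz
import Groth.Prelude.Def_GrLC
import Groth.Agent.Lib.Helper21.GrQuot
import Groth.Agent.Lib.Helper21.HBurchBound

set_option autoImplicit false
set_option linter.unusedSectionVars false
universe u

namespace Groth.Agent.Lib.Helper21.PtsRes
open GrSyz MvPolynomial DirectSum Groth.Agent.Lib.Helper21.HBurch Groth.Agent.Lib.Helper21.GrQuot

section Homog
variable {k : Type u} [Field k] {r : ℕ}

lemma decompose_eq_homogeneousComponent (f : MvPolynomial (Fin (r + 1)) k) (n : ℕ) :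
    (decompose (stdGr k (Fin (r + 1))) f (n : ℤ) : MvPolynomial (Fin (r + 1)) k) =
      homogeneousComponent n f := by
  classical
  have h1 : (decompose (stdGr k (Fin (r + 1))) f (n : ℤ) : MvPolynomial (Fin (r + 1)) k) =
      weightedHomogeneousComponent (fun _ : Fin (r + 1) => (1 : ℤ)) (n : ℤ) f :=
    MvPolynomial.weightedDecomposition.decompose'_apply k (fun _ : Fin (r + 1) => (1 : ℤ)) f (n : ℤ)
  rw [h1]
  ext m
  rw [coeff_weightedHomogeneousComponent, coeff_homogeneousComponent, weight_int_eq_cast]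
  have : Finsupp.weight (1 : Fin (r + 1) → ℕ) m = m.degree :=
    (congrFun (congrArg DFunLike.coe Finsupp.degree_eq_weight_one) m).symm
  rw [this]
  simp only [Nat.cast_inj]

variable (Z : Finset ((Fin (r + 1)) → k)) (I : Ideal (MvPolynomial (Fin (r + 1)) k))
  (hI : ∀ f : MvPolynomial (Fin (r + 1)) k, f ∈ I ↔
      ∀ p ∈ Z, ∀ j : ℕ, MvPolynomial.eval p (MvPolynomial.homogeneousComponent j f) = 0)

include hI in
lemma isHomogeneous_I : I.IsHomogeneous (stdGr k (Fin (r + 1))) := by
  intro d f hf
  apply mem_I_of_eval_eq_zero Z I hI (SetLike.coe_mem _)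
  intro p hp
  rcases lt_or_ge d 0 with hd | hd
  · rw [eq_zero_of_mem_stdGr_neg hd (SetLike.coe_mem _), map_zero]
  · obtain ⟨n, rfl⟩ := Int.eq_ofNat_of_zero_le hd
    rw [decompose_eq_homogeneousComponent]
    exact (hI f).mp hf p hp n

lemma hc_mul {h f : MvPolynomial (Fin (r + 1)) k} {e : ℕ} (hh : h.IsHomogeneous e) (j : ℕ) :
    homogeneousComponent (e + j) (h * f) = h * homogeneousComponent j f := by
  classical
  conv_lhs => rw [← sum_homogeneousComponent f, Finset.mul_sum, map_sum]
  have key : ∀ i ∈ Finset.range (f.totalDegree + 1),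
      homogeneousComponent (e + j) (h * homogeneousComponent i f) =
        if i = j then h * homogeneousComponent j f else 0 := by
    intro i _
    rw [homogeneousComponent_of_mem (hh.mul (homogeneousComponent_isHomogeneous i f))]
    by_cases hij : i = j
    · subst hij; simp
    · rw [if_neg hij, if_neg (by omega)]
  rw [Finset.sum_congr rfl key, Finset.sum_ite_eq']
  split_ifs with hj
  · rfl
  · rw [Finset.mem_range, not_lt] at hj
    rw [homogeneousComponent_eq_zero _ _ (by omega), mul_zero]

include hI in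
/-- a form not vanishing on `Z` is a nonzerodivisor modulo the vanishing ideal -/
lemma mem_of_mul_mem {h : MvPolynomial (Fin (r + 1)) k} {e : ℕ} (hh : h.IsHomogeneous e)
    (hne : ∀ p ∈ Z, eval p h ≠ 0) {f : MvPolynomial (Fin (r + 1)) k} (hf : h * f ∈ I) : f ∈ I := by
  rw [hI] at hf ⊢
  intro p hp j
  have := hf p hp (e + j)
  rw [hc_mul hh, map_mul] at this
  exact (mul_eq_zero.mp this).resolve_left (hne p hp)

include hI in
lemma isSMulRegular_quot {h : MvPolynomial (Fin (r + 1)) k} {e : ℕ} (hh : h.IsHomogeneous e)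
    (hne : ∀ p ∈ Z, eval p h ≠ 0) :
    IsSMulRegular (MvPolynomial (Fin (r + 1)) k ⧸ I) h := by
  intro a b hab
  obtain ⟨f, rfl⟩ := Ideal.Quotient.mk_surjective a
  obtain ⟨g, rfl⟩ := Ideal.Quotient.mk_surjective b
  have h1 : h • Ideal.Quotient.mk I f = Ideal.Quotient.mk I (h * f) := rfl
  have h2 : h • Ideal.Quotient.mk I g = Ideal.Quotient.mk I (h * g) := rfl
  change h • Ideal.Quotient.mk I f = h • Ideal.Quotient.mk I g at hab
  rw [h1, h2] at hab
  rw [Ideal.Quotient.eq] at hab ⊢
  apply mem_of_mul_mem Z I hI hh hne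
  rw [mul_sub]
  exact hab

end Homog

end Groth.Agent.Lib.Helper21.PtsRes
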