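import Mathlib
import Groth.Prelude.Def_GrSyz
import Groth.Prelude.Def_GrLC
import Groth.Agent.Lib.Helper21.GrQuot
import Groth.Agent.Lib.Helper21.HBurchBound
import Groth.Agent.Lib.Helper21.TorReg
import Groth.Agent.Lib.Helper21.PtsForm
import Groth.Agent.Lib.Helper21.PolyPD
import Groth.Agent.Lib.Helper21.GrSyzRes
import Groth.Agent.Lib.Helper21.GrSyzIrrel
import Groth.Agent.Lib.Helper21.GrSyzMin
import Groth.Agent.Lib.Helper21.PtsResA
import Groth.Agent.S19471

set_option autoImplicit false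
set_option linter.unusedSectionVars false
set_option backward.isDefEq.respectTransparency false
set_option backward.defeqAttrib.useBackward true
universe u

namespace Groth.Agent.Lib.Helper21.PtsRes
open GrSyz MvPolynomial DirectSum Groth.Agent.Lib.Helper21.HBurch Groth.Agent.Lib.Helper21.GrQuot
open CategoryTheory CategoryTheory.Limits

section Len
variable {k : Type u} [Field k] {r : ℕ}
  (Z : Finset ((Fin (r + 1)) → k)) (hZ : ∀ p ∈ Z, p ≠ 0)
  (I : Ideal (MvPolynomial (Fin (r + 1)) k))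
  (hI : ∀ f : MvPolynomial (Fin (r + 1)) k, f ∈ I ↔
      ∀ p ∈ Z, ∀ j : ℕ, MvPolynomial.eval p (MvPolynomial.homogeneousComponent j f) = 0)
  {M : Type u} [AddCommGroup M] [Module k M] [Module (MvPolynomial (Fin (r + 1)) k) M]
  [IsScalarTower k (MvPolynomial (Fin (r + 1)) k) M]
  {ℳ : ℤ → Submodule k M} [DirectSum.Decomposition ℳ] [SetLike.GradedSMul (stdGr k (Fin (r + 1))) ℳ]
  (π : MvPolynomial (Fin (r + 1)) k →ₗ[MvPolynomial (Fin (r + 1)) k] M)
  (hπ : Function.Surjective π) (hker : LinearMap.ker π = I)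

include hI hπ hker in
lemma isSMulRegular_of_form {h : MvPolynomial (Fin (r + 1)) k} {e : ℕ} (hh : h.IsHomogeneous e)
    (hne : ∀ p ∈ Z, eval p h ≠ 0) : IsSMulRegular M h := by
  intro a b hab
  obtain ⟨f, rfl⟩ := hπ a
  obtain ⟨g, rfl⟩ := hπ b
  change h • π f = h • π g at hab
  rw [← map_smul, ← map_smul, ← sub_eq_zero, ← map_sub, ← LinearMap.mem_ker, hker, smul_eq_mul,
    smul_eq_mul, ← mul_sub] at hab
  have := mem_of_mul_mem Z I hI hh hne hab
  rw [← hker, LinearMap.mem_ker, map_sub, sub_eq_zero] at this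
  exact this

lemma mem_irrel_of_isHomogeneous {h : MvPolynomial (Fin (r + 1)) k} {e : ℕ} (he : 0 < e)
    (hh : h.IsHomogeneous e) : h ∈ (irrel (stdGr k (Fin (r + 1)))).toIdeal := by
  rw [Groth.Agent.Lib.Helper21.GrSyzIrrel.irrel_eq_ker, RingHom.mem_ker, constantCoeff_eq]
  apply hh.coeff_eq_zero
  simp only [map_zero]
  omega

include hZ hI hπ hker in
theorem hasLengthLE (F : FreeRes (stdGr k (Fin (r + 1))) ℳ)
    (hF : F.IsMinimal (irrel (stdGr k (Fin (r + 1)))).toIdeal) : F.HasLengthLE r := by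
  set S := MvPolynomial (Fin (r + 1)) k with hS
  set 𝔪 := (irrel (stdGr k (Fin (r + 1)))).toIdeal with h𝔪
  intro i hi
  have hpd : HasProjectiveDimensionLE (ModuleCat.of S (S ⧸ 𝔪)) (r + 1) := by
    have h := Groth.Agent.Lib.Helper21.PolyPD.pd_quot k (r + 1) (r + 1) le_rfl
    rw [Groth.Agent.Lib.Helper21.PolyPD.I_top_eq_ker,
      ← Groth.Agent.Lib.Helper21.GrSyzIrrel.irrel_eq_ker] at h
    exact h
  have hz : IsZero (((Tor (ModuleCat.{u} S) i).obj (ModuleCat.of S (S ⧸ 𝔪))).obj
      (ModuleCat.of S M)) := by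
    rcases Nat.lt_or_ge (r + 1) i with h1 | h1
    · exact Groth.Agent.S19471.isZero_tor_of_pd_left S _ _ (r + 1) i h1
    · have hir : i = r + 1 := by omega
      subst hir
      obtain ⟨e, h, he, hh, hne⟩ := Groth.Agent.Lib.Helper21.PtsForm.exists_form_ne_zero
        (Nat.succ_pos r) Z hZ
      apply Groth.Agent.Lib.Helper21.TorReg.isZero_tor_of_regular _ _ h
      · apply ModuleCat.hom_ext
        apply LinearMap.ext
        intro x
        obtain ⟨s, rfl⟩ := Ideal.Quotient.mk_surjective (I := 𝔪) x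
        simp only [ModuleCat.hom_smul, ModuleCat.hom_id, LinearMap.smul_apply, LinearMap.id_coe,
          id_eq, ModuleCat.hom_zero, LinearMap.zero_apply]
        change Ideal.Quotient.mk 𝔪 (h * s) = 0
        rw [Ideal.Quotient.eq_zero_iff_mem]
        exact Ideal.mul_mem_right _ _ (mem_irrel_of_isHomogeneous he hh)
      · exact isSMulRegular_of_form Z I hI π hπ hker hh hne
      · exact Groth.Agent.S19471.isZero_tor_of_pd_left S _ _ (r + 1) (r + 1 + 1) (by omega)
  have hl := Groth.Agent.Lib.Helper21.GrSyzRes.length_tor F 𝔪 hF i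
  rw [ModuleCat.isZero_iff_subsingleton] at hz
  rw [Module.length_eq_zero] at hl
  exact_mod_cast hl.symm

end Len

end Groth.Agent.Lib.Helper21.PtsRes
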