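import Mathlib
import Groth.Prelude.Def_GrSyz
import Groth.Prelude.Def_GrLC
import Groth.Agent.Lib.Helper21.PtsResB
import Groth.Agent.Lib.Helper21.HBurchDeg
import Groth.Agent.Lib.Helper21.HBurchHilb

set_option autoImplicit false
set_option linter.unusedSectionVars false
universe u

namespace Groth.Agent.Lib.Helper21.PtsRes
open GrSyz MvPolynomial DirectSum Groth.Agent.Lib.Helper21.HBurch Groth.Agent.Lib.Helper21.GrQuot
open Groth.Agent.Lib.Helper24.GrSyzL

section Gen
variable {k : Type u} [Field k] {r : ℕ}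
  (Z : Finset ((Fin (r + 1)) → k)) (hZne : Z.Nonempty)
  (I : Ideal (MvPolynomial (Fin (r + 1)) k))
  (hI : ∀ f : MvPolynomial (Fin (r + 1)) k, f ∈ I ↔
      ∀ p ∈ Z, ∀ j : ℕ, MvPolynomial.eval p (MvPolynomial.homogeneousComponent j f) = 0)
  {M : Type u} [AddCommGroup M] [Module k M] [Module (MvPolynomial (Fin (r + 1)) k) M]
  [IsScalarTower k (MvPolynomial (Fin (r + 1)) k) M]
  {ℳ : ℤ → Submodule k M} [DirectSum.Decomposition ℳ] [SetLike.GradedSMul (stdGr k (Fin (r + 1))) ℳ]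
  (π : MvPolynomial (Fin (r + 1)) k →ₗ[MvPolynomial (Fin (r + 1)) k] M)
  (hπ : Function.Surjective π) (hπg : GrLC.IsGrHom (stdGr k (Fin (r + 1))) ℳ π)
  (hker : LinearMap.ker π = I)
  (F : FreeRes (stdGr k (Fin (r + 1))) ℳ)
  (hF : F.IsMinimal (irrel (stdGr k (Fin (r + 1)))).toIdeal)

include hZne hI in
lemma I_le_irrel : I ≤ (irrel (stdGr k (Fin (r + 1)))).toIdeal := by
  intro f hf
  rw [Groth.Agent.Lib.Helper21.GrSyzIrrel.irrel_eq_ker, RingHom.mem_ker, constantCoeff_eq]
  obtain ⟨p, hp⟩ := hZne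
  have := (hI f).mp hf p hp 0
  rwa [homogeneousComponent_zero, eval_C] at this

include hF in
lemma range_d_le (i : ℕ) (v : Fin (F.rk (i + 1)) → MvPolynomial (Fin (r + 1)) k) (a : Fin (F.rk i)) :
    (F.dLin i v) a ∈ (irrel (stdGr k (Fin (r + 1)))).toIdeal := by
  rw [Matrix.mulVecLin_apply]
  change ∑ b, F.d i a b * v b ∈ _
  exact Ideal.sum_mem _ fun b _ => Ideal.mul_mem_right _ _ (hF i a b)

include hZne hI hπ hπg hker hF in
/-- the minimal resolution of the coordinate ring of a nonempty set of points starts with a single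
generator, which is the class of a unit of degree `0` -/
theorem exists_unit_gen : ∃ (b0 : Fin (F.rk 0)) (u : MvPolynomial (Fin (r + 1)) k),
    IsUnit u ∧ F.aug b0 = π u ∧ F.deg 0 b0 = 0 ∧ ∀ b : Fin (F.rk 0), b = b0 := by
  classical
  set 𝔪 := (irrel (stdGr k (Fin (r + 1)))).toIdeal with h𝔪
  have hlift : ∀ b : Fin (F.rk 0), ∃ u ∈ stdGr k (Fin (r + 1)) (F.deg 0 b), π u = F.aug b :=
    fun b => exists_homogeneous_lift π hπg hπ (F.aug_mem b)
  choose u hu hπu using hlift
  -- some `u b` is not in `𝔪`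
  have hex : ∃ b0, u b0 ∉ 𝔪 := by
    by_contra hcon
    push Not at hcon
    obtain ⟨s, hs⟩ := F.aug_surjective (π 1)
    rw [Fintype.linearCombination_apply] at hs
    have h1 : (1 : MvPolynomial (Fin (r + 1)) k) - ∑ b, s b * u b ∈ I := by
      rw [← hker, LinearMap.mem_ker, map_sub, map_sum, sub_eq_zero, ← hs]
      refine Finset.sum_congr rfl fun b _ => ?_
      rw [← smul_eq_mul, map_smul, hπu]
    have h2 := I_le_irrel Z hZne I hI h1
    have h3 : ∑ b, s b * u b ∈ 𝔪 := Ideal.sum_mem _ fun b _ => Ideal.mul_mem_left _ _ (hcon b)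
    have h4 : (1 : MvPolynomial (Fin (r + 1)) k) ∈ 𝔪 := by
      have := Ideal.add_mem _ h2 h3
      rwa [sub_add_cancel] at this
    exact one_notMem_irrel k (Fin (r + 1)) h4
  obtain ⟨b0, hb0⟩ := hex
  have hunit : IsUnit (u b0) := isUnit_of_mem_stdGr_of_notMem_irrel k (Fin (r + 1)) (hu b0) hb0
  have hdeg : F.deg 0 b0 = 0 := by
    have hne : u b0 ≠ 0 := by rintro h; exact hb0 (h ▸ Ideal.zero_mem _)
    obtain ⟨d, hd⟩ := MvPolynomial.ne_zero_iff.mp hne
    have hw := hu b0 hd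
    have hnn : 0 ≤ F.deg 0 b0 := hw ▸ weight_one_nonneg (Fin (r + 1)) d
    rcases hnn.lt_or_eq with h | h
    · exact absurd (Ideal.subset_span (show u b0 ∈ {r' | ∃ n : ℤ, 0 < n ∧ r' ∈ stdGr k (Fin (r + 1)) n}
        from ⟨_, h, hu b0⟩)) hb0
    · exact h.symm
  refine ⟨b0, u b0, hunit, (hπu b0).symm, hdeg, ?_⟩
  intro b
  by_contra hne
  obtain ⟨v, hv⟩ := hunit
  -- the relation `e_b - (u b * v⁻¹) e_b0`
  set w : Fin (F.rk 0) → MvPolynomial (Fin (r + 1)) k :=
    Pi.single b 1 - Pi.single b0 (u b * ((v⁻¹ : (MvPolynomial (Fin (r + 1)) k)ˣ) : _)) with hw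
  have hwker : w ∈ LinearMap.ker F.augLin := by
    rw [LinearMap.mem_ker, hw, map_sub, Fintype.linearCombination_apply_single,
      Fintype.linearCombination_apply_single, one_smul, ← hπu b, ← hπu b0, ← map_smul,
      ← map_sub, smul_eq_mul, ← hv]
    have : u b - u b * ((v⁻¹ : (MvPolynomial (Fin (r + 1)) k)ˣ) : MvPolynomial (Fin (r + 1)) k) * (v : MvPolynomial (Fin (r + 1)) k) = 0 := by
      rw [mul_assoc, Units.inv_mul, mul_one, sub_self]
    rw [this, map_zero]
  rw [F.exact_zero] at hwker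
  obtain ⟨y, hy⟩ := hwker
  have h5 := range_d_le F hF 0 y b
  rw [hy, hw, Pi.sub_apply, Pi.single_eq_same, Pi.single_eq_of_ne hne, sub_zero] at h5
  exact one_notMem_irrel k (Fin (r + 1)) h5

include hker in
theorem I_eq_span (b0 : Fin (F.rk 0)) (u : MvPolynomial (Fin (r + 1)) k) (hu : IsUnit u)
    (haug : F.aug b0 = π u) (hall : ∀ b : Fin (F.rk 0), b = b0) :
    I = Ideal.span (Set.range fun j : Fin (F.rk 1) => F.d 0 b0 j) := by
  classical
  obtain ⟨v, hv⟩ := hu
  have hmem : ∀ f : MvPolynomial (Fin (r + 1)) k, f * u ∈ I ↔ f ∈ I := by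
    intro f
    constructor
    · intro h
      have := I.mul_mem_right ((v⁻¹ : (MvPolynomial (Fin (r + 1)) k)ˣ) : MvPolynomial (Fin (r + 1)) k) h
      rwa [← hv, mul_assoc, Units.mul_inv, mul_one] at this
    · intro h
      exact I.mul_mem_right _ h
  have haugLin : ∀ w : Fin (F.rk 0) → MvPolynomial (Fin (r + 1)) k,
      F.augLin w = π (w b0 * u) := by
    intro w
    rw [Fintype.linearCombination_apply, Fintype.sum_eq_single b0 (fun b hb => absurd (hall b) hb),
      haug, ← map_smul, smul_eq_mul]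
  apply le_antisymm
  · intro f hf
    have hw : (Pi.single b0 f : Fin (F.rk 0) → MvPolynomial (Fin (r + 1)) k) ∈
        LinearMap.ker F.augLin := by
      rw [LinearMap.mem_ker, haugLin, Pi.single_eq_same, ← LinearMap.mem_ker, hker, hmem]
      exact hf
    rw [F.exact_zero] at hw
    obtain ⟨y, hy⟩ := hw
    have := congrFun hy b0
    rw [Pi.single_eq_same, Matrix.mulVecLin_apply] at this
    rw [← this]
    change ∑ j, F.d 0 b0 j * y j ∈ _
    exact Ideal.sum_mem _ fun j _ => Ideal.mul_mem_right _ _ (Ideal.subset_span ⟨j, rfl⟩)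
  · rw [Ideal.span_le]
    rintro _ ⟨j, rfl⟩
    have hr : F.dLin 0 (Pi.single j 1) ∈ LinearMap.ker F.augLin := by
      rw [F.exact_zero]; exact LinearMap.mem_range_self _ _
    rw [LinearMap.mem_ker, haugLin, Matrix.mulVecLin_apply, Matrix.mulVec_single_one,
      ← LinearMap.mem_ker, hker, hmem] at hr
    exact hr

end Gen

end Groth.Agent.Lib.Helper21.PtsRes
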