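import Mathlib
import Groth.Prelude.Def_GrSyz
import Groth.Prelude.Def_GrLC
import Groth.Agent.Lib.Helper21.PtsResC
import Groth.Agent.Lib.Helper21.HBurchMat

set_option autoImplicit false
set_option linter.unusedSectionVars false
universe u

namespace Groth.Agent.Lib.Helper21.PtsRes
open GrSyz MvPolynomial DirectSum Groth.Agent.Lib.Helper21.HBurch Groth.Agent.Lib.Helper21.GrQuot
open Groth.Agent.Lib.Helper24.GrSyzL

section Deg
variable {k : Type u} [Field k] {r : ℕ}

/-- a nonzero form of degree `d` in an ideal generated by forms `g_j` of degrees `a_j` forces some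
`a_j ≤ d` -/
lemma exists_deg_le {n : ℕ} (g : Fin n → MvPolynomial (Fin (r + 1)) k) (a : Fin n → ℤ)
    (hg : ∀ j, g j ∈ stdGr k (Fin (r + 1)) (a j)) {d : ℤ} {f : MvPolynomial (Fin (r + 1)) k}
    (hf : f ∈ stdGr k (Fin (r + 1)) d) (hf0 : f ≠ 0) (hmem : f ∈ Ideal.span (Set.range g)) :
    ∃ j, a j ≤ d := by
  by_contra hcon
  push Not at hcon
  apply hf0
  obtain ⟨c, rfl⟩ := (Ideal.mem_span_range_iff_exists_fun).mp hmem
  have h1 := decompose_of_mem_same (stdGr k (Fin (r + 1))) hf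
  rw [← h1, decompose_sum, DFinsupp.finsetSum_apply, AddSubmonoidClass.coe_finsetSum]
  refine Finset.sum_eq_zero fun j _ => ?_
  have h2 : d = a j + (d - a j) := by ring
  rw [h2, mul_comm, coe_decompose_mul_add_of_left_mem (stdGr k (Fin (r + 1))) (hg j)]
  have h3 : ((decompose (stdGr k (Fin (r + 1))) (c j) (d - a j) : stdGr k (Fin (r + 1)) (d - a j)) :
      MvPolynomial (Fin (r + 1)) k) = 0 :=
    eq_zero_of_mem_stdGr_neg (by have := hcon j; omega) (SetLike.coe_mem _)
  rw [h3, mul_zero]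

lemma mem_stdGr_of_isHomogeneous {d : ℕ} {f : MvPolynomial (Fin (r + 1)) k} (hf : f.IsHomogeneous d) :
    f ∈ stdGr k (Fin (r + 1)) (d : ℤ) := by
  intro m hm
  have := hf hm
  rw [weight_int_eq_cast, this]

end Deg

section Main
variable {k : Type u} [Field k]
  (Z : Finset ((Fin 3) → k)) (hZ : ∀ p ∈ Z, p ≠ 0) (hZne : Z.Nonempty)
  (I : Ideal (MvPolynomial (Fin 3) k))
  (hI : ∀ f : MvPolynomial (Fin 3) k, f ∈ I ↔
      ∀ p ∈ Z, ∀ j : ℕ, MvPolynomial.eval p (MvPolynomial.homogeneousComponent j f) = 0)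
  {M : Type u} [AddCommGroup M] [Module k M] [Module (MvPolynomial (Fin 3) k) M]
  [IsScalarTower k (MvPolynomial (Fin 3) k) M]
  {ℳ : ℤ → Submodule k M} [DirectSum.Decomposition ℳ] [SetLike.GradedSMul (stdGr k (Fin 3)) ℳ]
  (π : MvPolynomial (Fin 3) k →ₗ[MvPolynomial (Fin 3) k] M)
  (hπ : Function.Surjective π) (hπg : GrLC.IsGrHom (stdGr k (Fin 3)) ℳ π)
  (hker : LinearMap.ker π = I)
  (F : FreeRes (stdGr k (Fin 3)) ℳ)
  (hF : F.IsMinimal (irrel (stdGr k (Fin 3))).toIdeal)

include hZ hZne hI hπ hπg hker hF in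
/-- the structure of the minimal resolution of the coordinate ring of points in the plane -/
theorem structure_thm :
    ∃ (t : ℕ) (h1 : F.rk 1 = t + 1) (h2 : F.rk 2 = t) (b0 : Fin (F.rk 0)),
      F.HasLengthLE 2 ∧
      I = Ideal.span (Set.range fun j : Fin (F.rk 1) => F.d 0 b0 j) ∧
      (∀ j : Fin (F.rk 1), F.d 0 b0 j ∈ stdGr k (Fin 3) (F.deg 1 j)) ∧
      (∀ j : Fin (F.rk 1), (t : ℤ) ≤ F.deg 1 j) ∧
      (∀ b : Fin (F.rk 0), b = b0) := by
  classical
  have hlen : F.HasLengthLE 2 := hasLengthLE (r := 2) Z hZ I hI π hπ hker F hF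
  obtain ⟨b0, u, hu, haug, hdeg0, hall⟩ := exists_unit_gen (r := 2) Z hZne I hI π hπ hπg hker F hF
  obtain ⟨hrk, hdeg⟩ := coeffs_of_bounded F hlen Z.card
    (fun d => finrank_piece_le (r := 2) π hπg Z I hI hker hπ d)
  have hrk0 : F.rk 0 = 1 := by
    have : Fintype.card (Fin (F.rk 0)) = 1 := Fintype.card_eq_one_iff.mpr ⟨b0, hall⟩
    simpa using this
  have h1 : F.rk 1 = F.rk 2 + 1 := by
    rw [hrk0] at hrk
    omega
  have hsum0 : ∑ b : Fin (F.rk 0), F.deg 0 b = 0 := by
    rw [Fintype.sum_eq_single b0 (fun b hb => absurd (hall b) hb), hdeg0]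
  rw [hsum0] at hdeg
  refine ⟨F.rk 2, h1, rfl, b0, hlen, I_eq_span (r := 2) I π hker F b0 u hu haug hall, ?_, ?_, hall⟩
  · intro j
    have := F.d_mem 0 b0 j
    rwa [hdeg0, sub_zero] at this
  · -- the numerical argument
    set t := F.rk 2 with ht
    have h2 : F.rk 2 = t := rfl
    have hinj := NN_injective F hlen t h1 h2
    have hz := NN_eq_zero_of_le F hF t h1 h2
    let a : Fin (t + 1) → ℤ := fun p => F.deg 1 (Fin.cast h1.symm p)
    let b : Fin t → ℤ := fun q => F.deg 2 (Fin.cast h2.symm q)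
    let g : Fin (t + 1) → MvPolynomial (Fin 3) k := fun p => F.d 0 b0 (Fin.cast h1.symm p)
    have hg : ∀ p, g p ≠ 0 := by
      intro p
      obtain ⟨a', ha'⟩ := exists_entry_ne_zero F _ hF (one_notMem_irrel k (Fin 3)) 0
        (Fin.cast h1.symm p)
      rwa [hall a'] at ha'
    have hgN : ∀ q, ∑ p, g p * NN F t h1 h2 p q = 0 := by
      intro q
      have hmem : F.dLin 1 (Pi.single (Fin.cast h2.symm q) 1) ∈ LinearMap.ker (F.dLin 0) := by
        rw [F.exact_succ 0]; exact LinearMap.mem_range_self _ _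
      rw [LinearMap.mem_ker] at hmem
      have := congrFun hmem b0
      rw [Matrix.mulVecLin_apply, Matrix.mulVecLin_apply, Matrix.mulVec_single_one,
        Pi.zero_apply] at this
      change ∑ j, F.d 0 b0 j * F.d 1 j (Fin.cast h2.symm q) = 0 at this
      rw [← this]
      exact Fintype.sum_equiv (finCongr h1.symm) _ _ (fun p => rfl)
    have hsum : ∑ p, a p = ∑ q, b q := by
      have e1 : ∑ p, a p = ∑ j, F.deg 1 j :=
        Fintype.sum_equiv (finCongr h1.symm) _ _ (fun p => rfl)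
      have e2 : ∑ q, b q = ∑ j, F.deg 2 j :=
        Fintype.sum_equiv (finCongr h2.symm) _ _ (fun p => rfl)
      rw [e1, e2]
      omega
    intro j
    have := le_of_unsorted (NN F t h1 h2) hinj a b (fun p q h => hz p q h) g hg hgN hsum
      (Fin.cast h1 j)
    simpa [a] using this

end Main

end Groth.Agent.Lib.Helper21.PtsRes
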