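import Groth.Agent.Lib.Helper21.QCohColim
import Groth.Agent.Lib.Helper17.SigmaHH
import Mathlib

/-!
# helper21 — QCohColimH: cohomology of a quasi-coherent module on a qcqs scheme vanishes as soon as the cohomology
of its quasi-coherent submodules of finite type does
-/

set_option backward.isDefEq.respectTransparency.types false
set_option linter.style.haveILetI false
set_option autoImplicit false
universe u
open CategoryTheory CategoryTheory.Limits AlgebraicGeometry Opposite TopologicalSpace

noncomputable section

namespace Groth.Agent.Lib.Helper21.QCohColimH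

open Groth.Agent.Lib.Helper21.QCohColim Groth.Agent.Lib.Helper17.SigmaHH Groth.Agent.Lib.Helper17.HCompare

variable {X : Scheme.{u}} [CompactSpace X] [QuasiSeparatedSpace X]

open scoped Classical in
/-- if `H^i` vanishes on all quasi-coherent modules of finite type then it vanishes on all quasi-coherent
modules -/
theorem subsingleton_HH_of_isCoh (i : ℕ)
    (h : ∀ F : X.Modules, Coh.IsCoh F → Subsingleton (Coh.HH X F i))
    (G : X.Modules) [G.IsQuasicoherent] : Subsingleton (Coh.HH X G i) := by
  haveI : PrespectralSpace X.toTopCat := inferInstanceAs (PrespectralSpace X)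
  have hS : PreservesColimitsOfShape (Finset (Pt G)) (SheafOfModules.toSheaf.{u} X.ringCatSheaf) :=
    Groth.Agent.Lib.Helper1.RestrExact.toSheaf_preservesColimitsOfShape _ _
  have hcpt : IsCompact ((⊤ : X.Opens) : Set X) := isCompact_univ
  have hqs : IsQuasiSeparated ((⊤ : X.Opens) : Set X) := isQuasiSeparated_univ
  haveI : PreservesColimit (D G) (HfM X i ⊤) := by
    haveI := Groth.Agent.Lib.Helper27.ExtFilt.preservesColimit_of_isQuasiSeparated
      (X := X.toTopCat) (⊤ : X.Opens) hcpt hqs i
      (D G ⋙ SheafOfModules.toSheaf.{u} X.ringCatSheaf)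
    haveI h2 : PreservesColimit (D G) (SheafOfModules.toSheaf.{u} X.ringCatSheaf) :=
      hS.preservesColimit
    exact Limits.comp_preservesColimit _ _
  have hc : IsColimit ((HfM X i ⊤).mapCocone (cocone G)) :=
    isColimitOfPreserves (HfM X i ⊤) (QCohColim.isColimit G)
  have key : ∀ x : (HfM X i ⊤).obj G, x = 0 := by
    intro x
    obtain ⟨σ, y, hy⟩ := Concrete.isColimit_exists_rep (D G ⋙ HfM X i ⊤) hc x
    haveI : Subsingleton (Coh.HH X ((D G).obj σ) i) := h _ (isCoh_D G σ)
    have hy0 : y = 0 := by
      apply (topHEquiv (Coh.toAb ((D G).obj σ)) i).symm.injective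
      exact Subsingleton.elim _ _
    rw [← hy, hy0]
    exact map_zero _
  refine ⟨fun a b => ?_⟩
  apply (topHEquiv (Coh.toAb G) i).injective
  rw [key (topHEquiv (Coh.toAb G) i a), key (topHEquiv (Coh.toAb G) i b)]

end Groth.Agent.Lib.Helper21.QCohColimH
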