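import Groth.Agent.Lib.Helper21.FPQuot8
import Groth.Agent.Lib.Helper29.FilColimSecAff
import Groth.Prelude.Def_QCohCat
import Mathlib

/-!
# helper21 — QCohCompact1: colimits of quasi-coherent modules, and morphisms from a module of finite type into a
filtered colimit

* `isQuasicoherent_of_isColimit`: a small colimit (in `X.Modules`) of quasi-coherent modules is quasi-coherent;
* `isClosedUnderColimitsOfShape_isQCoh`: the corresponding closure property of `QCohCat.isQCoh X`;
* `exists_gen_points`: finitely many local sections over affine opens generating a quasi-coherent module of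
  finite type on a quasi-compact scheme;
* `exists_lift_finset`, `exists_kill_finset`: finitely many local sections of a filtered colimit over affine
  opens come from / die at a common stage;
* `exists_comp_map_eq_zero`: a morphism from a quasi-coherent module of finite type into a stage of a filtered
  system which dies in the colimit dies at a later stage.
-/

set_option backward.isDefEq.respectTransparency.types false
set_option linter.style.haveILetI false
set_option autoImplicit false
universe u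
open CategoryTheory CategoryTheory.Limits AlgebraicGeometry Opposite TopologicalSpace

namespace Groth.Agent.Lib.Helper21.QCohCompact

open Groth.Agent.Lib.Helper21.QCohColim Groth.Agent.Lib.Helper17.CohKer
open Groth.Agent.Lib.Helper21.FPQuot
open Groth.Agent.Lib.Helper29.FPDict Groth.Agent.Lib.Helper7.FPKer
open Groth.Agent.Lib.Helper28.QCohLoc Groth.Agent.Lib.Helper29.FilColimSec

variable {X : Scheme.{u}}

/-- a coequalizer of morphisms of quasi-coherent modules is quasi-coherent -/
theorem isQuasicoherent_coequalizer {A B : X.Modules} (hA : A.IsQuasicoherent) (hB : B.IsQuasicoherent)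
    (s t : A ⟶ B) : (coequalizer s t).IsQuasicoherent := by
  haveI := hA
  haveI := hB
  haveI := isQuasicoherent_cokernel (s - t)
  let e : coequalizer s t ≅ cokernel (s - t) :=
    (colimit.isColimit _).coconePointUniqueUpToIso
      (Preadditive.isColimitCoforkOfCokernelCofork (cokernelIsCokernel (s - t)))
  exact (SheafOfModules.isQuasicoherent.{u} X.ringCatSheaf).prop_of_iso e.symm inferInstance

/-- a small colimit of quasi-coherent modules is quasi-coherent -/
theorem isQuasicoherent_of_isColimit {J : Type u} [SmallCategory J] {D : J ⥤ X.Modules}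
    {c : Cocone D} (hc : IsColimit c) (h : ∀ j, (D.obj j).IsQuasicoherent) :
    c.pt.IsQuasicoherent := by
  haveI := h
  have h2 : (∐ fun j => D.obj j).IsQuasicoherent :=
    Groth.Agent.Lib.Helper16.QCohSigma.isQuasicoherent_sigma _
  have h1 : (∐ fun f : Σ p : J × J, p.1 ⟶ p.2 => D.obj f.1.1).IsQuasicoherent :=
    Groth.Agent.Lib.Helper16.QCohSigma.isQuasicoherent_sigma _
  let cc := colimitCoconeOfCoequalizerAndCoproduct D
  have hq : cc.cocone.pt.IsQuasicoherent := isQuasicoherent_coequalizer h1 h2 _ _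
  exact (SheafOfModules.isQuasicoherent.{u} X.ringCatSheaf).prop_of_iso
    (cc.isColimit.coconePointUniqueUpToIso hc) hq

instance isClosedUnderColimitsOfShape_isQCoh (J : Type u) [SmallCategory J] :
    (QCohCat.isQCoh X).IsClosedUnderColimitsOfShape J := by
  haveI : (QCohCat.isQCoh X).IsClosedUnderIsomorphisms :=
    inferInstanceAs (SheafOfModules.isQuasicoherent.{u} X.ringCatSheaf).IsClosedUnderIsomorphisms
  refine ObjectProperty.IsClosedUnderColimitsOfShape.mk' ?_
  rintro _ ⟨D, hD⟩
  exact isQuasicoherent_of_isColimit (colimit.isColimit D) hD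

section Gen

variable [CompactSpace X]

/-- finitely many local sections over affine opens generating a quasi-coherent module of finite type -/
theorem exists_gen_points (K : X.Modules) [K.IsQuasicoherent]
    [SheafOfModules.IsFiniteType.{u} (R := X.ringCatSheaf) K] :
    ∃ T : Finset (Pt K),
      (∀ (N : X.Modules) (h : K ⟶ N), (∀ p ∈ T, h.app p.1.1 p.2 = 0) → h = 0) ∧
      (∀ (Q : X.Modules) (q : Q ⟶ K), (∀ p ∈ T, ∃ y : Γ(Q, p.1.1), q.app p.1.1 y = p.2) → Epi q) := by
  classical
  obtain ⟨𝒰, h𝒰fin, h𝒰⟩ := isCompact_iff_finite_and_eq_biUnion_affineOpens.mp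
    (show IsCompact (X := X) ((⊤ : X.Opens) : Set X) from isCompact_univ)
  have hfin : ∀ W : X.affineOpens, Module.Finite Γ(X, W.1) Γ(K, W.1) := fun W =>
    Groth.Agent.Lib.Helper28.FinType.finite_of_isAffineOpen K W.2
  choose gens hgens using fun W : X.affineOpens => (hfin W).fg_top
  let T : Finset (Pt K) := h𝒰fin.toFinset.biUnion fun W =>
    (gens W).image fun m => (⟨W, m⟩ : Pt K)
  have hT : ∀ (W : 𝒰) (m : Γ(K, W.1.1)), m ∈ gens W.1 → (⟨W.1, m⟩ : Pt K) ∈ T := by
    intro W m hm
    refine Finset.mem_biUnion.mpr ⟨W.1, h𝒰fin.mem_toFinset.mpr W.2, ?_⟩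
    exact Finset.mem_image.mpr ⟨m, hm, rfl⟩
  have hcov : ∀ x : X, ∃ W : 𝒰, x ∈ W.1.1 := by
    intro x
    have hx : x ∈ ⨆ i ∈ 𝒰, (i : X.Opens) := by rw [← h𝒰]; trivial
    obtain ⟨W₀, hxW₀⟩ := Opens.mem_iSup.mp hx
    obtain ⟨hW₀, hxW₀⟩ := Opens.mem_iSup.mp hxW₀
    exact ⟨⟨W₀, hW₀⟩, hxW₀⟩
  refine ⟨T, fun N h hh => ?_, fun Q q hq => ?_⟩
  · refine eq_zero_of_affine_cover h (fun W : 𝒰 => W.1.1) (fun W => W.1.2) hcov ?_
    intro W y
    have hmem : ∀ m ∈ (gens W.1 : Set Γ(K, W.1.1)), m ∈ LinearMap.ker (appLinear h W.1.1) :=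
      fun m hm => hh ⟨W.1, m⟩ (hT W m hm)
    have hy : y ∈ Submodule.span Γ(X, W.1.1) (gens W.1 : Set Γ(K, W.1.1)) := by
      rw [hgens W.1]; trivial
    exact (Submodule.span_le.mpr hmem) hy
  · refine epi_of_affine_cover q (fun W : 𝒰 => W.1.1) (fun W => W.1.2) hcov
      (fun W => isLocOn_of_isQuasicoherent K W.1.2) ?_
    intro W y
    have hmem : ∀ m ∈ (gens W.1 : Set Γ(K, W.1.1)), m ∈ LinearMap.range (appLinear q W.1.1) :=
      fun m hm => hq ⟨W.1, m⟩ (hT W m hm)
    have hy : y ∈ Submodule.span Γ(X, W.1.1) (gens W.1 : Set Γ(K, W.1.1)) := by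
      rw [hgens W.1]; trivial
    exact (Submodule.span_le.mpr hmem) hy

end Gen

section Filtered

variable {J : Type u} [SmallCategory J] [IsFiltered J] {D : J ⥤ X.Modules} {c : Cocone D}
  (hc : IsColimit c)

include hc

/-- finitely many local sections (over affine opens) of a filtered colimit come from a common stage -/
theorem exists_lift_finset (T : Finset (Pt c.pt)) :
    ∃ j : J, ∀ p ∈ T, ∃ y : Γ(D.obj j, p.1.1), (c.ι.app j).app p.1.1 y = p.2 := by
  classical
  induction T using Finset.induction_on with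
  | empty => exact ⟨IsFiltered.nonempty.some, by simp⟩
  | insert p T hp ih =>
    obtain ⟨j₁, h₁⟩ := ih
    obtain ⟨j₂, y₂, h₂⟩ := sec_surj_affine hc p.1.2 p.2
    refine ⟨IsFiltered.max j₁ j₂, fun q hq => ?_⟩
    rcases Finset.mem_insert.mp hq with rfl | hq
    · refine ⟨(D.map (IsFiltered.rightToMax j₁ j₂)).app _ y₂, ?_⟩
      have hw : D.map (IsFiltered.rightToMax j₁ j₂) ≫ c.ι.app _ = c.ι.app j₂ := c.w _
      have := congrArg (fun ψ => (Scheme.Modules.Hom.app ψ q.1.1) y₂) hw
      exact this.trans h₂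
    · obtain ⟨y, hy⟩ := h₁ q hq
      refine ⟨(D.map (IsFiltered.leftToMax j₁ j₂)).app _ y, ?_⟩
      have hw : D.map (IsFiltered.leftToMax j₁ j₂) ≫ c.ι.app _ = c.ι.app j₁ := c.w _
      have := congrArg (fun ψ => (Scheme.Modules.Hom.app ψ q.1.1) y) hw
      exact this.trans hy

/-- finitely many local sections (over affine opens) of a stage dying in the filtered colimit die at a
common later stage -/
theorem exists_kill_finset (j : J) (T : Finset (Pt (D.obj j)))
    (hT : ∀ p ∈ T, (c.ι.app j).app p.1.1 p.2 = 0) :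
    ∃ (k : J) (u : j ⟶ k), ∀ p ∈ T, (D.map u).app p.1.1 p.2 = 0 := by
  classical
  induction T using Finset.induction_on with
  | empty => exact ⟨j, 𝟙 j, by simp⟩
  | insert p T hp ih =>
    obtain ⟨k₁, u₁, h₁⟩ := ih (fun q hq => hT q (Finset.mem_insert_of_mem hq))
    obtain ⟨k₂, u₂, h₂⟩ := sec_inj hc p.1.1 p.1.2.isCompact j p.2
      (hT p (Finset.mem_insert_self _ _))
    obtain ⟨k, v₁, v₂, hv⟩ := IsFiltered.span u₁ u₂
    refine ⟨k, u₁ ≫ v₁, fun q hq => ?_⟩
    rcases Finset.mem_insert.mp hq with rfl | hq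
    · rw [hv, D.map_comp]
      change (D.map v₂).app _ ((D.map u₂).app _ q.2) = 0
      rw [h₂, map_zero]
    · rw [D.map_comp]
      change (D.map v₁).app _ ((D.map u₁).app _ q.2) = 0
      rw [h₁ q hq, map_zero]

/-- a morphism from a quasi-coherent module of finite type into a stage of a filtered system which dies in the
colimit already dies at a later stage -/
theorem exists_comp_map_eq_zero [CompactSpace X] (K : X.Modules) [K.IsQuasicoherent]
    [SheafOfModules.IsFiniteType.{u} (R := X.ringCatSheaf) K] (j : J) (g : K ⟶ D.obj j)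
    (hg : g ≫ c.ι.app j = 0) : ∃ (k : J) (u : j ⟶ k), g ≫ D.map u = 0 := by
  classical
  obtain ⟨T, hT0, -⟩ := exists_gen_points K
  let T' : Finset (Pt (D.obj j)) := T.image fun p => (⟨p.1, g.app p.1.1 p.2⟩ : Pt (D.obj j))
  have hT' : ∀ p ∈ T', (c.ι.app j).app p.1.1 p.2 = 0 := by
    intro p hp
    obtain ⟨p₀, -, rfl⟩ := Finset.mem_image.mp hp
    exact congrArg (fun ψ => (Scheme.Modules.Hom.app ψ p₀.1.1) p₀.2) hg
  obtain ⟨k, u, hku⟩ := exists_kill_finset hc j T' hT'
  refine ⟨k, u, hT0 _ _ fun p hp => ?_⟩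
  exact hku ⟨p.1, g.app p.1.1 p.2⟩ (Finset.mem_image.mpr ⟨p, hp, rfl⟩)

end Filtered

end Groth.Agent.Lib.Helper21.QCohCompact
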