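import Groth.Agent.Lib.Helper21.QCohCompact2
import Mathlib

/-!
# helper21 — QCohGen1: a small separating family of quasi-coherent modules on a qcqs scheme

* `GSg`, `gSg`: finite sub-coproducts of a family of maps `g i : G i ⟶ F` (general index type);
* `exists_finset_epi`: if the `g i` are jointly epimorphic and `F` is quasi-coherent of finite type on a
  quasi-compact scheme, finitely many of them are jointly epimorphic;
* `exists_epi_of_isFiniteType`: every quasi-coherent module of finite type is a quotient of the countable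
  coproduct `M₁` of copies of a separator of `X.Modules`;
* `gen`, `isSeparating_gen`: the small family of quasi-coherent quotients of `M₁` is separating in `QCoh X`.
-/

set_option backward.isDefEq.respectTransparency.types false
set_option linter.style.haveILetI false
set_option autoImplicit false
universe u
open CategoryTheory CategoryTheory.Limits AlgebraicGeometry Opposite TopologicalSpace

noncomputable section

namespace Groth.Agent.Lib.Helper21.QCohGen

open Groth.Agent.Lib.Helper21.QCohColim Groth.Agent.Lib.Helper17.CohKer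
open Groth.Agent.Lib.Helper21.FPQuot Groth.Agent.Lib.Helper21.QCohCompact
open Groth.Agent.Lib.Helper28.QCohLoc CoproductsFromFiniteFiltered

variable {X : Scheme.{u}}

section Fam

variable {ι : Type u} {F : X.Modules} (G : ι → X.Modules) (g : ∀ i, G i ⟶ F)

/-- finite coproducts of the `G i` -/
def GSg : Finset (Discrete ι) ⥤ X.Modules := liftToFinsetObj (Discrete.functor G)

/-- the inclusion of a summand -/
def inSg (s : Finset (Discrete ι)) (x : s) : G x.1.as ⟶ (GSg G).obj s :=
  Sigma.ι (fun y : s => (Discrete.functor G).obj y) x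

theorem inSg_map {s s' : Finset (Discrete ι)} (h : s ⟶ s') (x : s) :
    inSg G s x ≫ (GSg G).map h = inSg G s' ⟨x.1, (leOfHom h) x.2⟩ :=
  Sigma.ι_desc _ _

theorem GSg_hom_ext {s : Finset (Discrete ι)} {T : X.Modules} (a b : (GSg G).obj s ⟶ T)
    (h : ∀ x : s, inSg G s x ≫ a = inSg G s x ≫ b) : a = b :=
  Sigma.hom_ext _ _ h

/-- the induced map to `F` -/
def gSg (s : Finset (Discrete ι)) : (GSg G).obj s ⟶ F :=
  Sigma.desc fun x : s => g x.1.as

theorem inSg_gSg (s : Finset (Discrete ι)) (x : s) : inSg G s x ≫ gSg G g s = g x.1.as :=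
  Sigma.ι_desc _ _

theorem GSg_map_gSg {s s' : Finset (Discrete ι)} (h : s ⟶ s') :
    (GSg G).map h ≫ gSg G g s' = gSg G g s := by
  apply GSg_hom_ext
  intro x
  rw [← Category.assoc, inSg_map, inSg_gSg, inSg_gSg]

variable (hjoint : ∀ {T : X.Modules} (t : F ⟶ T), (∀ i, g i ≫ t = 0) → t = 0)

include hjoint in
open scoped Classical in
theorem epi_coimDesc_GSg :
    haveI : IsGrothendieckAbelian.{u} X.Modules :=
      Groth.Agent.Lib.Helper8.SheafModGroth.main (Opens.grothendieckTopology X) X.ringCatSheaf
    Epi (coimDesc (GSg G) (gSg G g) (GSg_map_gSg G g)) := by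
  haveI : IsGrothendieckAbelian.{u} X.Modules :=
    Groth.Agent.Lib.Helper8.SheafModGroth.main (Opens.grothendieckTopology X) X.ringCatSheaf
  refine Preadditive.epi_of_cancel_zero _ (fun {T} t ht => hjoint t fun i => ?_)
  let s : Finset (Discrete ι) := {⟨i⟩}
  let xs : s := ⟨⟨i⟩, Finset.mem_singleton_self _⟩
  have h1 : inSg G s xs ≫ pc (GSg G) (gSg G g) (GSg_map_gSg G g) s ≫
      colimit.ι (coimF (GSg G) (gSg G g) (GSg_map_gSg G g)) s ≫
      coimDesc (GSg G) (gSg G g) (GSg_map_gSg G g) = g i := by
    rw [ι_coimDesc, pc_mc]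
    exact inSg_gSg G g s xs
  rw [← h1]
  simp only [Category.assoc]
  rw [ht, comp_zero, comp_zero, comp_zero]

include hjoint in
open scoped Classical in
/-- finitely many of a jointly epimorphic family of maps into a quasi-coherent module of finite type on a
quasi-compact scheme are jointly epimorphic -/
theorem exists_finset_epi [CompactSpace X] [F.IsQuasicoherent]
    [SheafOfModules.IsFiniteType.{u} (R := X.ringCatSheaf) F] :
    ∃ s : Finset (Discrete ι), Epi (gSg G g s) := by
  haveI : IsGrothendieckAbelian.{u} X.Modules :=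
    Groth.Agent.Lib.Helper8.SheafModGroth.main (Opens.grothendieckTopology X) X.ringCatSheaf
  haveI := epi_coimDesc_GSg G g hjoint
  have hc := isColimitCoimCocone (GSg G) (gSg G g) (GSg_map_gSg G g)
  obtain ⟨T, -, hTepi⟩ := exists_gen_points F
  obtain ⟨s, hs⟩ := exists_lift_finset hc T
  refine ⟨s, ?_⟩
  haveI : Epi (mc (GSg G) (gSg G g) (GSg_map_gSg G g) s) := hTepi _ _ fun p hp => hs p hp
  rw [← pc_mc (GSg G) (gSg G g) (GSg_map_gSg G g) s]
  exact epi_comp _ _

end Fam

section Sep

variable (X)

/-- a separator of `X.Modules` -/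
def S₀ : X.Modules :=
  haveI : IsGrothendieckAbelian.{u} X.Modules :=
    Groth.Agent.Lib.Helper8.SheafModGroth.main (Opens.grothendieckTopology X) X.ringCatSheaf
  separator X.Modules

theorem isSeparator_S₀ : IsSeparator (S₀ X) :=
  haveI : IsGrothendieckAbelian.{u} X.Modules :=
    Groth.Agent.Lib.Helper8.SheafModGroth.main (Opens.grothendieckTopology X) X.ringCatSheaf
  isSeparator_separator X.Modules

/-- the countable coproduct of copies of the separator -/
abbrev M₁ : X.Modules := ∐ fun _ : ULift.{u} ℕ => S₀ X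

variable {X}

open scoped Classical in
/-- every quasi-coherent module of finite type on a quasi-compact scheme is a quotient of `M₁` -/
theorem exists_epi_of_isFiniteType [CompactSpace X] (F : X.Modules) [F.IsQuasicoherent]
    [SheafOfModules.IsFiniteType.{u} (R := X.ringCatSheaf) F] :
    ∃ d : M₁ X ⟶ F, Epi d := by
  have hjoint : ∀ {T : X.Modules} (t : F ⟶ T), (∀ h : S₀ X ⟶ F, h ≫ t = 0) → t = 0 := by
    intro T t ht
    exact (isSeparator_def (S₀ X)).1 (isSeparator_S₀ X) t 0 fun h => by rw [ht h, comp_zero]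
  obtain ⟨s, hs⟩ := exists_finset_epi (fun _ : (S₀ X ⟶ F) => S₀ X) (fun h => h) hjoint
  let hh : ULift.{u} ℕ → (S₀ X ⟶ F) := fun k =>
    if hk : k.down < s.card then (s.equivFin.symm ⟨k.down, hk⟩).1.as else 0
  let d : M₁ X ⟶ F := Sigma.desc hh
  refine ⟨d, Preadditive.epi_of_cancel_zero _ (fun {T} t ht => ?_)⟩
  have h1 : ∀ k, hh k ≫ t = 0 := by
    intro k
    have : Sigma.ι (fun _ : ULift.{u} ℕ => S₀ X) k ≫ d = hh k := Sigma.ι_desc _ _
    rw [← this, Category.assoc, ht, comp_zero]
  have h2 : gSg (fun _ : (S₀ X ⟶ F) => S₀ X) (fun h => h) s ≫ t = 0 := by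
    apply GSg_hom_ext
    intro x
    rw [← Category.assoc, inSg_gSg, comp_zero]
    have hx := h1 ⟨(s.equivFin x).1⟩
    have hlt : (s.equivFin x).1 < s.card := (s.equivFin x).2
    have : hh ⟨(s.equivFin x).1⟩ = x.1.as := by
      simp only [hh, dif_pos hlt]
      have : (⟨(s.equivFin x).1, hlt⟩ : Fin s.card) = s.equivFin x := rfl
      rw [this, Equiv.symm_apply_apply]
    rw [this] at hx
    exact hx
  exact (cancel_epi _).1 (h2.trans comp_zero.symm)

end Sep

end Groth.Agent.Lib.Helper21.QCohGen
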