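import Groth.Agent.Lib.Helper21.QCohGen1
import Mathlib

/-!
# helper21 — QCohGen2: the special adjoint functor theorem for `QCoh X` on a qcqs scheme

* closure instances of `QCohCat.isQCoh X` (zero, kernels, cokernels) ⇒ `ι` preserves epimorphisms;
* `gen`, `isSeparating_gen`: a small separating family of quasi-coherent modules;
* `wellPowered_op`: `QCoh X` is co-well-powered;
* `isLeftAdjoint_of_preservesColimits`: colimit-preserving functors out of `QCoh X` are left adjoints.
-/

set_option backward.isDefEq.respectTransparency.types false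
set_option linter.style.haveILetI false
set_option autoImplicit false
universe w v₁ v₂ u₁ u₂ u u'
open CategoryTheory CategoryTheory.Limits AlgebraicGeometry Opposite TopologicalSpace

noncomputable section

namespace Groth.Agent.Lib.Helper21.QCohGen

open Groth.Agent.Lib.Helper21.QCohColim Groth.Agent.Lib.Helper17.CohKer
open Groth.Agent.Lib.Helper21.FPQuot Groth.Agent.Lib.Helper21.QCohCompact
open Groth.Agent.Lib.Helper28.QCohLoc

section General

/-- a fully faithful functor preserving monomorphisms into a well-powered category has a well-powered source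
(copied from Helper14.AdeqAdj) -/
theorem wellPowered_of_fullyFaithful {C : Type u₁} [Category.{v₁} C] {D : Type u₂} [Category.{v₂} D]
    (G : C ⥤ D) [G.Full] [G.Faithful] [G.PreservesMonomorphisms]
    [LocallySmall.{w} C] [LocallySmall.{w} D] [WellPowered.{w} D] : WellPowered.{w} C := by
  apply wellPowered_of_essentiallySmall_monoOver
  intro X
  have hh : ∀ f : MonoOver X,
      Mono ((Over.post G).obj ((MonoOver.forget X).obj f)).hom := fun f => by
    have : Mono f.obj.hom := f.property
    exact (inferInstance : Mono (G.map f.obj.hom))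
  have h1 : ((Over.isMono (G.obj X)).lift (MonoOver.forget X ⋙ Over.post G) hh).Full :=
    inferInstance
  have h2 : ((Over.isMono (G.obj X)).lift (MonoOver.forget X ⋙ Over.post G) hh).Faithful :=
    inferInstance
  exact essentiallySmall_of_fully_faithful
    ((Over.isMono (G.obj X)).lift (MonoOver.forget X ⋙ Over.post G) hh)

lemma preservesMonomorphisms_op {C : Type u₁} [Category.{v₁} C] {D : Type u₂} [Category.{v₂} D]
    (F : C ⥤ D) [F.PreservesEpimorphisms] : F.op.PreservesMonomorphisms where
  preserves {X Y} f hf := by
    have h1 : Epi f.unop := inferInstance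
    have h2 : Epi (F.map f.unop) := inferInstance
    exact (inferInstance : Mono (F.map f.unop).op)

end General

variable {X : Scheme.{u}}

instance : (QCohCat.isQCoh X).IsClosedUnderIsomorphisms :=
  inferInstanceAs (SheafOfModules.isQuasicoherent.{u} X.ringCatSheaf).IsClosedUnderIsomorphisms

instance : (QCohCat.isQCoh X).ContainsZero where
  exists_zero := by
    refine ⟨kernel (𝟙 (SheafOfModules.unit X.ringCatSheaf : X.Modules)), isZero_kernel_of_mono _, ?_⟩
    haveI : (SheafOfModules.unit X.ringCatSheaf : X.Modules).IsQuasicoherent := inferInstance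
    exact isQuasicoherent_kernel _

instance : (QCohCat.isQCoh X).IsClosedUnderKernels where
  kernels_le := by
    rintro _ ⟨f, k, hk, ⟨hX, hY⟩⟩
    exact (QCohCat.isQCoh X).prop_of_iso (IsLimit.conePointUniqueUpToIso (kernelIsKernel f) hk)
      (@isQuasicoherent_kernel X _ _ hX hY f)

instance : (QCohCat.isQCoh X).IsClosedUnderCokernels where
  cokernels_le := by
    rintro _ ⟨f, k, hk, ⟨hX, hY⟩⟩
    exact (QCohCat.isQCoh X).prop_of_iso
      (IsColimit.coconePointUniqueUpToIso (cokernelIsCokernel f) hk)
      (@isQuasicoherent_cokernel X _ _ hX hY f)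

instance : HasColimitsOfSize.{u, u} (QCohCat.QCoh X) where
  has_colimits_of_shape _ _ := inferInstance

instance : PreservesColimitsOfSize.{u, u} (QCohCat.isQCoh X).ι where
  preservesColimitsOfShape {_} _ := inferInstance

theorem wellPowered_op : WellPowered.{u} (QCohCat.QCoh X)ᵒᵖ := by
  haveI : IsGrothendieckAbelian.{u} X.Modules :=
    Groth.Agent.Lib.Helper8.SheafModGroth.main (Opens.grothendieckTopology X) X.ringCatSheaf
  have h1 : (QCohCat.isQCoh X).ι.PreservesEpimorphisms :=
    (QCohCat.isQCoh X).preservesEpimorphisms_ι_of_isNormalMonoCategory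
  have h2 : WellPowered.{u} (X.Modules)ᵒᵖ := inferInstance
  have h3 : (QCohCat.isQCoh X).ι.op.PreservesMonomorphisms := preservesMonomorphisms_op _
  exact wellPowered_of_fullyFaithful.{u} (QCohCat.isQCoh X).ι.op

variable (X) in
/-- the index type of the separating family: subobjects of `M₁` with quasi-coherent cokernel -/
abbrev Kap : Type (u + 1) :=
  {S : Subobject (M₁ X) // (cokernel S.arrow : X.Modules).IsQuasicoherent}

instance : Small.{u} (Kap X) := by
  haveI : IsGrothendieckAbelian.{u} X.Modules :=
    Groth.Agent.Lib.Helper8.SheafModGroth.main (Opens.grothendieckTopology X) X.ringCatSheaf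
  haveI : Small.{u} (Subobject (M₁ X)) := inferInstance
  infer_instance

/-- the separating family -/
def gen (S : Kap X) : QCohCat.QCoh X := ⟨cokernel S.1.arrow, S.2⟩

open scoped Classical in
theorem isSeparating_gen [CompactSpace X] [QuasiSeparatedSpace X] :
    (ObjectProperty.ofObj (gen (X := X))).IsSeparating := by
  intro M N f g h
  apply ObjectProperty.hom_ext
  haveI : M.obj.IsQuasicoherent := M.property
  have h0 : f.hom - g.hom = 0 := by
    refine eq_zero_of_affine_cover (f.hom - g.hom) (fun W : X.affineOpens => W.1) (fun W => W.2) ?_ ?_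
    · intro x
      obtain ⟨V, hV, hxV, -⟩ := (TopologicalSpace.Opens.isBasis_iff_nbhd.1 X.isBasis_affineOpens)
        (TopologicalSpace.Opens.mem_top x)
      exact ⟨⟨V, hV⟩, hxV⟩
    · intro W y
      -- a submodule of finite type through `y`
      let p : Pt M.obj := ⟨W, y⟩
      have hcoh := isCoh_subG M.obj p
      haveI := hcoh.1
      haveI := hcoh.2
      obtain ⟨y₀, hy₀⟩ := exists_subι_eq M.obj p
      obtain ⟨d, hd⟩ := exists_epi_of_isFiniteType (subG M.obj p)
      -- the corresponding member of the family
      let S : Subobject (M₁ X) := Subobject.mk (kernel.ι d)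
      have hSarrow : S.arrow = (Subobject.underlyingIso (kernel.ι d)).hom ≫ kernel.ι d :=
        (Subobject.underlyingIso_hom_comp_eq_mk _).symm
      have hkι : kernel.ι d = (Subobject.underlyingIso (kernel.ι d)).inv ≫ S.arrow :=
        (Subobject.underlyingIso_arrow _).symm
      have hcol : IsColimit (CokernelCofork.ofπ d (show S.arrow ≫ d = 0 by
          rw [hSarrow, Category.assoc, kernel.condition, comp_zero])) := by
        have hc0 := Abelian.epiIsCokernelOfKernel (KernelFork.ofι (kernel.ι d) (kernel.condition d))
          (kernelIsKernel d)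
        refine CokernelCofork.IsColimit.ofπ _ _ (fun {T} s hs => hc0.desc (CokernelCofork.ofπ s (by
            change kernel.ι d ≫ s = 0
            rw [hkι, Category.assoc, hs, comp_zero])))
          (fun {T} s hs => hc0.fac _ WalkingParallelPair.one)
          (fun {T} s hs m hm => by
            apply (cancel_epi d).1
            rw [hm]
            exact (hc0.fac (CokernelCofork.ofπ s _) WalkingParallelPair.one).symm)
      let e : (cokernel S.arrow : X.Modules) ≅ subG M.obj p :=
        (cokernelIsCokernel S.arrow).coconePointUniqueUpToIso hcol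
      have hS : (cokernel S.arrow : X.Modules).IsQuasicoherent :=
        (QCohCat.isQCoh X).prop_of_iso e.symm hcoh.1
      let κ : Kap X := ⟨S, hS⟩
      let t : gen κ ⟶ M := ObjectProperty.homMk (e.hom ≫ subι M.obj p)
      have h1 := h (gen κ) ⟨κ⟩ t
      have h2 : (e.hom ≫ subι M.obj p) ≫ f.hom = (e.hom ≫ subι M.obj p) ≫ g.hom :=
        congrArg (fun φ => φ.hom) h1
      rw [Category.assoc, Category.assoc, cancel_epi] at h2
      have h3 := congrArg (fun ψ => (Scheme.Modules.Hom.app ψ W.1) y₀) h2
      have h4 : f.hom.app W.1 ((subι M.obj p).app W.1 y₀) = g.hom.app W.1 ((subι M.obj p).app W.1 y₀) := h3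
      rw [hy₀] at h4
      change f.hom.app W.1 y - g.hom.app W.1 y = 0
      exact sub_eq_zero.mpr h4
  exact sub_eq_zero.mp h0

/-- **Special adjoint functor theorem for `QCoh X`** (qcqs `X`): a functor out of `QCoh X` preserving small
colimits is a left adjoint. -/
theorem isLeftAdjoint_of_preservesColimits [CompactSpace X] [QuasiSeparatedSpace X]
    {A : Type u'} [Category.{u} A] (F : QCohCat.QCoh X ⥤ A)
    [PreservesColimitsOfSize.{u, u} F] : F.IsLeftAdjoint := by
  haveI := wellPowered_op (X := X)
  exact isLeftAdjoint_of_preservesColimits_of_isSeparating isSeparating_gen F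

end Groth.Agent.Lib.Helper21.QCohGen
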