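import Groth.Agent.Lib.Helper21.QCohGen2
import Groth.Agent.Lib.Helper16.QCohSigma
import Groth.Agent.Lib.Helper17.CohKer

/-!
# Helper21 — QCohLargest: the largest quasi-coherent submodule of a submodule of a quasi-coherent module
-/

set_option backward.isDefEq.respectTransparency.types false
set_option autoImplicit false
set_option linter.style.haveILetI false
set_option linter.unusedVariables false
universe u
open AlgebraicGeometry CategoryTheory CategoryTheory.Limits TopologicalSpace Opposite

namespace Groth.Agent.Lib.Helper21.QCohLargest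

open Groth.Agent.Lib.Helper17.CohKer Groth.Agent.Lib.Helper16

variable {X : Scheme.{u}}

/-- the image of a morphism from a quasi-coherent module into a submodule of a quasi-coherent module is
quasi-coherent. -/
theorem isQuasicoherent_image {P G F : X.Modules} [P.IsQuasicoherent] [F.IsQuasicoherent]
    (α : P ⟶ G) (j : G ⟶ F) [Mono j] : (image α : X.Modules).IsQuasicoherent := by
  haveI : (cokernel (α ≫ j) : X.Modules).IsQuasicoherent := isQuasicoherent_cokernel _
  have h1 : (Abelian.image (α ≫ j) : X.Modules).IsQuasicoherent := isQuasicoherent_kernel _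
  have e1 : Abelian.image (α ≫ j) ≅ image (α ≫ j) := Abelian.imageIsoImage _
  have e2 : image α ≅ image (α ≫ j) :=
    image.isoStrongEpiMono (factorThruImage α) (image.ι α ≫ j) (by rw [← Category.assoc, image.fac])
  exact (SheafOfModules.isQuasicoherent.{u} X.ringCatSheaf).prop_of_iso (e1 ≪≫ e2.symm) h1

theorem main (F G : X.Modules) [F.IsQuasicoherent] (j : G ⟶ F) [Mono j] :
    ∃ (G' : X.Modules) (k : G' ⟶ G), G'.IsQuasicoherent ∧ Mono k ∧
      ∀ H : X.Modules, H.IsQuasicoherent → Function.Bijective (fun φ : H ⟶ G' => φ ≫ k) := by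
  haveI : IsGrothendieckAbelian.{u} X.Modules :=
    Groth.Agent.Lib.Helper8.SheafModGroth.main (Opens.grothendieckTopology X) X.ringCatSheaf
  let T : Type (u + 1) := {Q : Subobject G // ((Q : X.Modules)).IsQuasicoherent}
  haveI : Small.{u} (Subobject G) := inferInstance
  haveI : Small.{u} T := inferInstance
  let Qf : Shrink.{u} T → X.Modules := fun t => (((equivShrink T).symm t).1 : X.Modules)
  haveI : ∀ t, (Qf t).IsQuasicoherent := fun t => ((equivShrink T).symm t).2
  haveI : (∐ Qf : X.Modules).IsQuasicoherent := QCohSigma.isQuasicoherent_sigma Qf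
  let ψ : ∐ Qf ⟶ G := Sigma.desc (fun t => ((equivShrink T).symm t).1.arrow)
  have hfac : ∀ s : T, ∃ β : (s.1 : X.Modules) ⟶ image ψ, β ≫ image.ι ψ = s.1.arrow := by
    intro s
    obtain ⟨t, rfl⟩ := (equivShrink T).symm.surjective s
    refine ⟨Sigma.ι Qf t ≫ factorThruImage ψ, ?_⟩
    rw [Category.assoc, image.fac]
    exact Sigma.ι_desc _ _
  refine ⟨image ψ, image.ι ψ, isQuasicoherent_image ψ j, inferInstance, fun H hH => ⟨?_, ?_⟩⟩
  · intro a b hab
    exact (cancel_mono (image.ι ψ)).1 hab
  · intro α
    haveI := hH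
    let Q : Subobject G := Subobject.mk (image.ι α)
    have hQ : ((Q : X.Modules)).IsQuasicoherent :=
      (SheafOfModules.isQuasicoherent.{u} X.ringCatSheaf).prop_of_iso
        (Subobject.underlyingIso (image.ι α)).symm (isQuasicoherent_image α j)
    obtain ⟨β, hβ⟩ := hfac ⟨Q, hQ⟩
    refine ⟨factorThruImage α ≫ (Subobject.underlyingIso (image.ι α)).inv ≫ β, ?_⟩
    change (factorThruImage α ≫ (Subobject.underlyingIso (image.ι α)).inv ≫ β) ≫ image.ι ψ = α
    rw [Category.assoc, Category.assoc, hβ]
    change factorThruImage α ≫ (Subobject.underlyingIso (image.ι α)).inv ≫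
      (Subobject.mk (image.ι α)).arrow = α
    rw [Subobject.underlyingIso_arrow, image.fac]

end Groth.Agent.Lib.Helper21.QCohLargest
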