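import Mathlib

/-!
# Two-out-of-three for quasi-isomorphisms of short exact sequences of chain complexes:
the `τ₁` and `τ₂` cases (helper21).  Mathlib has the `τ₃` case.
-/

set_option autoImplicit false
universe v u

namespace Groth.Agent.Lib.Helper21.QIsoSeq

open CategoryTheory ComposableArrows Abelian HomologicalComplex
  HomologicalComplex.HomologySequence Limits

section Three

variable {C : Type u} [Category.{v} C] [Abelian C]

/-- middle epi in a map of right exact sequences -/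
lemma epi_of_epi_of_epi_right_exact {A₁ A₂ A₃ B₁ B₂ B₃ : C} (f : A₁ ⟶ A₂) (g : A₂ ⟶ A₃)
    (f' : B₁ ⟶ B₂) (g' : B₂ ⟶ B₃) (a₁ : A₁ ⟶ B₁) (a₂ : A₂ ⟶ B₂) (a₃ : A₃ ⟶ B₃)
    (c₁ : f ≫ a₂ = a₁ ≫ f') (c₂ : g ≫ a₃ = a₂ ≫ g') (w' : f' ≫ g' = 0)
    (hB : (ShortComplex.mk f' g' w').Exact) [Epi g] [Epi a₁] [Epi a₃] : Epi a₂ := by
  rw [epi_iff_surjective_up_to_refinements]
  intro T y
  obtain ⟨T₁, π₁, _, z, hz⟩ := surjective_up_to_refinements_of_epi a₃ (y ≫ g')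
  obtain ⟨T₂, π₂, _, x, hx⟩ := surjective_up_to_refinements_of_epi g z
  have h0 : (π₂ ≫ π₁ ≫ y - x ≫ a₂) ≫ g' = 0 := by
    rw [Preadditive.sub_comp, Category.assoc, Category.assoc, Category.assoc, hz, ← c₂,
      ← Category.assoc, hx, Category.assoc, sub_self]
  obtain ⟨T₃, π₃, _, w, hw⟩ := hB.exact_up_to_refinements _ h0
  obtain ⟨T₄, π₄, _, v, hv⟩ := surjective_up_to_refinements_of_epi a₁ w
  refine ⟨T₄, π₄ ≫ π₃ ≫ π₂ ≫ π₁, inferInstance, π₄ ≫ π₃ ≫ x + v ≫ f, ?_⟩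
  dsimp at hw
  have e1 : (v ≫ f) ≫ a₂ = π₄ ≫ π₃ ≫ (π₂ ≫ π₁ ≫ y - x ≫ a₂) := by
    rw [Category.assoc, c₁, ← Category.assoc, ← hv, Category.assoc, ← hw]
  rw [Preadditive.add_comp, e1, Preadditive.comp_sub, Preadditive.comp_sub]
  simp only [Category.assoc]
  abel

end Three

variable {C : Type u} [Category.{v} C] [Abelian C]
  {S₁ S₂ : ShortComplex (ChainComplex C ℕ)} (φ : S₁ ⟶ S₂)
  (hS₁ : S₁.ShortExact) (hS₂ : S₂.ShortExact)

include hS₁ hS₂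

lemma mono_homologyMap_τ₁ (i : ℕ) (h₁ : Epi (homologyMap φ.τ₂ (i + 1)))
    (h₂ : Mono (homologyMap φ.τ₃ (i + 1))) (h₃ : Mono (homologyMap φ.τ₂ i)) :
    Mono (homologyMap φ.τ₁ i) := by
  have hij : (ComplexShape.down ℕ).Rel (i + 1) i := rfl
  exact mono_of_epi_of_mono_of_mono'' (k := 1) (n := 5) (by omega)
    (composableArrows₅_exact hS₁ (i + 1) i hij) (composableArrows₅_exact hS₂ (i + 1) i hij)
    (mapComposableArrows₅ φ hS₁ hS₂ (i + 1) i hij) 1 2 3 4 rfl rfl rfl rfl h₁ h₂ h₃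

lemma epi_homologyMap_τ₁ (i : ℕ) (h₁ : Epi (homologyMap φ.τ₃ (i + 1)))
    (h₂ : Epi (homologyMap φ.τ₂ i)) (h₃ : Mono (homologyMap φ.τ₃ i)) :
    Epi (homologyMap φ.τ₁ i) := by
  have hij : (ComplexShape.down ℕ).Rel (i + 1) i := rfl
  exact epi_of_epi_of_epi_of_mono'' (k := 2) (n := 5) (by omega)
    (composableArrows₅_exact hS₁ (i + 1) i hij) (composableArrows₅_exact hS₂ (i + 1) i hij)
    (mapComposableArrows₅ φ hS₁ hS₂ (i + 1) i hij) 2 3 4 5 rfl rfl rfl rfl h₁ h₂ h₃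

lemma mono_homologyMap_τ₂ (i : ℕ) (h₁ : Epi (homologyMap φ.τ₃ (i + 1)))
    (h₂ : Mono (homologyMap φ.τ₁ i)) (h₃ : Mono (homologyMap φ.τ₃ i)) :
    Mono (homologyMap φ.τ₂ i) := by
  have hij : (ComplexShape.down ℕ).Rel (i + 1) i := rfl
  exact mono_of_epi_of_mono_of_mono'' (k := 2) (n := 5) (by omega)
    (composableArrows₅_exact hS₁ (i + 1) i hij) (composableArrows₅_exact hS₂ (i + 1) i hij)
    (mapComposableArrows₅ φ hS₁ hS₂ (i + 1) i hij) 2 3 4 5 rfl rfl rfl rfl h₁ h₂ h₃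

lemma epi_homologyMap_τ₂_succ (i : ℕ) (h₁ : Epi (homologyMap φ.τ₁ (i + 1)))
    (h₂ : Epi (homologyMap φ.τ₃ (i + 1))) (h₃ : Mono (homologyMap φ.τ₁ i)) :
    Epi (homologyMap φ.τ₂ (i + 1)) := by
  have hij : (ComplexShape.down ℕ).Rel (i + 1) i := rfl
  exact epi_of_epi_of_epi_of_mono'' (k := 0) (n := 5) (by omega)
    (composableArrows₅_exact hS₁ (i + 1) i hij) (composableArrows₅_exact hS₂ (i + 1) i hij)
    (mapComposableArrows₅ φ hS₁ hS₂ (i + 1) i hij) 0 1 2 3 rfl rfl rfl rfl h₁ h₂ h₃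

lemma epi_homologyMap_τ₂_zero (h₁ : Epi (homologyMap φ.τ₁ 0))
    (h₂ : Epi (homologyMap φ.τ₃ 0)) : Epi (homologyMap φ.τ₂ 0) := by
  have hg : Epi (homologyMap S₁.g 0) := by
    have := hS₁.epi_g
    exact epi_homologyMap_of_epi_of_not_rel S₁.g 0 (by intro j hj; simp at hj)
  refine epi_of_epi_of_epi_right_exact (homologyMap S₁.f 0) (homologyMap S₁.g 0)
    (homologyMap S₂.f 0) (homologyMap S₂.g 0) (homologyMap φ.τ₁ 0) (homologyMap φ.τ₂ 0)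
    (homologyMap φ.τ₃ 0) ?_ ?_ ?_ (hS₂.homology_exact₂ 0)
  · rw [← homologyMap_comp, ← homologyMap_comp, φ.comm₁₂]
  · rw [← homologyMap_comp, ← homologyMap_comp, φ.comm₂₃]
  · rw [← homologyMap_comp, S₂.zero, homologyMap_zero]

lemma epi_homologyMap_τ₂ (i : ℕ) (h₁ : Epi (homologyMap φ.τ₁ i))
    (h₂ : Epi (homologyMap φ.τ₃ i)) (h₃ : ∀ j, j + 1 = i → Mono (homologyMap φ.τ₁ j)) :
    Epi (homologyMap φ.τ₂ i) := by
  cases i with
  | zero => exact epi_homologyMap_τ₂_zero φ hS₁ hS₂ h₁ h₂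
  | succ i => exact epi_homologyMap_τ₂_succ φ hS₁ hS₂ i h₁ h₂ (h₃ i rfl)

theorem quasiIso_τ₁ (h₂ : QuasiIso φ.τ₂) (h₃ : QuasiIso φ.τ₃) : QuasiIso φ.τ₁ := by
  rw [quasiIso_iff]
  intro i
  rw [quasiIsoAt_iff_isIso_homologyMap]
  have := mono_homologyMap_τ₁ φ hS₁ hS₂ i inferInstance inferInstance inferInstance
  have := epi_homologyMap_τ₁ φ hS₁ hS₂ i inferInstance inferInstance inferInstance
  apply isIso_of_mono_of_epi

theorem quasiIso_τ₂ (h₁ : QuasiIso φ.τ₁) (h₃ : QuasiIso φ.τ₃) : QuasiIso φ.τ₂ := by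
  rw [quasiIso_iff]
  intro i
  rw [quasiIsoAt_iff_isIso_homologyMap]
  have := mono_homologyMap_τ₂ φ hS₁ hS₂ i inferInstance inferInstance inferInstance
  have := epi_homologyMap_τ₂ φ hS₁ hS₂ i inferInstance inferInstance
    (fun j _ => inferInstance)
  apply isIso_of_mono_of_epi

end Groth.Agent.Lib.Helper21.QIsoSeq
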