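import Mathlib

/-!
# A quadric lying in the square of an ideal (part A)

If `λ` generates the kernel of a surjection onto a principal ideal domain and `λ ^ 2 ∈ J ^ 2`,
then `λ ∈ J`.
-/

set_option autoImplicit false

namespace Groth.Agent.Lib.Helper21.QuadSq

/-- The colon ideal `(J : lam)`. -/
def colonElt {R : Type*} [CommRing R] (J : Ideal R) (lam : R) : Ideal R where
  carrier := {a | lam * a ∈ J}
  add_mem' := by
    intro a b ha hb
    show lam * (a + b) ∈ J
    rw [mul_add]; exact J.add_mem ha hb
  zero_mem' := by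
    show lam * 0 ∈ J
    rw [mul_zero]; exact J.zero_mem
  smul_mem' := by
    intro c a ha
    show lam * (c • a) ∈ J
    rw [smul_eq_mul, mul_left_comm]; exact J.mul_mem_left c ha

theorem mem_colonElt {R : Type*} [CommRing R] {J : Ideal R} {lam a : R} :
    a ∈ colonElt J lam ↔ lam * a ∈ J := Iff.rfl

theorem le_colonElt {R : Type*} [CommRing R] (J : Ideal R) (lam : R) : J ≤ colonElt J lam :=
  fun _ ha => J.mul_mem_left lam ha

theorem mem_of_sq_mem_sq {R D : Type*} [CommRing R] [CommRing D] [IsDomain D]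
    [IsPrincipalIdealRing D] (π : R →+* D) (hπ : Function.Surjective π) (lam : R)
    (hker : RingHom.ker π = Ideal.span {lam}) (hnzd : ∀ r : R, lam * r = 0 → r = 0)
    (J : Ideal R) (h : lam ^ 2 ∈ J ^ 2) : lam ∈ J := by
  set J' := colonElt J lam with hJ'
  suffices h1 : (1 : R) ∈ J' by
    have := mem_colonElt.1 h1
    rwa [mul_one] at this
  have hlam : π lam = 0 := by
    have : lam ∈ RingHom.ker π := by rw [hker]; exact Ideal.subset_span rfl
    exact this
  have hkermem : ∀ r : R, π r = 0 → ∃ a, r = lam * a := by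
    intro r hr
    have : r ∈ RingHom.ker π := hr
    rw [hker, Ideal.mem_span_singleton'] at this
    obtain ⟨a, ha⟩ := this
    exact ⟨a, by rw [← ha, mul_comm]⟩
  obtain ⟨p, hp⟩ : ∃ p : D, J.map π = Ideal.span {p} :=
    ⟨_, (IsPrincipalIdealRing.principal (J.map π)).span_singleton_generator.symm⟩
  rw [pow_two] at h
  by_cases hp0 : p = 0
  · -- `J ≤ (lam)`
    have hdec : ∀ f ∈ J, ∃ a ∈ J', f = lam * a := by
      intro f hf
      have h1 : π f ∈ J.map π := Ideal.mem_map_of_mem π hf
      rw [hp, hp0, Ideal.mem_span_singleton'] at h1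
      obtain ⟨c, hc⟩ := h1
      rw [mul_zero] at hc
      obtain ⟨a, ha⟩ := hkermem f hc.symm
      exact ⟨a, by rw [hJ', mem_colonElt, ← ha]; exact hf, ha⟩
    have hcl : ∀ z ∈ J * J, ∃ w ∈ J', z = lam ^ 2 * w := by
      intro z hz
      refine Submodule.mul_induction_on hz ?_ ?_
      · intro m hm n hn
        obtain ⟨a, ha, rfl⟩ := hdec m hm
        obtain ⟨a', ha', rfl⟩ := hdec n hn
        exact ⟨a * a', J'.mul_mem_right _ ha, by ring⟩
      · rintro x y ⟨w, hw, rfl⟩ ⟨w', hw', rfl⟩
        exact ⟨w + w', J'.add_mem hw hw', by ring⟩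
    obtain ⟨w, hw, hlw⟩ := hcl _ h
    have h2 : lam * (lam * (1 - w)) = 0 := by linear_combination hlw
    have h3 := hnzd _ (hnzd _ h2)
    have : w = 1 := by linear_combination -h3
    rwa [this] at hw
  · obtain ⟨F, hFJ, hFp⟩ : ∃ F ∈ J, π F = p := by
      have : p ∈ J.map π := by rw [hp]; exact Ideal.subset_span rfl
      exact (Ideal.mem_map_iff_of_surjective π hπ).1 this
    have hdec : ∀ f ∈ J, ∃ c : R, ∃ a ∈ J', f = c * F + lam * a := by
      intro f hf
      have h1 : π f ∈ J.map π := Ideal.mem_map_of_mem π hf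
      rw [hp, Ideal.mem_span_singleton'] at h1
      obtain ⟨cbar, hc⟩ := h1
      obtain ⟨c, rfl⟩ := hπ cbar
      have h2 : π (f - c * F) = 0 := by
        rw [map_sub, map_mul, hFp, hc, sub_self]
      obtain ⟨a, ha⟩ := hkermem _ h2
      refine ⟨c, a, ?_, by linear_combination ha⟩
      rw [hJ', mem_colonElt, ← ha]
      exact J.sub_mem hf (J.mul_mem_left c hFJ)
    have hcl : ∀ z ∈ J * J, ∃ C A E : R, A ∈ J' ∧ E ∈ J' ∧
        z = C * F ^ 2 + lam * F * A + lam ^ 2 * E := by
      intro z hz
      refine Submodule.mul_induction_on hz ?_ ?_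
      · intro m hm n hn
        obtain ⟨c, a, ha, rfl⟩ := hdec m hm
        obtain ⟨c', a', ha', rfl⟩ := hdec n hn
        refine ⟨c * c', c * a' + c' * a, a * a',
          J'.add_mem (J'.mul_mem_left _ ha') (J'.mul_mem_left _ ha), J'.mul_mem_right _ ha, by ring⟩
      · rintro x y ⟨C, A, E, hA, hE, rfl⟩ ⟨C', A', E', hA', hE', rfl⟩
        exact ⟨C + C', A + A', E + E', J'.add_mem hA hA', J'.add_mem hE hE', by ring⟩
    obtain ⟨C, A, E, hA, hE, hz⟩ := hcl _ h
    -- reduce modulo `lam`
    have h1 : π C = 0 := by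
      have := congrArg π hz
      simp only [map_add, map_mul, map_pow, hlam, hFp] at this
      have h0 : π C * p ^ 2 = 0 := by
        linear_combination -this
      rcases mul_eq_zero.1 h0 with h' | h'
      · exact h'
      · exact absurd ((pow_eq_zero_iff two_ne_zero).1 h') hp0
    obtain ⟨C', rfl⟩ := hkermem C h1
    have h2 : lam = C' * F ^ 2 + F * A + lam * E := by
      have : lam * (lam - (C' * F ^ 2 + F * A + lam * E)) = 0 := by linear_combination hz
      have := hnzd _ this
      linear_combination this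
    have h3 : π (C' * F + A) = 0 := by
      have := congrArg π h2
      simp only [map_add, map_mul, map_pow, hlam, hFp] at this
      have h0 : p * (π C' * p + π A) = 0 := by
        rw [zero_mul, add_zero] at this
        linear_combination -this
      rcases mul_eq_zero.1 h0 with h' | h'
      · exact absurd h' hp0
      · rw [map_add, map_mul, hFp]; exact h'
    obtain ⟨B, hB⟩ := hkermem _ h3
    have h4 : lam * (1 - (F * B + E)) = 0 := by
      linear_combination h2 + F * hB
    have h5 := hnzd _ h4
    have h6 : (1 : R) = F * B + E := by linear_combination h5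
    rw [h6]
    exact J'.add_mem (J'.mul_mem_right _ (le_colonElt J lam hFJ)) hE

end Groth.Agent.Lib.Helper21.QuadSq
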