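import Groth.Agent.Lib.Helper21.QuadSqA

/-!
# A quadric lying in the square of an ideal (part B)

For a nonconstant affine-linear polynomial `λ` in two variables over a field, `λ ^ 2 ∈ J ^ 2`
implies `λ ∈ J`.
-/

set_option autoImplicit false

namespace Groth.Agent.Lib.Helper21.QuadSq

open MvPolynomial

variable {k : Type*} [Field k]

theorem ker_eq_span_of_section (lam : MvPolynomial (Fin 2) k)
    (π : MvPolynomial (Fin 2) k →ₐ[k] Polynomial k)
    (ι : Polynomial k →ₐ[k] MvPolynomial (Fin 2) k)
    (hlam : π lam = 0) (hX : ∀ i, X i - ι (π (X i)) ∈ Ideal.span {lam}) :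
    RingHom.ker (π : MvPolynomial (Fin 2) k →+* Polynomial k) = Ideal.span {lam} := by
  have hall : ∀ s : MvPolynomial (Fin 2) k, s - ι (π s) ∈ Ideal.span {lam} := by
    intro s
    induction s using MvPolynomial.induction_on with
    | C c =>
      have h1 : π (C c) = Polynomial.C c := π.commutes c
      have h2 : ι (Polynomial.C c) = C c := ι.commutes c
      rw [h1, h2, sub_self]
      exact Ideal.zero_mem _
    | add p q hp hq =>
      have : p + q - ι (π (p + q)) = (p - ι (π p)) + (q - ι (π q)) := by
        rw [map_add, map_add]; ring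
      rw [this]; exact Ideal.add_mem _ hp hq
    | mul_X p i hp =>
      have : p * X i - ι (π (p * X i)) =
          (p - ι (π p)) * X i + ι (π p) * (X i - ι (π (X i))) := by
        rw [map_mul, map_mul]; ring
      rw [this]
      exact Ideal.add_mem _ (Ideal.mul_mem_right _ _ hp) (Ideal.mul_mem_left _ _ (hX i))
  apply le_antisymm
  · intro s hs
    have hs0 : π s = 0 := hs
    have := hall s
    rwa [hs0, map_zero, sub_zero] at this
  · rw [Ideal.span_le, Set.singleton_subset_iff]
    exact hlam

theorem affine_mem_of_sq_mem_sq (α δ φ : k) (h : δ ≠ 0 ∨ φ ≠ 0)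
    (J : Ideal (MvPolynomial (Fin 2) k))
    (hsq : (C α + C δ * X 0 + C φ * X 1 : MvPolynomial (Fin 2) k) ^ 2 ∈ J ^ 2) :
    (C α + C δ * X 0 + C φ * X 1 : MvPolynomial (Fin 2) k) ∈ J := by
  set lam : MvPolynomial (Fin 2) k := C α + C δ * X 0 + C φ * X 1 with hlam
  have hlam0 : lam ≠ 0 := by
    intro h0
    have h1 : pderiv 0 lam = C δ := by
      simp [hlam, pderiv_X]
    have h2 : pderiv 1 lam = C φ := by
      simp [hlam, pderiv_X]
    rw [h0, map_zero] at h1 h2
    rcases h with h | h
    · exact h (C_injective _ _ (by rw [← h1, C_0]))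
    · exact h (C_injective _ _ (by rw [← h2, C_0]))
  have hnzd : ∀ r : MvPolynomial (Fin 2) k, lam * r = 0 → r = 0 := by
    intro r hr
    rcases mul_eq_zero.1 hr with h' | h'
    · exact absurd h' hlam0
    · exact h'
  rcases h with hδ | hφ
  · let π : MvPolynomial (Fin 2) k →ₐ[k] Polynomial k :=
      aeval ![Polynomial.C (-α / δ) + Polynomial.C (-φ / δ) * Polynomial.X, Polynomial.X]
    let ι : Polynomial k →ₐ[k] MvPolynomial (Fin 2) k := Polynomial.aeval (X 1)
    have hπ0 : π (X 0) = Polynomial.C (-α / δ) + Polynomial.C (-φ / δ) * Polynomial.X := by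
      simp [π]
    have hπ1 : π (X 1) = Polynomial.X := by simp [π]
    have hπlam : π lam = 0 := by
      rw [hlam, map_add, map_add, map_mul, map_mul, hπ0, hπ1]
      have h1 : π (C α) = Polynomial.C α := by
        rw [← MvPolynomial.algebraMap_eq, AlgHom.commutes]; rfl
      have h2 : π (C δ) = Polynomial.C δ := by
        rw [← MvPolynomial.algebraMap_eq, AlgHom.commutes]; rfl
      have h3 : π (C φ) = Polynomial.C φ := by
        rw [← MvPolynomial.algebraMap_eq, AlgHom.commutes]; rfl
      rw [h1, h2, h3]
      have : Polynomial.C δ * Polynomial.C (-α / δ) = Polynomial.C (-α) := by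
        rw [← Polynomial.C_mul]; congr 1; field_simp
      have h4 : Polynomial.C δ * Polynomial.C (-φ / δ) = Polynomial.C (-φ) := by
        rw [← Polynomial.C_mul]; congr 1; field_simp
      rw [mul_add, ← mul_assoc, this, h4, Polynomial.C_neg, Polynomial.C_neg]
      ring
    have hX : ∀ i, X i - ι (π (X i)) ∈ Ideal.span {lam} := by
      intro i
      fin_cases i
      · show X 0 - ι (π (X 0)) ∈ _
        rw [hπ0]
        have : X 0 - ι (Polynomial.C (-α / δ) + Polynomial.C (-φ / δ) * Polynomial.X) =
            C δ⁻¹ * lam := by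
          simp only [ι, map_add, map_mul, Polynomial.aeval_C, Polynomial.aeval_X,
            MvPolynomial.algebraMap_eq, hlam]
          rw [mul_add, mul_add, ← mul_assoc, ← mul_assoc, ← C_mul, ← C_mul, ← C_mul,
            inv_mul_cancel₀ hδ, C_1, one_mul]
          have e1 : (-α / δ) = -(δ⁻¹ * α) := by field_simp
          have e2 : (-φ / δ) = -(δ⁻¹ * φ) := by field_simp
          rw [e1, e2, C_neg, C_neg]
          ring
        rw [this]
        exact Ideal.mul_mem_left _ _ (Ideal.subset_span rfl)
      · show X 1 - ι (π (X 1)) ∈ _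
        rw [hπ1]
        simp [ι]
    have hker := ker_eq_span_of_section lam π ι hπlam hX
    have hsurj : Function.Surjective (π : MvPolynomial (Fin 2) k →+* Polynomial k) := by
      intro p
      refine ⟨ι p, ?_⟩
      show π (ι p) = p
      induction p using Polynomial.induction_on' with
      | add p q hp hq => rw [map_add, map_add, hp, hq]
      | monomial n a =>
        simp only [ι, Polynomial.aeval_monomial, map_mul, map_pow, hπ1, MvPolynomial.algebraMap_eq]
        have h1 : π (C a) = Polynomial.C a := by
          rw [← MvPolynomial.algebraMap_eq, AlgHom.commutes]; rfl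
        rw [h1, Polynomial.C_mul_X_pow_eq_monomial]
    exact mem_of_sq_mem_sq (π : MvPolynomial (Fin 2) k →+* Polynomial k) hsurj lam hker hnzd J hsq
  · let π : MvPolynomial (Fin 2) k →ₐ[k] Polynomial k :=
      aeval ![Polynomial.X, Polynomial.C (-α / φ) + Polynomial.C (-δ / φ) * Polynomial.X]
    let ι : Polynomial k →ₐ[k] MvPolynomial (Fin 2) k := Polynomial.aeval (X 0)
    have hπ0 : π (X 0) = Polynomial.X := by simp [π]
    have hπ1 : π (X 1) = Polynomial.C (-α / φ) + Polynomial.C (-δ / φ) * Polynomial.X := by
      simp [π]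
    have hπlam : π lam = 0 := by
      rw [hlam, map_add, map_add, map_mul, map_mul, hπ0, hπ1]
      have h1 : π (C α) = Polynomial.C α := by
        rw [← MvPolynomial.algebraMap_eq, AlgHom.commutes]; rfl
      have h2 : π (C δ) = Polynomial.C δ := by
        rw [← MvPolynomial.algebraMap_eq, AlgHom.commutes]; rfl
      have h3 : π (C φ) = Polynomial.C φ := by
        rw [← MvPolynomial.algebraMap_eq, AlgHom.commutes]; rfl
      rw [h1, h2, h3]
      have : Polynomial.C φ * Polynomial.C (-α / φ) = Polynomial.C (-α) := by
        rw [← Polynomial.C_mul]; congr 1; field_simp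
      have h4 : Polynomial.C φ * Polynomial.C (-δ / φ) = Polynomial.C (-δ) := by
        rw [← Polynomial.C_mul]; congr 1; field_simp
      rw [mul_add, ← mul_assoc, this, h4, Polynomial.C_neg, Polynomial.C_neg]
      ring
    have hX : ∀ i, X i - ι (π (X i)) ∈ Ideal.span {lam} := by
      intro i
      fin_cases i
      · show X 0 - ι (π (X 0)) ∈ _
        rw [hπ0]
        simp [ι]
      · show X 1 - ι (π (X 1)) ∈ _
        rw [hπ1]
        have : X 1 - ι (Polynomial.C (-α / φ) + Polynomial.C (-δ / φ) * Polynomial.X) =
            C φ⁻¹ * lam := by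
          simp only [ι, map_add, map_mul, Polynomial.aeval_C, Polynomial.aeval_X,
            MvPolynomial.algebraMap_eq, hlam]
          rw [mul_add, mul_add, ← mul_assoc, ← mul_assoc, ← C_mul, ← C_mul, ← C_mul,
            inv_mul_cancel₀ hφ, C_1, one_mul]
          have e1 : (-α / φ) = -(φ⁻¹ * α) := by field_simp
          have e2 : (-δ / φ) = -(φ⁻¹ * δ) := by field_simp
          rw [e1, e2, C_neg, C_neg]
          ring
        rw [this]
        exact Ideal.mul_mem_left _ _ (Ideal.subset_span rfl)
    have hker := ker_eq_span_of_section lam π ι hπlam hX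
    have hsurj : Function.Surjective (π : MvPolynomial (Fin 2) k →+* Polynomial k) := by
      intro p
      refine ⟨ι p, ?_⟩
      show π (ι p) = p
      induction p using Polynomial.induction_on' with
      | add p q hp hq => rw [map_add, map_add, hp, hq]
      | monomial n a =>
        simp only [ι, Polynomial.aeval_monomial, map_mul, map_pow, hπ0, MvPolynomial.algebraMap_eq]
        have h1 : π (C a) = Polynomial.C a := by
          rw [← MvPolynomial.algebraMap_eq, AlgHom.commutes]; rfl
        rw [h1, Polynomial.C_mul_X_pow_eq_monomial]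
    exact mem_of_sq_mem_sq (π : MvPolynomial (Fin 2) k →+* Polynomial k) hsurj lam hker hnzd J hsq

end Groth.Agent.Lib.Helper21.QuadSq
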