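import Groth.Agent.Lib.Helper21.QuadSqB

/-!
# A quadric lying in the square of an ideal (part C)

Affine-linear forms in an ideal of colength `> 1` are pairwise proportional; derivations map
`I ^ 2` into `I`; descent of membership along coefficientwise linear functionals.
-/

set_option autoImplicit false

namespace Groth.Agent.Lib.Helper21.QuadSq

open MvPolynomial

variable {κ : Type*} [Field κ]

theorem false_of_eq_top (I : Ideal (MvPolynomial (Fin 2) κ))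
    (hI : ¬ (Module.Finite κ (MvPolynomial (Fin 2) κ ⧸ I) ∧
      Module.finrank κ (MvPolynomial (Fin 2) κ ⧸ I) ≤ 1)) (h : I = ⊤) : False := by
  have : Subsingleton (MvPolynomial (Fin 2) κ ⧸ I) := Ideal.Quotient.subsingleton_iff.2 h
  exact hI ⟨inferInstance, by rw [Module.finrank_zero_of_subsingleton]; exact zero_le_one⟩

theorem false_of_unit_mem (I : Ideal (MvPolynomial (Fin 2) κ))
    (hI : ¬ (Module.Finite κ (MvPolynomial (Fin 2) κ ⧸ I) ∧
      Module.finrank κ (MvPolynomial (Fin 2) κ ⧸ I) ≤ 1)) (c : κ) (hc : c ≠ 0)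
    (h : (C c : MvPolynomial (Fin 2) κ) ∈ I) : False := by
  apply false_of_eq_top I hI
  rw [Ideal.eq_top_iff_one]
  have : (1 : MvPolynomial (Fin 2) κ) = C c⁻¹ * C c := by
    rw [← C_mul, inv_mul_cancel₀ hc, C_1]
  rw [this]
  exact I.mul_mem_left _ h

theorem sub_eval_mem (p₀ p₁ : κ) (s : MvPolynomial (Fin 2) κ) :
    s - C (eval ![p₀, p₁] s) ∈
      Ideal.span {(X 0 - C p₀ : MvPolynomial (Fin 2) κ), X 1 - C p₁} := by
  induction s using MvPolynomial.induction_on with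
  | C c => simp
  | add p q hp hq =>
    have : p + q - C (eval ![p₀, p₁] (p + q)) =
        (p - C (eval ![p₀, p₁] p)) + (q - C (eval ![p₀, p₁] q)) := by
      rw [map_add, map_add]; ring
    rw [this]; exact Ideal.add_mem _ hp hq
  | mul_X p i hp =>
    have hXi : (X i - C (![p₀, p₁] i) : MvPolynomial (Fin 2) κ) ∈
        Ideal.span {(X 0 - C p₀ : MvPolynomial (Fin 2) κ), X 1 - C p₁} := by
      fin_cases i
      · exact Ideal.subset_span (by simp)
      · exact Ideal.subset_span (by simp)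
    have : p * X i - C (eval ![p₀, p₁] (p * X i)) =
        (p - C (eval ![p₀, p₁] p)) * X i + C (eval ![p₀, p₁] p) * (X i - C (![p₀, p₁] i)) := by
      rw [map_mul, eval_X, map_mul]; ring
    rw [this]
    exact Ideal.add_mem _ (Ideal.mul_mem_right _ _ hp) (Ideal.mul_mem_left _ _ hXi)

theorem false_of_point_mem (I : Ideal (MvPolynomial (Fin 2) κ))
    (hI : ¬ (Module.Finite κ (MvPolynomial (Fin 2) κ ⧸ I) ∧
      Module.finrank κ (MvPolynomial (Fin 2) κ ⧸ I) ≤ 1)) (p₀ p₁ : κ)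
    (h0 : (X 0 - C p₀ : MvPolynomial (Fin 2) κ) ∈ I)
    (h1 : (X 1 - C p₁ : MvPolynomial (Fin 2) κ) ∈ I) : False := by
  have hle : Ideal.span {(X 0 - C p₀ : MvPolynomial (Fin 2) κ), X 1 - C p₁} ≤ I := by
    rw [Ideal.span_le]
    rintro x (rfl | rfl)
    · exact h0
    · exact h1
  have hspan : ∀ w : MvPolynomial (Fin 2) κ ⧸ I,
      ∃ c : κ, c • (Ideal.Quotient.mk I 1) = w := by
    intro w
    obtain ⟨s, rfl⟩ := Ideal.Quotient.mk_surjective w
    refine ⟨eval ![p₀, p₁] s, ?_⟩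
    have h2 := hle (sub_eval_mem p₀ p₁ s)
    rw [← Ideal.Quotient.eq] at h2
    have h3 : eval ![p₀, p₁] s • (Ideal.Quotient.mk I 1) =
        Ideal.Quotient.mk I (eval ![p₀, p₁] s • 1) :=
      (map_smul (Ideal.Quotient.mkₐ κ I) _ _).symm
    rw [h2, h3, MvPolynomial.smul_eq_C_mul, mul_one]
  refine hI ⟨?_, finrank_le_one _ hspan⟩
  refine Module.Finite.of_surjective
    (LinearMap.toSpanSingleton κ _ (Ideal.Quotient.mk I 1)) ?_
  intro w
  obtain ⟨c, hc⟩ := hspan w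
  exact ⟨c, by simpa using hc⟩

theorem minors_eq_zero (I : Ideal (MvPolynomial (Fin 2) κ))
    (hI : ¬ (Module.Finite κ (MvPolynomial (Fin 2) κ ⧸ I) ∧
      Module.finrank κ (MvPolynomial (Fin 2) κ ⧸ I) ≤ 1))
    (u₀ u₁ u₂ v₀ v₁ v₂ : κ)
    (hu : (C u₀ + C u₁ * X 0 + C u₂ * X 1 : MvPolynomial (Fin 2) κ) ∈ I)
    (hv : (C v₀ + C v₁ * X 0 + C v₂ * X 1 : MvPolynomial (Fin 2) κ) ∈ I) :
    u₁ * v₂ = u₂ * v₁ ∧ u₀ * v₁ = u₁ * v₀ ∧ u₀ * v₂ = u₂ * v₀ := by
  set lu : MvPolynomial (Fin 2) κ := C u₀ + C u₁ * X 0 + C u₂ * X 1 with hlu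
  set lv : MvPolynomial (Fin 2) κ := C v₀ + C v₁ * X 0 + C v₂ * X 1 with hlv
  have hcomb : ∀ s t : κ, C s * lu - C t * lv ∈ I := fun s t =>
    I.sub_mem (I.mul_mem_left _ hu) (I.mul_mem_left _ hv)
  have e1 : C v₂ * lu - C u₂ * lv =
      C (u₀ * v₂ - u₂ * v₀) + C (u₁ * v₂ - u₂ * v₁) * X 0 := by
    simp only [hlu, hlv, map_sub, map_mul]; ring
  have e2 : C u₁ * lv - C v₁ * lu =
      C (u₁ * v₀ - u₀ * v₁) + C (u₁ * v₂ - u₂ * v₁) * X 1 := by
    simp only [hlu, hlv, map_sub, map_mul]; ring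
  by_cases hd : u₁ * v₂ - u₂ * v₁ = 0
  · refine ⟨sub_eq_zero.1 hd, ?_, ?_⟩
    · by_contra hne
      have h1 : C u₁ * lv - C v₁ * lu ∈ I :=
        I.sub_mem (I.mul_mem_left _ hv) (I.mul_mem_left _ hu)
      rw [e2, hd, C_0, zero_mul, add_zero] at h1
      refine false_of_unit_mem I hI _ ?_ h1
      intro h0
      exact hne (sub_eq_zero.1 h0).symm
    · by_contra hne
      have h1 := hcomb v₂ u₂
      rw [e1, hd, C_0, zero_mul, add_zero] at h1
      refine false_of_unit_mem I hI _ ?_ h1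
      intro h0
      exact hne (sub_eq_zero.1 h0)
  · exfalso
    set Δ := u₁ * v₂ - u₂ * v₁ with hΔ
    have hΔC : (C Δ⁻¹ * C Δ : MvPolynomial (Fin 2) κ) = 1 := by
      rw [← C_mul, inv_mul_cancel₀ hd, C_1]
    refine false_of_point_mem I hI (-(Δ⁻¹ * (u₀ * v₂ - u₂ * v₀))) (-(Δ⁻¹ * (u₁ * v₀ - u₀ * v₁)))
      ?_ ?_
    · have h1 := I.mul_mem_left (C Δ⁻¹) (hcomb v₂ u₂)
      rw [e1, mul_add, ← mul_assoc, hΔC, one_mul, ← C_mul] at h1
      rwa [C_neg, sub_neg_eq_add, add_comm]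
    · have h1 : C u₁ * lv - C v₁ * lu ∈ I :=
        I.sub_mem (I.mul_mem_left _ hv) (I.mul_mem_left _ hu)
      have h2 := I.mul_mem_left (C Δ⁻¹) h1
      rw [e2, mul_add, ← mul_assoc, hΔC, one_mul, ← C_mul] at h2
      rwa [C_neg, sub_neg_eq_add, add_comm]

end Groth.Agent.Lib.Helper21.QuadSq
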