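import Groth.Agent.Lib.Helper21.QuadSqC

/-!
# A quadric lying in the square of an ideal (part D)

Derivations map `I ^ 2` into `I`; applying a linear functional coefficientwise maps the extension
of an ideal along a field extension back into the ideal.
-/

set_option autoImplicit false

namespace Groth.Agent.Lib.Helper21.QuadSq

open MvPolynomial

theorem derivation_mem_of_mem_sq {κ R : Type*} [CommRing κ] [CommRing R] [Algebra κ R]
    (D : Derivation κ R R) (I : Ideal R) {z : R} (hz : z ∈ I ^ 2) : D z ∈ I := by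
  rw [pow_two] at hz
  refine Submodule.mul_induction_on hz ?_ ?_
  · intro m hm n hn
    rw [Derivation.leibniz, smul_eq_mul, smul_eq_mul]
    exact I.add_mem (I.mul_mem_right _ hm) (I.mul_mem_right _ hn)
  · intro x y hx hy
    rw [map_add]; exact I.add_mem hx hy

variable {κ κ' : Type*} [Field κ] [Field κ'] [Algebra κ κ'] {σ : Type*}

/-- Apply a linear functional to every coefficient. -/
noncomputable def coeffMap (θ : κ' →ₗ[κ] κ) (s : MvPolynomial σ κ') : MvPolynomial σ κ :=
  ∑ m ∈ s.support, monomial m (θ (s.coeff m))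

theorem coeff_coeffMap (θ : κ' →ₗ[κ] κ) (s : MvPolynomial σ κ') (m : σ →₀ ℕ) :
    (coeffMap θ s).coeff m = θ (s.coeff m) := by
  classical
  rw [coeffMap, coeff_sum]
  simp only [coeff_monomial]
  rw [Finset.sum_ite_eq']
  split_ifs with h
  · rfl
  · rw [notMem_support_iff.1 h, map_zero]

theorem coeffMap_add (θ : κ' →ₗ[κ] κ) (s t : MvPolynomial σ κ') :
    coeffMap θ (s + t) = coeffMap θ s + coeffMap θ t := by
  ext m
  simp [coeff_coeffMap]

theorem coeffMap_zero (θ : κ' →ₗ[κ] κ) : coeffMap θ (0 : MvPolynomial σ κ') = 0 := by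
  ext m
  simp [coeff_coeffMap]

theorem coeffMap_map_mul (θ : κ' →ₗ[κ] κ) (r : MvPolynomial σ κ) (s : MvPolynomial σ κ') :
    coeffMap θ (map (algebraMap κ κ') r * s) = r * coeffMap θ s := by
  classical
  ext m
  rw [coeff_coeffMap, coeff_mul, coeff_mul, map_sum]
  refine Finset.sum_congr rfl fun x _ => ?_
  rw [coeff_map, coeff_coeffMap, ← Algebra.smul_def, map_smul, smul_eq_mul]

theorem coeffMap_C (θ : κ' →ₗ[κ] κ) (γ : κ') :
    coeffMap θ (C γ : MvPolynomial σ κ') = C (θ γ) := by
  classical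
  ext m
  rw [coeff_coeffMap, coeff_C, coeff_C]
  split_ifs
  · rfl
  · exact map_zero θ

theorem coeffMap_mem (θ : κ' →ₗ[κ] κ) (I : Ideal (MvPolynomial σ κ)) (f : MvPolynomial σ κ')
    (hf : f ∈ I.map (map (algebraMap κ κ'))) : coeffMap θ f ∈ I := by
  have key : ∀ a : MvPolynomial σ κ', coeffMap θ (a * f) ∈ I := by
    rw [Ideal.map] at hf
    refine Submodule.span_induction (p := fun x _ => ∀ a : MvPolynomial σ κ',
      coeffMap θ (a * x) ∈ I) ?_ ?_ ?_ ?_ hf
    · rintro x ⟨h, hh, rfl⟩ a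
      rw [mul_comm]
      show coeffMap θ (map (algebraMap κ κ') h * a) ∈ I
      rw [coeffMap_map_mul]
      exact I.mul_mem_right _ hh
    · intro a
      rw [mul_zero, coeffMap_zero]; exact I.zero_mem
    · intro x y _ _ hx hy a
      rw [mul_add, coeffMap_add]; exact I.add_mem (hx a) (hy a)
    · intro b x _ hx a
      rw [smul_eq_mul, ← mul_assoc]; exact hx (a * b)
  have := key 1
  rwa [one_mul] at this

theorem coeffMap_affine (θ : κ' →ₗ[κ] κ) (α δ φ : κ') :
    coeffMap θ (C α + C δ * X 0 + C φ * X 1 : MvPolynomial (Fin 2) κ') =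
      C (θ α) + C (θ δ) * X 0 + C (θ φ) * X 1 := by
  have h0 : (C δ * X 0 : MvPolynomial (Fin 2) κ') = map (algebraMap κ κ') (X 0) * C δ := by
    rw [map_X, mul_comm]
  have h1 : (C φ * X 1 : MvPolynomial (Fin 2) κ') = map (algebraMap κ κ') (X 1) * C φ := by
    rw [map_X, mul_comm]
  rw [coeffMap_add, coeffMap_add, h0, h1, coeffMap_map_mul, coeffMap_map_mul, coeffMap_C,
    coeffMap_C, coeffMap_C, mul_comm (X 0), mul_comm (X 1)]

end Groth.Agent.Lib.Helper21.QuadSq
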