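import Groth.Agent.Lib.Helper21.QuadSqD

/-!
# A quadric lying in the square of an ideal (part E)

Bookkeeping lemmas for the final assembly.
-/

set_option autoImplicit false

namespace Groth.Agent.Lib.Helper21.QuadSq

open MvPolynomial

variable {κ : Type*} [Field κ]

theorem sq_expand (j g h i : κ) :
    (C j * (C g + C h * X 0 + C i * X 1) ^ 2 : MvPolynomial (Fin 2) κ) =
      C (j * g ^ 2) + C (2 * j * g * h) * X 0 + C (2 * j * g * i) * X 1 + C (j * h ^ 2) * X 0 ^ 2 +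
        C (2 * j * h * i) * X 0 * X 1 + C (j * i ^ 2) * X 1 ^ 2 := by
  simp only [map_mul, map_pow, map_ofNat]
  ring

theorem quad_congr {a b c d e f a' b' c' d' e' f' : κ} (h1 : a = a') (h2 : b = b') (h3 : c = c')
    (h4 : d = d') (h5 : e = e') (h6 : f = f') :
    (C a + C b * X 0 + C c * X 1 + C d * X 0 ^ 2 + C e * X 0 * X 1 + C f * X 1 ^ 2 :
      MvPolynomial (Fin 2) κ) =
      C a' + C b' * X 0 + C c' * X 1 + C d' * X 0 ^ 2 + C e' * X 0 * X 1 + C f' * X 1 ^ 2 := by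
  subst h1 h2 h3 h4 h5 h6
  rfl

theorem exists_sq_of_coeffs {a b c d e f j g h i : κ} (h1 : a = j * g ^ 2) (h2 : b = 2 * j * g * h)
    (h3 : c = 2 * j * g * i) (h4 : d = j * h ^ 2) (h5 : e = 2 * j * h * i) (h6 : f = j * i ^ 2) :
    ∃ j g h i : κ, (C a + C b * X 0 + C c * X 1 + C d * X 0 ^ 2 + C e * X 0 * X 1 + C f * X 1 ^ 2 :
      MvPolynomial (Fin 2) κ) = C j * (C g + C h * X 0 + C i * X 1) ^ 2 :=
  ⟨j, g, h, i, by rw [sq_expand]; exact quad_congr h1 h2 h3 h4 h5 h6⟩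

theorem exists_sq_of_coeffs' {a b c d e f t g h i : κ} (ht : t ≠ 0) (h1 : t * a = g ^ 2)
    (h2 : t * b = 2 * g * h) (h3 : t * c = 2 * g * i) (h4 : t * d = h ^ 2)
    (h5 : t * e = 2 * h * i) (h6 : t * f = i ^ 2) :
    ∃ j g h i : κ, (C a + C b * X 0 + C c * X 1 + C d * X 0 ^ 2 + C e * X 0 * X 1 + C f * X 1 ^ 2 :
      MvPolynomial (Fin 2) κ) = C j * (C g + C h * X 0 + C i * X 1) ^ 2 := by
  refine exists_sq_of_coeffs (j := t⁻¹) (g := g) (h := h) (i := i) ?_ ?_ ?_ ?_ ?_ ?_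
  · rw [← h1, inv_mul_cancel_left₀ ht]
  · have : 2 * t⁻¹ * g * h = t⁻¹ * (2 * g * h) := by ring
    rw [this, ← h2, inv_mul_cancel_left₀ ht]
  · have : 2 * t⁻¹ * g * i = t⁻¹ * (2 * g * i) := by ring
    rw [this, ← h3, inv_mul_cancel_left₀ ht]
  · rw [← h4, inv_mul_cancel_left₀ ht]
  · have : 2 * t⁻¹ * h * i = t⁻¹ * (2 * h * i) := by ring
    rw [this, ← h5, inv_mul_cancel_left₀ ht]
  · rw [← h6, inv_mul_cancel_left₀ ht]

theorem exists_smul_eq {κ' : Type*} [Field κ'] [Algebra κ κ'] (x y : κ') (hy : y ≠ 0)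
    (hminor : ∀ θ₁ θ₂ : κ' →ₗ[κ] κ, θ₁ x * θ₂ y = θ₁ y * θ₂ x) : ∃ g : κ, x = g • y := by
  by_contra hcon
  have hx : x ∉ Submodule.span κ {y} := by
    intro hx
    obtain ⟨g, hg⟩ := Submodule.mem_span_singleton.1 hx
    exact hcon ⟨g, hg.symm⟩
  obtain ⟨θ₁, hθ₁x, hθ₁⟩ := Submodule.exists_dual_map_eq_bot_of_notMem hx inferInstance
  have hθ₁y : θ₁ y = 0 := by
    have : θ₁ y ∈ (Submodule.span κ {y}).map θ₁ :=
      Submodule.mem_map_of_mem (Submodule.subset_span rfl)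
    rw [hθ₁] at this
    exact this
  have hy' : y ∉ (⊥ : Submodule κ κ') := by simpa using hy
  obtain ⟨θ₂, hθ₂y, -⟩ := Submodule.exists_dual_map_eq_bot_of_notMem hy' inferInstance
  have := hminor θ₁ θ₂
  rw [hθ₁y, zero_mul] at this
  exact (mul_ne_zero hθ₁x hθ₂y) this

end Groth.Agent.Lib.Helper21.QuadSq
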