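import Groth.Agent.Lib.Helper21.QuadSqE

/-!
# A quadric lying in the square of an ideal (part F): the main theorem
-/

set_option autoImplicit false

namespace Groth.Agent.Lib.Helper21.QuadSq

open MvPolynomial

universe u

theorem main (κ : Type u) [Field κ] (I : Ideal (MvPolynomial (Fin 2) κ))
    (hI : ¬ (Module.Finite κ (MvPolynomial (Fin 2) κ ⧸ I) ∧
      Module.finrank κ (MvPolynomial (Fin 2) κ ⧸ I) ≤ 1))
    (a b c d e f : κ) (hne : (a, b, c, d, e, f) ≠ (0, 0, 0, 0, 0, 0))
    (hmem : (C a + C b * X 0 + C c * X 1 + C d * X 0 ^ 2 + C e * X 0 * X 1 + C f * X 1 ^ 2 :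
      MvPolynomial (Fin 2) κ) ∈ I ^ 2) :
    ∃ j g h i : κ, (C a + C b * X 0 + C c * X 1 + C d * X 0 ^ 2 + C e * X 0 * X 1 + C f * X 1 ^ 2 :
      MvPolynomial (Fin 2) κ) = C j * (C g + C h * X 0 + C i * X 1) ^ 2 := by
  classical
  set q : MvPolynomial (Fin 2) κ :=
    C a + C b * X 0 + C c * X 1 + C d * X 0 ^ 2 + C e * X 0 * X 1 + C f * X 1 ^ 2 with hq
  have hqI : q ∈ I := Ideal.pow_le_self two_ne_zero hmem
  have hx : pderiv 0 q = C b + C (2 * d) * X 0 + C e * X 1 := by
    simp only [hq, map_add, Derivation.leibniz, pderiv_C, pderiv_X, Derivation.leibniz_pow,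
      map_mul, map_ofNat]
    simp
    ring
  have hy : pderiv 1 q = C c + C e * X 0 + C (2 * f) * X 1 := by
    simp only [hq, map_add, Derivation.leibniz, pderiv_C, pderiv_X, Derivation.leibniz_pow,
      map_mul, map_ofNat]
    simp
    ring
  have hxI : (C b + C (2 * d) * X 0 + C e * X 1 : MvPolynomial (Fin 2) κ) ∈ I :=
    hx ▸ derivation_mem_of_mem_sq (pderiv 0) I hmem
  have hyI : (C c + C e * X 0 + C (2 * f) * X 1 : MvPolynomial (Fin 2) κ) ∈ I :=
    hy ▸ derivation_mem_of_mem_sq (pderiv 1) I hmem
  have hrI : (C (2 * a) + C b * X 0 + C c * X 1 : MvPolynomial (Fin 2) κ) ∈ I := by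
    have : (C (2 * a) + C b * X 0 + C c * X 1 : MvPolynomial (Fin 2) κ) =
        C 2 * q - X 0 * (C b + C (2 * d) * X 0 + C e * X 1) -
          X 1 * (C c + C e * X 0 + C (2 * f) * X 1) := by
      simp only [hq, map_mul, map_ofNat]
      ring
    rw [this]
    exact I.sub_mem (I.sub_mem (I.mul_mem_left _ hqI) (I.mul_mem_left _ hxI))
      (I.mul_mem_left _ hyI)
  obtain ⟨m1, m2, m3⟩ := minors_eq_zero I hI b (2 * d) e c e (2 * f) hxI hyI
  obtain ⟨n1, n2, n3⟩ := minors_eq_zero I hI (2 * a) b c b (2 * d) e hrI hxI
  obtain ⟨k1, k2, k3⟩ := minors_eq_zero I hI (2 * a) b c c e (2 * f) hrI hyI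
  by_cases h2 : (2 : κ) = 0
  · -- characteristic two
    have he : e = 0 := by
      have : e * e = 0 := by rw [← m1, h2]; ring
      exact mul_self_eq_zero.1 this
    have hb : b = 0 := by
      by_contra hb
      have hC : (C b : MvPolynomial (Fin 2) κ) ∈ I := by
        have := hxI
        rw [h2, zero_mul, he, C_0, zero_mul, zero_mul, add_zero, add_zero] at this
        exact this
      exact false_of_unit_mem I hI b hb hC
    have hc : c = 0 := by
      by_contra hc
      have hC : (C c : MvPolynomial (Fin 2) κ) ∈ I := by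
        have := hyI
        rw [h2, zero_mul, he, C_0, zero_mul, zero_mul, add_zero, add_zero] at this
        exact this
      exact false_of_unit_mem I hI c hc hC
    by_cases hdf : d = 0 ∧ f = 0
    · obtain ⟨hd, hf⟩ := hdf
      refine exists_sq_of_coeffs (j := a) (g := 1) (h := 0) (i := 0) ?_ ?_ ?_ ?_ ?_ ?_
      · ring
      · rw [hb]; ring
      · rw [hc]; ring
      · rw [hd]; ring
      · rw [he]; ring
      · rw [hf]; ring
    · let κ' := AlgebraicClosure κ
      obtain ⟨α, hα⟩ := IsAlgClosed.exists_pow_nat_eq (algebraMap κ κ' a) (by norm_num : 0 < 2)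
      obtain ⟨δ, hδ⟩ := IsAlgClosed.exists_pow_nat_eq (algebraMap κ κ' d) (by norm_num : 0 < 2)
      obtain ⟨φ, hφ⟩ := IsAlgClosed.exists_pow_nat_eq (algebraMap κ κ' f) (by norm_num : 0 < 2)
      have h2' : (2 : κ') = 0 := by
        rw [← map_ofNat (algebraMap κ κ') 2, h2, map_zero]
      have h2p : (2 : MvPolynomial (Fin 2) κ') = 0 := by
        rw [← map_ofNat (C : κ' →+* MvPolynomial (Fin 2) κ') 2, h2', C_0]
      have hinj : Function.Injective (algebraMap κ κ') := (algebraMap κ κ').injective
      set I' : Ideal (MvPolynomial (Fin 2) κ') := I.map (map (algebraMap κ κ')) with hI'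
      have hsq : (C α + C δ * X 0 + C φ * X 1 : MvPolynomial (Fin 2) κ') ^ 2 ∈ I' ^ 2 := by
        have e1 : (C α + C δ * X 0 + C φ * X 1 : MvPolynomial (Fin 2) κ') ^ 2 =
            map (algebraMap κ κ') q := by
          rw [hq, hb, hc, he]
          simp only [map_add, map_mul, map_pow, map_C, map_X, map_zero, zero_mul, add_zero]
          rw [← hα, ← hδ, ← hφ]
          simp only [map_pow]
          linear_combination
            (C α * (C δ * X 0) + C α * (C φ * X 1) + C δ * X 0 * (C φ * X 1)) * h2p
        rw [e1, hI', ← Ideal.map_pow]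
        exact Ideal.mem_map_of_mem _ hmem
      have hδφ : δ ≠ 0 ∨ φ ≠ 0 := by
        by_contra hcon
        push Not at hcon
        apply hdf
        constructor
        · apply hinj
          rw [← hδ, hcon.1, map_zero]; ring
        · apply hinj
          rw [← hφ, hcon.2, map_zero]; ring
      have hlam := affine_mem_of_sq_mem_sq α δ φ hδφ I' hsq
      have hθ : ∀ θ : κ' →ₗ[κ] κ,
          (C (θ α) + C (θ δ) * X 0 + C (θ φ) * X 1 : MvPolynomial (Fin 2) κ) ∈ I := by
        intro θ
        rw [← coeffMap_affine]
        exact coeffMap_mem θ I _ hlam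
      have hmin := fun θ₁ θ₂ : κ' →ₗ[κ] κ =>
        minors_eq_zero I hI (θ₁ α) (θ₁ δ) (θ₁ φ) (θ₂ α) (θ₂ δ) (θ₂ φ) (hθ θ₁) (hθ θ₂)
      by_cases hd : d = 0
      · have hφ0 : φ ≠ 0 := by
          rcases hδφ with h | h
          · exfalso
            apply h
            have : δ ^ 2 = 0 := by rw [hδ, hd, map_zero]
            exact (pow_eq_zero_iff two_ne_zero).1 this
          · exact h
        obtain ⟨g, hg⟩ := exists_smul_eq α φ hφ0 (fun θ₁ θ₂ => (hmin θ₁ θ₂).2.2)
        have ha' : a = f * g ^ 2 := by
          apply hinj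
          rw [← hα, hg, Algebra.smul_def, mul_pow, hφ, map_mul, map_pow]
          ring
        refine exists_sq_of_coeffs (j := f) (g := g) (h := 0) (i := 1) ?_ ?_ ?_ ?_ ?_ ?_
        · exact ha'
        · rw [hb]; ring
        · rw [hc, h2]; ring
        · rw [hd]; ring
        · rw [he]; ring
        · ring
      · have hδ0 : δ ≠ 0 := by
          intro h0
          apply hd
          apply hinj
          rw [← hδ, h0, map_zero]; ring
        obtain ⟨g, hg⟩ := exists_smul_eq α δ hδ0 (fun θ₁ θ₂ => (hmin θ₁ θ₂).2.1)
        obtain ⟨i, hi⟩ := exists_smul_eq φ δ hδ0 (fun θ₁ θ₂ => ((hmin θ₁ θ₂).1).symm)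
        have ha' : a = d * g ^ 2 := by
          apply hinj
          rw [← hα, hg, Algebra.smul_def, mul_pow, hδ, map_mul, map_pow]
          ring
        have hf' : f = d * i ^ 2 := by
          apply hinj
          rw [← hφ, hi, Algebra.smul_def, mul_pow, hδ, map_mul, map_pow]
          ring
        refine exists_sq_of_coeffs (j := d) (g := g) (h := 1) (i := i) ?_ ?_ ?_ ?_ ?_ ?_
        · exact ha'
        · rw [hb, h2]; ring
        · rw [hc, h2]; ring
        · ring
        · rw [he, h2]; ring
        · exact hf'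
  · -- characteristic different from two
    have h4 : (4 : κ) ≠ 0 := by
      have : (4 : κ) = 2 * 2 := by norm_num
      rw [this]; exact mul_ne_zero h2 h2
    by_cases ha : a = 0
    · by_cases hd : d = 0
      · by_cases hf : f = 0
        · exfalso
          subst ha hd hf
          have hb : b = 0 := by
            have : b * b = 0 := by rw [← n2]; ring
            exact mul_self_eq_zero.1 this
          have hc : c = 0 := by
            have : c * c = 0 := by rw [← k3]; ring
            exact mul_self_eq_zero.1 this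
          have he : e = 0 := by
            have : e * e = 0 := by rw [← m1]; ring
            exact mul_self_eq_zero.1 this
          subst hb hc he
          exact hne rfl
        · refine exists_sq_of_coeffs' (t := 4 * f) (g := c) (h := e) (i := 2 * f)
            (mul_ne_zero h4 hf) ?_ ?_ ?_ ?_ ?_ ?_
          · linear_combination k3
          · linear_combination 2 * m3
          · ring
          · linear_combination m1
          · ring
          · ring
      · refine exists_sq_of_coeffs' (t := 4 * d) (g := b) (h := 2 * d) (i := e)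
          (mul_ne_zero h4 hd) ?_ ?_ ?_ ?_ ?_ ?_
        · linear_combination n2
        · ring
        · linear_combination (-2 : κ) * m2
        · ring
        · ring
        · linear_combination m1
    · refine exists_sq_of_coeffs' (t := 4 * a) (g := 2 * a) (h := b) (i := c)
        (mul_ne_zero h4 ha) ?_ ?_ ?_ ?_ ?_ ?_
      · ring
      · ring
      · ring
      · linear_combination n2
      · linear_combination 2 * k2
      · linear_combination k3

end Groth.Agent.Lib.Helper21.QuadSq
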