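import Mathlib

/-!
# Modules that are retracts of finite projective modules up to a scalar

For a `B`-module `F` we consider the ideal of those `s : B` for which there are a finite projective
module `P` and maps `α : F → P`, `β : P → F` with `β ∘ α = s`.  It is not contained in a prime `q`
at which `F` is free (`F` finitely presented); it is compatible with base change; and for `s` in it
the evaluation map `F → F**` is invertible up to `s`.
-/

set_option autoImplicit false
set_option linter.unusedSectionVars false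
universe u

namespace Groth.Agent.Lib.Helper21.RetractUpTo

open TensorProduct

section Def
variable {B : Type u} [CommRing B] (F : Type u) [AddCommGroup F] [Module B F]

/-- `F` is a retract, up to multiplication by `s`, of a finite projective module. -/
def IsRetractUpTo (s : B) : Prop :=
  ∃ (P : Type u) (_ : AddCommGroup P) (_ : Module B P), Module.Finite B P ∧ Module.Projective B P ∧
    ∃ (α : F →ₗ[B] P) (β : P →ₗ[B] F), β ∘ₗ α = s • LinearMap.id

/-- the ideal of all `s` such that `F` is a retract up to `s` of a finite projective module. -/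
def retractIdeal : Ideal B where
  carrier := {s | IsRetractUpTo F s}
  add_mem' := by
    rintro s₁ s₂ ⟨P₁, _, _, hf₁, hp₁, α₁, β₁, h₁⟩ ⟨P₂, _, _, hf₂, hp₂, α₂, β₂, h₂⟩
    refine ⟨P₁ × P₂, inferInstance, inferInstance, inferInstance, inferInstance,
      α₁.prod α₂, β₁.coprod β₂, ?_⟩
    rw [LinearMap.coprod_comp_prod, h₁, h₂, add_smul]
  zero_mem' := ⟨PUnit, inferInstance, inferInstance, inferInstance, inferInstance, 0, 0, by simp⟩
  smul_mem' := by
    rintro c s ⟨P, _, _, hf, hp, α, β, h⟩
    refine ⟨P, inferInstance, inferInstance, hf, hp, c • α, β, ?_⟩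
    rw [LinearMap.comp_smul, h, smul_smul, smul_eq_mul]

theorem mem_retractIdeal {s : B} : s ∈ retractIdeal F ↔ IsRetractUpTo F s := Iff.rfl

end Def

section Loc
variable {B : Type u} [CommRing B] [IsNoetherianRing B] (F : Type u) [AddCommGroup F] [Module B F]
  [Module.Finite B F]

/-- at a prime where `F` is free, `F` is a retract of a finite free module up to some `s ∉ q`. -/
theorem exists_notMem_isRetractUpTo (q : Ideal B) [q.IsPrime]
    [Module.Free (Localization.AtPrime q) (LocalizedModule q.primeCompl F)] :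
    ∃ s ∉ q, IsRetractUpTo F s := by
  classical
  set S := q.primeCompl with hS
  let Rq := Localization.AtPrime q
  let Fq := LocalizedModule S F
  let mkF : F →ₗ[B] Fq := LocalizedModule.mkLinearMap S F
  haveI : Module.FinitePresentation B F := Module.finitePresentation_of_finite B F
  haveI : Module.Finite Rq Fq := inferInstance
  let ι := Module.Free.ChooseBasisIndex Rq Fq
  let b : Module.Basis ι Rq Fq := Module.Free.chooseBasis Rq Fq
  haveI : Fintype ι := Module.Free.ChooseBasisIndex.fintype Rq Fq
  let e : Fq ≃ₗ[Rq] (ι → Rq) := b.equivFun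
  let mkP : (ι → B) →ₗ[B] (ι → Rq) :=
    LinearMap.pi fun i => (Algebra.linearMap B Rq) ∘ₗ LinearMap.proj i
  haveI : IsLocalizedModule S mkP := inferInstance
  let g₁ : F →ₗ[B] (ι → Rq) := (e.toLinearMap.restrictScalars B) ∘ₗ mkF
  let g₂ : (ι → B) →ₗ[B] Fq := (e.symm.toLinearMap.restrictScalars B) ∘ₗ mkP
  obtain ⟨α, s₁, hα⟩ := Module.FinitePresentation.exists_lift_of_isLocalizedModule S mkP g₁
  obtain ⟨β, s₂, hβ⟩ := Module.FinitePresentation.exists_lift_of_isLocalizedModule S mkF g₂
  have hcomp : mkF ∘ₗ (β ∘ₗ α) = mkF ∘ₗ (((s₁ : B) * (s₂ : B)) • LinearMap.id) := by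
    ext x
    have h1 : mkF (β (α x)) = s₂ • g₂ (α x) := LinearMap.congr_fun hβ (α x)
    have h2 : mkP (α x) = s₁ • g₁ x := LinearMap.congr_fun hα x
    show mkF (β (α x)) = mkF (((s₁ : B) * (s₂ : B)) • x)
    rw [h1, Submonoid.smul_def]
    show (s₂ : B) • e.symm (mkP (α x)) = _
    rw [h2, Submonoid.smul_def]
    show (s₂ : B) • e.symm ((s₁ : B) • e (mkF x)) = _
    rw [← algebraMap_smul Rq (s₁ : B) (e (mkF x)), map_smul, LinearEquiv.symm_apply_apply,
      algebraMap_smul, smul_smul, map_smul, mul_comm]
  obtain ⟨s₃, hs₃⟩ := Module.Finite.exists_smul_of_comp_eq_of_isLocalizedModule S mkF _ _ hcomp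
  refine ⟨(s₃ : B) * ((s₁ : B) * (s₂ : B)), ?_, (ι → B), inferInstance, inferInstance,
    inferInstance, inferInstance, α, (s₃ : B) • β, ?_⟩
  · exact (S.mul_mem s₃.2 (S.mul_mem s₁.2 s₂.2))
  · have := hs₃
    rw [LinearMap.smul_comp, mul_smul]
    exact hs₃

theorem retractIdeal_not_le (q : Ideal B) [q.IsPrime]
    [Module.Free (Localization.AtPrime q) (LocalizedModule q.primeCompl F)] :
    ¬ retractIdeal F ≤ q := by
  obtain ⟨s, hs, h⟩ := exists_notMem_isRetractUpTo F q
  exact fun hle => hs (hle h)

/-- if `F` is free at all primes not containing `J`, a power of `J` lies in the retract ideal. -/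
theorem exists_pow_le_retractIdeal (J : Ideal B)
    (h : ∀ q : PrimeSpectrum B, ¬ J ≤ q.asIdeal →
      Module.Free (Localization.AtPrime q.asIdeal) (LocalizedModule q.asIdeal.primeCompl F)) :
    ∃ n : ℕ, J ^ n ≤ retractIdeal F := by
  have hrad : J ≤ (retractIdeal F).radical := by
    rw [Ideal.radical_eq_sInf]
    intro x hx
    rw [Ideal.mem_sInf]
    rintro q ⟨hcq, hq⟩
    by_contra hxq
    have hJq : ¬ J ≤ q := fun hle => hxq (hle hx)
    haveI := hq
    haveI := h ⟨q, hq⟩ hJq
    exact retractIdeal_not_le F q hcq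
  exact Ideal.exists_pow_le_of_le_radical_of_fg hrad (IsNoetherian.noetherian J)

end Loc

section BaseChange
variable {B : Type u} [CommRing B] (B' : Type u) [CommRing B'] [Algebra B B']
  (F : Type u) [AddCommGroup F] [Module B F]

theorem isRetractUpTo_baseChange {s : B} (h : IsRetractUpTo F s) :
    IsRetractUpTo (B' ⊗[B] F) (algebraMap B B' s) := by
  obtain ⟨P, _, _, hf, hp, α, β, hαβ⟩ := h
  refine ⟨B' ⊗[B] P, inferInstance, inferInstance, inferInstance, inferInstance,
    α.baseChange B', β.baseChange B', ?_⟩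
  rw [← LinearMap.baseChange_comp, hαβ]
  ext x
  simp [Algebra.smul_def, TensorProduct.smul_tmul']

theorem map_retractIdeal_le :
    (retractIdeal F).map (algebraMap B B') ≤ retractIdeal (B' ⊗[B] F) := by
  rw [Ideal.map_le_iff_le_comap]
  intro s hs
  exact isRetractUpTo_baseChange B' F hs

end BaseChange

section Eval
variable {B : Type u} [CommRing B] (F : Type u) [AddCommGroup F] [Module B F]

/-- for `s` in the retract ideal, the evaluation map `F → F**` is invertible up to `s`. -/
theorem exists_quasiInverse_eval {s : B} (h : IsRetractUpTo F s) :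
    ∃ μ : Module.Dual B (Module.Dual B F) →ₗ[B] F,
      μ ∘ₗ Module.Dual.eval B F = s • LinearMap.id ∧
      Module.Dual.eval B F ∘ₗ μ = s • LinearMap.id := by
  obtain ⟨P, _, _, hf, hp, α, β, hαβ⟩ := h
  haveI := hf
  haveI := hp
  have nat : ∀ {X Y : Type u} [AddCommGroup X] [Module B X] [AddCommGroup Y] [Module B Y]
      (γ : X →ₗ[B] Y), γ.dualMap.dualMap ∘ₗ Module.Dual.eval B X = Module.Dual.eval B Y ∘ₗ γ := by
    intro X Y _ _ _ _ γ
    ext x f
    rfl
  have hβα : ∀ x, β (α x) = s • x := fun x => LinearMap.congr_fun hαβ x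
  refine ⟨β ∘ₗ (Module.evalEquiv B P).symm.toLinearMap ∘ₗ α.dualMap.dualMap, ?_, ?_⟩
  · ext x
    show β ((Module.evalEquiv B P).symm (α.dualMap.dualMap (Module.Dual.eval B F x))) = s • x
    have h1 : α.dualMap.dualMap (Module.Dual.eval B F x) = Module.evalEquiv B P (α x) := by
      ext f
      rfl
    rw [h1, LinearEquiv.symm_apply_apply, hβα]
  · ext c f
    set w := (Module.evalEquiv B P).symm (α.dualMap.dualMap c) with hw
    show f (β w) = (s • c) f
    have h1 : Module.evalEquiv B P w = α.dualMap.dualMap c := by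
      rw [hw, LinearEquiv.apply_symm_apply]
    have h2 : f (β w) = (Module.evalEquiv B P w) (β.dualMap f) := rfl
    rw [h2, h1]
    show c (α.dualMap (β.dualMap f)) = s • c f
    have h3 : α.dualMap (β.dualMap f) = s • f := by
      ext x
      show f (β (α x)) = s • f x
      rw [hβα, map_smul]
    rw [h3, map_smul]

end Eval

end Groth.Agent.Lib.Helper21.RetractUpTo
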