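import Mathlib
import Groth.Agent.S18726
import Groth.Agent.S18702
import Groth.Agent.Lib.Helper21.RetractUpTo

/-!
# Linear maps invertible up to the elements of an ideal

`quasiInvIdeal ψ` is the ideal of all `s` such that `ψ` has a two-sided inverse up to `s`.  If it
contains a power of `I`, source has `I`-depth `≥ 2` and target `I`-depth `≥ 1`, then `ψ` is
bijective.
-/

set_option autoImplicit false
set_option linter.unusedSectionVars false
universe u

namespace Groth.Agent.Lib.Helper21.QuasiInv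

open TensorProduct Groth.Agent.Lib.Helper21.RetractUpTo

section Def
variable {R : Type u} [CommRing R] {X Y : Type u} [AddCommGroup X] [Module R X]
  [AddCommGroup Y] [Module R Y]

/-- the ideal of all `s` such that `ψ` has an inverse up to `s`. -/
def quasiInvIdeal (ψ : X →ₗ[R] Y) : Ideal R where
  carrier := {s | ∃ μ : Y →ₗ[R] X, μ ∘ₗ ψ = s • LinearMap.id ∧ ψ ∘ₗ μ = s • LinearMap.id}
  add_mem' := by
    rintro s₁ s₂ ⟨μ₁, h₁, h₁'⟩ ⟨μ₂, h₂, h₂'⟩
    refine ⟨μ₁ + μ₂, ?_, ?_⟩
    · rw [LinearMap.add_comp, h₁, h₂, add_smul]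
    · rw [LinearMap.comp_add, h₁', h₂', add_smul]
  zero_mem' := ⟨0, by simp, by simp⟩
  smul_mem' := by
    rintro c s ⟨μ, h, h'⟩
    refine ⟨c • μ, ?_, ?_⟩
    · rw [LinearMap.smul_comp, h, smul_smul, smul_eq_mul]
    · rw [LinearMap.comp_smul, h', smul_smul, smul_eq_mul]

theorem mem_quasiInvIdeal {ψ : X →ₗ[R] Y} {s : R} : s ∈ quasiInvIdeal ψ ↔
    ∃ μ : Y →ₗ[R] X, μ ∘ₗ ψ = s • LinearMap.id ∧ ψ ∘ₗ μ = s • LinearMap.id := Iff.rfl

theorem quasiInvIdeal_le_dualMap (ψ : X →ₗ[R] Y) : quasiInvIdeal ψ ≤ quasiInvIdeal ψ.dualMap := by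
  rintro s ⟨μ, h, h'⟩
  refine ⟨μ.dualMap, ?_, ?_⟩
  · rw [LinearMap.dualMap_comp_dualMap, h']
    ext f x
    simp
  · rw [LinearMap.dualMap_comp_dualMap, h]
    ext f x
    simp

theorem map_quasiInvIdeal_le_baseChange (R' : Type u) [CommRing R'] [Algebra R R']
    (ψ : X →ₗ[R] Y) :
    (quasiInvIdeal ψ).map (algebraMap R R') ≤ quasiInvIdeal (ψ.baseChange R') := by
  rw [Ideal.map_le_iff_le_comap]
  rintro s ⟨μ, h, h'⟩
  refine ⟨μ.baseChange R', ?_, ?_⟩
  · rw [← LinearMap.baseChange_comp, h]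
    ext x
    simp [Algebra.smul_def, TensorProduct.smul_tmul']
  · rw [← LinearMap.baseChange_comp, h']
    ext x
    simp [Algebra.smul_def, TensorProduct.smul_tmul']

theorem retractIdeal_le_quasiInvIdeal_eval (F : Type u) [AddCommGroup F] [Module R F] :
    retractIdeal F ≤ quasiInvIdeal (Module.Dual.eval R F) := by
  intro s hs
  exact exists_quasiInverse_eval F hs

end Def

section Bij
variable {R : Type u} [CommRing R] [IsNoetherianRing R] {X Y : Type u} [AddCommGroup X] [Module R X]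
  [AddCommGroup Y] [Module R Y] [Module.Finite R X] [Module.Finite R Y]

/-- a map invertible up to `I ^ n` from a module of `I`-depth `≥ 2` to one of `I`-depth `≥ 1` is
bijective. -/
theorem bijective_of_pow_le_quasiInvIdeal (ψ : X →ₗ[R] Y) (I : Ideal R) (n : ℕ)
    (h : I ^ n ≤ quasiInvIdeal ψ) (hX : 2 ≤ LocCoh.idealDepth I X)
    (hY : 1 ≤ LocCoh.idealDepth I Y) : Function.Bijective ψ := by
  have hX1 : 1 ≤ LocCoh.idealDepth I X := le_trans (by norm_num) hX
  have hinj : Function.Injective ψ := by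
    rw [injective_iff_map_eq_zero]
    intro x hx
    apply Groth.Agent.S18708.eq_zero_of_pow_smul_eq_zero I hX1 x n
    intro a ha
    obtain ⟨μ, hμ, -⟩ := h ha
    have := LinearMap.congr_fun hμ x
    simp only [LinearMap.comp_apply, LinearMap.smul_apply, LinearMap.id_apply] at this
    rw [← this, hx, map_zero]
  refine ⟨hinj, ?_⟩
  have hcast1 : (1 : ℕ∞) = ((1 : ℕ) : ℕ∞) := rfl
  have hcast2 : (2 : ℕ∞) = ((2 : ℕ) : ℕ∞) := rfl
  rw [hcast2, Groth.Agent.Lib.Helper2.HZDepth1.le_idealDepth_iff] at hX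
  rw [hcast1, Groth.Agent.Lib.Helper2.HZDepth1.le_idealDepth_iff] at hY
  have hC : Subsingleton (LocCoh.H I 0 (Y ⧸ LinearMap.range ψ)) :=
    Groth.Agent.S18726.subsingleton_H_of_ses I ψ (LinearMap.range ψ).mkQ hinj
      (Submodule.mkQ_surjective _) (LinearMap.exact_map_mkQ_range ψ) 0 (hY 0 (by norm_num))
      (hX 1 (by norm_num))
  have htors : LocCoh.IsPowerTorsion I (Y ⧸ LinearMap.range ψ) := by
    intro c
    obtain ⟨y, rfl⟩ := Submodule.Quotient.mk_surjective _ c
    refine ⟨n, fun a ha => ?_⟩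
    obtain ⟨μ, -, hμ⟩ := h ha
    have := LinearMap.congr_fun hμ y
    simp only [LinearMap.comp_apply, LinearMap.smul_apply, LinearMap.id_apply] at this
    rw [← Submodule.Quotient.mk_smul, Submodule.Quotient.mk_eq_zero, ← this]
    exact ⟨_, rfl⟩
  obtain ⟨e⟩ := (Groth.Agent.S0323.result R I _ htors).1
  haveI : Subsingleton (Y ⧸ LinearMap.range ψ) := e.symm.toEquiv.subsingleton
  rw [← LinearMap.range_eq_top]
  exact Submodule.Quotient.subsingleton_iff.1 inferInstance

/-- if the evaluation map of `G` is invertible up to `I ^ n`, `depth_I G ≥ 2` and `depth_I R ≥ 1`,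
then `G` is reflexive. -/
theorem isReflexive_of_pow_le (G : Type u) [AddCommGroup G] [Module R G] [Module.Finite R G]
    (I : Ideal R) (n : ℕ) (h : I ^ n ≤ quasiInvIdeal (Module.Dual.eval R G))
    (hG : 2 ≤ LocCoh.idealDepth I G) (hR : 1 ≤ LocCoh.idealDepth I R) : Module.IsReflexive R G := by
  haveI : Module.Finite R (Module.Dual R G) := Groth.Agent.S6876.finite_hom
  haveI : Module.Finite R (Module.Dual R (Module.Dual R G)) := Groth.Agent.S6876.finite_hom
  have hcast1 : (1 : ℕ∞) = ((1 : ℕ) : ℕ∞) := rfl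
  have hY : 1 ≤ LocCoh.idealDepth I (Module.Dual R (Module.Dual R G)) := by
    rw [hcast1]
    exact Groth.Agent.S18702.le_idealDepth_hom I 1 (by norm_num) (by rw [← hcast1]; exact hR)
  exact ⟨bijective_of_pow_le_quasiInvIdeal _ I n h hG hY⟩

end Bij

end Groth.Agent.Lib.Helper21.QuasiInv
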