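import Mathlib

set_option autoImplicit false
universe u

namespace Groth.Agent.Lib.Helper21.RdBC

open TensorProduct Algebra.TensorProduct

section Paste

/-- pasting of pushout squares: abstract form. -/
theorem isPushout_paste (A A' B B' K K' S S' : Type u)
    [CommRing A] [CommRing A'] [CommRing B] [CommRing B'] [CommRing K] [CommRing K']
    [CommRing S] [CommRing S']
    [Algebra A A'] [Algebra A B] [Algebra A' B'] [Algebra B B'] [Algebra A B']
    [IsScalarTower A A' B'] [IsScalarTower A B B'] [Algebra.IsPushout A A' B B']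
    [Algebra A K] [Algebra A' K'] [Algebra K K'] [Algebra A K'] [IsScalarTower A K K']
    [IsScalarTower A A' K']
    [Algebra K S] [Algebra B S] [Algebra A S] [IsScalarTower A K S] [IsScalarTower A B S]
    [Algebra.IsPushout A K B S]
    [Algebra K' S'] [Algebra B' S'] [Algebra A' S'] [IsScalarTower A' K' S']
    [IsScalarTower A' B' S'] [Algebra.IsPushout A' K' B' S']
    [Algebra S S'] [Algebra A S'] [Algebra K S'] [Algebra B S']
    [IsScalarTower A K' S'] [IsScalarTower A B S'] [IsScalarTower A B' S'] [IsScalarTower B B' S']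
    [IsScalarTower K K' S'] [IsScalarTower K S S'] [IsScalarTower A S S'] [IsScalarTower B S S'] :
    Algebra.IsPushout K K' S S' := by
  have h1 : Algebra.IsPushout A K' B S' :=
    (Algebra.IsPushout.comp_iff A A' B B' (T := K') (T' := S')).2 inferInstance
  exact (Algebra.IsPushout.comp_iff A K B S (T := K') (T' := S')).1 h1

end Paste


section Concrete

variable (A A' B B' K K' : Type u)
    [CommRing A] [CommRing A'] [CommRing B] [CommRing B'] [CommRing K] [CommRing K']
    [Algebra A A'] [Algebra A B] [Algebra A' B'] [Algebra B B'] [Algebra A B']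
    [IsScalarTower A A' B'] [IsScalarTower A B B']
    [Algebra A K] [Algebra A' K'] [Algebra K K'] [Algebra A K'] [IsScalarTower A K K']
    [IsScalarTower A A' K']

attribute [local instance] Algebra.TensorProduct.rightAlgebra

theorem tower_A_B'_S' : IsScalarTower A B' (K' ⊗[A'] B') :=
  IsScalarTower.of_algebraMap_eq fun a => by
    rw [IsScalarTower.algebraMap_apply A A' (K' ⊗[A'] B'),
      IsScalarTower.algebraMap_apply A A' B',
      ← IsScalarTower.algebraMap_apply A' B' (K' ⊗[A'] B')]

/-- the map of fibre algebras `K ⊗[A] B → K' ⊗[A'] B'`. -/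
noncomputable def fibHom : K ⊗[A] B →ₐ[A] K' ⊗[A'] B' :=
  haveI := tower_A_B'_S' A A' B' K'
  Algebra.TensorProduct.lift
    ((IsScalarTower.toAlgHom A K' (K' ⊗[A'] B')).comp (IsScalarTower.toAlgHom A K K'))
    ((IsScalarTower.toAlgHom A B' (K' ⊗[A'] B')).comp (IsScalarTower.toAlgHom A B B'))
    (fun _ _ => Commute.all _ _)

theorem fibHom_tmul (x : K) (b : B) :
    fibHom A A' B B' K K' (x ⊗ₜ b) = (algebraMap K K' x) ⊗ₜ (algebraMap B B' b) := by
  haveI := tower_A_B'_S' A A' B' K'
  unfold fibHom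
  rw [Algebra.TensorProduct.lift_tmul]
  simp only [AlgHom.comp_apply, IsScalarTower.coe_toAlgHom']
  rw [Algebra.TensorProduct.algebraMap_apply]
  show ((algebraMap K' K') ((algebraMap K K') x) ⊗ₜ[A'] (1 : B')) * ((1 : K') ⊗ₜ[A'] algebraMap B B' b) = _
  rw [Algebra.TensorProduct.tmul_mul_tmul, mul_one, one_mul]
  rfl

/-- `K' ⊗[A'] B'` as an algebra over `K ⊗[A] B`. -/
noncomputable abbrev fibAlgebra : Algebra (K ⊗[A] B) (K' ⊗[A'] B') :=
  (fibHom A A' B B' K K').toRingHom.toAlgebra

/-- `K' ⊗[A'] B'` as an algebra over `B`. -/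
noncomputable abbrev fibAlgebraB : Algebra B (K' ⊗[A'] B') :=
  ((algebraMap B' (K' ⊗[A'] B')).comp (algebraMap B B')).toAlgebra

theorem tower_B_B'_S' :
    letI := fibAlgebraB A' B B' K'
    IsScalarTower B B' (K' ⊗[A'] B') :=
  letI := fibAlgebraB A' B B' K'
  IsScalarTower.of_algebraMap_eq fun _ => rfl

theorem tower_A_B_S' :
    letI := fibAlgebraB A' B B' K'
    IsScalarTower A B (K' ⊗[A'] B') := by
  letI := fibAlgebraB A' B B' K'
  haveI := tower_A_B'_S' A A' B' K'
  refine IsScalarTower.of_algebraMap_eq fun a => ?_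
  show _ = algebraMap B' (K' ⊗[A'] B') (algebraMap B B' (algebraMap A B a))
  rw [← IsScalarTower.algebraMap_apply A B B', ← IsScalarTower.algebraMap_apply A B' (K' ⊗[A'] B')]

theorem tower_K_S_S' :
    letI := fibAlgebra A A' B B' K K'
    IsScalarTower K (K ⊗[A] B) (K' ⊗[A'] B') := by
  letI := fibAlgebra A A' B B' K K'
  refine IsScalarTower.of_algebraMap_eq fun x => ?_
  show _ = fibHom A A' B B' K K' (algebraMap K (K ⊗[A] B) x)
  have h1 : algebraMap K (K ⊗[A] B) x = x ⊗ₜ 1 := rfl
  rw [h1, fibHom_tmul, map_one, IsScalarTower.algebraMap_apply K K' (K' ⊗[A'] B')]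
  rfl

theorem tower_A_S_S' :
    letI := fibAlgebra A A' B B' K K'
    IsScalarTower A (K ⊗[A] B) (K' ⊗[A'] B') := by
  letI := fibAlgebra A A' B B' K K'
  exact IsScalarTower.of_algebraMap_eq fun a => ((fibHom A A' B B' K K').commutes a).symm

theorem tower_B_S_S' :
    letI := fibAlgebra A A' B B' K K'
    letI := fibAlgebraB A' B B' K'
    IsScalarTower B (K ⊗[A] B) (K' ⊗[A'] B') := by
  letI := fibAlgebra A A' B B' K K'
  letI := fibAlgebraB A' B B' K'
  refine IsScalarTower.of_algebraMap_eq fun b => ?_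
  show algebraMap B' (K' ⊗[A'] B') (algebraMap B B' b) =
    fibHom A A' B B' K K' ((1 : K) ⊗ₜ b)
  rw [fibHom_tmul, map_one]
  rfl

/-- **the fibre algebras form a pushout square over the residue fields**. -/
theorem isPushout_fib [Algebra.IsPushout A A' B B'] :
    letI := fibAlgebra A A' B B' K K'
    haveI := tower_K_S_S' A A' B B' K K'
    Algebra.IsPushout K K' (K ⊗[A] B) (K' ⊗[A'] B') := by
  letI := fibAlgebra A A' B B' K K'
  letI := fibAlgebraB A' B B' K'
  haveI := tower_A_B'_S' A A' B' K'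
  haveI := tower_B_B'_S' A' B B' K'
  haveI := tower_A_B_S' A A' B B' K'
  haveI := tower_K_S_S' A A' B B' K K'
  haveI := tower_A_S_S' A A' B B' K K'
  haveI := tower_B_S_S' A A' B B' K K'
  exact isPushout_paste A A' B B' K K' (K ⊗[A] B) (K' ⊗[A'] B')

end Concrete

end Groth.Agent.Lib.Helper21.RdBC
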