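import Mathlib
import Groth.Agent.Lib.Helper21.RdBC2
import Groth.Agent.Lib.Helper21.RdBC3

set_option autoImplicit false
universe u

namespace Groth.Agent.Lib.Helper21.RdBC

open Groth.Agent.Lib.Helper21 Groth.Agent.Lib.Helper21.FlatLocal Groth.Agent.Lib.Helper21.MCop
open Groth.Agent.Lib.Helper21.CMFibKit
open TensorProduct IsLocalRing Module Algebra.TensorProduct

section DepthBC

variable (A A' B B' : Type u) [CommRing A] [CommRing A'] [CommRing B] [CommRing B']
  [Algebra A A'] [Algebra A B] [Algebra A' B'] [Algebra B B'] [Algebra A B']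
  [IsScalarTower A A' B'] [IsScalarTower A B B'] [Algebra.IsPushout A A' B B']
  [Algebra.FiniteType A B]
  (N : Type u) [AddCommGroup N] [Module B N] [Module.Finite B N]
  (N' : Type u) [AddCommGroup N'] [Module B' N'] [Module B N'] [IsScalarTower B B' N']
  (g : N →ₗ[B] N') (hg : IsBaseChange B' g)

attribute [local instance] Algebra.TensorProduct.rightAlgebra

set_option maxHeartbeats 1600000 in
set_option synthInstance.maxHeartbeats 200000 in
include hg in
/-- **base change of the fibre depth**: the depth and the dimension of the fibre local ring jump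
by the same amount. -/
theorem depth_bc (q' : Ideal B') [q'.IsPrime] :
    ∃ c : ℕ∞,
      LocCoh.depth (Localization.AtPrime q') (EGA4.FibLocMod A' B' q' N') =
        LocCoh.depth (Localization.AtPrime (q'.under B)) (EGA4.FibLocMod A B (q'.under B) N) + c ∧
      ringKrullDim (EGA4.FibLocRing A' B' q') =
        ringKrullDim (EGA4.FibLocRing A B (q'.under B)) + ((c : ℕ∞) : WithBot ℕ∞) := by
  set q := q'.under B with hq
  set p' := q'.under A' with hp'
  set p := q.under A with hp
  haveI h1 : q'.LiesOver p' := ⟨rfl⟩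
  haveI h2 : q.LiesOver p := ⟨rfl⟩
  haveI h3 : q'.LiesOver q := ⟨rfl⟩
  haveI h4 : p'.LiesOver p := ⟨by
    rw [hp, hq, hp', Ideal.under_under, Ideal.under_under]⟩
  letI := Localization.AtPrime.algebraOfLiesOver p p'
  -- the pushout square of fibre algebras
  letI := fibAlgebra A A' B B' p.ResidueField p'.ResidueField
  letI := fibAlgebraB A' B B' p'.ResidueField
  haveI := tower_A_B'_S' A A' B' p'.ResidueField
  haveI := tower_B_B'_S' A' B B' p'.ResidueField
  haveI := tower_A_B_S' A A' B B' p'.ResidueField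
  haveI := tower_K_S_S' A A' B B' p.ResidueField p'.ResidueField
  haveI := tower_A_S_S' A A' B B' p.ResidueField p'.ResidueField
  haveI := tower_B_S_S' A A' B B' p.ResidueField p'.ResidueField
  haveI hpo := isPushout_fib A A' B B' p.ResidueField p'.ResidueField
  obtain ⟨Q', hQ'prime, hQ'⟩ := exists_fiber_prime p' q' rfl
  haveI := hQ'prime
  set Q := Q'.under (p.Fiber B) with hQ
  haveI h5 : Q'.LiesOver q' := ⟨hQ'⟩
  haveI h6 : Q.LiesOver q := ⟨by
    ext x
    have e1 : algebraMap (p.Fiber B) (p'.Fiber B') (algebraMap B (p.Fiber B) x) =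
        algebraMap B' (p'.Fiber B') (algebraMap B B' x) := by
      rw [← IsScalarTower.algebraMap_apply B (p.Fiber B) (p'.Fiber B'),
        IsScalarTower.algebraMap_apply B B' (p'.Fiber B')]
    show algebraMap B B' x ∈ q' ↔
      algebraMap (p.Fiber B) (p'.Fiber B') (algebraMap B (p.Fiber B) x) ∈ Q'
    rw [e1]
    have e2 : algebraMap B B' x ∈ q' ↔ algebraMap B B' x ∈ Ideal.comap includeRight Q' := by
      rw [← hQ']
    rw [e2]
    rfl⟩
  -- Stage I on both sides
  have s1 := stageI p Q N q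
  have s2 := stageI p' Q' N' q'
  have d1 := stageI_dim p Q q
  have d2 := stageI_dim p' Q' q'
  -- the field level
  obtain ⟨c, hc1, hc2⟩ := field_bc p.ResidueField p'.ResidueField (p.Fiber B) (p'.Fiber B')
    (p.Fiber B ⊗[B] N) Q'
  refine ⟨c, ?_, ?_⟩
  · rw [s2.depth_eq, s1.depth_eq, ← hc1]
    -- the module isomorphism
    let e₁ : (p'.Fiber B') ⊗[p.Fiber B] ((p.Fiber B) ⊗[B] N) ≃ₗ[p'.Fiber B'] (p'.Fiber B') ⊗[B] N :=
      AlgebraTensorModule.cancelBaseChange B (p.Fiber B) (p'.Fiber B') (p'.Fiber B') N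
    let e₂ : (p'.Fiber B') ⊗[B'] (B' ⊗[B] N) ≃ₗ[p'.Fiber B'] (p'.Fiber B') ⊗[B] N :=
      AlgebraTensorModule.cancelBaseChange B B' (p'.Fiber B') (p'.Fiber B') N
    let e₃ : (p'.Fiber B') ⊗[B'] (B' ⊗[B] N) ≃ₗ[p'.Fiber B'] (p'.Fiber B') ⊗[B'] N' :=
      AlgebraTensorModule.congr (LinearEquiv.refl (p'.Fiber B') (p'.Fiber B')) hg.equiv
    exact depth_loc_congr ((e₃.symm.trans e₂).trans e₁.symm) Q'
  · rw [d2, d1, hc2]

end DepthBC

end Groth.Agent.Lib.Helper21.RdBC
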