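import Mathlib
import Groth.Agent.Lib.Helper21.RdBC4
import Groth.Agent.Lib.Helper21.MCopR2
import Groth.Agent.Lib.lead.FibreDimBCLocal

set_option autoImplicit false
universe u

namespace Groth.Agent.Lib.Helper21.RdBC

open Groth.Agent.Lib.Helper21 Groth.Agent.Lib.Helper21.FlatLocal Groth.Agent.Lib.Helper21.MCop
open Groth.Agent.Lib.Helper24.FibreDim Groth.Agent.Lib.lead
open AlgebraicGeometry CategoryTheory
open TensorProduct IsLocalRing Module

section FibDim

variable (R S : Type u) [CommRing R] [CommRing S] [Algebra R S] [Algebra.FiniteType R S]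

theorem fibDim_eq (p : PrimeSpectrum S) :
    fibDim R S p = ringKrullDim (EGA4.FibLocRing R S p.asIdeal) +
      ((tr (specMap R S) p : ℕ) : WithBot ℕ∞) := by
  obtain ⟨e⟩ := nonempty_fiberStalk_specMap_equiv R S p
  rw [← ringKrullDim_eq_of_ringEquiv e, FibreOrder.ringKrullDim_fiber_stalk]
  unfold fibDim
  rw [fibreDimAt_eq_tr_add_G, add_comm]
  rfl

end FibDim

section FibDimBC

variable (A A' B B' : Type u) [CommRing A] [CommRing A'] [CommRing B] [CommRing B']
  [Algebra A A'] [Algebra A B] [Algebra A' B'] [Algebra B B'] [Algebra A B']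
  [IsScalarTower A A' B'] [IsScalarTower A B B'] [Algebra.IsPushout A A' B B']
  [Algebra.FiniteType A B]

theorem fibDim_bc (q' : PrimeSpectrum B') :
    fibDim A' B' q' = fibDim A B ((specMap B B') q') := by
  have hpo := CommRingCat.isPushout_of_isPushout A A' B B'
  have hpb := isPullback_SpecMap_of_isPushout _ _ _ _ hpo
  exact FibreDimBCLocal.fibreDimAt_baseChange (specMap A B) (specMap A A') (specMap B B') (specMap A' B') hpb.flip q'

end FibDimBC


theorem finiteType_of_isPushout (A A' B B' : Type u) [CommRing A] [CommRing A'] [CommRing B]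
    [CommRing B'] [Algebra A A'] [Algebra A B] [Algebra A' B'] [Algebra B B'] [Algebra A B']
    [IsScalarTower A A' B'] [IsScalarTower A B B'] [Algebra.IsPushout A A' B B']
    [Algebra.FiniteType A B] : Algebra.FiniteType A' B' :=
  Algebra.FiniteType.equiv (inferInstance : Algebra.FiniteType A' (A' ⊗[A] B))
    (Algebra.IsPushout.equiv A A' B B')

section RdBC

variable (A A' B B' : Type u) [CommRing A] [CommRing A'] [CommRing B] [CommRing B']
  [Algebra A A'] [Algebra A B] [Algebra A' B'] [Algebra B B'] [Algebra A B']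
  [IsScalarTower A A' B'] [IsScalarTower A B B'] [Algebra.IsPushout A A' B B']
  [Algebra.FiniteType A B] [Algebra.FiniteType A' B']
  (N : Type u) [AddCommGroup N] [Module B N] [Module.Finite B N]
  (N' : Type u) [AddCommGroup N'] [Module B' N'] [Module B N'] [IsScalarTower B B' N']
  (g : N →ₗ[B] N') (hg : IsBaseChange B' g)

include hg in
/-- **the rectified depth of the fibre modules is invariant under base change**. -/
theorem rd_bc (q' : PrimeSpectrum B') :
    LocCoh.depth (Localization.AtPrime q'.asIdeal) (EGA4.FibLocMod A' B' q'.asIdeal N') +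
        (tr (specMap A' B') q' : ℕ∞) =
      LocCoh.depth (Localization.AtPrime (PrimeSpectrum.comap (algebraMap B B') q').asIdeal)
          (EGA4.FibLocMod A B (PrimeSpectrum.comap (algebraMap B B') q').asIdeal N) +
        (tr (specMap A B) (PrimeSpectrum.comap (algebraMap B B') q') : ℕ∞) := by
  set q : PrimeSpectrum B := PrimeSpectrum.comap (algebraMap B B') q' with hq
  obtain ⟨c, hc1, hc2⟩ : ∃ c : ℕ∞,
      LocCoh.depth (Localization.AtPrime q'.asIdeal) (EGA4.FibLocMod A' B' q'.asIdeal N') =
        LocCoh.depth (Localization.AtPrime q.asIdeal) (EGA4.FibLocMod A B q.asIdeal N) + c ∧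
      ringKrullDim (EGA4.FibLocRing A' B' q'.asIdeal) =
        ringKrullDim (EGA4.FibLocRing A B q.asIdeal) + ((c : ℕ∞) : WithBot ℕ∞) :=
    depth_bc A A' B B' N N' g hg q'.asIdeal
  have h1 := fibDim_eq A' B' q'
  have h2 := fibDim_eq A B q
  have h3 : fibDim A' B' q' = fibDim A B q := fibDim_bc A A' B B' q'
  rw [h1, h2, hc2] at h3
  haveI := isNoetherianRing_fibLocRing A B q.asIdeal
  obtain ⟨a, ha⟩ := DepthKit.exists_nat_supportDim (A := EGA4.FibLocRing A B q.asIdeal)
    (M := EGA4.FibLocRing A B q.asIdeal)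
  rw [Module.supportDim_self_eq_ringKrullDim] at ha
  rw [ha] at h3
  have h4 : ((a : ℕ∞) + c + (tr (specMap A' B') q' : ℕ∞) : ℕ∞) =
      (a : ℕ∞) + (tr (specMap A B) q : ℕ∞) := by
    exact_mod_cast h3
  have h5 : c + (tr (specMap A' B') q' : ℕ∞) = (tr (specMap A B) q : ℕ∞) := by
    rw [add_assoc] at h4
    exact (ENat.add_right_injective_of_ne_top (ENat.coe_ne_top a)) h4
  rw [hc1, add_assoc, h5]

end RdBC

end Groth.Agent.Lib.Helper21.RdBC
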