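import Mathlib
import Groth.Agent.Lib.Helper21.RdBC6
import Groth.Agent.Lib.Helper21.FlatLocal14

/-!
# Base change of fibre depth, in the form used in the statements
-/

set_option autoImplicit false
set_option linter.unusedSectionVars false
universe u

namespace Groth.Agent.Lib.Helper21.RdBC

open Groth.Agent.Lib.Helper21 Groth.Agent.Lib.Helper21.FlatLocal
open TensorProduct IsLocalRing Module

section Self
variable {A B : Type u} [CommRing A] [CommRing B] [Algebra A B] (q : Ideal B) [q.IsPrime]

/-- the depth of the fibre local ring over itself is the depth of the fibre stalk of `B`. -/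
theorem idealDepth_fibLocRing_self :
    LocCoh.idealDepth (q.map (algebraMap B (EGA4.FibLocRing A B q))) (EGA4.FibLocRing A B q) =
      LocCoh.depth (Localization.AtPrime q) (EGA4.FibLocMod A B q B) := by
  rw [map_fibLocRing_eq (A := A) q,
    ← DepthKit.idealDepth_map_of_surjective (R := Localization.AtPrime q)
      (S := EGA4.FibLocRing A B q) (EGA4.FibLocRing A B q)
      Ideal.Quotient.mk_surjective (IsLocalRing.maximalIdeal (Localization.AtPrime q))]
  have e := localizedSelfQuotEquiv q
    ((q.comap (algebraMap A B)).map (algebraMap A (Localization.AtPrime q)))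
  unfold LocCoh.depth
  rw [DepthKit.idealDepth_congr _ e]

end Self

section BC

variable (A B : Type u) [CommRing A] [CommRing B] [IsNoetherianRing B] [Algebra A B]
    (A' B' : Type u) [CommRing A'] [CommRing B'] [IsNoetherianRing B']
    [Algebra A A'] [Algebra B B'] [Algebra A' B'] [Algebra A B'] [IsScalarTower A B B']
    [IsScalarTower A A' B'] [Algebra.IsPushout A B A' B']
  (N : Type u) [AddCommGroup N] [Module B N] [Module.Finite B N]
  (N' : Type u) [AddCommGroup N'] [Module B' N'] [Module B N'] [IsScalarTower B B' N']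
  (g : N →ₗ[B] N') (hg : IsBaseChange B' g)

include hg in
theorem fibre_idealDepth_bc (q' : Ideal B') [q'.IsPrime] :
    LocCoh.idealDepth ((q'.under B).map (algebraMap B (EGA4.FibLocRing A B (q'.under B))))
        (EGA4.FibLocMod A B (q'.under B) N) ≤
      LocCoh.idealDepth (q'.map (algebraMap B' (EGA4.FibLocRing A' B' q')))
        (EGA4.FibLocMod A' B' q' N') := by
  haveI : Algebra.IsPushout A A' B B' := Algebra.IsPushout.symm inferInstance
  rw [idealDepth_fibLocMod, idealDepth_fibLocMod]
  exact depth_le_depth_bc A A' B B' N N' g hg q'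

theorem fibre_idealDepth_self_bc (q' : Ideal B') [q'.IsPrime] :
    LocCoh.idealDepth ((q'.under B).map (algebraMap B (EGA4.FibLocRing A B (q'.under B))))
        (EGA4.FibLocRing A B (q'.under B)) ≤
      LocCoh.idealDepth (q'.map (algebraMap B' (EGA4.FibLocRing A' B' q')))
        (EGA4.FibLocRing A' B' q') := by
  haveI : Algebra.IsPushout A A' B B' := Algebra.IsPushout.symm inferInstance
  rw [idealDepth_fibLocRing_self, idealDepth_fibLocRing_self]
  exact depth_le_depth_bc A A' B B' B B' (Algebra.linearMap B B') (IsBaseChange.linearMap B B') q'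

include hg in
/-- fibre-stalk depth bounds along `V(J)` pass to the base change along `V(J B')`. -/
theorem forall_fibre_bc (J : Ideal B) (n : ℕ∞)
    (h : ∀ q : PrimeSpectrum B, J ≤ q.asIdeal →
      n ≤ LocCoh.idealDepth (q.asIdeal.map (algebraMap B (EGA4.FibLocRing A B q.asIdeal)))
        (EGA4.FibLocMod A B q.asIdeal N)) :
    ∀ q' : PrimeSpectrum B', J.map (algebraMap B B') ≤ q'.asIdeal →
      n ≤ LocCoh.idealDepth (q'.asIdeal.map (algebraMap B' (EGA4.FibLocRing A' B' q'.asIdeal)))
        (EGA4.FibLocMod A' B' q'.asIdeal N') := by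
  intro q' hq'
  have h1 := h ⟨q'.asIdeal.under B, inferInstance⟩ (Ideal.map_le_iff_le_comap.1 hq')
  exact h1.trans (fibre_idealDepth_bc A B A' B' N N' g hg q'.asIdeal)

theorem forall_fibre_self_bc (J : Ideal B) (n : ℕ∞)
    (h : ∀ q : PrimeSpectrum B, J ≤ q.asIdeal →
      n ≤ LocCoh.idealDepth (q.asIdeal.map (algebraMap B (EGA4.FibLocRing A B q.asIdeal)))
        (EGA4.FibLocRing A B q.asIdeal)) :
    ∀ q' : PrimeSpectrum B', J.map (algebraMap B B') ≤ q'.asIdeal →
      n ≤ LocCoh.idealDepth (q'.asIdeal.map (algebraMap B' (EGA4.FibLocRing A' B' q'.asIdeal)))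
        (EGA4.FibLocRing A' B' q'.asIdeal) := by
  intro q' hq'
  have h1 := h ⟨q'.asIdeal.under B, inferInstance⟩ (Ideal.map_le_iff_le_comap.1 hq')
  exact h1.trans (fibre_idealDepth_self_bc A B A' B' q'.asIdeal)

end BC

end Groth.Agent.Lib.Helper21.RdBC
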