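import Mathlib
import Groth.Agent.Lib.Helper21.FlatDescP

set_option autoImplicit false

namespace Groth.Agent.Lib.Helper21.RdBC

open TensorProduct Function MvPolynomial
open Groth.Agent.Lib.Helper21.FlatDesc Groth.Agent.Lib.Helper29.FPModel

attribute [local instance] MvPolynomial.algebraMvPolynomial

universe u

section Main

attribute [local instance] modelAlgebra

/-- **Finitely presented modules over finitely presented algebras descend to finite type
`ℤ`-algebras.** -/
theorem exists_model (R : Type u) [CommRing R]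
    (S : Type u) [CommRing S] [Algebra R S] [Algebra.FinitePresentation R S] (M : Type u)
    [AddCommGroup M] [Module S M] [Module.FinitePresentation S M] :
    ∃ (R₀ : Type u) (_ : CommRing R₀) (_ : Algebra R₀ R) (S₀ : Type u) (_ : CommRing S₀)
      (_ : Algebra R₀ S₀) (_ : Algebra S₀ S) (_ : Algebra R₀ S) (_ : IsScalarTower R₀ R S)
      (_ : IsScalarTower R₀ S₀ S) (M₀ : Type u) (_ : AddCommGroup M₀) (_ : Module S₀ M₀)
      (_ : Module S₀ M) (_ : IsScalarTower S₀ S M)
      (f : M₀ →ₗ[S₀] M),
      Algebra.FiniteType ℤ R₀ ∧ Algebra.FiniteType R₀ S₀ ∧ Module.Finite S₀ M₀ ∧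
        Algebra.IsPushout R₀ R S₀ S ∧ IsBaseChange S f := by
  classical
  let P := Algebra.Presentation.ofFinitePresentation R S
  obtain ⟨b, K, eM, ⟨s, hs⟩⟩ := Module.FinitePresentation.exists_fin S M
  have hsurj : Function.Surjective (MvPolynomial.aeval (R := R) P.val) :=
    P.toGenerators.aeval_val_surjective
  choose p hp using fun (v : s) (i : Fin b) => hsurj (v.1 i)
  let T : Set R := ⋃ (v : s) (i : Fin b), ((p v i).coeffs : Set R)
  have hT : T.Finite := Set.finite_iUnion fun v => Set.finite_iUnion fun i => Finset.finite_toSet _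
  haveI h1 : Algebra.FiniteType ℤ P.Core := inferInstance
  haveI h2 : Algebra.FiniteType P.Core (Algebra.adjoin P.Core T) :=
    Algebra.FiniteType.adjoin_of_finite hT
  haveI h3 : Algebra.FiniteType ℤ (Algebra.adjoin P.Core T) := Algebra.FiniteType.trans h1 h2
  have hTsub : ∀ (v : s) (i : Fin b), ((p v i).coeffs : Set R) ⊆
      Set.range (algebraMap (Algebra.adjoin P.Core T) R) := by
    intro v i c hc
    have hcT : c ∈ T := Set.mem_iUnion.2 ⟨v, Set.mem_iUnion.2 ⟨i, hc⟩⟩
    exact ⟨⟨c, Algebra.subset_adjoin hcT⟩, rfl⟩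
  choose p₀ hp₀ using fun (v : s) (i : Fin b) =>
    (MvPolynomial.mem_range_map_iff_coeffs_subset
      (f := algebraMap (Algebra.adjoin P.Core T) R)).2 (hTsub v i)
  haveI := model_isScalarTower P (Algebra.adjoin P.Core T)
  haveI := model_isPushout P (Algebra.adjoin P.Core T)
  have key : ∀ (v : s) (i : Fin b), algebraMap (P.ModelOfHasCoeffs (Algebra.adjoin P.Core T)) S
      (Ideal.Quotient.mk _ (p₀ v i)) = v.1 i := by
    intro v i
    have h1 : algebraMap (P.ModelOfHasCoeffs (Algebra.adjoin P.Core T)) S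
        (Ideal.Quotient.mk _ (p₀ v i)) = MvPolynomial.aeval P.val (p₀ v i) :=
      modelHom_mk P (Algebra.adjoin P.Core T) (p₀ v i)
    rw [h1, ← MvPolynomial.aeval_map_algebraMap R, hp₀ v i, hp v i]
  let v₀ : s → (Fin b → P.ModelOfHasCoeffs (Algebra.adjoin P.Core T)) :=
    fun v i => Ideal.Quotient.mk _ (p₀ v i)
  have hv : ∀ v : s, mapVec (B := S) b (v₀ v) = v.1 := by
    intro v
    ext i
    exact key v i
  have hK : Submodule.span S (Set.range fun j => mapVec (B := S) b (v₀ j)) = K := by
    rw [← hs]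
    congr 1
    ext w
    constructor
    · rintro ⟨v, rfl⟩
      change mapVec (B := S) b (v₀ v) ∈ (s : Set (Fin b → S))
      rw [hv v]
      exact v.2
    · intro hw
      exact ⟨⟨w, hw⟩, hv ⟨w, hw⟩⟩
  have hbc := isBaseChange_quotMap (B := S) b v₀
  letI : Module (P.ModelOfHasCoeffs (Algebra.adjoin P.Core T)) M :=
    Module.compHom M (algebraMap (P.ModelOfHasCoeffs (Algebra.adjoin P.Core T)) S)
  haveI : IsScalarTower (P.ModelOfHasCoeffs (Algebra.adjoin P.Core T)) S M :=
    IsScalarTower.of_algebraMap_smul fun _ _ => rfl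
  let e' : ((Fin b → S) ⧸ Submodule.span S (Set.range fun j => mapVec (B := S) b (v₀ j))) ≃ₗ[S] M :=
    Submodule.quotEquivOfEq _ _ hK ≪≫ₗ eM.symm
  have hf₁ : IsBaseChange S
      ((e'.toLinearMap.restrictScalars (P.ModelOfHasCoeffs (Algebra.adjoin P.Core T))) ∘ₗ
        quotMap (B := S) b v₀) :=
    IsBaseChange.of_equiv (hbc.equiv ≪≫ₗ e') (fun x => by simp [IsBaseChange.equiv_tmul])
  exact ⟨Algebra.adjoin P.Core T, inferInstance, inferInstance,
    P.ModelOfHasCoeffs (Algebra.adjoin P.Core T), inferInstance, inferInstance, inferInstance,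
    inferInstance, inferInstance, inferInstance,
    ((Fin b → P.ModelOfHasCoeffs (Algebra.adjoin P.Core T)) ⧸
      Submodule.span (P.ModelOfHasCoeffs (Algebra.adjoin P.Core T)) (Set.range v₀)),
    inferInstance, inferInstance, inferInstance, inferInstance, _, h3, inferInstance, inferInstance,
    inferInstance, hf₁⟩

end Main

end Groth.Agent.Lib.Helper21.RdBC
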