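import Mathlib
import Groth.Agent.Lib.Helper21.MCopChev

set_option autoImplicit false
universe u

namespace Groth.Agent.Lib.Helper21.RdBC

open AlgebraicGeometry CategoryTheory Limits TensorProduct Topology
open Groth.Agent.Lib.Helper21.MCop

section Top

variable (A A₂ B : Type u) [CommRing A] [CommRing A₂] [CommRing B] [Algebra A A₂] [Algebra A B]

attribute [local instance] Algebra.TensorProduct.rightAlgebra

/-- base change of a topological immersion of spectra. -/
theorem isEmbedding_comap_tensor
    (hemb : IsEmbedding (PrimeSpectrum.comap (algebraMap A A₂)))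
    (hst : (algebraMap A A₂).SurjectiveOnStalks) :
    IsEmbedding (PrimeSpectrum.comap (algebraMap B (A₂ ⊗[A] B))) ∧
      Set.range (PrimeSpectrum.comap (algebraMap B (A₂ ⊗[A] B))) =
        (PrimeSpectrum.comap (algebraMap A B)) ⁻¹'
          Set.range (PrimeSpectrum.comap (algebraMap A A₂)) := by
  haveI : IsPreimmersion (specMap A A₂) := IsPreimmersion.mk_SpecMap hemb hst
  have hpo := CommRingCat.isPushout_of_isPushout A A₂ B (A₂ ⊗[A] B)
  have hpb := (isPullback_SpecMap_of_isPushout _ _ _ _ hpo).flip
  -- hpb : IsPullback (specMap B T) (specMap A₂ T) (specMap A B) (specMap A A₂)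
  have hfac : specMap B (A₂ ⊗[A] B) = hpb.isoPullback.hom ≫ pullback.fst (specMap A B) (specMap A A₂) :=
    (hpb.isoPullback_hom_fst).symm
  haveI : IsPreimmersion (specMap B (A₂ ⊗[A] B)) := by
    rw [hfac]; infer_instance
  constructor
  · exact (specMap B (A₂ ⊗[A] B)).isEmbedding
  · have h1 : Set.range (specMap B (A₂ ⊗[A] B)) =
        Set.range (pullback.fst (specMap A B) (specMap A A₂)) := by
      rw [hfac]
      have h3 : ((hpb.isoPullback.hom ≫ pullback.fst (specMap A B) (specMap A A₂) : _ ⟶ _) :
          _ → _) = (pullback.fst (specMap A B) (specMap A A₂)) ∘ hpb.isoPullback.hom := by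
        ext x; rfl
      rw [h3, Set.range_comp, Set.range_eq_univ.2 hpb.isoPullback.hom.surjective, Set.image_univ]
    have h2 := Scheme.Pullback.range_fst (specMap A B) (specMap A A₂)
    exact h1.trans h2

end Top

end Groth.Agent.Lib.Helper21.RdBC
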