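import Mathlib
import Groth.Agent.Lib.Helper21.RdBC5
import Groth.Agent.Lib.Helper21.RdK2
import Groth.Agent.Lib.Helper21.ConsLoc1
import Groth.Agent.S0389

set_option autoImplicit false
universe u

namespace Groth.Agent.Lib.Helper21.RdBC

open AlgebraicGeometry CategoryTheory Limits TensorProduct Topology
open Groth.Agent.Lib.Helper21.MCop Groth.Agent.Lib.Helper24.FibreDim
open Groth.Agent.Lib.Helper21.ConsLoc

/-- the locus where the rectified depth of the fibre module is at least `n`. -/
def rdSet (A B : Type u) [CommRing A] [CommRing B] [Algebra A B] [Algebra.FiniteType A B]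
    (N : Type u) [AddCommGroup N] [Module B N] (n : ℕ) : Set (PrimeSpectrum B) :=
  {q | (n : ℕ∞) ≤ LocCoh.depth (Localization.AtPrime q.asIdeal)
    (EGA4.FibLocMod A B q.asIdeal N) + (tr (specMap A B) q : ℕ∞)}

section Flat

attribute [local instance] Algebra.TensorProduct.rightAlgebra

/-- generic freeness, in tensor form. -/
theorem exists_flat_away (A₁ B N : Type u) [CommRing A₁] [IsDomain A₁] [CommRing B] [Algebra A₁ B]
    [Algebra.FiniteType A₁ B] [AddCommGroup N] [Module B N] [Module A₁ N] [IsScalarTower A₁ B N]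
    [Module.Finite B N] :
    ∃ f : A₁, f ≠ 0 ∧ Module.Flat (Localization.Away f) (Localization.Away f ⊗[A₁] N) := by
  obtain ⟨f, hf, h1, -⟩ := Groth.Agent.S0389.result (R := A₁) (S := B) (M := N)
  exact ⟨f, hf, inferInstance⟩

end Flat


section Noeth

variable (A B : Type u) [CommRing A] [CommRing B] [Algebra A B] [Algebra.FiniteType A B]
  [IsNoetherianRing A]
  (N : Type u) [AddCommGroup N] [Module B N] [Module.Finite B N]

attribute [local instance] Algebra.TensorProduct.rightAlgebra

set_option maxHeartbeats 1600000 in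
set_option synthInstance.maxHeartbeats 200000 in
/-- after restricting to a locally closed piece of the base, the module becomes flat. -/
theorem exists_flat_piece (p : Ideal A) [p.IsPrime] :
    ∃ a : A, a ∉ p ∧
      Module.Flat (Localization.Away (Ideal.Quotient.mk p a))
        ((Localization.Away (Ideal.Quotient.mk p a) ⊗[A] B) ⊗[B] N) := by
  letI : Module A N := Module.compHom N (algebraMap A B)
  haveI : IsScalarTower A B N := IsScalarTower.of_algebraMap_smul fun _ _ => rfl
  obtain ⟨f, hf, hflat⟩ := exists_flat_away (A ⧸ p) ((A ⧸ p) ⊗[A] B) (((A ⧸ p) ⊗[A] B) ⊗[B] N)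
  obtain ⟨a, rfl⟩ := Ideal.Quotient.mk_surjective f
  refine ⟨a, fun ha => hf (Ideal.Quotient.eq_zero_iff_mem.2 ha), ?_⟩
  let e₀ : ((A ⧸ p) ⊗[A] B) ⊗[B] N ≃ₗ[A ⧸ p] (A ⧸ p) ⊗[A] N :=
    Algebra.IsPushout.cancelBaseChange A (A ⧸ p) B ((A ⧸ p) ⊗[A] B) N
  let e₁ : Localization.Away (Ideal.Quotient.mk p a) ⊗[A ⧸ p] (((A ⧸ p) ⊗[A] B) ⊗[B] N)
      ≃ₗ[Localization.Away (Ideal.Quotient.mk p a)]
      Localization.Away (Ideal.Quotient.mk p a) ⊗[A ⧸ p] ((A ⧸ p) ⊗[A] N) :=
    AlgebraTensorModule.congr (LinearEquiv.refl _ _) e₀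
  let e₂ : Localization.Away (Ideal.Quotient.mk p a) ⊗[A ⧸ p] ((A ⧸ p) ⊗[A] N)
      ≃ₗ[Localization.Away (Ideal.Quotient.mk p a)]
      Localization.Away (Ideal.Quotient.mk p a) ⊗[A] N :=
    AlgebraTensorModule.cancelBaseChange A (A ⧸ p) (Localization.Away (Ideal.Quotient.mk p a))
      (Localization.Away (Ideal.Quotient.mk p a)) N
  let e₃ : (Localization.Away (Ideal.Quotient.mk p a) ⊗[A] B) ⊗[B] N
      ≃ₗ[Localization.Away (Ideal.Quotient.mk p a)]
      Localization.Away (Ideal.Quotient.mk p a) ⊗[A] N :=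
    Algebra.IsPushout.cancelBaseChange A (Localization.Away (Ideal.Quotient.mk p a)) B
      (Localization.Away (Ideal.Quotient.mk p a) ⊗[A] B) N
  exact Module.Flat.of_linearEquiv ((e₁.trans e₂).trans e₃.symm).symm

end Noeth


section Piece

theorem flat_localizedModule (A₂ T : Type u) [CommRing A₂] [CommRing T] [Algebra A₂ T]
    (F : Type u) [AddCommGroup F] [Module T F] [Module A₂ F] [IsScalarTower A₂ T F]
    [Module.Flat A₂ F] (S : Submonoid T) : Module.Flat A₂ (LocalizedModule S F) :=
  FlatLocal.flat_of_isLocalizedModule S (LocalizedModule.mkLinearMap S F)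

set_option backward.isDefEq.respectTransparency false in
set_option maxHeartbeats 1600000 in
set_option synthInstance.maxHeartbeats 200000 in
/-- on a piece of the base over which the module is flat, the rectified depth locus is open. -/
theorem isOpen_preimage_rdSet (A A₂ B T : Type u) [CommRing A] [CommRing A₂] [CommRing B]
    [CommRing T] [Algebra A A₂] [Algebra A B] [Algebra A₂ T] [Algebra B T] [Algebra A T]
    [IsScalarTower A A₂ T] [IsScalarTower A B T] [Algebra.IsPushout A A₂ B T]
    [Algebra.FiniteType A B] [IsNoetherianRing A₂]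
    (N : Type u) [AddCommGroup N] [Module B N] [Module.Finite B N] (hB : IsNoetherianRing B)
    (hfl₀ : Module.Flat A₂ (T ⊗[B] N)) (n : ℕ) :
    IsOpen ((PrimeSpectrum.comap (algebraMap B T)) ⁻¹' (rdSet A B N n)) := by
  haveI := hfl₀
  haveI : Algebra.FiniteType A₂ T := finiteType_of_isPushout A A₂ B T
  haveI : Algebra.FinitePresentation A₂ T :=
    Algebra.FinitePresentation.of_finiteType.mp inferInstance
  haveI : IsNoetherianRing T := Algebra.FiniteType.isNoetherianRing A₂ T
  haveI : IsNoetherianRing B := hB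
  haveI : Module.FinitePresentation B N := Module.finitePresentation_of_finite B N
  haveI : Module.FinitePresentation T (T ⊗[B] N) := inferInstance
  have hopen0 := isOpen_flat_rd A₂ T (T ⊗[B] N) n
  have hpre : (PrimeSpectrum.comap (algebraMap B T)) ⁻¹' (rdSet A B N n) =
      {q : PrimeSpectrum T | Module.Flat A₂ (LocalizedModule q.asIdeal.primeCompl (T ⊗[B] N)) ∧
        (n : ℕ∞) ≤ LocCoh.depth (Localization.AtPrime q.asIdeal)
          (EGA4.FibLocMod A₂ T q.asIdeal (T ⊗[B] N)) + (tr (specMap A₂ T) q : ℕ∞)} := by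
    ext q'
    have h := rd_bc A A₂ B T N (T ⊗[B] N) (TensorProduct.mk B T N 1)
      (TensorProduct.isBaseChange B N T) q'
    have hfl : Module.Flat A₂ (LocalizedModule q'.asIdeal.primeCompl (T ⊗[B] N)) :=
      flat_localizedModule A₂ T (T ⊗[B] N) q'.asIdeal.primeCompl
    show (n : ℕ∞) ≤ _ ↔ _ ∧ (n : ℕ∞) ≤ _
    rw [h]
    exact ⟨fun h' => ⟨hfl, h'⟩, fun h' => h'.2⟩
  rw [hpre]
  exact hopen0

end Piece

section Noeth2

variable (A B : Type u) [CommRing A] [CommRing B] [Algebra A B] [Algebra.FiniteType A B]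
  [IsNoetherianRing A]
  (N : Type u) [AddCommGroup N] [Module B N] [Module.Finite B N]

attribute [local instance] Algebra.TensorProduct.rightAlgebra

set_option maxHeartbeats 1600000 in
set_option synthInstance.maxHeartbeats 200000 in
/-- the dichotomy step, for an abstract piece `A → A₂` of the base. -/
theorem dichotomy_of_piece (n : ℕ) (Z : Set (PrimeSpectrum B)) (z : PrimeSpectrum B)
    (hz : Z ⊆ closure {z}) (hzZ : z ∈ Z)
    (A₂ : Type u) [CommRing A₂] [Algebra A A₂] [IsNoetherianRing A₂]
    (hι : IsEmbedding (PrimeSpectrum.comap (algebraMap A A₂)))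
    (hst : (algebraMap A A₂).SurjectiveOnStalks)
    (hflat : Module.Flat A₂ ((A₂ ⊗[A] B) ⊗[B] N))
    (O₁ : Set (PrimeSpectrum B)) (hO₁ : IsOpen O₁) (hzO₁ : z ∈ O₁)
    (hO : ∀ y ∈ O₁ ∩ Z, PrimeSpectrum.comap (algebraMap A B) y ∈
      Set.range (PrimeSpectrum.comap (algebraMap A A₂))) :
    ∃ U : Set (PrimeSpectrum B), IsOpen U ∧ (U ∩ Z).Nonempty ∧
      (U ∩ Z ⊆ rdSet A B N n ∨ U ∩ Z ⊆ (rdSet A B N n)ᶜ) := by
  haveI : IsNoetherianRing B := Algebra.FiniteType.isNoetherianRing A B
  have hopen := isOpen_preimage_rdSet A A₂ B (A₂ ⊗[A] B) N inferInstance hflat n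
  obtain ⟨hemb, hrange⟩ := isEmbedding_comap_tensor A A₂ B hι hst
  refine exists_open_dichotomy (PrimeSpectrum.comap (algebraMap B (A₂ ⊗[A] B))) hemb
    (rdSet A B N n) hopen Z z hz hzZ O₁ hO₁ hzO₁ ?_
  intro y hy
  rw [hrange]
  exact hO y hy

set_option maxHeartbeats 1600000 in
set_option synthInstance.maxHeartbeats 200000 in
/-- **Noetherian base**: the rectified depth loci are constructible. -/
theorem isConstructible_rdSet_noeth (n : ℕ) : IsConstructible (rdSet A B N n) := by
  haveI : IsNoetherianRing B := Algebra.FiniteType.isNoetherianRing A B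
  apply isConstructible_of_dichotomy
  intro Z hZc hZi
  obtain ⟨z, hz⟩ := QuasiSober.sober hZi hZc
  have hzZ : z ∈ Z := hz.mem
  set p : Ideal A := z.asIdeal.comap (algebraMap A B) with hp
  haveI : p.IsPrime := Ideal.comap_isPrime _ _
  obtain ⟨a, hap, hflat⟩ := exists_flat_piece A B N p
  haveI : IsNoetherianRing (Localization.Away (Ideal.Quotient.mk p a)) :=
    IsLocalization.isNoetherianRing (Submonoid.powers (Ideal.Quotient.mk p a)) _ inferInstance
  have hι : IsEmbedding (PrimeSpectrum.comap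
      (algebraMap A (Localization.Away (Ideal.Quotient.mk p a)))) := by
    have h1 : algebraMap A (Localization.Away (Ideal.Quotient.mk p a)) =
        (algebraMap (A ⧸ p) (Localization.Away (Ideal.Quotient.mk p a))).comp
          (Ideal.Quotient.mk p) :=
      IsScalarTower.algebraMap_eq A (A ⧸ p) _
    rw [h1]
    have h2 : (PrimeSpectrum.comap ((algebraMap (A ⧸ p)
          (Localization.Away (Ideal.Quotient.mk p a))).comp (Ideal.Quotient.mk p))) =
        (PrimeSpectrum.comap (Ideal.Quotient.mk p)) ∘ (PrimeSpectrum.comap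
          (algebraMap (A ⧸ p) (Localization.Away (Ideal.Quotient.mk p a)))) := by
      ext x; rfl
    rw [h2]
    exact (PrimeSpectrum.isEmbedding_comap_of_surjective _ _ Ideal.Quotient.mk_surjective).comp
      (PrimeSpectrum.localization_comap_isEmbedding (Localization.Away (Ideal.Quotient.mk p a))
        (Submonoid.powers (Ideal.Quotient.mk p a)))
  have hst : (algebraMap A (Localization.Away (Ideal.Quotient.mk p a))).SurjectiveOnStalks := by
    have h1 : algebraMap A (Localization.Away (Ideal.Quotient.mk p a)) =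
        (algebraMap (A ⧸ p) (Localization.Away (Ideal.Quotient.mk p a))).comp
          (Ideal.Quotient.mk p) :=
      IsScalarTower.algebraMap_eq A (A ⧸ p) _
    rw [h1]
    exact (RingHom.surjectiveOnStalks_of_isLocalization
      (M := Submonoid.powers (Ideal.Quotient.mk p a))
        (Localization.Away (Ideal.Quotient.mk p a))).comp
      (RingHom.surjectiveOnStalks_of_surjective Ideal.Quotient.mk_surjective)
  have hrangeι : ∀ 𝔭 : PrimeSpectrum A, p ≤ 𝔭.asIdeal → a ∉ 𝔭.asIdeal →
      𝔭 ∈ Set.range (PrimeSpectrum.comap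
        (algebraMap A (Localization.Away (Ideal.Quotient.mk p a)))) := by
    intro 𝔭 h1 h2
    have h3 : 𝔭 ∈ Set.range (PrimeSpectrum.comap (Ideal.Quotient.mk p)) := by
      rw [_root_.range_comap_of_surjective _ _ Ideal.Quotient.mk_surjective, Ideal.mk_ker]
      exact h1
    obtain ⟨𝔭₁, rfl⟩ := h3
    have h4 : 𝔭₁ ∈ Set.range (PrimeSpectrum.comap
        (algebraMap (A ⧸ p) (Localization.Away (Ideal.Quotient.mk p a)))) := by
      rw [PrimeSpectrum.localization_away_comap_range (Localization.Away (Ideal.Quotient.mk p a))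
        (Ideal.Quotient.mk p a)]
      exact h2
    obtain ⟨𝔭₂, rfl⟩ := h4
    exact ⟨𝔭₂, by
      have h1 : algebraMap A (Localization.Away (Ideal.Quotient.mk p a)) =
          (algebraMap (A ⧸ p) (Localization.Away (Ideal.Quotient.mk p a))).comp
            (Ideal.Quotient.mk p) :=
        IsScalarTower.algebraMap_eq A (A ⧸ p) _
      rw [h1]; rfl⟩
  refine dichotomy_of_piece A B N n Z z (by rw [hz.def]) hzZ
    (Localization.Away (Ideal.Quotient.mk p a)) hι hst hflat
    (PrimeSpectrum.basicOpen (algebraMap A B a) : Set (PrimeSpectrum B))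
    (PrimeSpectrum.basicOpen (algebraMap A B a)).2 ?_ ?_
  · show algebraMap A B a ∉ z.asIdeal
    exact hap
  · rintro y ⟨hy1, hyZ⟩
    apply hrangeι
    · have hzy : z ≤ y := by
        rw [PrimeSpectrum.le_iff_specializes, specializes_iff_mem_closure, hz.def]
        exact hyZ
      exact Ideal.comap_mono hzy
    · exact hy1

end Noeth2

end Groth.Agent.Lib.Helper21.RdBC
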