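import Mathlib
import Groth.Agent.Lib.Helper21.RdK1
import Groth.Agent.Lib.Helper21.RdK3

set_option autoImplicit false
universe u

namespace Groth.Agent.Lib.Helper21.RdBC

open AlgebraicGeometry CategoryTheory Limits TensorProduct Topology
open Groth.Agent.Lib.Helper21.MCop Groth.Agent.Lib.Helper24.FibreDim

section General

variable (A B : Type u) [CommRing A] [CommRing B] [Algebra A B] [Algebra.FinitePresentation A B]
  (N : Type u) [AddCommGroup N] [Module B N] [Module.FinitePresentation B N]

set_option maxHeartbeats 1600000 in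
set_option synthInstance.maxHeartbeats 200000 in
/-- **the rectified depth loci of a finitely presented module over a finitely presented algebra
are constructible** (arbitrary base). -/
theorem isConstructible_rdSet (n : ℕ) : IsConstructible (rdSet A B N n) := by
  obtain ⟨R₀, _, _, S₀, _, _, _, _, _, _, M₀, _, _, _, _, f, h1, h2, h3, h4, h5⟩ :=
    exists_model A B N
  haveI := h1; haveI := h2; haveI := h3; haveI := h4
  haveI : IsNoetherianRing R₀ := Algebra.FiniteType.isNoetherianRing ℤ R₀
  have h0 : IsConstructible (rdSet R₀ S₀ M₀ n) := isConstructible_rdSet_noeth R₀ S₀ M₀ n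
  have hpre : rdSet A B N n = (specMap S₀ B) ⁻¹' (rdSet R₀ S₀ M₀ n) := by
    ext q'
    have h := rd_bc R₀ A S₀ B M₀ N f h5 q'
    show (n : ℕ∞) ≤ _ ↔ (n : ℕ∞) ≤ _
    rw [h]
    rfl
  rw [hpre]
  exact (specMap S₀ B).isConstructible_preimage h0

end General

end Groth.Agent.Lib.Helper21.RdBC
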