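import Mathlib
import Groth.Agent.Lib.Helper21.RdK4
import Groth.Agent.Lib.Helper21.MCopR3
import Groth.Agent.Lib.Helper21.MCopS4

set_option autoImplicit false
set_option backward.isDefEq.respectTransparency.types false
universe u

namespace Groth.Agent.Lib.Helper21.RdBC

open AlgebraicGeometry CategoryTheory IsLocalRing TensorProduct TopologicalSpace Topology
open Groth.Agent.Lib.Helper21.FibreStalk Groth.Agent.Lib.Helper17.ModStalk
open Groth.Agent.Lib.Helper24.FibreDim Groth.Agent.Lib.Helper21.FlatDesc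
open Groth.Agent.Lib.Helper21.MCop Groth.Agent.Lib.lead

section Scheme

variable {X S : Scheme.{u}}

/-- the rectified depth of the fibre module at a point (in `ℕ∞`). -/
noncomputable def rdAt (f : X ⟶ S) [LocallyOfFiniteType f] (F : X.Modules) (x : X) : ℕ∞ :=
  LocCoh.depth ((f.fiber (f x)).presheaf.stalk (f.asFiber x))
    (((Scheme.Modules.pullback (f.fiberι (f x))).obj F).presheaf.stalk (f.asFiber x)) +
      (tr f x : ℕ∞)

/-- the rectified depth of a nonzero fibre module is bounded by the local dimension of the fibre. -/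
theorem rdAt_le_fibreDimAt (f : X ⟶ S) [LocallyOfFiniteType f] (F : X.Modules)
    [SheafOfModules.IsFinitePresentation.{u} (R := X.ringCatSheaf) F] (x : X)
    (hx : rdAt f F x ≠ ⊤) :
    ((rdAt f F x : ℕ∞) : WithBot ℕ∞) ≤ FlatMor.fibreDimAt f x := by
  haveI : F.IsQuasicoherent :=
    Groth.Agent.Lib.Helper29.FPDict.isQuasicoherent_of_isFinitePresentation F
  haveI : ∀ x : X, Module.Finite (X.presheaf.stalk x) (F.presheaf.stalk x) :=
    finite_stalk_of_fp F
  haveI : IsLocallyNoetherian (f.fiber (f x)) :=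
    LocallyOfFiniteType.isLocallyNoetherian (f.fiberToSpecResidueField (f x))
  haveI : IsNoetherianRing ((f.fiber (f x)).presheaf.stalk (f.asFiber x)) := inferInstance
  haveI := finite_stalk_pullback (f.fiberι (f x)) F (f.asFiber x)
  have hnt : Nontrivial
      (((Scheme.Modules.pullback (f.fiberι (f x))).obj F).presheaf.stalk (f.asFiber x)) := by
    by_contra hn
    rw [not_nontrivial_iff_subsingleton] at hn
    apply hx
    unfold rdAt
    rw [DepthKit.depth_of_subsingleton, top_add]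
  have h1 := DepthKit.depth_le_supportDim
    (A := (f.fiber (f x)).presheaf.stalk (f.asFiber x))
    (M := ((Scheme.Modules.pullback (f.fiberι (f x))).obj F).presheaf.stalk (f.asFiber x))
  have h2 := Module.supportDim_le_ringKrullDim ((f.fiber (f x)).presheaf.stalk (f.asFiber x))
    (((Scheme.Modules.pullback (f.fiberι (f x))).obj F).presheaf.stalk (f.asFiber x))
  have h3 := h1.trans h2
  rw [FibreOrder.ringKrullDim_fiber_stalk] at h3
  rw [fibreDimAt_eq_tr_add_G]
  unfold rdAt
  have h4 : LocCoh.depth ((f.fiber (f x)).presheaf.stalk (f.asFiber x))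
      (((Scheme.Modules.pullback (f.fiberι (f x))).obj F).presheaf.stalk (f.asFiber x)) ≤
      FibreOrder.G f x := by exact_mod_cast h3
  have h5 : LocCoh.depth ((f.fiber (f x)).presheaf.stalk (f.asFiber x))
      (((Scheme.Modules.pullback (f.fiberι (f x))).obj F).presheaf.stalk (f.asFiber x)) +
        (tr f x : ℕ∞) ≤ ((tr f x : ℕ) : ℕ∞) + FibreOrder.G f x := by
    rw [add_comm]
    exact add_le_add_right h4 _
  exact_mod_cast h5


/-- the fibre dimension is bounded on a quasi-compact open. -/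
theorem exists_bound_fibreDimAt (f : X ⟶ S) [LocallyOfFiniteType f] (U : X.Opens)
    (hU : IsCompact (U : Set X)) :
    ∃ K : ℕ, ∀ x ∈ U, FlatMor.fibreDimAt f x ≤ (K : WithBot ℕ∞) := by
  have hopen : ∀ k : ℕ, IsOpen {x : X | FlatMor.fibreDimAt f x ≤ (k : WithBot ℕ∞)} := fun k =>
    Groth.Agent.Lib.Helper18.Chev.isOpen_fibreDimAt_le f k
  have hcov : (U : Set X) ⊆ ⋃ k : ℕ, {x : X | FlatMor.fibreDimAt f x ≤ (k : WithBot ℕ∞)} := by
    intro x _
    obtain ⟨d, hd⟩ := Groth.Agent.Lib.Helper18.Chev.exists_nat_fibreDimAt f x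
    exact Set.mem_iUnion.2 ⟨d, hd.le⟩
  have hdir : Directed (· ⊆ ·) fun k : ℕ => {x : X | FlatMor.fibreDimAt f x ≤ (k : WithBot ℕ∞)} := by
    intro i j
    refine ⟨max i j, ?_, ?_⟩
    · intro x (hx : FlatMor.fibreDimAt f x ≤ (i : WithBot ℕ∞))
      show FlatMor.fibreDimAt f x ≤ ((max i j : ℕ) : WithBot ℕ∞)
      exact le_trans hx (by exact_mod_cast le_max_left i j)
    · intro x (hx : FlatMor.fibreDimAt f x ≤ (j : WithBot ℕ∞))
      show FlatMor.fibreDimAt f x ≤ ((max i j : ℕ) : WithBot ℕ∞)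
      exact le_trans hx (by exact_mod_cast le_max_right i j)
  obtain ⟨K, hK⟩ := hU.elim_directed_cover _ hopen hcov hdir
  exact ⟨K, fun x hx => hK hx⟩

set_option maxHeartbeats 1600000 in
/-- **EGA IV 12.x / 9.9**: the level sets of the rectified depth of the fibre modules are locally
constructible. -/
theorem isLocallyConstructible_rdAt_eq (f : X ⟶ S) [LocallyOfFinitePresentation f]
    (F : X.Modules) [SheafOfModules.IsFinitePresentation.{u} (R := X.ringCatSheaf) F] (n : ℕ∞) :
    IsLocallyConstructible {x : X | rdAt f F x = n} := by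
  haveI : F.IsQuasicoherent :=
    Groth.Agent.Lib.Helper29.FPDict.isQuasicoherent_of_isFinitePresentation F
  intro x
  obtain ⟨_, ⟨V, hV : IsAffineOpen V, rfl⟩, hfxV, -⟩ :=
    S.isBasis_affineOpens.exists_subset_of_mem_open (Set.mem_univ (f x)) isOpen_univ
  obtain ⟨_, ⟨U, hU : IsAffineOpen U, rfl⟩, hxU, hUV⟩ :=
    X.isBasis_affineOpens.exists_subset_of_mem_open (show x ∈ (f ⁻¹ᵁ V : Set X) from hfxV)
      (f ⁻¹ᵁ V).isOpen
  refine ⟨U, U.2.mem_nhds hxU, U.2, ?_⟩
  letI algCB : Algebra Γ(S, V) Γ(X, U) := (f.appLE V U hUV).hom.toAlgebra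
  haveI : Algebra.FinitePresentation Γ(S, V) Γ(X, U) :=
    (HasRingHomProperty.appLE @LocallyOfFinitePresentation f inferInstance ⟨V, hV⟩ ⟨U, hU⟩ hUV :
      RingHom.FinitePresentation _)
  haveI : Module.FinitePresentation Γ(X, U) Γ(F, U) :=
    Groth.Agent.Lib.Helper29.FPDict.fp_of_isAffineOpen F hU
  have key : ∀ (y : X) (hy : y ∈ U), rdAt f F y =
      LocCoh.depth (Localization.AtPrime (hU.primeIdealOf ⟨y, hy⟩).asIdeal)
        (EGA4.FibLocMod Γ(S, V) Γ(X, U) (hU.primeIdealOf ⟨y, hy⟩).asIdeal Γ(F, U)) +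
          (tr (specMap Γ(S, V) Γ(X, U)) (hU.primeIdealOf ⟨y, hy⟩) : ℕ∞) := by
    intro y hy
    unfold rdAt
    rw [(semiEquiv_chart f F hU hV hUV y hy).depth_eq, tr_chart f hU hV hUV y hy]
  have hcons : ∀ m : ℕ, IsConstructible ((Subtype.val : U → X) ⁻¹' {x : X | (m : ℕ∞) ≤ rdAt f F x}) := by
    intro m
    have h0 := isConstructible_rdSet Γ(S, V) Γ(X, U) Γ(F, U) m
    have h1 : (Subtype.val : U → X) ⁻¹' {x : X | (m : ℕ∞) ≤ rdAt f F x} =
        (⇑hU.isoSpec.hom) ⁻¹' (rdSet Γ(S, V) Γ(X, U) Γ(F, U) m) := by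
      ext u
      show (m : ℕ∞) ≤ rdAt f F u.1 ↔ (m : ℕ∞) ≤ _
      rw [key u.1 u.2]
      rfl
    rw [h1]
    exact hU.isoSpec.hom.isConstructible_preimage h0
  show IsConstructible ((Subtype.val : U → X) ⁻¹' {x : X | rdAt f F x = n})
  induction n using ENat.recTopCoe with
  | top =>
    obtain ⟨K, hK⟩ := exists_bound_fibreDimAt f U hU.isCompact
    have h2 : (Subtype.val : U → X) ⁻¹' {x : X | rdAt f F x = ⊤} =
        (Subtype.val : U → X) ⁻¹' {x : X | ((K + 1 : ℕ) : ℕ∞) ≤ rdAt f F x} := by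
      ext u
      show rdAt f F u.1 = ⊤ ↔ ((K + 1 : ℕ) : ℕ∞) ≤ rdAt f F u.1
      constructor
      · intro h; rw [h]; exact le_top
      · intro h
        by_contra hne
        have h3 := (rdAt_le_fibreDimAt f F u.1 hne).trans (hK u.1 u.2)
        have h4 : rdAt f F u.1 ≤ (K : ℕ∞) := by exact_mod_cast h3
        have h5 := h.trans h4
        have h6 : K + 1 ≤ K := by exact_mod_cast h5
        omega
    rw [h2]
    exact hcons (K + 1)
  | coe m =>
    have h2 : (Subtype.val : U → X) ⁻¹' {x : X | rdAt f F x = (m : ℕ∞)} =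
        ((Subtype.val : U → X) ⁻¹' {x : X | (m : ℕ∞) ≤ rdAt f F x}) \
          ((Subtype.val : U → X) ⁻¹' {x : X | ((m + 1 : ℕ) : ℕ∞) ≤ rdAt f F x}) := by
      ext u
      show rdAt f F u.1 = (m : ℕ∞) ↔ (m : ℕ∞) ≤ rdAt f F u.1 ∧ ¬ ((m + 1 : ℕ) : ℕ∞) ≤ rdAt f F u.1
      constructor
      · intro h
        rw [h]
        refine ⟨le_rfl, fun h' => ?_⟩
        have : m + 1 ≤ m := by exact_mod_cast h'
        omega
      · rintro ⟨h1, h2⟩
        apply le_antisymm _ h1
        by_contra h3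
        apply h2
        rw [not_le] at h3
        have := Order.add_one_le_of_lt h3
        exact_mod_cast this
    rw [h2]
    exact (hcons m).sdiff (hcons (m + 1))

end Scheme

end Groth.Agent.Lib.Helper21.RdBC
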