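import Mathlib
import Groth.Agent.Lib.Helper21.RectDepth3
import Groth.Agent.Lib.helper11.CodepthLoc
import Groth.Agent.Lib.Helper21.DepthKit13
import Groth.Agent.Lib.Helper21.PDStalk
import Groth.Agent.Lib.Helper7.StalkFree
import Groth.Agent.S0020

/-!
# Helper21 — RectDepth4: `depth F_{x'} ≤ depth F_x + dim cl{x}` for a specialization `x'` of `x`
-/

set_option autoImplicit false
universe u

namespace Groth.Agent.Lib.Helper21.RectDepth

open CategoryTheory AlgebraicGeometry Topology Groth.Agent.Lib.Helper24.JacDim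
open Groth.Agent.Lib.Helper28.QCohLoc Groth.Agent.Lib.Helper21

section Ring

/-- the quotient of a local ring of `R` by the extension of a prime `q` has at most the dimension of
`R/q` -/
theorem ringKrullDim_localization_quotient_le (R : Type u) [CommRing R] (q q' : Ideal R)
    [q.IsPrime] [q'.IsPrime] :
    ringKrullDim (Localization.AtPrime q' ⧸ Ideal.map (algebraMap R (Localization.AtPrime q')) q) ≤
      ringKrullDim (R ⧸ q) := by
  set A := Localization.AtPrime q' with hA
  set P := Ideal.map (algebraMap R A) q with hP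
  have h1 : ringKrullDim (R ⧸ q) =
      topologicalKrullDim ↥(closure ({(⟨q, inferInstance⟩ : PrimeSpectrum R)} : Set (PrimeSpectrum R))) :=
    (dim_closure_primeSpectrum R ⟨q, inferInstance⟩).symm
  rw [h1, ← PrimeSpectrum.topologicalKrullDim_eq_ringKrullDim]
  let ψ : R →+* A ⧸ P := (Ideal.Quotient.mk P).comp (algebraMap R A)
  have hind : IsInducing (PrimeSpectrum.comap ψ) := by
    have h2 : PrimeSpectrum.comap ψ =
        PrimeSpectrum.comap (algebraMap R A) ∘ PrimeSpectrum.comap (Ideal.Quotient.mk P) := by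
      ext1 c
      rfl
    rw [h2]
    exact (PrimeSpectrum.localization_comap_isInducing A q'.primeCompl).comp
      (PrimeSpectrum.comap_isInducing_of_surjective _ _ Ideal.Quotient.mk_surjective)
  have hmem : ∀ c, PrimeSpectrum.comap ψ c ∈
      closure ({(⟨q, inferInstance⟩ : PrimeSpectrum R)} : Set (PrimeSpectrum R)) := by
    intro c
    rw [PrimeSpectrum.closure_singleton, PrimeSpectrum.mem_zeroLocus]
    intro a ha
    show ψ a ∈ c.asIdeal
    have : ψ a = 0 := by
      show Ideal.Quotient.mk P (algebraMap R A a) = 0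
      rw [Ideal.Quotient.eq_zero_iff_mem]
      exact Ideal.mem_map_of_mem _ ha
    rw [this]
    exact c.asIdeal.zero_mem
  exact (hind.codRestrict hmem).topologicalKrullDim_le

variable (B : Type u) [CommRing B] [IsNoetherianRing B]
  (M : Type u) [AddCommGroup M] [Module B M] [Module.Finite B M]

theorem depth_le_depth_add_dim (q q' : Ideal B) [q.IsPrime] [q'.IsPrime] (hle : q ≤ q')
    [Nontrivial (LocalizedModule q.primeCompl M)] :
    ((LocCoh.depth (Localization.AtPrime q') (LocalizedModule q'.primeCompl M) : ℕ∞) : WithBot ℕ∞) ≤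
      ((LocCoh.depth (Localization.AtPrime q) (LocalizedModule q.primeCompl M) : ℕ∞) : WithBot ℕ∞) +
        ringKrullDim (B ⧸ q) := by
  set A := Localization.AtPrime q' with hA
  set N := LocalizedModule q'.primeCompl M with hN
  set P := Ideal.map (algebraMap B A) q with hP
  have hdisj : Disjoint (q'.primeCompl : Set B) (q : Set B) :=
    Set.disjoint_left.2 (fun a ha haq => ha (hle haq))
  haveI hPp : P.IsPrime := IsLocalization.isPrime_of_isPrime_disjoint q'.primeCompl A q
    inferInstance hdisj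
  have hcomap : q = P.comap (algebraMap B A) :=
    (IsLocalization.under_map_of_isPrime_disjoint q'.primeCompl A inferInstance hdisj).symm
  have hdep : LocCoh.depth (Localization.AtPrime q) (LocalizedModule q.primeCompl M) =
      LocCoh.depth (Localization.AtPrime P) (LocalizedModule P.primeCompl N) :=
    DepthKit.depth_localization_of_isLocalization' q'.primeCompl
      (LocalizedModule.mkLinearMap q'.primeCompl M) P q hcomap
  haveI : Nontrivial (LocalizedModule P.primeCompl N) := by
    by_contra hnt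
    rw [not_nontrivial_iff_subsingleton] at hnt
    have h1 : LocCoh.depth (Localization.AtPrime P) (LocalizedModule P.primeCompl N) = ⊤ :=
      DepthKit.depth_of_subsingleton
    rw [← hdep] at h1
    exact DepthKit.depth_ne_top h1
  have h1 := Groth.Agent.Lib.helper11.CodepthLoc.depth_le_depth_localization_add (A := A) N P
  rw [hdep]
  refine h1.trans (add_le_add le_rfl ?_)
  exact ringKrullDim_localization_quotient_le B q q'

end Ring

section Scheme

theorem depth_le_rect {X : Scheme.{u}} [IsLocallyNoetherian X] {δ : X → ℤ} (hDX : DimData X δ)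
    (F : X.Modules) (hF : Coh.IsCoh F) (x x' : X) (h : x ⤳ x')
    (hx : ¬ Subsingleton (F.presheaf.stalk x)) :
    ((LocCoh.depth ↑(X.presheaf.stalk x') ↑(F.presheaf.stalk x') : ℕ∞) : WithBot ℕ∞) ≤
      ((LocCoh.depth ↑(X.presheaf.stalk x) ↑(F.presheaf.stalk x) : ℕ∞) : WithBot ℕ∞) +
        topologicalKrullDim ↥(closure ({x} : Set X)) := by
  haveI : F.IsQuasicoherent := hF.1
  haveI : SheafOfModules.IsFiniteType.{u} (R := X.ringCatSheaf) F := hF.2
  obtain ⟨U, hU', hx'U, -⟩ := (TopologicalSpace.Opens.isBasis_iff_nbhd.1 X.isBasis_affineOpens)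
    (show x' ∈ (⊤ : X.Opens) from trivial)
  have hU : IsAffineOpen U := hU'
  have hxU : x ∈ U := h.mem_open U.isOpen hx'U
  have hloc := isLocOn_of_isQuasicoherent F hU
  haveI : Module.Finite Γ(X, U) Γ(F, U) :=
    Groth.Agent.Lib.Helper28.FinType.finite_of_isAffineOpen F hU
  haveI : IsNoetherianRing Γ(X, U) := IsLocallyNoetherian.component_noetherian ⟨U, hU⟩
  rw [Groth.Agent.Lib.Helper7.StalkLoc.depth_stalk_eq F hU hloc x' hx'U,
    Groth.Agent.Lib.Helper7.StalkLoc.depth_stalk_eq F hU hloc x hxU,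
    dim_closure_eq_quotient hDX hU x hxU]
  haveI : Nontrivial (LocalizedModule (hU.primeIdealOf ⟨x, hxU⟩).asIdeal.primeCompl Γ(F, U)) := by
    rw [← not_subsingleton_iff_nontrivial, ← (PDStalk.pd_stalk_eq F hU hloc x hxU).2]
    exact hx
  have hle : (hU.primeIdealOf ⟨x, hxU⟩).asIdeal ≤ (hU.primeIdealOf ⟨x', hx'U⟩).asIdeal := by
    have hj : IsInducing hU.fromSpec := hU.fromSpec.isOpenEmbedding.isInducing
    have h1 : hU.fromSpec (hU.primeIdealOf ⟨x, hxU⟩) ⤳ hU.fromSpec (hU.primeIdealOf ⟨x', hx'U⟩) := by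
      rw [hU.fromSpec_primeIdealOf ⟨x, hxU⟩, hU.fromSpec_primeIdealOf ⟨x', hx'U⟩]
      exact h
    rw [hj.specializes_iff] at h1
    exact (PrimeSpectrum.le_iff_specializes _ _).2 h1
  exact depth_le_depth_add_dim Γ(X, U) Γ(F, U) _ _ hle

theorem isClosed_singleton_opens_iff {X : Type*} [TopologicalSpace X] [JacobsonSpace X]
    (U : TopologicalSpace.Opens X) (x' : ↥U) :
    IsClosed ({x'} : Set ↥U) ↔ IsClosed ({(x' : X)} : Set X) := by
  have h := (U.isOpen.isOpenEmbedding_subtypeVal).preimage_closedPoints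
  have h1 : x' ∈ closedPoints ↥U ↔ x' ∈ Subtype.val ⁻¹' closedPoints X := by
    constructor
    · intro hx; exact h.symm ▸ hx
    · intro hx; exact h ▸ hx
  exact h1

theorem dim_closure_eq_zero_of_isClosed {X : Type*} [TopologicalSpace X] (x : X)
    (hc : IsClosed ({x} : Set X)) : topologicalKrullDim ↥(closure ({x} : Set X)) = 0 := by
  apply le_antisymm
  · rw [hc.closure_eq]
    exact topologicalKrullDim_zero_of_discreteTopology _
  · obtain ⟨a, ha⟩ := WithBot.ne_bot_iff_exists.1
      (Groth.Agent.S4907.topologicalKrullDim_closure_ne_bot x)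
    rw [← ha]
    exact WithBot.coe_le_coe.2 (zero_le (a := a))

end Scheme

section Main

open Groth.Agent.Lib.Helper24.FibreDim in
/-- **The rectified depth is the depth at nearby closed points of the closure.** -/
theorem rect_unique {X S : Scheme.{u}} [IsLocallyNoetherian S] [JacobsonSpace S]
    (hreg : ∀ s : S, IsRegularLocalRing ↑(S.presheaf.stalk s))
    (h3 : ∀ S' ∈ irreducibleComponents (S : Type u), ∀ s ∈ S', IsClosed ({s} : Set S) →
      topologicalKrullDim (↥S' : Type u) = topologicalKrullDim ↥{t : S | t ∈ S' ∧ t ⤳ s})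
    (g : X ⟶ S) [LocallyOfFiniteType g] (F : X.Modules) (hF : Coh.IsCoh F) (x : X) (n : ℕ∞) :
    (∃ U : X.Opens, x ∈ U ∧ ∀ x' : ↥U, (x' : X) ∈ closure ({x} : Set X) →
        IsClosed ({x'} : Set ↥U) →
        LocCoh.depth ↑(X.presheaf.stalk (x' : X)) ↑(F.presheaf.stalk (x' : X)) = n) ↔
      ((n : WithBot ℕ∞) =
        ((LocCoh.depth ↑(X.presheaf.stalk x) ↑(F.presheaf.stalk x) : ℕ∞) : WithBot ℕ∞) +
          topologicalKrullDim ↥(closure ({x} : Set X))) := by
  have h2 := uc_stalk_of_regular hreg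
  obtain ⟨hN, hDX⟩ := dimData_over h2 h3 g
  haveI := hN
  haveI : JacobsonSpace X := LocallyOfFiniteType.jacobsonSpace g
  set pstar : WithBot ℕ∞ :=
    ((LocCoh.depth ↑(X.presheaf.stalk x) ↑(F.presheaf.stalk x) : ℕ∞) : WithBot ℕ∞) +
      topologicalKrullDim ↥(closure ({x} : Set X)) with hpstar
  -- (A) existence of a good neighbourhood
  have hA : ∃ U : X.Opens, x ∈ U ∧ ∀ x' : ↥U, (x' : X) ∈ closure ({x} : Set X) →
      IsClosed ({x'} : Set ↥U) →
      ((LocCoh.depth ↑(X.presheaf.stalk (x' : X)) ↑(F.presheaf.stalk (x' : X)) : ℕ∞) :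
        WithBot ℕ∞) = pstar := by
    by_cases hs : Subsingleton (F.presheaf.stalk x)
    · have h1 : LocCoh.depth (X.presheaf.stalk x) (F.presheaf.stalk x) = ⊤ :=
        DepthKit.depth_of_subsingleton
      have hp : pstar = ((⊤ : ℕ∞) : WithBot ℕ∞) := by
        rw [hpstar, h1]
        obtain ⟨a, ha⟩ := WithBot.ne_bot_iff_exists.1
          (Groth.Agent.S4907.topologicalKrullDim_closure_ne_bot x)
        rw [← ha, ← WithBot.coe_add, top_add]
      have hcl : IsClosed (CohB1.support F) := Groth.Agent.S0020.result X F hF.2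
      refine ⟨⟨(CohB1.support F)ᶜ, hcl.isOpen_compl⟩, fun h => h hs, ?_⟩
      intro x' _ _
      have hx' : Subsingleton (F.presheaf.stalk (x' : X)) := by
        by_contra hne
        exact x'.2 hne
      rw [hp, DepthKit.depth_of_subsingleton]
    · haveI : Module.Finite (X.presheaf.stalk x) (F.presheaf.stalk x) :=
        Groth.Agent.Lib.Helper7.StalkFree.finite_stalk_of_isCoh X F hF x
      haveI : Nontrivial (F.presheaf.stalk x) := not_subsingleton_iff_nontrivial.1 hs
      obtain ⟨dm, hdm⟩ := DepthKit.exists_nat_depth (A := X.presheaf.stalk x)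
        (M := F.presheaf.stalk x)
      have hdimx := dim_closure_eq hDX x
      have hp : pstar = ((dm + (deltaOver g x).toNat : ℕ) : WithBot ℕ∞) := by
        rw [hpstar, hdm, hdimx]
        push_cast
        rfl
      have hopen := isOpen_rect hreg h3 g F hF (dm + (deltaOver g x).toNat)
      refine ⟨⟨_, hopen⟩, ?_, ?_⟩
      · show ((dm + (deltaOver g x).toNat : ℕ) : WithBot ℕ∞) ≤ pstar
        rw [hp]
      · intro x' hx'cl hx'c
        have hcX : IsClosed ({(x' : X)} : Set X) := (isClosed_singleton_opens_iff _ x').1 hx'c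
        have h0 := dim_closure_eq_zero_of_isClosed (x' : X) hcX
        have h1 : ((dm + (deltaOver g x).toNat : ℕ) : WithBot ℕ∞) ≤
            ((LocCoh.depth ↑(X.presheaf.stalk (x' : X)) ↑(F.presheaf.stalk (x' : X)) : ℕ∞) :
              WithBot ℕ∞) + topologicalKrullDim ↥(closure ({(x' : X)} : Set X)) := x'.2
        rw [h0, add_zero] at h1
        have h2 : ((LocCoh.depth ↑(X.presheaf.stalk (x' : X)) ↑(F.presheaf.stalk (x' : X)) : ℕ∞) :
              WithBot ℕ∞) ≤ pstar :=
          depth_le_rect hDX F hF x x' (specializes_iff_mem_closure.2 hx'cl) hs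
        rw [hp] at h2 ⊢
        exact le_antisymm h2 h1
  -- (B) closed points in every neighbourhood
  have hB : ∀ U : X.Opens, x ∈ U → ∃ x' : ↥U, (x' : X) ∈ closure ({x} : Set X) ∧
      IsClosed ({x'} : Set ↥U) := by
    intro U hxU
    obtain ⟨z, ⟨hz1, hz2⟩, hz3⟩ := nonempty_inter_closedPoints
      (Z := closure ({x} : Set X) ∩ U) ⟨x, subset_closure rfl, hxU⟩
      (isClosed_closure.isLocallyClosed.inter U.isOpen.isLocallyClosed)
    exact ⟨⟨z, hz2⟩, hz1, (isClosed_singleton_opens_iff U ⟨z, hz2⟩).2 hz3⟩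
  constructor
  · rintro ⟨U, hxU, hU⟩
    obtain ⟨U0, hxU0, hU0⟩ := hA
    obtain ⟨x', hx'cl, hx'c⟩ := hB (U ⊓ U0) ⟨hxU, hxU0⟩
    have hcX : IsClosed ({(x' : X)} : Set X) := (isClosed_singleton_opens_iff _ x').1 hx'c
    have e1 := hU ⟨x', x'.2.1⟩ hx'cl ((isClosed_singleton_opens_iff U ⟨x', x'.2.1⟩).2 hcX)
    have e2 := hU0 ⟨x', x'.2.2⟩ hx'cl ((isClosed_singleton_opens_iff U0 ⟨x', x'.2.2⟩).2 hcX)
    rw [← e2, ← e1]
  · intro hn
    obtain ⟨U0, hxU0, hU0⟩ := hA
    refine ⟨U0, hxU0, fun x' h1 h2 => ?_⟩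
    have := hU0 x' h1 h2
    rw [← hn] at this
    exact WithBot.coe_injective this

end Main

end Groth.Agent.Lib.Helper21.RectDepth
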