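import Mathlib
import Groth.Agent.S18711
import Groth.Agent.S18722
import Groth.Agent.Lib.Helper21.FlatKit5
import Groth.Agent.Lib.Helper21.QuasiInv
import Groth.Agent.Lib.Helper21.FibGen
import Groth.Agent.Lib.Helper21.RdBC7

/-!
# Helper21 — RelS2A: the infinitesimal step of the relative `S₂` criterion.

* `exists_isWeaklyRegular_of_le_idealDepth`: regular sequences of prescribed length;
* `fibre_depth_of_flat_artinian`: over an Artinian local base, a flat module of `J`-depth `≥ 2` has
  fibre stalks of `J`-depth `≥ 2`;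
* `surjective_algebraMap_of_isPushout_quotient`, `ker_algebraMap_of_isPushout_quotient`;
* `lam`, `mem_quasiInvIdeal_lam`: the comparison map `B' ⊗ F → ker (B' ⊗ u)` is invertible up to the
  elements admitting a generalized inverse of `u`;
* `flat_baseChange_coker_of_flat_ddual`: the infinitesimal step.
-/

set_option autoImplicit false

namespace Groth.Agent.Lib.Helper21.RelS2

open TensorProduct Function RingTheory.Sequence
open Groth.Agent.Lib.Helper21 Groth.Agent.Lib.Helper21.DepthKit
open Groth.Agent.Lib.Helper21.RetractUpTo Groth.Agent.Lib.Helper21.QuasiInv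

universe u

section A1
variable {R : Type u} [CommRing R] (I : Ideal R) (M : Type u) [AddCommGroup M] [Module R M]

/-- a regular sequence of prescribed length inside `I`. -/
theorem exists_isWeaklyRegular_of_le_idealDepth (n : ℕ) (h : (n : ℕ∞) ≤ LocCoh.idealDepth I M)
    (hIM : I • (⊤ : Submodule R M) ≠ ⊤) :
    ∃ rs : List R, rs.length = n ∧ IsWeaklyRegular M rs ∧ ∀ r ∈ rs, r ∈ I := by
  classical
  rw [LocCoh.idealDepth, if_neg hIM] at h
  obtain ⟨rs, hrs, hlen⟩ : ∃ rs : List R, (IsWeaklyRegular M rs ∧ ∀ r ∈ rs, r ∈ I) ∧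
      n ≤ rs.length := by
    by_contra hcon
    push Not at hcon
    cases n with
    | zero => exact absurd (hcon [] ⟨IsWeaklyRegular.nil R M, by simp⟩) (by simp)
    | succ k =>
      have h1 : (⨆ (rs : List R) (_ : IsWeaklyRegular M rs ∧ ∀ r ∈ rs, r ∈ I),
          (rs.length : ℕ∞)) ≤ (k : ℕ∞) := by
        refine iSup₂_le fun rs hrs => ?_
        have h2 := hcon rs hrs
        exact_mod_cast Nat.lt_succ_iff.1 h2
      have h2 := h.trans h1
      have h3 : k + 1 ≤ k := by exact_mod_cast h2
      omega
  refine ⟨rs.take n, by simp [hlen], ?_, fun r hr => hrs.2 r (List.mem_of_mem_take hr)⟩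
  have h1 := hrs.1
  rw [← List.take_append_drop n rs, isWeaklyRegular_append_iff] at h1
  exact h1.1

end A1

section OF
variable {A' B' : Type u} [CommRing A'] [IsLocalRing A'] [IsArtinianRing A'] [CommRing B']
  [IsNoetherianRing B'] [Algebra A' B']
  (K : Type u) [AddCommGroup K] [Module B' K] [Module A' K] [IsScalarTower A' B' K]
  [Module.Finite B' K] [Module.Flat A' K]

/-- over an Artinian local base, a flat module of `J`-depth `≥ 2` has fibre stalks of `J`-depth
`≥ 2`. -/
theorem fibre_depth_of_flat_artinian (J : Ideal B') (h : 2 ≤ LocCoh.idealDepth J K)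
    (r : Ideal B') [r.IsPrime] :
    FlatCA.FlatAt A' r K ∧
    2 ≤ LocCoh.idealDepth (J.map (algebraMap B' (EGA4.FibLocRing A' B' r)))
      (EGA4.FibLocMod A' B' r K) := by
  have hfl : FlatCA.FlatAt A' r K :=
    FlatLocal.flat_of_isLocalizedModule r.primeCompl (LocalizedModule.mkLinearMap r.primeCompl K)
  refine ⟨hfl, ?_⟩
  haveI : Module.Flat A' (LocalizedModule r.primeCompl K) := hfl
  have e1 : LocCoh.idealDepth (J.map (algebraMap B' (EGA4.FibLocRing A' B' r)))
      (EGA4.FibLocMod A' B' r K) =
      LocCoh.idealDepth (J.map (algebraMap B' (Localization.AtPrime r)))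
        (EGA4.FibLocMod A' B' r K) := by
    rw [IsScalarTower.algebraMap_eq B' (Localization.AtPrime r) (EGA4.FibLocRing A' B' r),
      ← Ideal.map_map]
    exact (idealDepth_map_of_surjective (R := Localization.AtPrime r)
      (S := EGA4.FibLocRing A' B' r) (EGA4.FibLocMod A' B' r K) Ideal.Quotient.mk_surjective _).symm
  rw [e1]
  set Jr := J.map (algebraMap B' (Localization.AtPrime r)) with hJr
  have h2 : 2 ≤ LocCoh.idealDepth Jr (LocalizedModule r.primeCompl K) :=
    h.trans (FibGen.idealDepth_le_localization r.primeCompl J K)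
  by_cases htop : Jr • (⊤ : Submodule (Localization.AtPrime r) (LocalizedModule r.primeCompl K)) = ⊤
  · have h3 : Jr • (⊤ : Submodule (Localization.AtPrime r) (EGA4.FibLocMod A' B' r K)) = ⊤ := by
      have h4 := congrArg (Submodule.map (Submodule.mkQ
        (((r.comap (algebraMap A' B')).map (algebraMap A' (Localization.AtPrime r))) •
          (⊤ : Submodule (Localization.AtPrime r) (LocalizedModule r.primeCompl K))))) htop
      rwa [Submodule.map_smul'', Submodule.map_top, Submodule.range_mkQ] at h4
    rw [LocCoh.idealDepth, if_pos h3]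
    exact le_top
  · obtain ⟨rs, hlen, hreg, hmem⟩ := exists_isWeaklyRegular_of_le_idealDepth Jr
      (LocalizedModule r.primeCompl K) 2 (by exact_mod_cast h2) htop
    have hI : (r.comap (algebraMap A' B')) ≠ ⊤ := Ideal.IsPrime.ne_top inferInstance
    have hreg' := ((FlatKit.isWeaklyRegular_iff_reduction (r.comap (algebraMap A' B')) hI
      (B := Localization.AtPrime r) rs (LocalizedModule r.primeCompl K)).1).1 hreg
    have h5 := length_le_idealDepth Jr rs hreg' hmem
    rw [hlen] at h5
    exact_mod_cast h5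

end OF

section PK
variable (R S : Type u) [CommRing R] [CommRing S] [Algebra R S] (I : Ideal R)
  (S' : Type u) [CommRing S'] [Algebra R S'] [Algebra S S'] [Algebra (R ⧸ I) S']
  [IsScalarTower R S S'] [IsScalarTower R (R ⧸ I) S'] [Algebra.IsPushout R S (R ⧸ I) S']

include R I in
theorem surjective_algebraMap_of_isPushout_quotient : Function.Surjective (algebraMap S S') := by
  intro y
  obtain ⟨x, rfl⟩ := (Algebra.IsPushout.equiv R S (R ⧸ I) S').surjective y
  induction x using TensorProduct.induction_on with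
  | zero => exact ⟨0, by simp⟩
  | tmul s t =>
    obtain ⟨r, rfl⟩ := Ideal.Quotient.mk_surjective t
    refine ⟨s * algebraMap R S r, ?_⟩
    rw [Algebra.IsPushout.equiv_tmul, map_mul, ← IsScalarTower.algebraMap_apply R S S',
      IsScalarTower.algebraMap_apply R (R ⧸ I) S']
    rfl
  | add x y hx hy =>
    obtain ⟨a, ha⟩ := hx
    obtain ⟨b, hb⟩ := hy
    exact ⟨a + b, by rw [map_add, ha, hb, map_add]⟩

theorem ker_algebraMap_of_isPushout_quotient :
    RingHom.ker (algebraMap S S') = I.map (algebraMap R S) := by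
  apply le_antisymm
  · intro s hs
    rw [RingHom.mem_ker] at hs
    have h1 : (Algebra.IsPushout.equiv R S (R ⧸ I) S').symm (algebraMap S S' s) = s ⊗ₜ 1 :=
      Algebra.IsPushout.equiv_symm_algebraMap_left R S (R ⧸ I) S' s
    have h2 : (s ⊗ₜ[R] (1 : R ⧸ I)) = 0 := by rw [← h1, hs, map_zero]
    have h3 := congrArg (TensorProduct.tensorQuotEquivQuotSMul S I) h2
    rw [show (1 : R ⧸ I) = Ideal.Quotient.mk I 1 from rfl,
      TensorProduct.tensorQuotEquivQuotSMul_tmul_mk, map_zero, one_smul,
      Submodule.Quotient.mk_eq_zero, ← FlatKit.smul_top_restrictScalars (B := S) S I] at h3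
    have h4 : s ∈ (I.map (algebraMap R S)) • (⊤ : Submodule S S) := h3
    simpa using h4
  · rw [Ideal.map_le_iff_le_comap]
    intro r hr
    rw [Ideal.mem_comap, RingHom.mem_ker, ← IsScalarTower.algebraMap_apply R S S',
      IsScalarTower.algebraMap_apply R (R ⧸ I) S', Ideal.Quotient.algebraMap_eq,
      Ideal.Quotient.eq_zero_iff_mem.2 hr, map_zero]

end PK

section QI
variable {B : Type u} [CommRing B] {F E0 E1 : Type u} [AddCommGroup F] [Module B F]
  [AddCommGroup E0] [Module B E0] [AddCommGroup E1] [Module B E1]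
  (B' : Type u) [CommRing B'] [Algebra B B']

/-- the comparison map `B' ⊗ F → ker (B' ⊗ u)`. -/
noncomputable def lam (f : F →ₗ[B] E0) (u : E0 →ₗ[B] E1) (hfu : ∀ x, u (f x) = 0) :
    B' ⊗[B] F →ₗ[B'] LinearMap.ker (u.baseChange B') :=
  (f.baseChange B').codRestrict _ (fun x => by
    rw [LinearMap.mem_ker, ← LinearMap.comp_apply, ← LinearMap.baseChange_comp]
    have h0 : u ∘ₗ f = 0 := LinearMap.ext hfu
    rw [h0]
    simp)

theorem lam_coe (f : F →ₗ[B] E0) (u : E0 →ₗ[B] E1) (hfu : ∀ x, u (f x) = 0) (x : B' ⊗[B] F) :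
    ((lam B' f u hfu x : LinearMap.ker (u.baseChange B')) : B' ⊗[B] E0) = f.baseChange B' x := rfl

theorem mem_quasiInvIdeal_lam (f : F →ₗ[B] E0) (u : E0 →ₗ[B] E1) (hf : Injective f)
    (hfu : Exact f u) (τ : E1 →ₗ[B] E0) (s : B) (hτ : ∀ x, u (τ (u x)) = s • u x) :
    algebraMap B B' s ∈ quasiInvIdeal (X := B' ⊗[B] F) (Y := LinearMap.ker (u.baseChange B'))
      (lam B' f u (fun x => hfu.apply_apply_eq_zero x)) := by
  have hmem : ∀ x : E0, s • x - τ (u x) ∈ LinearMap.range f := by
    intro x
    rw [← LinearMap.exact_iff.1 hfu, LinearMap.mem_ker, map_sub, map_smul, hτ, sub_self]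
  let ρ : E0 →ₗ[B] LinearMap.range f :=
    (s • LinearMap.id - τ ∘ₗ u).codRestrict _ (fun x => by simpa using hmem x)
  let π : E0 →ₗ[B] F := (LinearEquiv.ofInjective f hf).symm.toLinearMap ∘ₗ ρ
  have hfπ : ∀ x, f (π x) = s • x - τ (u x) := fun x => by
    have h1 := (LinearEquiv.ofInjective f hf).apply_symm_apply (ρ x)
    exact congrArg Subtype.val h1
  have hπf : ∀ y, π (f y) = s • y := by
    intro y
    apply hf
    rw [hfπ, map_smul, hfu.apply_apply_eq_zero, map_zero, sub_zero]
  have key1 : ∀ z : B' ⊗[B] F, π.baseChange B' (f.baseChange B' z) = algebraMap B B' s • z := by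
    intro z
    induction z using TensorProduct.induction_on with
    | zero => simp
    | tmul b y =>
      simp only [LinearMap.baseChange_tmul, hπf]
      rw [TensorProduct.tmul_smul, TensorProduct.smul_tmul', TensorProduct.smul_tmul',
        Algebra.smul_def, smul_eq_mul]
    | add x y hx hy => simp only [map_add, hx, hy, smul_add]
  have key2 : ∀ z : B' ⊗[B] E0, f.baseChange B' (π.baseChange B' z) =
      algebraMap B B' s • z - τ.baseChange B' (u.baseChange B' z) := by
    intro z
    induction z using TensorProduct.induction_on with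
    | zero => simp
    | tmul b x =>
      simp only [LinearMap.baseChange_tmul, hfπ]
      rw [TensorProduct.tmul_sub, TensorProduct.tmul_smul, TensorProduct.smul_tmul',
        TensorProduct.smul_tmul', Algebra.smul_def, smul_eq_mul]
    | add x y hx hy => simp only [map_add, hx, hy, smul_add]; abel
  refine ⟨(π.baseChange B') ∘ₗ (LinearMap.ker (u.baseChange B')).subtype, ?_, ?_⟩
  · refine LinearMap.ext fun z => ?_
    show π.baseChange B' (f.baseChange B' z) = algebraMap B B' s • z
    exact key1 z
  · refine LinearMap.ext fun y => Subtype.ext ?_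
    show f.baseChange B' (π.baseChange B' (y : B' ⊗[B] E0)) = algebraMap B B' s • (y : B' ⊗[B] E0)
    rw [key2, LinearMap.mem_ker.1 y.2, map_zero, sub_zero]

end QI

end Groth.Agent.Lib.Helper21.RelS2
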