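import Mathlib
import Groth.Agent.Lib.Helper21.RelS2A
import Groth.Agent.S18702
import Groth.Agent.S6876

/-!
# Helper21 — RelS2B: the infinitesimal step.

If the double dual of `B' ⊗ F` is flat over the Artinian local ring `A'`, then `B' ⊗ G` is flat over
`A'` (`0 → F → E⁰ → E¹ → G → 0` exact with `E⁰, E¹` projective, `F, G` free off `V(J)`, fibre local
rings of depth `≥ 2` along `V(J)`).
-/

set_option autoImplicit false

namespace Groth.Agent.Lib.Helper21.RelS2

open TensorProduct Function
open Groth.Agent.Lib.Helper21 Groth.Agent.Lib.Helper21.DepthKit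
open Groth.Agent.Lib.Helper21.RetractUpTo Groth.Agent.Lib.Helper21.QuasiInv

universe u

set_option maxHeartbeats 1600000 in
set_option synthInstance.maxHeartbeats 200000 in
theorem flat_baseChange_coker_of_flat_ddual
    (R B : Type u) [CommRing R] [CommRing B] [IsNoetherianRing R] [IsNoetherianRing B] [Algebra R B]
    [Module.Flat R B]
    (A' B' : Type u) [CommRing A'] [CommRing B'] [IsArtinianRing A'] [IsLocalRing A']
    [IsNoetherianRing A'] [IsNoetherianRing B']
    [Algebra R A'] [Algebra B B'] [Algebra A' B'] [Algebra R B'] [IsScalarTower R B B']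
    [IsScalarTower R A' B'] [Algebra.IsPushout R B A' B'] (J : Ideal B)
    (hZ : ∀ q : PrimeSpectrum B, J ≤ q.asIdeal →
      2 ≤ LocCoh.idealDepth (q.asIdeal.map (algebraMap B (EGA4.FibLocRing R B q.asIdeal)))
        (EGA4.FibLocRing R B q.asIdeal))
    (F E0 E1 G : Type u) [AddCommGroup F] [Module B F] [Module.Finite B F]
    [AddCommGroup E0] [Module B E0] [Module.Finite B E0] [Module.Projective B E0]
    [AddCommGroup E1] [Module B E1] [Module.Finite B E1] [Module.Projective B E1]
    [AddCommGroup G] [Module B G] [Module.Finite B G]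
    (f : F →ₗ[B] E0) (u : E0 →ₗ[B] E1) (v : E1 →ₗ[B] G)
    (hf : Function.Injective f) (hfu : Function.Exact f u) (huv : Function.Exact u v)
    (hv : Function.Surjective v)
    (hFU : ∀ q : PrimeSpectrum B, ¬ J ≤ q.asIdeal →
      Module.Free (Localization.AtPrime q.asIdeal) (LocalizedModule q.asIdeal.primeCompl F))
    (hGU : ∀ q : PrimeSpectrum B, ¬ J ≤ q.asIdeal →
      Module.Free (Localization.AtPrime q.asIdeal) (LocalizedModule q.asIdeal.primeCompl G))
    (hD : Module.Flat A' (Module.Dual B' (Module.Dual B' (B' ⊗[B] F)))) :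
    Module.Flat A' (B' ⊗[B] G) := by
  obtain ⟨-, hKrefl, hKdepth, hKiff⟩ := Groth.Agent.S18711.result R B A' B' J hZ F E0 E1 G f u v
    hf hfu huv hv hFU hGU
  haveI := hKrefl
  haveI hpo : Algebra.IsPushout R A' B B' := Algebra.IsPushout.symm inferInstance
  haveI : Module.Flat A' B' := Module.Flat.isBaseChange R A' B B' hpo.out
  set J' := J.map (algebraMap B B') with hJ'
  set K' := LinearMap.ker (u.baseChange B') with hK'
  -- the comparison map
  let lamb : B' ⊗[B] F →ₗ[B'] K' := lam B' f u (fun x => hfu.apply_apply_eq_zero x)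
  obtain ⟨N, hN⟩ := exists_pow_le_retractIdeal G J hGU
  have hq : J' ^ N ≤ quasiInvIdeal (X := B' ⊗[B] F) (Y := K') lamb := by
    rw [hJ', ← Ideal.map_pow, Ideal.map_le_iff_le_comap]
    intro s hs
    obtain ⟨τ, hτ⟩ := Groth.Agent.S18711.exists_genInverse u v huv hv (hN hs)
    exact mem_quasiInvIdeal_lam B' f u hf hfu τ s hτ
  have hq2 : J' ^ N ≤ quasiInvIdeal lamb.dualMap.dualMap :=
    hq.trans ((quasiInvIdeal_le_dualMap _).trans (quasiInvIdeal_le_dualMap _))
  -- depths
  have hB'2 : (2 : ℕ∞) ≤ LocCoh.idealDepth J' B' :=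
    Groth.Agent.S18722.le_idealDepth_self_of_fibre A' B' J' 2
      (RdBC.forall_fibre_self_bc R B A' B' J 2 hZ)
  have hcast2 : (2 : ℕ∞) = ((2 : ℕ) : ℕ∞) := rfl
  haveI : Module.Finite B' (Module.Dual B' (B' ⊗[B] F)) := Groth.Agent.S6876.finite_hom
  haveI : Module.Finite B' (Module.Dual B' (Module.Dual B' (B' ⊗[B] F))) :=
    Groth.Agent.S6876.finite_hom
  haveI : Module.Finite B' (Module.Dual B' K') :=
    Groth.Agent.S6876.finite_hom (R := B') (M := K') (N := B')
  haveI : Module.Finite B' (Module.Dual B' (Module.Dual B' K')) :=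
    Groth.Agent.S6876.finite_hom (R := B') (M := Module.Dual B' K') (N := B')
  have hX : 2 ≤ LocCoh.idealDepth J' (Module.Dual B' (Module.Dual B' (B' ⊗[B] F))) := by
    rw [hcast2] at hB'2 ⊢
    exact Groth.Agent.S18702.le_idealDepth_hom J' 2 le_rfl hB'2
  have hY : 1 ≤ LocCoh.idealDepth J' (Module.Dual B' (Module.Dual B' K')) := by
    have h1 : (2 : ℕ∞) ≤ LocCoh.idealDepth J' (Module.Dual B' (Module.Dual B' K')) := by
      rw [hcast2] at hB'2 ⊢
      exact Groth.Agent.S18702.le_idealDepth_hom J' 2 le_rfl hB'2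
    exact le_trans (by norm_num) h1
  have hbij := bijective_of_pow_le_quasiInvIdeal lamb.dualMap.dualMap J' N hq2 hX hY
  let e : Module.Dual B' (Module.Dual B' (B' ⊗[B] F)) ≃ₗ[B'] K' :=
    (LinearEquiv.ofBijective _ hbij).trans (Module.evalEquiv B' K').symm
  haveI : Module.Flat A' K' := Module.Flat.of_linearEquiv (e.symm.restrictScalars A')
  apply hKiff.1
  intro q'
  exact fibre_depth_of_flat_artinian K' J' hKdepth q'.asIdeal

end Groth.Agent.Lib.Helper21.RelS2
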