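import Mathlib
import Groth.Prelude.Def_FlatCA
import Groth.Agent.Lib.Helper21.EvalLoc

/-!
# Helper21 — RelS2C: localization of the double dual of a base change.

For `C → C'`, primes `n`, `q'` with compatible algebra `C_n → C'_{q'}`:
`((C' ⊗ F)^∨∨)_{q'} ≃ (C'_{q'} ⊗_{C_n} F_n)^∨∨`.
-/

set_option autoImplicit false

namespace Groth.Agent.Lib.Helper21.RelS2

open TensorProduct Function Module

universe u

section
variable (C C' : Type u) [CommRing C] [CommRing C'] [IsNoetherianRing C'] [Algebra C C']
  (n : Ideal C) [n.IsPrime] (q' : Ideal C') [q'.IsPrime]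
  [Algebra (Localization.AtPrime n) (Localization.AtPrime q')]
  [IsScalarTower C (Localization.AtPrime n) (Localization.AtPrime q')]
  (F : Type u) [AddCommGroup F] [Module C F] [Module.Finite C F]

set_option maxHeartbeats 1600000 in
set_option synthInstance.maxHeartbeats 200000 in
/-- `((C' ⊗ F)_{q'} ≃ C'_{q'} ⊗_{C_n} F_n`. -/
noncomputable def locTensorEquiv :
    LocalizedModule q'.primeCompl (C' ⊗[C] F) ≃ₗ[Localization.AtPrime q']
      (Localization.AtPrime q') ⊗[Localization.AtPrime n] (LocalizedModule n.primeCompl F) :=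
  let b1 : IsBaseChange C' (TensorProduct.mk C C' F 1) := TensorProduct.isBaseChange C F C'
  let b2 : IsBaseChange (Localization.AtPrime q')
      (LocalizedModule.mkLinearMap q'.primeCompl (C' ⊗[C] F)) :=
    IsLocalizedModule.isBaseChange q'.primeCompl (Localization.AtPrime q') _
  let c1 : IsBaseChange (Localization.AtPrime n) (LocalizedModule.mkLinearMap n.primeCompl F) :=
    IsLocalizedModule.isBaseChange n.primeCompl (Localization.AtPrime n) _
  let c2 : IsBaseChange (Localization.AtPrime q')
      (TensorProduct.mk (Localization.AtPrime n) (Localization.AtPrime q')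
        (LocalizedModule n.primeCompl F) 1) :=
    TensorProduct.isBaseChange (Localization.AtPrime n) (LocalizedModule n.primeCompl F)
      (Localization.AtPrime q')
  (b1.comp b2).equiv.symm ≪≫ₗ (c1.comp c2).equiv

set_option maxHeartbeats 1600000 in
set_option synthInstance.maxHeartbeats 200000 in
/-- `((C' ⊗ F)^∨∨)_{q'} ≃ (C'_{q'} ⊗_{C_n} F_n)^∨∨`. -/
noncomputable def locDdualEquiv :
    LocalizedModule q'.primeCompl (Dual C' (Dual C' (C' ⊗[C] F))) ≃ₗ[Localization.AtPrime q']
      Dual (Localization.AtPrime q') (Dual (Localization.AtPrime q')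
        ((Localization.AtPrime q') ⊗[Localization.AtPrime n] (LocalizedModule n.primeCompl F))) :=
  (LinearEquiv.extendScalarsOfIsLocalization q'.primeCompl (Localization.AtPrime q')
    (IsLocalizedModule.iso q'.primeCompl (EvalLoc.D2 (C' ⊗[C] F) q'))) ≪≫ₗ
    (locTensorEquiv C C' n q' F).dualMap.dualMap

end

section
variable (A' C C' : Type u) [CommRing A'] [CommRing C] [CommRing C'] [IsNoetherianRing C']
  [Algebra C C'] [Algebra A' C']
  (n : Ideal C) [n.IsPrime] (q' : Ideal C') [q'.IsPrime]
  [Algebra (Localization.AtPrime n) (Localization.AtPrime q')]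
  [IsScalarTower C (Localization.AtPrime n) (Localization.AtPrime q')]
  (F : Type u) [AddCommGroup F] [Module C F] [Module.Finite C F]

set_option maxHeartbeats 1600000 in
set_option synthInstance.maxHeartbeats 200000 in
theorem flat_ddual_of_flatAt
    (h : FlatCA.FlatAt A' q' (Dual C' (Dual C' (C' ⊗[C] F)))) :
    Module.Flat A' (Dual (Localization.AtPrime q') (Dual (Localization.AtPrime q')
      ((Localization.AtPrime q') ⊗[Localization.AtPrime n] (LocalizedModule n.primeCompl F)))) := by
  haveI : Module.Flat A' (LocalizedModule q'.primeCompl (Dual C' (Dual C' (C' ⊗[C] F)))) := h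
  exact Module.Flat.of_linearEquiv ((locDdualEquiv C C' n q' F).symm.restrictScalars A')

end

end Groth.Agent.Lib.Helper21.RelS2
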