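import Mathlib
import Groth.Agent.Lib.Helper21.RelS2A

/-!
# Helper21 — RelS2D: the local ring of a pushout at a prime over `n` is the pushout of `C_n`.
-/

set_option autoImplicit false

namespace Groth.Agent.Lib.Helper21.RelS2

open TensorProduct Function

universe u

section Loc
variable (R C A' C' : Type u) [CommRing R] [CommRing C] [CommRing A'] [CommRing C']
  [Algebra R C] [Algebra R A'] [Algebra C C'] [Algebra A' C'] [Algebra R C']
  [IsScalarTower R C C'] [IsScalarTower R A' C']
  (n : Ideal C) [n.IsPrime] (q' : Ideal C') [q'.IsPrime]
  [Algebra (Localization.AtPrime n) (Localization.AtPrime q')]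
  [IsScalarTower C (Localization.AtPrime n) (Localization.AtPrime q')]

theorem isScalarTower_loc :
    IsScalarTower R (Localization.AtPrime n) (Localization.AtPrime q') := by
  refine IsScalarTower.of_algebraMap_eq fun x => ?_
  rw [IsScalarTower.algebraMap_apply R C (Localization.AtPrime n),
    ← IsScalarTower.algebraMap_apply C (Localization.AtPrime n) (Localization.AtPrime q'),
    IsScalarTower.algebraMap_apply R C' (Localization.AtPrime q'),
    IsScalarTower.algebraMap_apply R C C',
    ← IsScalarTower.algebraMap_apply C C' (Localization.AtPrime q')]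

variable [IsScalarTower R (Localization.AtPrime n) (Localization.AtPrime q')]
  [Algebra.IsPushout R C A' C']

set_option maxHeartbeats 1600000 in
set_option synthInstance.maxHeartbeats 200000 in
theorem isPushout_loc (hsurj : Function.Surjective (algebraMap C C'))
    (hq : q'.comap (algebraMap C C') = n) :
    Algebra.IsPushout R (Localization.AtPrime n) A' (Localization.AtPrime q') := by
  have hmem : ∀ c : C, c ∈ n ↔ algebraMap C C' c ∈ q' := by
    intro c
    rw [← hq, Ideal.mem_comap]
  have hM : Algebra.algebraMapSubmonoid C' n.primeCompl = q'.primeCompl := by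
    ext y
    constructor
    · rintro ⟨c, hc, rfl⟩
      exact fun hy => hc ((hmem c).2 hy)
    · intro hy
      obtain ⟨c, rfl⟩ := hsurj y
      exact ⟨c, fun hc => hy ((hmem c).1 hc), rfl⟩
  haveI : IsLocalization (Algebra.algebraMapSubmonoid C' n.primeCompl)
      (Localization.AtPrime q') := by
    rw [hM]
    infer_instance
  have h1 : Algebra.IsPushout C C' (Localization.AtPrime n) (Localization.AtPrime q') :=
    Algebra.isPushout_of_isLocalization n.primeCompl (Localization.AtPrime n) C'
      (Localization.AtPrime q')
  exact (Algebra.IsPushout.comp_iff R C A' (S' := C') (T := Localization.AtPrime n)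
    (T' := Localization.AtPrime q')).2 h1.symm

end Loc

section Exists
variable (R C : Type u) [CommRing R] [CommRing C] [Algebra R C] (I : Ideal R)
  (C' : Type u) [CommRing C'] [Algebra R C'] [Algebra C C'] [Algebra (R ⧸ I) C']
  [IsScalarTower R C C'] [IsScalarTower R (R ⧸ I) C'] [Algebra.IsPushout R C (R ⧸ I) C']
  (n : Ideal C) [n.IsPrime]

theorem exists_prime_over (hI : I.map (algebraMap R C) ≤ n) :
    ∃ q' : Ideal C', q'.IsPrime ∧ q'.comap (algebraMap C C') = n := by
  have hsurj := surjective_algebraMap_of_isPushout_quotient R C I C'
  have hker := ker_algebraMap_of_isPushout_quotient R C I C'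
  have hle : RingHom.ker (algebraMap C C') ≤ n := hker ▸ hI
  refine ⟨n.map (algebraMap C C'), Ideal.map_isPrime_of_surjective hsurj hle, ?_⟩
  rw [Ideal.comap_map_of_surjective (algebraMap C C') hsurj n]
  apply le_antisymm
  · exact sup_le le_rfl hle
  · exact le_sup_left

end Exists

end Groth.Agent.Lib.Helper21.RelS2
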