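import Mathlib
import Groth.Agent.S18711
import Groth.Agent.S18702
import Groth.Agent.S2612
import Groth.Agent.Lib.Helper21.FibGen

/-!
# Helper21 — RelS2E: `(S₂)` for a module free off `V(J)` with `depth_J ≥ 2` over an `(S₂)` ring.
-/

set_option autoImplicit false

namespace Groth.Agent.Lib.Helper21.RelS2

open TensorProduct Function Module
open Groth.Agent.Lib.Helper21 Groth.Agent.Lib.Helper21.DepthKit

universe u

theorem hasSk_two_of_free_off_of_depth (T : Type u) [CommRing T] [IsNoetherianRing T] (Jb : Ideal T)
    (X : Type u) [AddCommGroup X] [Module T X] [Module.Finite T X]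
    (hT : LocCoh.HasSk 2 T T)
    (hfree : ∀ r : PrimeSpectrum T, ¬ Jb ≤ r.asIdeal →
      Module.Free (Localization.AtPrime r.asIdeal) (LocalizedModule r.asIdeal.primeCompl X))
    (hd : 2 ≤ LocCoh.idealDepth Jb X) : LocCoh.HasSk 2 T X := by
  intro p _
  by_cases hJ : Jb ≤ p
  · refine (min_le_left _ _).trans ?_
    have h1 : ((2 : ℕ) : ℕ∞) ≤
        LocCoh.depth (Localization.AtPrime p) (LocalizedModule p.primeCompl X) := by
      rw [LocCoh.depth, ← Localization.AtPrime.map_eq_maximalIdeal]
      refine le_trans ?_ (hd.trans ((Groth.Agent.S18711.idealDepth_mono hJ X).trans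
        (FibGen.idealDepth_le_localization p.primeCompl p X)))
      norm_num
    have h2 : ((((2 : ℕ) : ℕ∞)) : WithBot ℕ∞) ≤ ((LocCoh.depth (Localization.AtPrime p)
        (LocalizedModule p.primeCompl X) : ℕ∞) : WithBot ℕ∞) := WithBot.coe_le_coe.2 h1
    exact h2
  · haveI := hfree ⟨p, inferInstance⟩ hJ
    refine sk_transfer ?_ ?_ (hT p)
    · rw [supportDim_eq_of_equiv (Groth.Agent.S6880.locSelfEquiv p), supportDim_self_eq_ringKrullDim]
      exact supportDim_le_ringKrullDim _ _
    · intro j hj hjN
      rw [depth_congr (Groth.Agent.S6880.locSelfEquiv p)] at hjN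
      let b := Module.finBasis (Localization.AtPrime p) (LocalizedModule p.primeCompl X)
      let e := b.equivFun
      rw [depth_congr e]
      rcases Nat.eq_zero_or_pos (Module.finrank (Localization.AtPrime p)
        (LocalizedModule p.primeCompl X)) with h0 | h0
      · -- zero module: depth is ⊤
        haveI : IsEmpty (Fin (Module.finrank (Localization.AtPrime p)
            (LocalizedModule p.primeCompl X))) := by rw [h0]; infer_instance
        have : LocCoh.depth (Localization.AtPrime p)
            (Fin (Module.finrank (Localization.AtPrime p) (LocalizedModule p.primeCompl X)) →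
              Localization.AtPrime p) = ⊤ := by
          rw [LocCoh.depth, LocCoh.idealDepth, if_pos]
          exact Subsingleton.elim _ _
        rw [this]
        exact le_top
      · obtain ⟨r, hr⟩ := Nat.exists_eq_succ_of_ne_zero h0.ne'
        rw [hr, Groth.Agent.S2612.depth_pi_eq]
        exact hjN

end Groth.Agent.Lib.Helper21.RelS2
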