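import Mathlib
import Groth.Agent.Lib.Helper21.RetractUpTo

/-!
# More on retracts up to a scalar: duals, equivalences, cokernels, freeness of localizations
-/

set_option autoImplicit false
set_option linter.unusedSectionVars false
universe u

namespace Groth.Agent.Lib.Helper21.RetractUpTo

open TensorProduct

section Basic
variable {B : Type u} [CommRing B] {F F' : Type u} [AddCommGroup F] [Module B F]
  [AddCommGroup F'] [Module B F']

theorem IsRetractUpTo.of_equiv {s : B} (e : F ≃ₗ[B] F') (h : IsRetractUpTo F s) :
    IsRetractUpTo F' s := by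
  obtain ⟨P, _, _, hf, hp, α, β, hαβ⟩ := h
  refine ⟨P, inferInstance, inferInstance, hf, hp, α ∘ₗ e.symm.toLinearMap, e.toLinearMap ∘ₗ β, ?_⟩
  ext x
  have := LinearMap.congr_fun hαβ (e.symm x)
  simp only [LinearMap.comp_apply, LinearMap.smul_apply, LinearMap.id_apply,
    LinearEquiv.coe_coe] at this ⊢
  rw [this, map_smul, LinearEquiv.apply_symm_apply]

theorem IsRetractUpTo.dual {s : B} (h : IsRetractUpTo F s) :
    IsRetractUpTo (Module.Dual B F) s := by
  obtain ⟨P, _, _, hf, hp, α, β, hαβ⟩ := h
  haveI := hf
  haveI := hp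
  refine ⟨Module.Dual B P, inferInstance, inferInstance, inferInstance, inferInstance,
    β.dualMap, α.dualMap, ?_⟩
  rw [LinearMap.dualMap_comp_dualMap, hαβ]
  ext f x
  simp

/-- if `h τ h = s h` then the cokernel of `h` is a retract of the target up to `s`. -/
theorem isRetractUpTo_quotient_range {X Y : Type u} [AddCommGroup X] [Module B X]
    [AddCommGroup Y] [Module B Y] [Module.Finite B Y] [Module.Projective B Y]
    (h : X →ₗ[B] Y) (τ : Y →ₗ[B] X) (s : B) (hτ : ∀ x, h (τ (h x)) = s • h x) :
    IsRetractUpTo (Y ⧸ LinearMap.range h) s := by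
  let a : Y →ₗ[B] Y := s • LinearMap.id - h ∘ₗ τ
  have ha : LinearMap.range h ≤ LinearMap.ker a := by
    rintro _ ⟨x, rfl⟩
    rw [LinearMap.mem_ker]
    show s • h x - h (τ (h x)) = 0
    rw [hτ, sub_self]
  refine ⟨Y, inferInstance, inferInstance, inferInstance, inferInstance,
    (LinearMap.range h).liftQ a ha, (LinearMap.range h).mkQ, ?_⟩
  ext y
  show (Submodule.Quotient.mk (s • y - h (τ y)) : Y ⧸ LinearMap.range h) =
    s • (Submodule.Quotient.mk y : Y ⧸ LinearMap.range h)
  rw [Submodule.Quotient.mk_sub, Submodule.Quotient.mk_smul,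
    (Submodule.Quotient.mk_eq_zero (LinearMap.range h)).2 ⟨τ y, rfl⟩, sub_zero]

end Basic

section Free
variable {B : Type u} [CommRing B] (G : Type u) [AddCommGroup G] [Module B G] [Module.Finite B G]

/-- a retract up to `s ∉ q` of a finite projective module is free at `q`. -/
theorem free_localizedModule_of_isRetractUpTo (q : Ideal B) [q.IsPrime] {s : B}
    (hs : IsRetractUpTo G s) (hsq : s ∉ q) :
    Module.Free (Localization.AtPrime q) (LocalizedModule q.primeCompl G) := by
  obtain ⟨P, _, _, hf, hp, α, β, hαβ⟩ := hs
  haveI := hf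
  haveI := hp
  let S := q.primeCompl
  let αq : LocalizedModule S G →ₗ[Localization S] LocalizedModule S P := LocalizedModule.map S α
  let βq : LocalizedModule S P →ₗ[Localization S] LocalizedModule S G := LocalizedModule.map S β
  have hunit : IsUnit (algebraMap B (Localization S) s) :=
    IsLocalization.map_units (Localization S) (⟨s, hsq⟩ : S)
  obtain ⟨w, hw⟩ := hunit
  have hcomp : ((↑w⁻¹ : Localization S) • βq) ∘ₗ αq = LinearMap.id := by
    ext x
    induction x using LocalizedModule.induction_on with
    | h g t =>
      show (↑w⁻¹ : Localization S) • βq (αq (LocalizedModule.mk g t)) = LocalizedModule.mk g t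
      have h1 : βq (αq (LocalizedModule.mk g t)) = LocalizedModule.mk (β (α g)) t := by
        simp [αq, βq, LocalizedModule.map_mk]
      have h2 : β (α g) = s • g := LinearMap.congr_fun hαβ g
      rw [h1, h2]
      have h3 : (LocalizedModule.mk (s • g) t : LocalizedModule S G) =
          algebraMap B (Localization S) s • LocalizedModule.mk g t := by
        rw [algebraMap_smul, LocalizedModule.smul'_mk]
      rw [h3, ← hw, smul_smul, Units.inv_mul, one_smul]
  haveI : Module.Projective (Localization S) (LocalizedModule S G) :=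
    Module.Projective.of_split αq ((↑w⁻¹ : Localization S) • βq) hcomp
  exact Module.free_of_flat_of_isLocalRing

end Free

end Groth.Agent.Lib.Helper21.RetractUpTo
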