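import Mathlib
import Groth.Agent.Lib.Helper21.RelS2B
import Groth.Agent.Lib.Helper2.PowCrit
import Groth.Agent.S18709
import Groth.Agent.S18708

/-!
# Helper21 — RelS2F: the infinitesimal criterion for a flat local homomorphism.
-/

set_option autoImplicit false

namespace Groth.Agent.Lib.Helper21.RelS2

open TensorProduct Function IsLocalRing
open Groth.Agent.Lib.Helper21 Groth.Agent.Lib.Helper21.DepthKit

universe u

section Quot
variable (R : Type u) [CommRing R] [IsLocalRing R] [IsNoetherianRing R]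

theorem nontrivial_quot_pow (k : ℕ) (hk : 0 < k) : Nontrivial (R ⧸ maximalIdeal R ^ k) := by
  refine Ideal.Quotient.nontrivial_iff.2 (fun h => ?_)
  have h1 : maximalIdeal R ^ k ≤ maximalIdeal R := Ideal.pow_le_self hk.ne'
  rw [h] at h1
  exact (IsLocalRing.maximalIdeal.isMaximal R).ne_top (top_le_iff.1 h1)

theorem isArtinianRing_quot_pow (k : ℕ) : IsArtinianRing (R ⧸ maximalIdeal R ^ k) := by
  rw [isArtinianRing_iff_krullDimLE_zero, Ring.krullDimLE_zero_iff]
  intro P hP
  rw [Ideal.isMaximal_iff]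
  refine ⟨fun h => hP.ne_top ((Ideal.eq_top_iff_one _).2 h), fun Q x _ hxP hxQ => ?_⟩
  obtain ⟨y, rfl⟩ := Ideal.Quotient.mk_surjective x
  by_cases hy : y ∈ maximalIdeal R
  · exfalso
    apply hxP
    apply hP.mem_of_pow_mem k
    rw [← map_pow, Ideal.Quotient.eq_zero_iff_mem.2 (Ideal.pow_mem_pow hy k)]
    exact zero_mem _
  · have hu : IsUnit y := by
      by_contra h
      exact hy ((mem_maximalIdeal y).2 h)
    have hu' := hu.map (Ideal.Quotient.mk (maximalIdeal R ^ k))
    exact (Ideal.eq_top_iff_one _).1 (Ideal.eq_top_of_isUnit_mem _ hxQ hu')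

end Quot

section Depth
variable (R B : Type u) [CommRing R] [CommRing B] [IsNoetherianRing R] [IsNoetherianRing B]
  [Algebra R B] [Module.Flat R B] (I : Ideal R)

set_option maxHeartbeats 1600000 in
set_option synthInstance.maxHeartbeats 200000 in
/-- depth of the reduction of a finite projective module along `J`. -/
theorem le_idealDepth_quot_of_pushout
    (B' : Type u) [CommRing B'] [IsNoetherianRing B'] [Algebra B B'] [Algebra (R ⧸ I) B']
    [Algebra R B'] [IsScalarTower R B B'] [IsScalarTower R (R ⧸ I) B']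
    [Algebra.IsPushout R B (R ⧸ I) B'] (J : Ideal B)
    (hZ : ∀ q : PrimeSpectrum B, J ≤ q.asIdeal →
      2 ≤ LocCoh.idealDepth (q.asIdeal.map (algebraMap B (EGA4.FibLocRing R B q.asIdeal)))
        (EGA4.FibLocRing R B q.asIdeal))
    (E : Type u) [AddCommGroup E] [Module B E] [Module.Finite B E] [Module.Projective B E] :
    2 ≤ LocCoh.idealDepth J (E ⧸ (I.map (algebraMap R B)) • (⊤ : Submodule B E)) := by
  have hsurj := surjective_algebraMap_of_isPushout_quotient R B I B'
  have hker := ker_algebraMap_of_isPushout_quotient R B I B'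
  haveI hpo : Algebra.IsPushout R (R ⧸ I) B B' := Algebra.IsPushout.symm inferInstance
  haveI : Module.Flat (R ⧸ I) B' := Module.Flat.isBaseChange R (R ⧸ I) B B' hpo.out
  set J' := J.map (algebraMap B B') with hJ'
  have hB'2 : (2 : ℕ∞) ≤ LocCoh.idealDepth J' B' :=
    Groth.Agent.S18722.le_idealDepth_self_of_fibre (R ⧸ I) B' J' 2
      (RdBC.forall_fibre_self_bc R B (R ⧸ I) B' J 2 hZ)
  have hcast2 : (2 : ℕ∞) = ((2 : ℕ) : ℕ∞) := rfl
  have h1 : (2 : ℕ∞) ≤ LocCoh.idealDepth J' (B' ⊗[B] E) := by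
    rw [hcast2] at hB'2 ⊢
    exact Groth.Agent.S18702.le_idealDepth_of_reflexive J' (G := B' ⊗[B] E) 2 le_rfl hB'2
  rw [hJ', ← idealDepth_map_of_surjective (B' ⊗[B] E) hsurj J] at h1
  -- the `B`-linear identification
  let e0 : (B ⧸ RingHom.ker (algebraMap B B')) ≃ₗ[B] B' :=
    LinearMap.quotKerEquivOfSurjective (Algebra.linearMap B B') hsurj
  let e1 : (B ⧸ I.map (algebraMap R B)) ≃ₗ[B] B' :=
    (Submodule.quotEquivOfEq _ _ hker.symm) ≪≫ₗ e0
  let e2 : (E ⧸ (I.map (algebraMap R B)) • (⊤ : Submodule B E)) ≃ₗ[B] B' ⊗[B] E :=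
    (TensorProduct.quotTensorEquivQuotSMul E (I.map (algebraMap R B))).symm ≪≫ₗ
      LinearEquiv.rTensor E e1
  rw [idealDepth_congr J e2]
  exact h1

end Depth

section LocalMain
variable (R B : Type u) [CommRing R] [CommRing B] [IsNoetherianRing R] [IsLocalRing R]
  [IsNoetherianRing B] [IsLocalRing B] [Algebra R B] [Module.Flat R B]
  [IsLocalHom (algebraMap R B)]

set_option maxHeartbeats 1600000 in
set_option synthInstance.maxHeartbeats 200000 in
/-- the infinitesimal criterion for a flat local homomorphism of Noetherian local rings. -/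
theorem local_main (J : Ideal B)
    (hZ : ∀ q : PrimeSpectrum B, J ≤ q.asIdeal →
      2 ≤ LocCoh.idealDepth (q.asIdeal.map (algebraMap B (EGA4.FibLocRing R B q.asIdeal)))
        (EGA4.FibLocRing R B q.asIdeal))
    (F : Type u) [AddCommGroup F] [Module B F] [Module R F] [IsScalarTower R B F]
    [Module.Finite B F] [Module.IsReflexive B F]
    (hFU : ∀ q : PrimeSpectrum B, ¬ J ≤ q.asIdeal →
      Module.Free (Localization.AtPrime q.asIdeal) (LocalizedModule q.asIdeal.primeCompl F))
    (hI : ∀ k : ℕ, 0 < k → ∃ (B' : Type u) (_ : CommRing B') (_ : IsNoetherianRing B')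
      (_ : Algebra B B') (_ : Algebra (R ⧸ maximalIdeal R ^ k) B') (_ : Algebra R B')
      (_ : IsScalarTower R B B') (_ : IsScalarTower R (R ⧸ maximalIdeal R ^ k) B')
      (_ : Algebra.IsPushout R B (R ⧸ maximalIdeal R ^ k) B'),
      Module.Flat (R ⧸ maximalIdeal R ^ k) (Module.Dual B' (Module.Dual B' (B' ⊗[B] F)))) :
    Module.Flat R F ∧ 2 ≤ LocCoh.idealDepth J (EGA4.FibMod R B F) := by
  classical
  obtain ⟨a, b, g, h, hg, hgh, hGU⟩ := Groth.Agent.S18709.result B J F hFU
  have huv : Function.Exact h (LinearMap.range h).mkQ := LinearMap.exact_map_mkQ_range h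
  have hv : Function.Surjective (LinearMap.range h).mkQ := Submodule.mkQ_surjective _
  haveI : Module.Flat R (Fin a → B) := Module.Flat.trans R B (Fin a → B)
  haveI : Module.Flat R (Fin b → B) := Module.Flat.trans R B (Fin b → B)
  have hGk : ∀ k : ℕ, 0 < k → Module.Flat (R ⧸ maximalIdeal R ^ k)
      ((R ⧸ maximalIdeal R ^ k) ⊗[R] ((Fin b → B) ⧸ LinearMap.range h)) := by
    intro k hk
    obtain ⟨B', i1, i2, i3, i4, i5, i6, i7, i8, hD⟩ := hI k hk
    haveI := nontrivial_quot_pow R k hk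
    haveI := isArtinianRing_quot_pow R k
    haveI hfl := flat_baseChange_coker_of_flat_ddual R B (R ⧸ maximalIdeal R ^ k) B' J hZ F
      (Fin a → B) (Fin b → B) ((Fin b → B) ⧸ LinearMap.range h) g h (LinearMap.range h).mkQ
      hg hgh huv hv hFU hGU hD
    haveI : Algebra.IsPushout R (R ⧸ maximalIdeal R ^ k) B B' :=
      Algebra.IsPushout.symm inferInstance
    exact Module.Flat.of_linearEquiv (Algebra.IsPushout.cancelBaseChange R
      (R ⧸ maximalIdeal R ^ k) B B' ((Fin b → B) ⧸ LinearMap.range h)).symm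
  have hJac : (maximalIdeal R).map (algebraMap R B) ≤ Ideal.jacobson ⊥ := by
    rw [IsLocalRing.jacobson_eq_maximalIdeal ⊥ bot_ne_top]
    exact IsLocalRing.map_maximalIdeal_le (algebraMap R B)
  haveI hGflat : Module.Flat R ((Fin b → B) ⧸ LinearMap.range h) :=
    Groth.Agent.Lib.Helper2.PowCrit.flat_of_forall_flat_quotient_pow (S := B) (maximalIdeal R)
      hJac hGk
  refine ⟨Groth.Agent.S18708.flat_F_of_flat g h (LinearMap.range h).mkQ hgh huv hv hg, ?_⟩
  obtain ⟨B', i1, i2, i3, i4, i5, i6, i7, i8, -⟩ := hI 1 one_pos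
  have h0 := le_idealDepth_quot_of_pushout R B (maximalIdeal R ^ 1) B' J hZ (Fin a → B)
  have h1 := le_idealDepth_quot_of_pushout R B (maximalIdeal R ^ 1) B' J hZ (Fin b → B)
  rw [pow_one] at h0 h1
  exact Groth.Agent.S18708.depth_of_flat J g h (LinearMap.range h).mkQ hgh huv hv hg h0
    (le_trans (by norm_num) h1)

end LocalMain

end Groth.Agent.Lib.Helper21.RelS2
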