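import Mathlib
import Groth.Agent.Lib.Helper21.SkOpen1
import Groth.Agent.Lib.Helper21.Coprof8

set_option autoImplicit false

namespace Groth.Agent.Lib.Helper21.SkOpen

open AlgebraicGeometry CategoryTheory Limits IsLocalRing TensorProduct Topology Module
open Groth.Agent.Lib.Helper21.FibreStalk Groth.Agent.Lib.Helper21.FibreBCAlg
open Groth.Agent.Lib.Helper21.FibreBC Groth.Agent.Lib.Helper21.ConsLoc
open Groth.Agent.Lib.Helper21

universe u

section Equiv

variable {R R' : Type u} [CommRing R] [CommRing R']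

theorem depth_dim_of_ringEquiv' (e : R ≃+* R') (P : Ideal R') [P.IsPrime] (p : Ideal R) [p.IsPrime]
    (hp : p = P.comap (e : R →+* R')) :
    LocCoh.depth (Localization.AtPrime p) (LocalizedModule p.primeCompl R) =
        LocCoh.depth (Localization.AtPrime P) (LocalizedModule P.primeCompl R') ∧
      supportDim (Localization.AtPrime p) (LocalizedModule p.primeCompl R) =
        supportDim (Localization.AtPrime P) (LocalizedModule P.primeCompl R') := by
  subst hp
  letI : Algebra R R' := (e : R →+* R').toAlgebra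
  have hs : Function.Surjective (algebraMap R R') := e.surjective
  have hd := DepthKit.depth_localization_of_surjective (A := R) (B := R') (N := R') hs P
  have hsd := DepthKit.supportDim_localization_of_surjective (A := R) (B := R') (N := R') hs P
  have hsm : ∀ (a x : R), e (a • x) = a • e x := fun a x => by
    change e (a * x) = (algebraMap R R' a) * e x
    rw [map_mul]; rfl
  let l : R ≃ₗ[R] R' :=
    { e.toAddEquiv with map_smul' := hsm }
  have hd2 := CMFibKit.depth_loc_congr l (P.comap (algebraMap R R'))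
  have hsd2 := CMFibKit.supportDim_loc_congr l (P.comap (algebraMap R R'))
  exact ⟨hd2.trans hd, hsd2.trans hsd⟩

/-- Serre's condition `(S_n)` is invariant under ring isomorphisms (no finiteness). -/
theorem hasSk_of_ringEquiv' (e : R ≃+* R') (n : ℕ) (h : LocCoh.HasSk n R R) :
    LocCoh.HasSk n R' R' := by
  intro P hP
  haveI : (P.comap (e : R →+* R')).IsPrime := Ideal.comap_isPrime _ _
  obtain ⟨h1, h2⟩ := depth_dim_of_ringEquiv' e P _ rfl
  rw [← h1, ← h2]
  exact h _

theorem hasSk_iff_of_ringEquiv (e : R ≃+* R') (n : ℕ) :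
    LocCoh.HasSk n R R ↔ LocCoh.HasSk n R' R' :=
  ⟨hasSk_of_ringEquiv' e n, hasSk_of_ringEquiv' e.symm n⟩

end Equiv

/-- the local ring at `x` of the fibre through `x` satisfies `(S_k)`. -/
def SkP (k : ℕ) {X S : Scheme.{u}} (f : X ⟶ S) (x : X) : Prop :=
  LocCoh.HasSk k ((f.fiber (f x)).presheaf.stalk (f.asFiber x))
    ((f.fiber (f x)).presheaf.stalk (f.asFiber x))

theorem skP_iff_quot (k : ℕ) {X S : Scheme.{u}} (f : X ⟶ S) (x : X) :
    SkP k f x ↔ LocCoh.HasSk k (X.presheaf.stalk x ⧸ fibIdeal f x)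
      (X.presheaf.stalk x ⧸ fibIdeal f x) := by
  obtain ⟨e⟩ := nonempty_fibreStalkEquiv f x
  exact hasSk_iff_of_ringEquiv e k

theorem skP_comp_iff_of_isIso_stalkMap (k : ℕ) {X' X Y : Scheme.{u}} (j : X' ⟶ X) (f : X ⟶ Y)
    (x' : X') [IsIso (j.stalkMap x')] : SkP k (j ≫ f) x' ↔ SkP k f (j x') := by
  rw [skP_iff_quot, skP_iff_quot]
  have hcomp : ((j ≫ f).stalkMap x').hom =
      (j.stalkMap x').hom.comp (f.stalkMap (j x')).hom := by
    rw [Scheme.Hom.stalkMap_comp]
    rfl
  let ε : X.presheaf.stalk (j x') ≃+* X'.presheaf.stalk x' :=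
    (asIso (j.stalkMap x')).commRingCatIsoToRingEquiv
  have hε : (ε : X.presheaf.stalk (j x') →+* _) = (j.stalkMap x').hom := rfl
  have hI : fibIdeal (j ≫ f) x' = (fibIdeal f (j x')).map (ε : X.presheaf.stalk (j x') →+* _) := by
    show (maximalIdeal (Y.presheaf.stalk (f (j x')))).map ((j ≫ f).stalkMap x').hom = _
    rw [hcomp, hε]
    exact (Ideal.map_map _ _).symm
  exact (hasSk_iff_of_ringEquiv
    (Ideal.quotientEquiv (fibIdeal f (j x')) (fibIdeal (j ≫ f) x') ε hI) k).symm

variable {X Y X' Y' : Scheme.{u}} {f : X ⟶ Y} {f' : X' ⟶ Y'} {g' : X' ⟶ X} {g : Y' ⟶ Y}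

attribute [local instance] resAlg fibOver Curv2.stalkAlgebra

/-- **`(S_k)` of the fibre at a point is invariant under base change**. -/
theorem skP_bc_iff [LocallyOfFiniteType f] (hc : IsPullback g' f' f g) (k : ℕ) (x' : X') :
    SkP k f' x' ↔ SkP k f (g' x') := by
  haveI hft : LocallyOfFiniteType (f.fiberToSpecResidueField (g (f' x'))) :=
    MorphismProperty.pullback_snd _ _ inferInstance
  haveI : IsLocallyNoetherian (f.fiber (g (f' x'))) :=
    LocallyOfFiniteType.isLocallyNoetherian (f.fiberToSpecResidueField _)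
  haveI : LocallyOfFiniteType ((f.fiber (g (f' x'))) ↘
      Spec (CommRingCat.of (Y.residueField (g (f' x'))))) := hft
  obtain ⟨x₁, h1, Q, hQ, hQm, ⟨e⟩⟩ := exists_fibre_stalk_bc hc x'
  obtain ⟨e2⟩ := nonempty_stalk_equiv_asFiber f (g' x') (g (f' x')) x₁ h1
  have hE : Algebra.EssFiniteType (Y.residueField (g (f' x')))
      ((f.fiber (g (f' x'))).presheaf.stalk x₁) :=
    essFiniteType_curvStalkMap (Y.residueField (g (f' x'))) (f.fiber (g (f' x'))) x₁
  have h := sk_loc_tensor_iff (Y.residueField (g (f' x')))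
    ((f.fiber (g (f' x'))).presheaf.stalk x₁) (Y'.residueField (f' x')) (Or.inl hE) Q hQm k
  unfold SkP
  rw [hasSk_iff_of_ringEquiv e k, h, hasSk_iff_of_ringEquiv e2 k]

theorem skP_src (k : ℕ) {X' X S : Scheme.{u}} (j : X' ⟶ X) [IsOpenImmersion j] (f : X ⟶ S)
    (x' : X') : SkP k (j ≫ f) x' ↔ SkP k f (j x') :=
  skP_comp_iff_of_isIso_stalkMap k j f x'

theorem skP_tgt (k : ℕ) {X V S : Scheme.{u}} (ψ : X ⟶ V) (j : V ⟶ S)
    [IsOpenImmersion j] [LocallyOfFiniteType (ψ ≫ j)] (x : X) : SkP k ψ x ↔ SkP k (ψ ≫ j) x :=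
  skP_bc_iff (isPullback_id_of_mono ψ j) k x

theorem skP_congr (k : ℕ) {X S : Scheme.{u}} {f₁ f₂ : X ⟶ S} (e : f₁ = f₂) (x : X) :
    SkP k f₁ x ↔ SkP k f₂ x := by
  subst e; exact Iff.rfl

end Groth.Agent.Lib.Helper21.SkOpen
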