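import Mathlib
import Groth.Agent.Lib.Helper21.SkOpen2
import Groth.Agent.Lib.Helper21.MCopChev
import Groth.Agent.Lib.Helper21.FlatLocal10

set_option autoImplicit false

namespace Groth.Agent.Lib.Helper21.SkOpen

open AlgebraicGeometry CategoryTheory Limits IsLocalRing TensorProduct Topology Module
open Groth.Agent.Lib.Helper21 Groth.Agent.Lib.Helper21.MCop Groth.Agent.Lib.Helper21.FlatLocal

universe u

section Defs

variable (A B : Type u) [CommRing A] [CommRing B] [Algebra A B]

/-- the locus of primes `q` of `B` where the fibre local ring `B_q / p B_q` has `(S_k)`. -/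
def skSet (k : ℕ) : Set (PrimeSpectrum B) :=
  {q | LocCoh.HasSk k (EGA4.FibLocRing A B q.asIdeal) (EGA4.FibLocRing A B q.asIdeal)}

/-- the `(S_k)` inequality for the fibre local ring at `r`. -/
def SkIneqAt (k : ℕ) (r : PrimeSpectrum B) : Prop :=
  min (k : WithBot ℕ∞)
      (supportDim (Localization.AtPrime r.asIdeal) (EGA4.FibLocMod A B r.asIdeal B)) ≤
    ((LocCoh.depth (Localization.AtPrime r.asIdeal) (EGA4.FibLocMod A B r.asIdeal B) : ℕ∞) :
      WithBot ℕ∞)

theorem mem_skSet_iff_skP (k : ℕ) (q : PrimeSpectrum B) :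
    q ∈ skSet A B k ↔ SkP k (specMap A B) q := by
  obtain ⟨e⟩ := nonempty_fiberStalk_specMap_equiv A B q
  exact (hasSk_iff_of_ringEquiv e k).symm

end Defs

section BC

variable (A A' B B' : Type u) [CommRing A] [CommRing A'] [CommRing B] [CommRing B']
  [Algebra A A'] [Algebra A B] [Algebra A' B'] [Algebra B B'] [Algebra A B']
  [IsScalarTower A A' B'] [IsScalarTower A B B'] [Algebra.IsPushout A A' B B']
  [Algebra.FiniteType A B]

theorem mem_skSet_bc (k : ℕ) (q' : PrimeSpectrum B') :
    q' ∈ skSet A' B' k ↔ PrimeSpectrum.comap (algebraMap B B') q' ∈ skSet A B k := by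
  rw [mem_skSet_iff_skP, mem_skSet_iff_skP]
  have hpo := CommRingCat.isPushout_of_isPushout A A' B B'
  have hpb := isPullback_SpecMap_of_isPushout _ _ _ _ hpo
  exact skP_bc_iff (f := specMap A B) (g := specMap A A') (g' := specMap B B')
    (f' := specMap A' B') hpb.flip k q'

end BC


section LGen

variable (A B : Type u) [CommRing A] [CommRing B] [Algebra A B]

open Algebra.TensorProduct

/-- the fibre local ring at `r = Q ∩ B` has `(S_k)` iff the local ring of the fibre ring at `Q`
has. -/
theorem hasSk_fibLocRing_iff_fiber (k : ℕ) (p : Ideal A) [p.IsPrime] (Q : Ideal (p.Fiber B))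
    [Q.IsPrime] (r : Ideal B) [r.IsPrime]
    (hr : r = Q.comap (includeRight : B →ₐ[A] p.Fiber B)) :
    LocCoh.HasSk k (EGA4.FibLocRing A B r) (EGA4.FibLocRing A B r) ↔
      LocCoh.HasSk k (Localization.AtPrime Q) (Localization.AtPrime Q) := by
  subst hr
  haveI hover := comap_includeRight_liesOver p Q
  have hp : p = (Q.comap (includeRight : B →ₐ[A] p.Fiber B)).under A := Ideal.over_def _ p
  set r := Q.comap (includeRight : B →ₐ[A] p.Fiber B) with hr
  letI := Localization.AtPrime.algebraOfLiesOver p r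
  let e := Ideal.Fiber.localizationAlgEquivQuotient p Q
  have hI : (r.comap (algebraMap A B)).map (algebraMap A (Localization.AtPrime r)) =
      p.map (algebraMap A (Localization.AtPrime r)) := by
    have : r.comap (algebraMap A B) = p := hp.symm
    rw [this]
  let e2 : EGA4.FibLocRing A B r ≃+*
      (Localization.AtPrime r ⧸ p.map (algebraMap A (Localization.AtPrime r))) :=
    Ideal.quotEquivOfEq hI
  exact hasSk_iff_of_ringEquiv (e2.trans e.symm.toRingEquiv) k

/-- the `(S_k)` inequality at `r = Q ∩ B` in terms of the local ring of the fibre ring at `Q`. -/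
theorem skIneqAt_iff_fiber (k : ℕ) (p : Ideal A) [p.IsPrime] (Q : Ideal (p.Fiber B))
    [Q.IsPrime] (r : PrimeSpectrum B)
    (hr : r.asIdeal = Q.comap (includeRight : B →ₐ[A] p.Fiber B)) :
    SkIneqAt A B k r ↔
      min (k : WithBot ℕ∞)
        (supportDim (Localization.AtPrime Q) (LocalizedModule Q.primeCompl (p.Fiber B))) ≤
      ((LocCoh.depth (Localization.AtPrime Q) (LocalizedModule Q.primeCompl (p.Fiber B)) : ℕ∞) :
        WithBot ℕ∞) := by
  unfold SkIneqAt
  rw [depth_fiber_loc p Q r.asIdeal hr, supportDim_fiber_loc p Q r.asIdeal hr]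

/-- **generizations in the fibre**: the fibre local ring at `q` has `(S_k)` iff the `(S_k)`
inequality holds at every generization of `q` in the fibre. -/
theorem mem_skSet_iff (k : ℕ) (q : PrimeSpectrum B) :
    q ∈ skSet A B k ↔ ∀ r : PrimeSpectrum B, r ≤ q →
      PrimeSpectrum.comap (algebraMap A B) r = PrimeSpectrum.comap (algebraMap A B) q →
        SkIneqAt A B k r := by
  set P : PrimeSpectrum A := PrimeSpectrum.comap (algebraMap A B) q with hP
  let oi := PrimeSpectrum.preimageOrderIsoFiber A B P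
  let x : (PrimeSpectrum.comap (algebraMap A B)) ⁻¹' {P} := ⟨q, rfl⟩
  set Qs : PrimeSpectrum (P.asIdeal.Fiber B) := oi x with hQs
  have hxq : (oi.symm Qs).1 = q := by rw [hQs, OrderIso.symm_apply_apply]
  have hq : q.asIdeal = Qs.asIdeal.comap (includeRight : B →ₐ[A] P.asIdeal.Fiber B) := by
    rw [← hxq]; rfl
  show LocCoh.HasSk k _ _ ↔ _
  rw [hasSk_fibLocRing_iff_fiber A B k P.asIdeal Qs.asIdeal q.asIdeal hq, ← hasSkAt_self_iff,
    DepthKit.hasSkAt_iff]
  constructor
  · intro h r hrq hrP
    let y : (PrimeSpectrum.comap (algebraMap A B)) ⁻¹' {P} := ⟨r, hrP⟩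
    have hyr : (oi.symm (oi y)).1 = r := by rw [OrderIso.symm_apply_apply]
    have hr : r.asIdeal = (oi y).asIdeal.comap (includeRight : B →ₐ[A] P.asIdeal.Fiber B) := by
      rw [← hyr]; rfl
    rw [skIneqAt_iff_fiber A B k P.asIdeal (oi y).asIdeal r hr]
    apply h
    have hle : y ≤ x := hrq
    exact oi.monotone hle
  · intro h Q'' hQ'' hle
    let Qs'' : PrimeSpectrum (P.asIdeal.Fiber B) := ⟨Q'', hQ''⟩
    have hle' : Qs'' ≤ Qs := hle
    have h1 : oi.symm Qs'' ≤ oi.symm Qs := oi.symm.monotone hle'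
    have h2 : (oi.symm Qs'').1 ≤ q := by rw [← hxq]; exact h1
    have h3 := h (oi.symm Qs'').1 h2 (oi.symm Qs'').2
    have hr : (oi.symm Qs'').1.asIdeal =
        Qs''.asIdeal.comap (includeRight : B →ₐ[A] P.asIdeal.Fiber B) := rfl
    rw [skIneqAt_iff_fiber A B k P.asIdeal Qs''.asIdeal _ hr] at h3
    exact h3

end LGen

end Groth.Agent.Lib.Helper21.SkOpen
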