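import Mathlib
import Groth.Agent.Lib.Helper21.SkOpen3
import Groth.Agent.Lib.helper11.CodepthLoc

set_option autoImplicit false

namespace Groth.Agent.Lib.Helper21.SkOpen

open IsLocalRing TensorProduct Module Pointwise
open Groth.Agent.Lib.Helper21 Groth.Agent.Lib.Helper21.FlatLocal

universe u

section Local

variable (C : Type u) [CommRing C] [IsNoetherianRing C]

/-- dimension of the localized module of the ring. -/
theorem supportDim_localizedSelf (q : Ideal C) [q.IsPrime] :
    supportDim (Localization.AtPrime q) (LocalizedModule q.primeCompl C) =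
      ((q.height : ℕ∞) : WithBot ℕ∞) := by
  rw [supportDim_eq_of_equiv (localizedSelfEquiv q), supportDim_self_eq_ringKrullDim,
    IsLocalization.AtPrime.ringKrullDim_eq_height q]

set_option maxHeartbeats 1600000 in
set_option synthInstance.maxHeartbeats 200000 in
/-- **the hypersurface step**: the `(S_k)` inequality at a prime `r` not containing the regular
element `t` follows from the `(S_k)` inequality modulo `t` at a prime minimal over `r + (t)`. -/
theorem skIneq_generic_of_special (k : ℕ) (t : C) (ht : IsSMulRegular C t)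
    (r qs : Ideal C) [r.IsPrime] [qs.IsPrime] (hrq : r ≤ qs) (htq : t ∈ qs) (htr : t ∉ r)
    (hmin : qs ∈ (r ⊔ Ideal.span {t}).minimalPrimes)
    (H : min (k : WithBot ℕ∞)
        (supportDim (Localization.AtPrime qs)
          (QuotSMulTop (algebraMap C (Localization.AtPrime qs) t)
            (LocalizedModule qs.primeCompl C))) ≤
      ((LocCoh.depth (Localization.AtPrime qs)
          (QuotSMulTop (algebraMap C (Localization.AtPrime qs) t)
            (LocalizedModule qs.primeCompl C)) : ℕ∞) : WithBot ℕ∞)) :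
    min (k : WithBot ℕ∞)
        (supportDim (Localization.AtPrime r) (LocalizedModule r.primeCompl C)) ≤
      ((LocCoh.depth (Localization.AtPrime r) (LocalizedModule r.primeCompl C) : ℕ∞) :
        WithBot ℕ∞) := by
  set A₁ := Localization.AtPrime qs with hA₁
  set M₁ := LocalizedModule qs.primeCompl C with hM₁
  set t₁ : A₁ := algebraMap C A₁ t with ht₁
  haveI : Nontrivial M₁ := (localizedSelfEquiv qs).toEquiv.nontrivial
  haveI : Module.Finite A₁ M₁ := Module.Finite.equiv (localizedSelfEquiv qs).symm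
  have ht₁m : t₁ ∈ maximalIdeal A₁ :=
    (IsLocalization.AtPrime.to_map_mem_maximal_iff A₁ qs t).mpr htq
  have hreg : IsSMulRegular M₁ t₁ :=
    IsSMulRegular.of_isLocalizedModule A₁ qs.primeCompl
      (LocalizedModule.mkLinearMap qs.primeCompl C) ht
  obtain ⟨n, hn⟩ := DepthKit.exists_nat_supportDim (A := A₁) (M := M₁)
  obtain ⟨e, he⟩ := DepthKit.exists_nat_depth (A := A₁) (M := M₁)
  obtain ⟨hn1, hnq⟩ := DepthKit.supportDim_quotSMulTop_nat hn t₁ ht₁m hreg
  obtain ⟨he1, heq⟩ := DepthKit.depth_quotSMulTop_nat he t₁ ht₁m hreg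
  rw [hnq, heq] at H
  -- the prime `p₁ = r A₁`
  have hdisj : Disjoint (qs.primeCompl : Set C) (r : Set C) :=
    Set.disjoint_left.2 fun x hx hxr => hx (hrq hxr)
  set p₁ : Ideal A₁ := r.map (algebraMap C A₁) with hp₁
  haveI hp₁prime : p₁.IsPrime :=
    IsLocalization.isPrime_of_isPrime_disjoint qs.primeCompl _ r inferInstance hdisj
  have hp₁c : r = p₁.comap (algebraMap C A₁) :=
    (IsLocalization.comap_map_of_isPrime_disjoint qs.primeCompl _ inferInstance hdisj).symm
  have hdr := DepthKit.depth_localization_of_isLocalization' qs.primeCompl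
    (LocalizedModule.mkLinearMap qs.primeCompl C) p₁ r hp₁c
  have hsr := DepthKit.supportDim_localization_of_isLocalization' qs.primeCompl
    (LocalizedModule.mkLinearMap qs.primeCompl C) p₁ r hp₁c
  haveI : Nontrivial (LocalizedModule r.primeCompl C) :=
    (localizedSelfEquiv r).toEquiv.nontrivial
  haveI : Nontrivial (LocalizedModule p₁.primeCompl M₁) := by
    by_contra hcon
    rw [not_nontrivial_iff_subsingleton] at hcon
    have h0 : supportDim (Localization.AtPrime p₁) (LocalizedModule p₁.primeCompl M₁) = ⊥ :=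
      supportDim_eq_bot_of_subsingleton _ _
    rw [← hsr] at h0
    exact supportDim_ne_bot_of_nontrivial _ _ h0
  have hloc := Groth.Agent.Lib.helper11.CodepthLoc.depth_le_depth_localization_add M₁ p₁
  rw [← hdr, he] at hloc
  -- dimension of `A₁ / p₁`
  have hdim1 : ringKrullDim (A₁ ⧸ p₁) ≤ 1 := by
    haveI : Nontrivial (A₁ ⧸ p₁) := Ideal.Quotient.nontrivial_iff.2 hp₁prime.ne_top
    haveI : IsLocalRing (A₁ ⧸ p₁) :=
      IsLocalRing.of_surjective' (Ideal.Quotient.mk p₁) Ideal.Quotient.mk_surjective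
    rw [← IsLocalRing.maximalIdeal_height_eq_ringKrullDim]
    have hmem : maximalIdeal (A₁ ⧸ p₁) ∈
        (Ideal.span {Ideal.Quotient.mk p₁ t₁}).minimalPrimes := by
      refine ⟨⟨(maximalIdeal.isMaximal _).isPrime, ?_⟩, ?_⟩
      · rw [Ideal.span_singleton_le_iff_mem]
        have : maximalIdeal (A₁ ⧸ p₁) = (maximalIdeal A₁).map (Ideal.Quotient.mk p₁) :=
          (IsLocalRing.map_maximalIdeal_of_surjective _ Ideal.Quotient.mk_surjective).symm
        rw [this]
        exact Ideal.mem_map_of_mem _ ht₁m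
      · rintro 𝔓 ⟨h𝔓prime, h𝔓t⟩ _
        rw [Ideal.span_singleton_le_iff_mem] at h𝔓t
        haveI := h𝔓prime
        set 𝔓₁ : Ideal A₁ := 𝔓.comap (Ideal.Quotient.mk p₁) with h𝔓₁
        haveI : 𝔓₁.IsPrime := Ideal.comap_isPrime _ _
        have hp₁le : p₁ ≤ 𝔓₁ := by
          intro x hx
          show Ideal.Quotient.mk p₁ x ∈ 𝔓
          rw [Ideal.Quotient.eq_zero_iff_mem.2 hx]
          exact 𝔓.zero_mem
        have ht𝔓₁ : t₁ ∈ 𝔓₁ := h𝔓t
        set 𝔓₂ : Ideal C := 𝔓₁.comap (algebraMap C A₁) with h𝔓₂
        haveI : 𝔓₂.IsPrime := Ideal.comap_isPrime _ _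
        have hr𝔓₂ : r ≤ 𝔓₂ := by
          rw [hp₁c]
          exact Ideal.comap_mono hp₁le
        have ht𝔓₂ : t ∈ 𝔓₂ := ht𝔓₁
        have h𝔓₂le : 𝔓₂ ≤ qs := by
          intro x hx
          by_contra hxq
          have hu : IsUnit (algebraMap C A₁ x) :=
            IsLocalization.map_units _ (⟨x, hxq⟩ : qs.primeCompl)
          exact (Ideal.IsPrime.ne_top inferInstance) (Ideal.eq_top_of_isUnit_mem 𝔓₁ hx hu)
        have hqle : qs ≤ 𝔓₂ := hmin.2 ⟨inferInstance,
          sup_le hr𝔓₂ ((Ideal.span_singleton_le_iff_mem _).2 ht𝔓₂)⟩ h𝔓₂le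
        have hmax : maximalIdeal A₁ ≤ 𝔓₁ := by
          rw [← Localization.AtPrime.map_eq_maximalIdeal, Ideal.map_le_iff_le_comap]
          exact hqle
        have : maximalIdeal (A₁ ⧸ p₁) = (maximalIdeal A₁).map (Ideal.Quotient.mk p₁) :=
          (IsLocalRing.map_maximalIdeal_of_surjective _ Ideal.Quotient.mk_surjective).symm
        rw [this, Ideal.map_le_iff_le_comap]
        exact hmax
    have h1 := Ideal.height_le_one_of_isPrincipal_of_mem_minimalPrimes _ _ hmem
    exact_mod_cast h1
  -- heights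
  have hlt : r < qs := lt_of_le_of_ne hrq (fun h => htr (h ▸ htq))
  have hht := Ideal.height_add_one_le_of_lt_of_isPrime hlt
  have hnr : supportDim (Localization.AtPrime r) (LocalizedModule r.primeCompl C) =
      ((r.height : ℕ∞) : WithBot ℕ∞) := supportDim_localizedSelf C r
  have hnq' : supportDim A₁ M₁ = ((qs.height : ℕ∞) : WithBot ℕ∞) := supportDim_localizedSelf C qs
  rw [hn] at hnq'
  obtain ⟨er, her⟩ := DepthKit.exists_nat_depth (A := Localization.AtPrime r)
    (M := LocalizedModule r.primeCompl C)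
  rw [her] at hloc ⊢
  rw [hnr]
  have hqn : qs.height = (n : ℕ∞) := by exact_mod_cast hnq'.symm
  rw [hqn] at hht
  obtain ⟨nr, hnr'⟩ : ∃ nr : ℕ, r.height = (nr : ℕ∞) := by
    have : r.height ≠ ⊤ := Ideal.height_ne_top_of_isPrime
    exact ⟨_, (ENat.coe_toNat this).symm⟩
  rw [hnr'] at hht ⊢
  have h1 : nr + 1 ≤ n := by exact_mod_cast hht
  have h2 : e ≤ er + 1 := by
    have : ((e : ℕ∞) : WithBot ℕ∞) ≤ ((er : ℕ∞) : WithBot ℕ∞) + 1 :=
      hloc.trans (by gcongr)
    exact_mod_cast this
  rw [min_le_iff] at H ⊢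
  rcases H with h3 | h3
  · left
    have h3' : k ≤ e - 1 := by exact_mod_cast h3
    have : k ≤ er := by omega
    exact_mod_cast this
  · right
    have h3' : n - 1 ≤ e - 1 := by
      have hc : ((n - 1 : ℕ) : WithBot ℕ∞) = (((n - 1 : ℕ) : ℕ∞) : WithBot ℕ∞) := rfl
      rw [hc, WithBot.coe_le_coe, Nat.cast_le] at h3
      exact h3
    have : nr ≤ er := by omega
    exact_mod_cast this

end Local


section Special

variable (R B : Type u) [CommRing R] [CommRing B] [Algebra R B] [IsNoetherianRing B]

set_option maxHeartbeats 1600000 in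
set_option synthInstance.maxHeartbeats 200000 in
/-- the hypersurface step for fibre local rings: from the special fibre `t = 0` to the generic
fibre. -/
theorem skIneqAt_of_special (k : ℕ) (t : R) (ht0 : t ≠ 0)
    (ht : IsSMulRegular B (algebraMap R B t))
    (r qs : PrimeSpectrum B) (hrq : r ≤ qs)
    (hqs : qs.asIdeal.comap (algebraMap R B) = Ideal.span {t})
    (hr0 : r.asIdeal.comap (algebraMap R B) = ⊥)
    (hmin : qs.asIdeal ∈ (r.asIdeal ⊔ Ideal.span {algebraMap R B t}).minimalPrimes)
    (H : SkIneqAt R B k qs) : SkIneqAt R B k r := by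
  unfold SkIneqAt at H ⊢
  have htq : algebraMap R B t ∈ qs.asIdeal := by
    have : t ∈ qs.asIdeal.comap (algebraMap R B) := by
      rw [hqs]; exact Ideal.mem_span_singleton_self t
    exact this
  have htr : algebraMap R B t ∉ r.asIdeal := by
    intro h
    have : t ∈ r.asIdeal.comap (algebraMap R B) := h
    rw [hr0] at this
    exact ht0 this
  -- the special fibre module is the quotient by `t`
  have hI : (qs.asIdeal.comap (algebraMap R B)).map
      (algebraMap R (Localization.AtPrime qs.asIdeal)) •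
        (⊤ : Submodule (Localization.AtPrime qs.asIdeal)
          (LocalizedModule qs.asIdeal.primeCompl B)) =
      (algebraMap B (Localization.AtPrime qs.asIdeal) (algebraMap R B t)) •
        (⊤ : Submodule (Localization.AtPrime qs.asIdeal)
          (LocalizedModule qs.asIdeal.primeCompl B)) := by
    rw [hqs, Ideal.map_span, Set.image_singleton, Submodule.ideal_span_singleton_smul,
      ← IsScalarTower.algebraMap_apply]
  let eq1 : EGA4.FibLocMod R B qs.asIdeal B ≃ₗ[Localization.AtPrime qs.asIdeal]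
      QuotSMulTop (algebraMap B (Localization.AtPrime qs.asIdeal) (algebraMap R B t))
        (LocalizedModule qs.asIdeal.primeCompl B) :=
    Submodule.quotEquivOfEq _ _ hI
  have hd1 : LocCoh.depth (Localization.AtPrime qs.asIdeal) (EGA4.FibLocMod R B qs.asIdeal B) =
      LocCoh.depth (Localization.AtPrime qs.asIdeal)
        (QuotSMulTop (algebraMap B (Localization.AtPrime qs.asIdeal) (algebraMap R B t))
          (LocalizedModule qs.asIdeal.primeCompl B)) := DepthKit.idealDepth_congr _ eq1
  rw [hd1, supportDim_eq_of_equiv eq1] at H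
  have key := skIneq_generic_of_special B k (algebraMap R B t) ht r.asIdeal qs.asIdeal hrq htq htr
    hmin H
  -- the generic fibre module is the localization
  have hJ : (r.asIdeal.comap (algebraMap R B)).map
      (algebraMap R (Localization.AtPrime r.asIdeal)) •
        (⊤ : Submodule (Localization.AtPrime r.asIdeal)
          (LocalizedModule r.asIdeal.primeCompl B)) = ⊥ := by
    rw [hr0, Ideal.map_bot, Submodule.bot_smul]
  let eq2 : EGA4.FibLocMod R B r.asIdeal B ≃ₗ[Localization.AtPrime r.asIdeal]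
      LocalizedModule r.asIdeal.primeCompl B :=
    Submodule.quotEquivOfEqBot _ hJ
  have hd2 : LocCoh.depth (Localization.AtPrime r.asIdeal) (EGA4.FibLocMod R B r.asIdeal B) =
      LocCoh.depth (Localization.AtPrime r.asIdeal) (LocalizedModule r.asIdeal.primeCompl B) :=
    DepthKit.idealDepth_congr _ eq2
  rw [hd2, supportDim_eq_of_equiv eq2]
  exact key

end Special

section DVR

variable (R : Type u) [CommRing R] [IsDomain R] [IsDiscreteValuationRing R]
  (B : Type u) [CommRing B] [Algebra R B] [Algebra.FiniteType R B] [Module.Flat R B]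

/-- **generization over a discrete valuation ring**: `(S_k)` of the special fibre at `Q` gives
`(S_k)` of the generic fibre at every generization `Q₁` of `Q`. -/
theorem mem_skSet_of_dvr (k : ℕ) (Q₁ Q : PrimeSpectrum B) (hle : Q₁ ≤ Q)
    (hQ : Q.asIdeal.comap (algebraMap R B) = maximalIdeal R)
    (hQ₁ : Q₁.asIdeal.comap (algebraMap R B) = ⊥)
    (h : Q ∈ skSet R B k) : Q₁ ∈ skSet R B k := by
  haveI : IsNoetherianRing B := Algebra.FiniteType.isNoetherianRing R B
  rw [mem_skSet_iff] at h ⊢
  intro r hr hrP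
  obtain ⟨t, ht⟩ := IsDiscreteValuationRing.exists_irreducible R
  have hm : maximalIdeal R = Ideal.span {t} := ht.maximalIdeal_eq
  have ht0 : t ≠ 0 := ht.ne_zero
  have hreg : IsSMulRegular B (algebraMap R B t) :=
    IsSMulRegular.of_flat (isRegular_of_ne_zero ht0).left.isSMulRegular
  have hr0 : r.asIdeal.comap (algebraMap R B) = ⊥ := by
    have := congrArg PrimeSpectrum.asIdeal hrP
    exact this.trans hQ₁
  have htQ : algebraMap R B t ∈ Q.asIdeal := by
    have : t ∈ Q.asIdeal.comap (algebraMap R B) := by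
      rw [hQ, hm]; exact Ideal.mem_span_singleton_self t
    exact this
  have hsup : r.asIdeal ⊔ Ideal.span {algebraMap R B t} ≤ Q.asIdeal :=
    sup_le (hr.trans hle) ((Ideal.span_singleton_le_iff_mem _).2 htQ)
  obtain ⟨qs, hqsmin, hqsQ⟩ := Ideal.exists_minimalPrimes_le hsup
  haveI hqsprime : qs.IsPrime := hqsmin.1.1
  let qs' : PrimeSpectrum B := ⟨qs, hqsprime⟩
  have hrqs : r ≤ qs' := le_sup_left.trans hqsmin.1.2
  have htqs : algebraMap R B t ∈ qs :=
    hqsmin.1.2 (le_sup_right (a := r.asIdeal) (Ideal.mem_span_singleton_self _))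
  have hqsc : qs.comap (algebraMap R B) = Ideal.span {t} := by
    apply le_antisymm
    · rw [← hm, ← hQ]
      exact Ideal.comap_mono hqsQ
    · rw [Ideal.span_singleton_le_iff_mem]
      exact htqs
  have hqsP : PrimeSpectrum.comap (algebraMap R B) qs' = PrimeSpectrum.comap (algebraMap R B) Q := by
    apply PrimeSpectrum.ext
    show qs.comap (algebraMap R B) = Q.asIdeal.comap (algebraMap R B)
    rw [hqsc, hQ, hm]
  have H := h qs' hqsQ hqsP
  exact skIneqAt_of_special R B k t ht0 hreg r qs' hrqs hqsc hr0 hqsmin H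

end DVR

end Groth.Agent.Lib.Helper21.SkOpen
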