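import Mathlib
import Groth.Agent.Lib.Helper21.SkOpen4
import Groth.Agent.Lib.Helper21.RdBC5
import Groth.Agent.Lib.Helper13.DvrDominate

set_option autoImplicit false

namespace Groth.Agent.Lib.Helper21.SkOpen

open IsLocalRing TensorProduct Module Pointwise
open Groth.Agent.Lib.Helper21 Groth.Agent.Lib.Helper21.FlatLocal

universe u

section Section

variable (A R B B' : Type u) [CommRing A] [CommRing R] [CommRing B] [CommRing B']
  [Algebra A R] [Algebra A B] [Algebra R B'] [Algebra B B'] [Algebra A B']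
  [IsScalarTower A R B'] [IsScalarTower A B B'] [Algebra.IsPushout A R B B']
  [Algebra.FiniteType A B] [Module.Flat A B]
  [IsDomain R] [IsDiscreteValuationRing R]

/-- generization along a section of the base change to a discrete valuation ring. -/
theorem gen_of_section (σ : B' →ₐ[R] R) (k : ℕ)
    (h : PrimeSpectrum.comap (algebraMap B B')
      (PrimeSpectrum.comap σ.toRingHom (IsLocalRing.closedPoint R)) ∈ skSet A B k) :
    PrimeSpectrum.comap (algebraMap B B')
      (PrimeSpectrum.comap σ.toRingHom (⊥ : PrimeSpectrum R)) ∈ skSet A B k := by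
  haveI : Algebra.FiniteType R B' := RdBC.finiteType_of_isPushout A R B B'
  haveI : Module.Flat R B' := by
    have h : Algebra.IsPushout A R B B' := inferInstance
    exact Module.Flat.isBaseChange A R B B' h.out
  rw [← mem_skSet_bc A R B B'] at h ⊢
  refine mem_skSet_of_dvr R B' k _ _ ?_ ?_ ?_ h
  · show Ideal.comap σ.toRingHom ⊥ ≤ Ideal.comap σ.toRingHom (maximalIdeal R)
    exact Ideal.comap_mono bot_le
  · show Ideal.comap (algebraMap R B') (Ideal.comap σ.toRingHom (maximalIdeal R)) = maximalIdeal R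
    rw [Ideal.comap_comap]
    have : σ.toRingHom.comp (algebraMap R B') = RingHom.id R := by
      ext x
      exact σ.commutes x
    rw [this, Ideal.comap_id]
  · show Ideal.comap (algebraMap R B') (Ideal.comap σ.toRingHom ⊥) = ⊥
    rw [Ideal.comap_comap]
    have : σ.toRingHom.comp (algebraMap R B') = RingHom.id R := by
      ext x
      exact σ.commutes x
    rw [this, Ideal.comap_id]

end Section


section Gen

variable (A B : Type u) [CommRing A] [CommRing B] [Algebra A B]
  [Algebra.FiniteType A B] [Module.Flat A B] [IsNoetherianRing B]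

attribute [local instance] Algebra.TensorProduct.rightAlgebra

set_option maxHeartbeats 1600000 in
set_option synthInstance.maxHeartbeats 200000 in
/-- **`(S_k)` of the fibres is stable under generization** (flat, Noetherian). -/
theorem skSet_generization (k : ℕ) (Q₁ Q : PrimeSpectrum B) (hle : Q₁ ≤ Q)
    (h : Q ∈ skSet A B k) : Q₁ ∈ skSet A B k := by
  by_cases hne : Q₁ = Q
  · subst hne; exact h
  have hlt : Q₁.asIdeal < Q.asIdeal :=
    lt_of_le_of_ne hle (fun h' => hne (PrimeSpectrum.ext h'))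
  obtain ⟨b₀, hb₀Q, hb₀Q₁⟩ := Set.exists_of_ssubset hlt
  let O := Localization.AtPrime Q.asIdeal
  let D := B ⧸ Q₁.asIdeal
  let L := FractionRing D
  let g : B →+* L := (algebraMap D L).comp (Ideal.Quotient.mk Q₁.asIdeal)
  have hg0 : ∀ b : B, g b = 0 ↔ b ∈ Q₁.asIdeal := by
    intro b
    show algebraMap D L (Ideal.Quotient.mk Q₁.asIdeal b) = 0 ↔ _
    rw [map_eq_zero_iff _ (IsFractionRing.injective D L), Ideal.Quotient.eq_zero_iff_mem]
  have hg : ∀ y : Q.asIdeal.primeCompl, IsUnit (g y) := by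
    intro y
    apply IsUnit.mk0
    intro h0
    exact y.2 (hle ((hg0 _).1 h0))
  let ψ : O →+* L := IsLocalization.lift hg
  have hψ : ∀ b, ψ (algebraMap B O b) = g b := fun b => IsLocalization.lift_eq hg b
  have hker : RingHom.ker ψ ≠ maximalIdeal O := by
    intro heq
    have h1 : algebraMap B O b₀ ∈ maximalIdeal O :=
      (IsLocalization.AtPrime.to_map_mem_maximal_iff O Q.asIdeal b₀).mpr hb₀Q
    rw [← heq, RingHom.mem_ker, hψ, hg0] at h1
    exact hb₀Q₁ h1
  have hT : Subfield.closure (Set.range ψ ∪ ((∅ : Finset L) : Set L)) = ⊤ := by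
    rw [Finset.coe_empty, Set.union_empty, eq_top_iff,
      ← IsFractionRing.closure_range_algebraMap D L]
    apply Subfield.closure_mono
    rintro _ ⟨d, rfl⟩
    obtain ⟨b, rfl⟩ := Ideal.Quotient.mk_surjective d
    exact ⟨algebraMap B O b, hψ b⟩
  obtain ⟨Rv, hdvr, hmem, hval⟩ :=
    Groth.Agent.Lib.Helper13.Dvr.exists_dvr_dominating_ringHom O ψ hker ∅ hT
  haveI := hdvr
  -- the ring map `B → Rv`
  let φ : B →+* Rv := (ψ.comp (algebraMap B O)).codRestrict Rv.toSubring (fun b => hmem _)
  have hφ : ∀ b, ((φ b : Rv) : L) = g b := fun b => hψ b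
  letI algAR : Algebra A Rv := (φ.comp (algebraMap A B)).toAlgebra
  let φa : B →ₐ[A] Rv := { φ with commutes' := fun a => rfl }
  let σ : Rv ⊗[A] B →ₐ[Rv] Rv :=
    Algebra.TensorProduct.lift (AlgHom.id Rv Rv) φa (fun _ _ => Commute.all _ _)
  have hσ : ∀ b : B, σ (algebraMap B (Rv ⊗[A] B) b) = φ b := by
    intro b
    show σ ((1 : Rv) ⊗ₜ[A] b) = φ b
    rw [Algebra.TensorProduct.lift_tmul]
    simp [φa]
  have key := gen_of_section A Rv B (Rv ⊗[A] B) σ k
  have h1 : PrimeSpectrum.comap (algebraMap B (Rv ⊗[A] B))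
      (PrimeSpectrum.comap σ.toRingHom (IsLocalRing.closedPoint Rv)) = Q := by
    apply PrimeSpectrum.ext
    ext b
    show σ (algebraMap B (Rv ⊗[A] B) b) ∈ maximalIdeal Rv ↔ b ∈ Q.asIdeal
    rw [hσ]
    constructor
    · intro hb
      by_contra hbQ
      have hu : IsUnit (algebraMap B O b) :=
        IsLocalization.map_units _ (⟨b, hbQ⟩ : Q.asIdeal.primeCompl)
      obtain ⟨u, hu⟩ := hu
      have hinv : (φ b) * ⟨ψ (↑u⁻¹ : O), hmem _⟩ = 1 := by
        apply Subtype.ext
        show ψ (algebraMap B O b) * ψ (↑u⁻¹ : O) = 1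
        rw [← hu, ← map_mul, Units.mul_inv, map_one]
      exact (maximalIdeal.isMaximal Rv).ne_top
        (Ideal.eq_top_of_isUnit_mem _ hb (IsUnit.of_mul_eq_one _ hinv))
    · intro hb
      have h2 : algebraMap B O b ∈ maximalIdeal O :=
        (IsLocalization.AtPrime.to_map_mem_maximal_iff O Q.asIdeal b).mpr hb
      have h3 := hval _ h2
      exact (Rv.valuation_lt_one_iff (φ b)).mpr h3
  have h2 : PrimeSpectrum.comap (algebraMap B (Rv ⊗[A] B))
      (PrimeSpectrum.comap σ.toRingHom (⊥ : PrimeSpectrum Rv)) = Q₁ := by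
    apply PrimeSpectrum.ext
    ext b
    show σ (algebraMap B (Rv ⊗[A] B) b) ∈ (⊥ : Ideal Rv) ↔ b ∈ Q₁.asIdeal
    rw [hσ, Ideal.mem_bot, ← hg0, ← hφ]
    constructor
    · intro h0; rw [h0]; rfl
    · intro h0; exact Subtype.ext h0
  rw [h1, h2] at key
  exact key h

end Gen

end Groth.Agent.Lib.Helper21.SkOpen
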