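import Mathlib
import Groth.Agent.Lib.Helper21.RelS2C
import Groth.Agent.Lib.Helper21.RelS2D
import Groth.Agent.Lib.Helper21.RelS2E
import Groth.Agent.Lib.Helper21.SkOpen5
import Groth.Agent.Lib.Helper21.FlatLocal12
import Groth.Agent.Lib.Helper21.RetractUpTo2

/-!
# Helper21 — RelS2G: globalization lemmas for the infinitesimal criterion.
-/

set_option autoImplicit false

namespace Groth.Agent.Lib.Helper21.RelS2

open TensorProduct Function IsLocalRing Module
open Groth.Agent.Lib.Helper21 Groth.Agent.Lib.Helper21.DepthKit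
open Groth.Agent.Lib.Helper21.FlatLocal Groth.Agent.Lib.Helper21.SkOpen
open Groth.Agent.Lib.Helper21.RetractUpTo

universe u

section HZ
variable (R C : Type u) [CommRing R] [CommRing C] [IsNoetherianRing C] [Algebra R C]
  [Module.Flat R C] [Algebra.FiniteType R C]

set_option maxHeartbeats 1600000 in
set_option synthInstance.maxHeartbeats 200000 in
/-- depth `≥ 2` of the fibre local ring at a generization `q ⊇ J` of an `(S₂)` point. -/
theorem two_le_depth_fibLocMod_of_hasSk (n q : PrimeSpectrum C) (hle : q ≤ n)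
    (hS2 : LocCoh.HasSk 2 (EGA4.FibLocRing R C n.asIdeal) (EGA4.FibLocRing R C n.asIdeal))
    (hdim : (2 : WithBot ℕ∞) ≤ ringKrullDim (EGA4.FibLocRing R C q.asIdeal)) :
    2 ≤ LocCoh.depth (Localization.AtPrime q.asIdeal) (EGA4.FibLocMod R C q.asIdeal C) := by
  have hq : q ∈ skSet R C 2 := skSet_generization R C 2 q n hle hS2
  have h1 : SkIneqAt R C 2 q := (mem_skSet_iff R C 2 q).1 hq q le_rfl rfl
  unfold SkIneqAt at h1
  have e := localizedSelfQuotEquiv q.asIdeal
    ((q.asIdeal.comap (algebraMap R C)).map (algebraMap R (Localization.AtPrime q.asIdeal)))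
  have h2 : supportDim (Localization.AtPrime q.asIdeal) (EGA4.FibLocMod R C q.asIdeal C) =
      supportDim (Localization.AtPrime q.asIdeal) (EGA4.FibLocRing R C q.asIdeal) :=
    supportDim_eq_of_equiv e
  rw [h2, supportDim_quotient_eq_ringKrullDim] at h1
  have hdim' : ((2 : ℕ) : WithBot ℕ∞) ≤ ringKrullDim (EGA4.FibLocRing R C q.asIdeal) := by
    exact_mod_cast hdim
  have h3 : ((((2 : ℕ) : ℕ∞)) : WithBot ℕ∞) ≤ ((LocCoh.depth (Localization.AtPrime q.asIdeal)
      (EGA4.FibLocMod R C q.asIdeal C) : ℕ∞) : WithBot ℕ∞) := le_trans (le_min le_rfl hdim') h1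
  rw [WithBot.coe_le_coe] at h3
  exact_mod_cast h3

set_option maxHeartbeats 1600000 in
set_option synthInstance.maxHeartbeats 200000 in
theorem hZ_loc (n : PrimeSpectrum C)
    (hS2 : LocCoh.HasSk 2 (EGA4.FibLocRing R C n.asIdeal) (EGA4.FibLocRing R C n.asIdeal))
    (J : Ideal C)
    (hcodim : ∀ q : PrimeSpectrum C, J ≤ q.asIdeal →
      (2 : WithBot ℕ∞) ≤ ringKrullDim (EGA4.FibLocRing R C q.asIdeal))
    (Q : PrimeSpectrum (Localization.AtPrime n.asIdeal))
    (hQ : J.map (algebraMap C (Localization.AtPrime n.asIdeal)) ≤ Q.asIdeal) :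
    2 ≤ LocCoh.idealDepth
      (Q.asIdeal.map (algebraMap (Localization.AtPrime n.asIdeal)
        (EGA4.FibLocRing R (Localization.AtPrime n.asIdeal) Q.asIdeal)))
      (EGA4.FibLocRing R (Localization.AtPrime n.asIdeal) Q.asIdeal) := by
  rw [RdBC.idealDepth_fibLocRing_self]
  have hmin : Q.asIdeal ∈ ((Q.asIdeal.under C).map
      (algebraMap C (Localization.AtPrime n.asIdeal))).minimalPrimes := by
    rw [Ideal.under_def, IsLocalization.map_comap n.asIdeal.primeCompl,
      Ideal.minimalPrimes_eq_subsingleton_self]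
    rfl
  rw [depth_descent (A := R) (B := C) (C := Localization.AtPrime n.asIdeal) Q.asIdeal hmin]
  have hJq : J ≤ Q.asIdeal.under C := Ideal.map_le_iff_le_comap.1 hQ
  have hqn : Q.asIdeal.under C ≤ n.asIdeal := by
    intro x hx
    by_contra hxn
    have hu : IsUnit (algebraMap C (Localization.AtPrime n.asIdeal) x) :=
      IsLocalization.map_units (Localization.AtPrime n.asIdeal) (⟨x, hxn⟩ : n.asIdeal.primeCompl)
    exact Q.isPrime.ne_top (Ideal.eq_top_of_isUnit_mem _ hx hu)
  exact two_le_depth_fibLocMod_of_hasSk R C n ⟨Q.asIdeal.under C, inferInstance⟩ hqn hS2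
    (hcodim ⟨Q.asIdeal.under C, inferInstance⟩ hJq)

end HZ

section FreeOff
variable {B : Type u} [CommRing B] [IsNoetherianRing B] (I J : Ideal B)
  (F : Type u) [AddCommGroup F] [Module B F] [Module.Finite B F]

set_option maxHeartbeats 1600000 in
set_option synthInstance.maxHeartbeats 200000 in
/-- the reduction mod `I` of a module free off `V(J)` is free off `V(J (B/I))`. -/
theorem free_off_quotient
    (hFU : ∀ q : PrimeSpectrum B, ¬ J ≤ q.asIdeal →
      Module.Free (Localization.AtPrime q.asIdeal) (LocalizedModule q.asIdeal.primeCompl F))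
    (r : PrimeSpectrum (B ⧸ I)) (hr : ¬ J.map (Ideal.Quotient.mk I) ≤ r.asIdeal) :
    Module.Finite (B ⧸ I) (F ⧸ I • (⊤ : Submodule B F)) ∧
    Module.Free (Localization.AtPrime r.asIdeal)
      (LocalizedModule r.asIdeal.primeCompl (F ⧸ I • (⊤ : Submodule B F))) := by
  obtain ⟨N, hN⟩ := exists_pow_le_retractIdeal F J hFU
  rw [Ideal.map_le_iff_le_comap, SetLike.not_le_iff_exists] at hr
  obtain ⟨j, hjJ, hjr⟩ := hr
  have hs : IsRetractUpTo F (j ^ N) := hN (Ideal.pow_mem_pow hjJ N)
  let e : (B ⧸ I) ⊗[B] F ≃ₗ[B ⧸ I] (F ⧸ I • (⊤ : Submodule B F)) :=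
    (TensorProduct.quotTensorEquivQuotSMul F I).extendScalarsOfSurjective
      Ideal.Quotient.mk_surjective
  haveI : Module.Finite (B ⧸ I) (F ⧸ I • (⊤ : Submodule B F)) := Module.Finite.equiv e
  have hs' : IsRetractUpTo (F ⧸ I • (⊤ : Submodule B F)) (algebraMap B (B ⧸ I) (j ^ N)) :=
    (isRetractUpTo_baseChange (B ⧸ I) F hs).of_equiv e
  refine ⟨inferInstance, free_localizedModule_of_isRetractUpTo _ r.asIdeal hs' ?_⟩
  rw [map_pow]
  intro h
  exact hjr (r.isPrime.mem_of_pow_mem N h)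

end FreeOff

end Groth.Agent.Lib.Helper21.RelS2
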