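import Mathlib
import Groth.Agent.Lib.Helper21.RelS2C
import Groth.Agent.Lib.Helper21.RelS2D

/-!
# Helper21 — RelS2H: from the global infinitesimal hypothesis to the local pushout.
-/

set_option autoImplicit false

namespace Groth.Agent.Lib.Helper21.RelS2

open TensorProduct Function Module

universe u

attribute [local instance] Algebra.TensorProduct.rightAlgebra

set_option maxHeartbeats 1600000 in
set_option synthInstance.maxHeartbeats 200000 in
theorem exists_local_pushout (R C : Type u) [CommRing R] [CommRing C] [IsNoetherianRing C]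
    [Algebra R C] (I : Ideal R) (n : Ideal C) [n.IsPrime] (hIn : I.map (algebraMap R C) ≤ n)
    (F : Type u) [AddCommGroup F] [Module C F] [Module.Finite C F]
    (hI : ∀ (C' : Type u) [CommRing C'] [IsNoetherianRing C'] [Algebra C C'] [Algebra (R ⧸ I) C']
      [Algebra R C'] [IsScalarTower R C C'] [IsScalarTower R (R ⧸ I) C'],
      Algebra.IsPushout R C (R ⧸ I) C' →
      ∀ q' : PrimeSpectrum C', q'.asIdeal.comap (algebraMap C C') = n →
        FlatCA.FlatAt (R ⧸ I) q'.asIdeal (Module.Dual C' (Module.Dual C' (C' ⊗[C] F)))) :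
    ∃ (B' : Type u) (_ : CommRing B') (_ : IsNoetherianRing B')
      (_ : Algebra (Localization.AtPrime n) B') (_ : Algebra (R ⧸ I) B') (_ : Algebra R B')
      (_ : IsScalarTower R (Localization.AtPrime n) B') (_ : IsScalarTower R (R ⧸ I) B')
      (_ : Algebra.IsPushout R (Localization.AtPrime n) (R ⧸ I) B'),
      Module.Flat (R ⧸ I) (Module.Dual B' (Module.Dual B'
        (B' ⊗[Localization.AtPrime n] (LocalizedModule n.primeCompl F)))) := by
  have hsurj : Function.Surjective (algebraMap C (C ⊗[R] (R ⧸ I))) :=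
    surjective_algebraMap_of_isPushout_quotient R C I (C ⊗[R] (R ⧸ I))
  haveI : IsNoetherianRing (C ⊗[R] (R ⧸ I)) :=
    isNoetherianRing_of_surjective C (C ⊗[R] (R ⧸ I)) (algebraMap C (C ⊗[R] (R ⧸ I))) hsurj
  obtain ⟨q', hq'prime, hq'⟩ := exists_prime_over R C I (C ⊗[R] (R ⧸ I)) n hIn
  haveI := hq'prime
  letI : Algebra (Localization.AtPrime n) (Localization.AtPrime q') :=
    (Localization.localRingHom n q' (algebraMap C (C ⊗[R] (R ⧸ I))) hq'.symm).toAlgebra
  haveI : IsScalarTower C (Localization.AtPrime n) (Localization.AtPrime q') :=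
    IsScalarTower.of_algebraMap_eq fun c => by
      show _ = Localization.localRingHom n q' (algebraMap C (C ⊗[R] (R ⧸ I))) hq'.symm
        (algebraMap C (Localization.AtPrime n) c)
      rw [Localization.localRingHom_to_map]
      exact IsScalarTower.algebraMap_apply C (C ⊗[R] (R ⧸ I)) (Localization.AtPrime q') c
  haveI : IsScalarTower R (Localization.AtPrime n) (Localization.AtPrime q') :=
    isScalarTower_loc R C (C ⊗[R] (R ⧸ I)) n q'
  have hpo : Algebra.IsPushout R (Localization.AtPrime n) (R ⧸ I) (Localization.AtPrime q') :=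
    isPushout_loc R C (R ⧸ I) (C ⊗[R] (R ⧸ I)) n q' hsurj hq'
  have hfl := hI (C ⊗[R] (R ⧸ I)) inferInstance ⟨q', hq'prime⟩ hq'
  exact ⟨Localization.AtPrime q', inferInstance, inferInstance, inferInstance, inferInstance,
    inferInstance, inferInstance, inferInstance, hpo,
    flat_ddual_of_flatAt (R ⧸ I) C (C ⊗[R] (R ⧸ I)) n q' F hfl⟩

end Groth.Agent.Lib.Helper21.RelS2
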