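import Mathlib

set_option autoImplicit false
set_option backward.isDefEq.respectTransparency.types false
set_option linter.style.haveILetI false
universe u
open AlgebraicGeometry CategoryTheory CategoryTheory.Limits TopologicalSpace

namespace Groth.Agent.Lib.Helper21.Rigid

variable {X S Y : Scheme.{u}}

/-- the restriction of a sectionwise injective morphism to an open is injective on global sections -/
theorem appTop_morphismRestrict_injective (ξ : X ⟶ S)
    (hinj : ∀ W : S.Opens, Function.Injective (ξ.app W).hom) (O : S.Opens) :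
    Function.Injective (ξ ∣_ O).appTop.hom := by
  rw [morphismRestrict_appTop]
  intro a b hab
  apply hinj (O.ι ''ᵁ ⊤)
  have hiso : IsIso (X.presheaf.map
      (eqToHom (image_morphismRestrict_preimage ξ O ⊤)).op) := inferInstance
  have hinj2 : Function.Injective (X.presheaf.map
      (eqToHom (image_morphismRestrict_preimage ξ O ⊤)).op).hom :=
    (ConcreteCategory.bijective_of_isIso _).1
  apply hinj2
  exact hab

/-- **Epi-like property.**  A surjective morphism which is injective on sections over every open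
is right-cancellable for morphisms of schemes. -/
theorem hom_ext_of_surjective_of_injective (ξ : X ⟶ S) (hsurj : Function.Surjective ξ)
    (hinj : ∀ W : S.Opens, Function.Injective (ξ.app W).hom) (r r' : S ⟶ Y)
    (h : ξ ≫ r = ξ ≫ r') : r = r' := by
  have hpt : ∀ s : S, r s = r' s := by
    intro s
    obtain ⟨x, rfl⟩ := hsurj s
    rw [← Scheme.Hom.comp_apply, ← Scheme.Hom.comp_apply, h]
  have hpre : ∀ V : Y.Opens, r ⁻¹ᵁ V = r' ⁻¹ᵁ V := by
    intro V
    ext s
    show r s ∈ V ↔ r' s ∈ V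
    rw [hpt s]
  have hcov : IsOpenCover (fun V : Y.affineOpens => r ⁻¹ᵁ V.1) := by
    rw [IsOpenCover, eq_top_iff]
    intro s _
    obtain ⟨V, hV, hsV, -⟩ := (Opens.isBasis_iff_nbhd.1 Y.isBasis_affineOpens)
      (show r s ∈ (⊤ : Y.Opens) from trivial)
    exact Opens.mem_iSup.2 ⟨⟨V, hV⟩, hsV⟩
  refine (S.openCoverOfIsOpenCover _ hcov).hom_ext _ _ fun V => ?_
  show (r ⁻¹ᵁ V.1).ι ≫ r = (r ⁻¹ᵁ V.1).ι ≫ r'
  set O := r ⁻¹ᵁ V.1 with hO
  haveI : IsAffine (V.1 : Scheme.{u}) := V.2
  have hle : ∀ x : ↥O, ((O.ι ≫ r) x) ∈ Set.range V.1.ι := by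
    intro x
    rw [Scheme.Opens.range_ι]
    exact x.2
  have hle' : ∀ x : ↥O, ((O.ι ≫ r') x) ∈ Set.range V.1.ι := by
    intro x
    rw [Scheme.Opens.range_ι]
    have : x.1 ∈ r' ⁻¹ᵁ V.1 := (hpre V.1) ▸ x.2
    exact this
  let a : (O : Scheme.{u}) ⟶ (V.1 : Scheme.{u}) := IsOpenImmersion.lift V.1.ι (O.ι ≫ r) (by
    rintro _ ⟨x, rfl⟩; exact hle x)
  let b : (O : Scheme.{u}) ⟶ (V.1 : Scheme.{u}) := IsOpenImmersion.lift V.1.ι (O.ι ≫ r') (by
    rintro _ ⟨x, rfl⟩; exact hle' x)
  have ha : a ≫ V.1.ι = O.ι ≫ r := IsOpenImmersion.lift_fac _ _ _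
  have hb : b ≫ V.1.ι = O.ι ≫ r' := IsOpenImmersion.lift_fac _ _ _
  have hab : (ξ ∣_ O) ≫ a = (ξ ∣_ O) ≫ b := by
    rw [← cancel_mono V.1.ι, Category.assoc, Category.assoc, ha, hb, ← Category.assoc,
      ← Category.assoc, morphismRestrict_ι, Category.assoc, Category.assoc, h]
  have hab' : a = b := by
    apply ext_of_isAffine
    have h1 := congrArg Scheme.Hom.appTop hab
    rw [Scheme.Hom.comp_appTop, Scheme.Hom.comp_appTop] at h1
    ext t
    apply appTop_morphismRestrict_injective ξ hinj O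
    exact congrArg (fun φ => φ.hom t) h1
  rw [← ha, ← hb, hab']

end Groth.Agent.Lib.Helper21.Rigid
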