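import Groth.Agent.Lib.Helper21.Rigid1

set_option autoImplicit false
set_option backward.isDefEq.respectTransparency.types false
set_option linter.style.haveILetI false
universe u
open AlgebraicGeometry CategoryTheory CategoryTheory.Limits TopologicalSpace

namespace Groth.Agent.Lib.Helper21.Rigid

variable {X S Y : Scheme.{u}}

/-- the restriction of a sectionwise bijective morphism to an open is an iso on global sections -/
theorem isIso_appTop_morphismRestrict (ξ : X ⟶ S) (O : S.Opens)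
    (hbij : Function.Bijective (ξ.app (O.ι ''ᵁ ⊤)).hom) :
    IsIso (ξ ∣_ O).appTop := by
  rw [morphismRestrict_appTop]
  have h1 : IsIso (ξ.app (O.ι ''ᵁ ⊤)) :=
    (ConcreteCategory.isIso_iff_bijective _).2 hbij
  have h2 : IsIso (X.presheaf.map
      (eqToHom (image_morphismRestrict_preimage ξ O ⊤)).op) := inferInstance
  exact @IsIso.comp_isIso _ _ _ _ _ _ _ h1 h2

/-- **Local factorization.**  If `ξ⁻¹W` is mapped by `f` into an affine open `V` and `ξ` induces an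
isomorphism on global sections over `W`, then `f` factors through `ξ` over `W`. -/
theorem exists_factor_of_le_affine (ξ : X ⟶ S) (f : X ⟶ Y) (W : S.Opens) (V : Y.Opens)
    (hV : IsAffineOpen V) (hWV : ξ ⁻¹ᵁ W ≤ f ⁻¹ᵁ V) [hiso : IsIso (ξ ∣_ W).appTop] :
    ∃ r : (W : Scheme.{u}) ⟶ Y, (ξ ⁻¹ᵁ W).ι ≫ f = (ξ ∣_ W) ≫ r := by
  haveI : IsAffine (V : Scheme.{u}) := hV
  let X₁ : Scheme.{u} := (ξ ⁻¹ᵁ W : X.Opens)
  let f₁ : X₁ ⟶ (V : Scheme.{u}) := IsOpenImmersion.lift V.ι ((ξ ⁻¹ᵁ W).ι ≫ f) (by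
    rintro _ ⟨x, rfl⟩
    rw [Scheme.Opens.range_ι]
    exact hWV x.2)
  have hf₁ : f₁ ≫ V.ι = (ξ ⁻¹ᵁ W).ι ≫ f := IsOpenImmersion.lift_fac _ _ _
  haveI : IsIso (V : Scheme.{u}).toSpecΓ := inferInstance
  refine ⟨(W : Scheme.{u}).toSpecΓ ≫ Spec.map (inv (ξ ∣_ W).appTop) ≫ Spec.map f₁.appTop ≫
    inv (V : Scheme.{u}).toSpecΓ ≫ V.ι, ?_⟩
  rw [← hf₁]
  have h1 : (ξ ∣_ W) ≫ (W : Scheme.{u}).toSpecΓ = X₁.toSpecΓ ≫ Spec.map (ξ ∣_ W).appTop :=
    Scheme.toSpecΓ_naturality _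
  have h2 : f₁ ≫ (V : Scheme.{u}).toSpecΓ = X₁.toSpecΓ ≫ Spec.map f₁.appTop :=
    Scheme.toSpecΓ_naturality _
  rw [← Category.assoc (ξ ∣_ W), h1, Category.assoc, ← Spec.map_comp_assoc, IsIso.inv_hom_id,
    Spec.map_id, Category.id_comp, ← Category.assoc, ← h2, Category.assoc, IsIso.hom_inv_id_assoc]

end Groth.Agent.Lib.Helper21.Rigid

namespace Groth.Agent.Lib.Helper21.Rigid

variable {X S Y : Scheme.{u}}

/-- the restriction of a sectionwise injective morphism to an open is sectionwise injective -/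
theorem app_morphismRestrict_injective (ξ : X ⟶ S)
    (hinj : ∀ W : S.Opens, Function.Injective (ξ.app W).hom) (O : S.Opens)
    (O' : (O : Scheme.{u}).Opens) :
    Function.Injective ((ξ ∣_ O).app O').hom := by
  rw [morphismRestrict_app]
  intro a b hab
  apply hinj (O.ι ''ᵁ O')
  have hiso : IsIso (X.presheaf.map
      (eqToHom (image_morphismRestrict_preimage ξ O O')).op) := inferInstance
  have hinj2 : Function.Injective (X.presheaf.map
      (eqToHom (image_morphismRestrict_preimage ξ O O')).op).hom :=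
    (ConcreteCategory.bijective_of_isIso _).1
  apply hinj2
  exact hab

theorem morphismRestrict_surjective (ξ : X ⟶ S) (hsurj : Function.Surjective ξ) (O : S.Opens) :
    Function.Surjective (ξ ∣_ O) := by
  intro s
  obtain ⟨x, hx⟩ := hsurj s.1
  have hxO : x ∈ ξ ⁻¹ᵁ O := by
    show ξ x ∈ O
    rw [hx]; exact s.2
  refine ⟨⟨x, hxO⟩, ?_⟩
  apply Subtype.ext
  rw [morphismRestrict_base_coe]
  exact hx

/-- `f` factors through `ξ` over the open `W`. -/
def Good (ξ : X ⟶ S) (f : X ⟶ Y) (W : S.Opens) : Prop :=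
  ∃ r : (W : Scheme.{u}) ⟶ Y, (ξ ⁻¹ᵁ W).ι ≫ f = (ξ ∣_ W) ≫ r

theorem morphismRestrict_homOfLE (ξ : X ⟶ S) {W' W : S.Opens} (h : W' ≤ W) :
    (ξ ∣_ W') ≫ S.homOfLE h = X.homOfLE (ξ.preimage_mono h) ≫ (ξ ∣_ W) := by
  rw [← cancel_mono W.ι, Category.assoc, Category.assoc, Scheme.homOfLE_ι, morphismRestrict_ι,
    morphismRestrict_ι, Scheme.homOfLE_ι_assoc]

theorem Good.of_le {ξ : X ⟶ S} {f : X ⟶ Y} {W' W : S.Opens} (h : W' ≤ W) (hW : Good ξ f W) :
    Good ξ f W' := by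
  obtain ⟨r, hr⟩ := hW
  refine ⟨S.homOfLE h ≫ r, ?_⟩
  rw [← Category.assoc, morphismRestrict_homOfLE ξ h, Category.assoc, ← hr,
    Scheme.homOfLE_ι_assoc]

theorem Good.unique {ξ : X ⟶ S} {f : X ⟶ Y} (hsurj : Function.Surjective ξ)
    (hinj : ∀ W : S.Opens, Function.Injective (ξ.app W).hom) {W : S.Opens}
    (r r' : (W : Scheme.{u}) ⟶ Y) (hr : (ξ ⁻¹ᵁ W).ι ≫ f = (ξ ∣_ W) ≫ r)
    (hr' : (ξ ⁻¹ᵁ W).ι ≫ f = (ξ ∣_ W) ≫ r') : r = r' :=
  hom_ext_of_surjective_of_injective (ξ ∣_ W) (morphismRestrict_surjective ξ hsurj W)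
    (app_morphismRestrict_injective ξ hinj W) r r' (hr.symm.trans hr')

end Groth.Agent.Lib.Helper21.Rigid
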