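import Groth.Agent.Lib.Helper21.Rigid2

set_option autoImplicit false
set_option backward.isDefEq.respectTransparency.types false
set_option linter.style.haveILetI false
universe u
open AlgebraicGeometry CategoryTheory CategoryTheory.Limits TopologicalSpace

namespace Groth.Agent.Lib.Helper21.Rigid

variable {X S Y : Scheme.{u}}

/-- **Gluing.**  If every point of `S` has a good neighbourhood, `ξ` is surjective and sectionwise
injective, then `f` factors through `ξ` globally. -/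
theorem exists_factor_of_forall_good (ξ : X ⟶ S) (f : X ⟶ Y) (hsurj : Function.Surjective ξ)
    (hinj : ∀ W : S.Opens, Function.Injective (ξ.app W).hom)
    (hgood : ∀ s : S, ∃ W : S.Opens, s ∈ W ∧ Good ξ f W) :
    ∃ r : S ⟶ Y, f = ξ ≫ r := by
  classical
  let I := {W : S.Opens // Good ξ f W}
  have hcov : IsOpenCover (fun i : I => i.1) := by
    rw [IsOpenCover, eq_top_iff]
    intro s _
    obtain ⟨W, hsW, hW⟩ := hgood s
    exact Opens.mem_iSup.2 ⟨⟨W, hW⟩, hsW⟩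
  let 𝒰 : S.OpenCover := S.openCoverOfIsOpenCover (fun i : I => i.1) hcov
  letI : Preorder 𝒰.I₀ := inferInstanceAs (Preorder I)
  have hle : ∀ {i j : 𝒰.I₀}, i ≤ j ↔ (𝒰.f i).opensRange ≤ (𝒰.f j).opensRange := by
    intro i j
    show i.1 ≤ j.1 ↔ (i.1.ι).opensRange ≤ (j.1.ι).opensRange
    rw [Scheme.Opens.opensRange_ι, Scheme.Opens.opensRange_ι]
  have H : Opens.IsBasis (Set.range fun i : 𝒰.I₀ => (𝒰.f i).opensRange) := by
    rw [Opens.isBasis_iff_nbhd]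
    intro O s hsO
    obtain ⟨W, hsW, hW⟩ := hgood s
    refine ⟨W ⊓ O, ⟨⟨W ⊓ O, hW.of_le inf_le_left⟩, ?_⟩, ⟨hsW, hsO⟩, inf_le_right⟩
    show ((W ⊓ O).ι).opensRange = W ⊓ O
    rw [Scheme.Opens.opensRange_ι]
  letI : 𝒰.LocallyDirected := Scheme.Cover.LocallyDirected.ofIsBasisOpensRange hle H
  let g₀ : ∀ i : I, (i.1 : Scheme.{u}) ⟶ Y := fun i => Classical.choose i.2
  have hg₀ : ∀ i : I, (ξ ⁻¹ᵁ i.1).ι ≫ f = (ξ ∣_ i.1) ≫ g₀ i := fun i => Classical.choose_spec i.2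
  have key : ∀ (i j : I) (hij' : i.1 ≤ j.1), S.homOfLE hij' ≫ g₀ j = g₀ i := by
    intro i j hij'
    refine Good.unique hsurj hinj _ _ ?_ (hg₀ i)
    rw [← Category.assoc (ξ ∣_ i.1), morphismRestrict_homOfLE ξ hij', Category.assoc, ← hg₀ j,
      Scheme.homOfLE_ι_assoc]
  let g : ∀ i : 𝒰.I₀, 𝒰.X i ⟶ Y := fun i => g₀ i
  have hg : ∀ i : I, (ξ ⁻¹ᵁ i.1).ι ≫ f = (ξ ∣_ i.1) ≫ g i := hg₀
  have hcompat : ∀ {i j : 𝒰.I₀} (hij : i ⟶ j), 𝒰.trans hij ≫ g j = g i := by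
    intro i j hij
    have hij' : i.1 ≤ j.1 := leOfHom hij
    have htr : 𝒰.trans hij = S.homOfLE hij' := by
      apply (cancel_mono (𝒰.f j)).1
      exact (IsOpenImmersion.lift_fac _ _ _).trans (S.homOfLE_ι hij').symm
    rw [htr]
    exact key i j hij'
  refine ⟨𝒰.glueMorphismsOfLocallyDirected g hcompat, ?_⟩
  have hcovX : IsOpenCover (fun i : I => ξ ⁻¹ᵁ i.1) := by
    rw [IsOpenCover, eq_top_iff]
    intro x _
    obtain ⟨W, hsW, hW⟩ := hgood (ξ x)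
    exact Opens.mem_iSup.2 ⟨⟨W, hW⟩, hsW⟩
  refine (X.openCoverOfIsOpenCover _ hcovX).hom_ext _ _ fun i => ?_
  show (ξ ⁻¹ᵁ i.1).ι ≫ f = (ξ ⁻¹ᵁ i.1).ι ≫ ξ ≫ 𝒰.glueMorphismsOfLocallyDirected g hcompat
  rw [hg i, ← morphismRestrict_ι_assoc]
  congr 1
  exact (𝒰.map_glueMorphismsOfLocallyDirected g hcompat i).symm

end Groth.Agent.Lib.Helper21.Rigid
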