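import Groth.Agent.Lib.Helper21.Rigid3

set_option autoImplicit false
set_option backward.isDefEq.respectTransparency.types false
set_option linter.style.haveILetI false
universe u
open AlgebraicGeometry CategoryTheory CategoryTheory.Limits TopologicalSpace

namespace Groth.Agent.Lib.Helper21.Rigid

variable {X S Y : Scheme.{u}}

/-- the collapsed locus: points whose fibre is sent to a single point -/
def collapsed (ξ : X ⟶ S) (f : X ⟶ Y) : Set S := {s : S | ∃ y : Y, ∀ x : X, ξ x = s → f x = y}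

/-- a collapsed point has a good neighbourhood -/
theorem exists_good_nhds (ξ : X ⟶ S) (hcl : IsClosedMap ξ)
    (hbij : ∀ W : S.Opens, Function.Bijective (ξ.app W).hom) (f : X ⟶ Y) (s : S)
    (hs : s ∈ collapsed ξ f) : ∃ W : S.Opens, s ∈ W ∧ Good ξ f W := by
  obtain ⟨y, hy⟩ := hs
  obtain ⟨V, hV, hyV, -⟩ := (Opens.isBasis_iff_nbhd.1 Y.isBasis_affineOpens)
    (show y ∈ (⊤ : Y.Opens) from trivial)
  let Z : Set X := ((f ⁻¹ᵁ V : X.Opens) : Set X)ᶜ
  have hZ : IsClosed Z := (f ⁻¹ᵁ V).isOpen.isClosed_compl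
  let W : S.Opens := ⟨(ξ '' Z)ᶜ, (hcl Z hZ).isOpen_compl⟩
  have hsW : s ∈ W := by
    rintro ⟨z, hz, hzs⟩
    apply hz
    show f z ∈ V
    rw [hy z hzs]
    exact hyV
  have hWV : ξ ⁻¹ᵁ W ≤ f ⁻¹ᵁ V := by
    intro x hx
    by_contra hxV
    exact hx ⟨x, hxV, rfl⟩
  haveI : IsIso (ξ ∣_ W).appTop := isIso_appTop_morphismRestrict ξ W (hbij _)
  exact ⟨W, hsW, exists_factor_of_le_affine ξ f W V hV hWV⟩

/-- good opens lie in the collapsed locus -/
theorem Good.subset_collapsed {ξ : X ⟶ S} {f : X ⟶ Y} {W : S.Opens} (hW : Good ξ f W) :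
    (W : Set S) ⊆ collapsed ξ f := by
  obtain ⟨r, hr⟩ := hW
  intro s hs
  refine ⟨r ⟨s, hs⟩, fun x hx => ?_⟩
  have hxW : x ∈ ξ ⁻¹ᵁ W := by
    show ξ x ∈ W
    rw [hx]; exact hs
  have h1 := congrArg (fun φ : ((ξ ⁻¹ᵁ W : X.Opens) : Scheme.{u}) ⟶ Y => φ ⟨x, hxW⟩) hr
  simp only [Scheme.Hom.comp_apply] at h1
  have h2 : (ξ ⁻¹ᵁ W).ι ⟨x, hxW⟩ = x := rfl
  rw [h2] at h1
  rw [h1]
  congr 1
  apply Subtype.ext
  rw [morphismRestrict_base_coe]
  exact hx

/-- the collapsed locus is open -/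
theorem isOpen_collapsed (ξ : X ⟶ S) (hcl : IsClosedMap ξ)
    (hbij : ∀ W : S.Opens, Function.Bijective (ξ.app W).hom) (f : X ⟶ Y) :
    IsOpen (collapsed ξ f) := by
  rw [isOpen_iff_forall_mem_open]
  intro s hs
  obtain ⟨W, hsW, hW⟩ := exists_good_nhds ξ hcl hbij f s hs
  exact ⟨W, hW.subset_collapsed, W.isOpen, hsW⟩

/-- a closed morphism inducing bijections on sections over all opens is surjective -/
theorem surjective_of_bijective_app (ξ : X ⟶ S) (hcl : IsClosedMap ξ)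
    (hbij : ∀ W : S.Opens, Function.Bijective (ξ.app W).hom) : Function.Surjective ξ := by
  intro s
  by_contra hs
  let W : S.Opens := ⟨(Set.range ξ)ᶜ, hcl.isClosed_range.isOpen_compl⟩
  have hsW : s ∈ W := hs
  have hbot : ξ ⁻¹ᵁ W = ⊥ := by
    ext x
    simp only [Opens.coe_bot, Set.mem_empty_iff_false, iff_false]
    intro hx
    exact hx ⟨x, rfl⟩
  have hsub : Subsingleton Γ(X, ξ ⁻¹ᵁ W) := by
    rw [hbot]
    infer_instance
  have hsub2 : Subsingleton Γ(S, W) := (hbij W).1.subsingleton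
  have h01 : (1 : Γ(S, W)) = 0 := Subsingleton.elim _ _
  have h3 := congrArg (S.presheaf.germ W s hsW).hom h01
  rw [map_one, map_zero] at h3
  exact one_ne_zero h3

/-- **Rigidity with `O_S = ξ_* O_X`.**  If all fibres are collapsed, `f` factors through `ξ`. -/
theorem exists_factor_of_collapsed (ξ : X ⟶ S) (hcl : IsClosedMap ξ)
    (hbij : ∀ W : S.Opens, Function.Bijective (ξ.app W).hom) (f : X ⟶ Y)
    (hcol : ∀ s : S, s ∈ collapsed ξ f) : ∃ r : S ⟶ Y, f = ξ ≫ r :=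
  exists_factor_of_forall_good ξ f (surjective_of_bijective_app ξ hcl hbij)
    (fun W => (hbij W).1) fun s => exists_good_nhds ξ hcl hbij f s (hcol s)

end Groth.Agent.Lib.Helper21.Rigid
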