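import Groth.Agent.Lib.Helper21.Rigid4

set_option autoImplicit false
set_option backward.isDefEq.respectTransparency.types false
set_option linter.style.haveILetI false
universe u
open AlgebraicGeometry CategoryTheory CategoryTheory.Limits TopologicalSpace

namespace Groth.Agent.Lib.Helper21.Rigid

variable {X S Y : Scheme.{u}}

theorem app_morphismRestrict_bijective (ξ : X ⟶ S)
    (hbij : ∀ W : S.Opens, Function.Bijective (ξ.app W).hom) (O : S.Opens)
    (O' : (O : Scheme.{u}).Opens) :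
    Function.Bijective ((ξ ∣_ O).app O').hom := by
  refine ⟨app_morphismRestrict_injective ξ (fun W => (hbij W).1) O O', ?_⟩
  rw [morphismRestrict_app]
  intro b
  have hiso : IsIso (X.presheaf.map
      (eqToHom (image_morphismRestrict_preimage ξ O O')).op) := inferInstance
  have hsurj2 : Function.Surjective (X.presheaf.map
      (eqToHom (image_morphismRestrict_preimage ξ O O')).op).hom :=
    (ConcreteCategory.bijective_of_isIso _).2
  obtain ⟨b', hb'⟩ := hsurj2 b
  obtain ⟨a, ha⟩ := (hbij (O.ι ''ᵁ O')).2 b'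
  refine ⟨a, ?_⟩
  show (X.presheaf.map (eqToHom (image_morphismRestrict_preimage ξ O O')).op).hom
    ((ξ.app (O.ι ''ᵁ O')).hom a) = b
  rw [ha, hb']

theorem isClosedMap_morphismRestrict (ξ : X ⟶ S) (hcl : IsClosedMap ξ) (O : S.Opens) :
    IsClosedMap (ξ ∣_ O) := by
  rw [morphismRestrict_base]
  exact hcl.restrictPreimage _

/-- **Factorization over the collapsed locus**, after any base change landing in it. -/
theorem exists_factor_over_collapsed (ξ : X ⟶ S) (hcl : IsClosedMap ξ)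
    (hbij : ∀ W : S.Opens, Function.Bijective (ξ.app W).hom) (v : Y ⟶ S) (f : X ⟶ Y)
    (hf : f ≫ v = ξ) (T : Scheme.{u}) (τ : T ⟶ S) (hτ : ∀ t : T, τ t ∈ collapsed ξ f) :
    ∃ r : T ⟶ Y, r ≫ v = τ ∧ pullback.fst ξ τ ≫ f = pullback.snd ξ τ ≫ r := by
  let U : S.Opens := ⟨collapsed ξ f, isOpen_collapsed ξ hcl hbij f⟩
  let ξ' := ξ ∣_ U
  let f' := (ξ ⁻¹ᵁ U).ι ≫ f
  have hcl' : IsClosedMap ξ' := isClosedMap_morphismRestrict ξ hcl U
  have hbij' : ∀ W : (U : Scheme.{u}).Opens, Function.Bijective (ξ'.app W).hom :=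
    app_morphismRestrict_bijective ξ hbij U
  have hcol' : ∀ s : (U : Scheme.{u}), s ∈ collapsed ξ' f' := by
    intro s
    obtain ⟨y, hy⟩ := s.2
    refine ⟨y, fun x hx => ?_⟩
    show f ((ξ ⁻¹ᵁ U).ι x) = y
    apply hy
    have h1 := morphismRestrict_base_coe ξ U x
    exact h1.symm.trans (congrArg Subtype.val hx)
  obtain ⟨rU, hrU⟩ := exists_factor_of_collapsed ξ' hcl' hbij' f' hcol'
  -- `rU` is a morphism over `S`
  have hrUv : rU ≫ v = U.ι := by
    apply hom_ext_of_surjective_of_injective ξ' (surjective_of_bijective_app ξ' hcl' hbij')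
      (fun W => (hbij' W).1)
    rw [← Category.assoc, ← hrU, Category.assoc, hf, morphismRestrict_ι]
  let τ' : T ⟶ (U : Scheme.{u}) := IsOpenImmersion.lift U.ι τ (by
    rintro _ ⟨t, rfl⟩
    rw [Scheme.Opens.range_ι]
    exact hτ t)
  have hτ' : τ' ≫ U.ι = τ := IsOpenImmersion.lift_fac _ _ _
  refine ⟨τ' ≫ rU, ?_, ?_⟩
  · rw [Category.assoc, hrUv, hτ']
  · let fst' : pullback ξ τ ⟶ ((ξ ⁻¹ᵁ U : X.Opens) : Scheme.{u}) :=
      IsOpenImmersion.lift (ξ ⁻¹ᵁ U).ι (pullback.fst ξ τ) (by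
        rintro _ ⟨z, rfl⟩
        rw [Scheme.Opens.range_ι]
        show ξ (pullback.fst ξ τ z) ∈ U
        rw [← Scheme.Hom.comp_apply, pullback.condition, Scheme.Hom.comp_apply]
        exact hτ _)
    have hfst' : fst' ≫ (ξ ⁻¹ᵁ U).ι = pullback.fst ξ τ := IsOpenImmersion.lift_fac _ _ _
    have h2 : fst' ≫ ξ' = pullback.snd ξ τ ≫ τ' := by
      rw [← cancel_mono U.ι, Category.assoc, Category.assoc, morphismRestrict_ι, hτ',
        ← Category.assoc, hfst', pullback.condition]
    rw [← hfst', Category.assoc]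
    show fst' ≫ f' = _
    rw [hrU, ← Category.assoc, h2, Category.assoc]

/-- conversely, a factorization after base change forces the image to lie in the collapsed locus -/
theorem mem_collapsed_of_factor (ξ : X ⟶ S) (f : X ⟶ Y) (T : Scheme.{u}) (τ : T ⟶ S)
    (r : T ⟶ Y) (hr : pullback.fst ξ τ ≫ f = pullback.snd ξ τ ≫ r) (t : T) :
    τ t ∈ collapsed ξ f := by
  refine ⟨r t, fun x hx => ?_⟩
  obtain ⟨z, hz1, hz2⟩ := Scheme.Pullback.exists_preimage_pullback x t hx
  rw [← hz1, ← Scheme.Hom.comp_apply, hr, Scheme.Hom.comp_apply, hz2]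

end Groth.Agent.Lib.Helper21.Rigid
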