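import Groth.Agent.Lib.Helper21.Rigid5

set_option autoImplicit false
set_option backward.isDefEq.respectTransparency.types false
set_option linter.style.haveILetI false
universe u
open AlgebraicGeometry CategoryTheory CategoryTheory.Limits TopologicalSpace

namespace Groth.Agent.Lib.Helper21.Rigid

variable {X S Y : Scheme.{u}}

/-- `ξ` induces bijections on sections over all sufficiently small opens. -/
def LocBij (ξ : X ⟶ S) : Prop :=
  ∀ s : S, ∃ U : S.Opens, s ∈ U ∧ ∀ V : S.Opens, V ≤ U → Function.Bijective (ξ.app V).hom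

theorem LocBij.injective_app {ξ : X ⟶ S} (h : LocBij ξ) (W : S.Opens) :
    Function.Injective (ξ.app W).hom := by
  rw [injective_iff_map_eq_zero]
  intro a ha
  refine TopCat.Presheaf.section_ext S.sheaf W a 0 fun s hs => ?_
  obtain ⟨U, hsU, hU⟩ := h s
  let V : S.Opens := W ⊓ U
  have hsV : s ∈ V := ⟨hs, hsU⟩
  have hVW : V ≤ W := inf_le_left
  have h1 : (ξ.app V).hom (S.presheaf.map (homOfLE hVW).op a) = 0 := by
    have hnat := ξ.naturality (homOfLE hVW).op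
    have h2 := congrArg (fun φ => φ.hom a) hnat
    simp only [CommRingCat.hom_comp, RingHom.comp_apply] at h2
    rw [h2, ha, map_zero]
  have h3 : S.presheaf.map (homOfLE hVW).op a = 0 := by
    apply (hU V inf_le_right).1
    rw [h1, map_zero]
  have h4 : S.presheaf.germ W s hs a = S.presheaf.germ V s hsV (S.presheaf.map (homOfLE hVW).op a) :=
    (S.presheaf.germ_res_apply (homOfLE hVW) s hsV a).symm
  show S.presheaf.germ W s hs a = S.presheaf.germ W s hs 0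
  rw [h4, h3, map_zero, map_zero]

theorem LocBij.surjective {ξ : X ⟶ S} (h : LocBij ξ) (hcl : IsClosedMap ξ) :
    Function.Surjective ξ := by
  intro s
  by_contra hs
  obtain ⟨U, hsU, hU⟩ := h s
  let W : S.Opens := ⟨(Set.range ξ)ᶜ, hcl.isClosed_range.isOpen_compl⟩ ⊓ U
  have hsW : s ∈ W := ⟨hs, hsU⟩
  have hbot : ξ ⁻¹ᵁ W = ⊥ := by
    ext x
    simp only [Opens.coe_bot, Set.mem_empty_iff_false, iff_false]
    intro hx
    exact hx.1 ⟨x, rfl⟩
  have hsub : Subsingleton Γ(X, ξ ⁻¹ᵁ W) := by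
    rw [hbot]
    infer_instance
  have hsub2 : Subsingleton Γ(S, W) := (hU W inf_le_right).1.subsingleton
  have h01 : (1 : Γ(S, W)) = 0 := Subsingleton.elim _ _
  have h3 := congrArg (S.presheaf.germ W s hsW).hom h01
  rw [map_one, map_zero] at h3
  exact one_ne_zero h3

theorem exists_good_nhds' (ξ : X ⟶ S) (hcl : IsClosedMap ξ) (hbij : LocBij ξ) (f : X ⟶ Y) (s : S)
    (hs : s ∈ collapsed ξ f) : ∃ W : S.Opens, s ∈ W ∧ Good ξ f W := by
  obtain ⟨y, hy⟩ := hs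
  obtain ⟨U, hsU, hU⟩ := hbij s
  obtain ⟨V, hV, hyV, -⟩ := (Opens.isBasis_iff_nbhd.1 Y.isBasis_affineOpens)
    (show y ∈ (⊤ : Y.Opens) from trivial)
  let Z : Set X := ((f ⁻¹ᵁ V : X.Opens) : Set X)ᶜ
  have hZ : IsClosed Z := (f ⁻¹ᵁ V).isOpen.isClosed_compl
  let W : S.Opens := ⟨(ξ '' Z)ᶜ, (hcl Z hZ).isOpen_compl⟩ ⊓ U
  have hsW : s ∈ W := by
    refine ⟨?_, hsU⟩
    rintro ⟨z, hz, hzs⟩
    apply hz
    show f z ∈ V
    rw [hy z hzs]
    exact hyV
  have hWV : ξ ⁻¹ᵁ W ≤ f ⁻¹ᵁ V := by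
    intro x hx
    by_contra hxV
    exact hx.1 ⟨x, hxV, rfl⟩
  have hle : W.ι ''ᵁ ⊤ ≤ U := by
    rintro _ ⟨w, -, rfl⟩
    exact w.2.2
  haveI : IsIso (ξ ∣_ W).appTop := isIso_appTop_morphismRestrict ξ W (hU _ hle)
  exact ⟨W, hsW, exists_factor_of_le_affine ξ f W V hV hWV⟩

theorem isOpen_collapsed' (ξ : X ⟶ S) (hcl : IsClosedMap ξ) (hbij : LocBij ξ) (f : X ⟶ Y) :
    IsOpen (collapsed ξ f) := by
  rw [isOpen_iff_forall_mem_open]
  intro s hs
  obtain ⟨W, hsW, hW⟩ := exists_good_nhds' ξ hcl hbij f s hs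
  exact ⟨W, hW.subset_collapsed, W.isOpen, hsW⟩

theorem exists_factor_of_collapsed' (ξ : X ⟶ S) (hcl : IsClosedMap ξ) (hbij : LocBij ξ)
    (f : X ⟶ Y) (hcol : ∀ s : S, s ∈ collapsed ξ f) : ∃ r : S ⟶ Y, f = ξ ≫ r :=
  exists_factor_of_forall_good ξ f (hbij.surjective hcl) hbij.injective_app
    fun s => exists_good_nhds' ξ hcl hbij f s (hcol s)

theorem app_morphismRestrict_bijective_of (ξ : X ⟶ S) (O : S.Opens)
    (O' : (O : Scheme.{u}).Opens) (hb : Function.Bijective (ξ.app (O.ι ''ᵁ O')).hom) :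
    Function.Bijective ((ξ ∣_ O).app O').hom := by
  rw [morphismRestrict_app]
  have hiso : IsIso (X.presheaf.map
      (eqToHom (image_morphismRestrict_preimage ξ O O')).op) := inferInstance
  have hb2 : Function.Bijective (X.presheaf.map
      (eqToHom (image_morphismRestrict_preimage ξ O O')).op).hom :=
    ConcreteCategory.bijective_of_isIso _
  exact hb2.comp hb

theorem LocBij.morphismRestrict {ξ : X ⟶ S} (h : LocBij ξ) (O : S.Opens) : LocBij (ξ ∣_ O) := by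
  intro s
  obtain ⟨U, hsU, hU⟩ := h s.1
  refine ⟨O.ι ⁻¹ᵁ U, hsU, fun V hV => ?_⟩
  apply app_morphismRestrict_bijective_of
  apply hU
  rintro _ ⟨w, hw, rfl⟩
  exact hV hw

/-- the factorization over the (open) collapsed locus -/
theorem exists_factor_on_collapsed (ξ : X ⟶ S) (hcl : IsClosedMap ξ) (hbij : LocBij ξ)
    (f : X ⟶ Y) (U : S.Opens) (hU : (U : Set S) ⊆ collapsed ξ f) :
    ∃ r : (U : Scheme.{u}) ⟶ Y, (ξ ⁻¹ᵁ U).ι ≫ f = (ξ ∣_ U) ≫ r := by
  have hcol' : ∀ s : (U : Scheme.{u}), s ∈ collapsed (ξ ∣_ U) ((ξ ⁻¹ᵁ U).ι ≫ f) := by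
    intro s
    obtain ⟨y, hy⟩ := hU s.2
    refine ⟨y, fun x hx => ?_⟩
    show f ((ξ ⁻¹ᵁ U).ι x) = y
    apply hy
    have h1 := morphismRestrict_base_coe ξ U x
    exact h1.symm.trans (congrArg Subtype.val hx)
  exact exists_factor_of_collapsed' (ξ ∣_ U) (isClosedMap_morphismRestrict ξ hcl U)
    (hbij.morphismRestrict U) _ hcol'

end Groth.Agent.Lib.Helper21.Rigid
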