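import Groth.Agent.Lib.Helper21.Rigid6

set_option autoImplicit false
set_option backward.isDefEq.respectTransparency.types false
set_option linter.style.haveILetI false
universe u
open AlgebraicGeometry CategoryTheory CategoryTheory.Limits TopologicalSpace

namespace Groth.Agent.Lib.Helper21.Rigid

variable {X S Y : Scheme.{u}}

/-- **Closedness of the collapsed locus** for a flat, locally finitely presented, surjective `ξ`
and a separated target, given a factorization over the (open) collapsed locus. -/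
theorem isClosed_collapsed (ξ : X ⟶ S) [Flat ξ] [LocallyOfFinitePresentation ξ]
    (hsurj : Function.Surjective ξ) (v : Y ⟶ S) [IsSeparated v] (f : X ⟶ Y) (hf : f ≫ v = ξ)
    (U : S.Opens) (hU : (U : Set S) = collapsed ξ f)
    (r : (U : Scheme.{u}) ⟶ Y) (hr : (ξ ⁻¹ᵁ U).ι ≫ f = (ξ ∣_ U) ≫ r) :
    IsClosed (collapsed ξ f) := by
  let p₁ := pullback.fst ξ ξ
  let p₂ := pullback.snd ξ ξ
  let q := p₁ ≫ ξ
  let a := p₁ ≫ f
  let b := p₂ ≫ f
  have hcond : p₁ ≫ ξ = p₂ ≫ ξ := pullback.condition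
  have hab : a ≫ v = b ≫ v := by
    show (p₁ ≫ f) ≫ v = (p₂ ≫ f) ≫ v
    rw [Category.assoc, Category.assoc, hf, hcond]
  let ab : pullback ξ ξ ⟶ pullback v v := pullback.lift a b hab
  let Δ := pullback.diagonal v
  let C : Set ↥(pullback ξ ξ) := ab ⁻¹' (Set.range Δ)
  have hC : IsClosed C := Δ.isClosedEmbedding.isClosed_range.preimage ab.continuous
  have hq : IsOpenMap q := q.isOpenMap
  have hcompl : (collapsed ξ f)ᶜ = q '' Cᶜ := by
    ext s
    constructor
    · intro hs
      obtain ⟨x₀, hx₀⟩ := hsurj s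
      have hex : ∃ x : X, ξ x = s ∧ f x ≠ f x₀ := by
        by_contra hne
        push Not at hne
        exact hs ⟨f x₀, hne⟩
      obtain ⟨x, hx, hfx⟩ := hex
      obtain ⟨z, hz1, hz2⟩ := Scheme.Pullback.exists_preimage_pullback x₀ x (hx₀.trans hx.symm)
      refine ⟨z, ?_, ?_⟩
      · rintro ⟨y, hy⟩
        have h1 : (ab ≫ pullback.fst v v) z = (Δ ≫ pullback.fst v v) y := by
          rw [Scheme.Hom.comp_apply, Scheme.Hom.comp_apply]
          exact congrArg _ hy.symm
        have h2 : (ab ≫ pullback.snd v v) z = (Δ ≫ pullback.snd v v) y := by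
          rw [Scheme.Hom.comp_apply, Scheme.Hom.comp_apply]
          exact congrArg _ hy.symm
        rw [pullback.lift_fst, pullback.diagonal_fst] at h1
        rw [pullback.lift_snd, pullback.diagonal_snd] at h2
        apply hfx
        have h3 : a z = f x₀ := by
          show (p₁ ≫ f) z = f x₀
          rw [Scheme.Hom.comp_apply]
          exact congrArg _ hz1
        have h4 : b z = f x := by
          show (p₂ ≫ f) z = f x
          rw [Scheme.Hom.comp_apply]
          exact congrArg _ hz2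
        rw [← h4, ← h3, h1, h2]
      · show (p₁ ≫ ξ) z = s
        rw [Scheme.Hom.comp_apply]
        exact (congrArg _ hz1).trans hx₀
    · rintro ⟨z, hzC, rfl⟩ hqz
      apply hzC
      rw [← hU] at hqz
      let O : (pullback ξ ξ).Opens := q ⁻¹ᵁ U
      have hzO : z ∈ O := hqz
      let j := O.ι
      have hr1 : ∀ w : ↥O, (j ≫ p₁) w ∈ Set.range (ξ ⁻¹ᵁ U).ι := by
        intro w
        rw [Scheme.Opens.range_ι]
        show ξ ((j ≫ p₁) w) ∈ U
        rw [← Scheme.Hom.comp_apply, Category.assoc]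
        exact w.2
      have hr2 : ∀ w : ↥O, (j ≫ p₂) w ∈ Set.range (ξ ⁻¹ᵁ U).ι := by
        intro w
        rw [Scheme.Opens.range_ι]
        show ξ ((j ≫ p₂) w) ∈ U
        rw [← Scheme.Hom.comp_apply, Category.assoc, ← hcond]
        exact w.2
      let l₁ := IsOpenImmersion.lift (ξ ⁻¹ᵁ U).ι (j ≫ p₁) (by rintro _ ⟨w, rfl⟩; exact hr1 w)
      let l₂ := IsOpenImmersion.lift (ξ ⁻¹ᵁ U).ι (j ≫ p₂) (by rintro _ ⟨w, rfl⟩; exact hr2 w)
      have hl₁ : l₁ ≫ (ξ ⁻¹ᵁ U).ι = j ≫ p₁ := IsOpenImmersion.lift_fac _ _ _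
      have hl₂ : l₂ ≫ (ξ ⁻¹ᵁ U).ι = j ≫ p₂ := IsOpenImmersion.lift_fac _ _ _
      have hll : l₁ ≫ (ξ ∣_ U) = l₂ ≫ (ξ ∣_ U) := by
        rw [← cancel_mono U.ι, Category.assoc, Category.assoc, morphismRestrict_ι,
          ← Category.assoc, ← Category.assoc, hl₁, hl₂, Category.assoc, Category.assoc, hcond]
      have hja : j ≫ a = j ≫ b := by
        show j ≫ p₁ ≫ f = j ≫ p₂ ≫ f
        rw [← Category.assoc, ← Category.assoc, ← hl₁, ← hl₂, Category.assoc, Category.assoc, hr,
          ← Category.assoc, ← Category.assoc, hll]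
      have hjab : j ≫ ab = (j ≫ a) ≫ Δ := by
        apply pullback.hom_ext
        · rw [Category.assoc, Category.assoc, pullback.lift_fst, pullback.diagonal_fst,
            Category.comp_id]
        · rw [Category.assoc, Category.assoc, pullback.lift_snd, pullback.diagonal_snd,
            Category.comp_id, hja]
      refine ⟨(j ≫ a) ⟨z, hzO⟩, ?_⟩
      have h5 := congrArg (fun φ : (O : Scheme.{u}) ⟶ pullback v v => φ ⟨z, hzO⟩) hjab
      simp only [Scheme.Hom.comp_apply] at h5
      exact h5.symm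
  have h1 : IsOpen (collapsed ξ f)ᶜ := by
    rw [hcompl]
    exact hq _ hC.isOpen_compl
  exact isOpen_compl_iff.1 h1

end Groth.Agent.Lib.Helper21.Rigid
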