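import Groth.Agent.Lib.Helper21.Rigid7

set_option autoImplicit false
set_option backward.isDefEq.respectTransparency.types false
set_option linter.style.haveILetI false
universe u
open AlgebraicGeometry CategoryTheory CategoryTheory.Limits TopologicalSpace

namespace Groth.Agent.Lib.Helper21.Rigid

variable {X S Y : Scheme.{u}}

/-- **Rigidity lemma, clopen form**: for `ξ` proper and flat over a locally Noetherian base with
`O_S = ξ_* O_X` locally, and a separated target, the collapsed locus is closed and open. -/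
theorem isClopen_collapsed [IsLocallyNoetherian S] (ξ : X ⟶ S) [IsProper ξ] [Flat ξ]
    (hbij : LocBij ξ) (v : Y ⟶ S) [IsSeparated v] (f : X ⟶ Y) (hf : f ≫ v = ξ) :
    IsClosed (collapsed ξ f) ∧ IsOpen (collapsed ξ f) := by
  have hcl : IsClosedMap ξ := ξ.isClosedMap
  haveI : LocallyOfFinitePresentation ξ :=
    LocallyOfFinitePresentation.iff_locallyOfFiniteType.2 inferInstance
  have hopen : IsOpen (collapsed ξ f) := isOpen_collapsed' ξ hcl hbij f
  let U : S.Opens := ⟨collapsed ξ f, hopen⟩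
  obtain ⟨r, hr⟩ := exists_factor_on_collapsed ξ hcl hbij f U (le_refl _)
  exact ⟨isClosed_collapsed ξ (hbij.surjective hcl) v f hf U rfl r hr, hopen⟩

/-- **Rigidity lemma**: over a connected base, if one fibre is collapsed then `f` factors through
a section of `v`. -/
theorem exists_section_factor [IsLocallyNoetherian S] [ConnectedSpace S] (ξ : X ⟶ S) [IsProper ξ]
    [Flat ξ] (hbij : LocBij ξ) (v : Y ⟶ S) [IsSeparated v] (f : X ⟶ Y) (hf : f ≫ v = ξ)
    (s : S) (hs : s ∈ collapsed ξ f) : ∃ σ : S ⟶ Y, σ ≫ v = 𝟙 S ∧ f = ξ ≫ σ := by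
  have hcl : IsClosedMap ξ := ξ.isClosedMap
  obtain ⟨hc, ho⟩ := isClopen_collapsed ξ hbij v f hf
  have huniv : collapsed ξ f = Set.univ := IsClopen.eq_univ ⟨hc, ho⟩ ⟨s, hs⟩
  obtain ⟨σ, hσ⟩ := exists_factor_of_collapsed' ξ hcl hbij f (fun t => by rw [huniv]; trivial)
  refine ⟨σ, ?_, hσ⟩
  apply hom_ext_of_surjective_of_injective ξ (hbij.surjective hcl) hbij.injective_app
  rw [← Category.assoc, ← hσ, hf, Category.comp_id]

/-- a fibre on which `f` is scheme-theoretically constant is collapsed -/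
theorem mem_collapsed_of_fiber_factor (ξ : X ⟶ S) (f : X ⟶ Y) (s : S)
    (hs : ∃ y : Spec (S.residueField s) ⟶ Y, ξ.fiberι s ≫ f = ξ.fiberToSpecResidueField s ≫ y) :
    s ∈ collapsed ξ f := by
  obtain ⟨y, hy⟩ := hs
  refine ⟨y (IsLocalRing.closedPoint (S.residueField s)), fun x hx => ?_⟩
  have hx' : x ∈ Set.range (ξ.fiberι s) := by
    rw [Scheme.Hom.range_fiberι]
    exact hx
  obtain ⟨x', rfl⟩ := hx'
  rw [← Scheme.Hom.comp_apply, hy, Scheme.Hom.comp_apply, Scheme.Hom.fiberToSpecResidueField_apply]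

/-- `LocBij` from the pointwise statement with isomorphisms -/
theorem locBij_of_isIso (ξ : X ⟶ S)
    (h : ∀ s : S, ∃ U : S.Opens, s ∈ U ∧ ∀ V : S.Opens, V ≤ U → IsIso (ξ.app V)) : LocBij ξ := by
  intro s
  obtain ⟨U, hsU, hU⟩ := h s
  refine ⟨U, hsU, fun V hV => ?_⟩
  haveI := hU V hV
  exact ConcreteCategory.bijective_of_isIso (ξ.app V)

end Groth.Agent.Lib.Helper21.Rigid
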