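import Groth.Agent.Lib.Helper21.Rigid8
import Groth.Agent.S1536
import Groth.Prelude.Def_ega3

set_option autoImplicit false
set_option backward.isDefEq.respectTransparency.types false
set_option linter.style.haveILetI false
universe u
open AlgebraicGeometry CategoryTheory CategoryTheory.Limits TopologicalSpace

namespace Groth.Agent.Lib.Helper21.Rigid

variable {X S Y : Scheme.{u}}

/-- for a proper morphism with geometrically integral fibres, `κ(s) → Γ(X_s, O)` is bijective -/
theorem bijective_algebraMap_fiber (ξ : X ⟶ S) [IsProper ξ] [GeometricallyIntegral ξ] (s : S) :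
    Function.Bijective (algebraMap (S.residueField s) Γ(ξ.fiber s, ⊤)) := by
  let p : ξ.fiber s ⟶ Spec (CommRingCat.of (S.residueField s)) := ξ.fiberToSpecResidueField s
  haveI : IsProper p := inferInstanceAs (IsProper (pullback.snd ξ (S.fromSpecResidueField s)))
  haveI : GeometricallyIntegral p :=
    inferInstanceAs (GeometricallyIntegral (pullback.snd ξ (S.fromSpecResidueField s)))
  haveI : GeometricallyConnected p := by
    refine ⟨fun K _ y Z fst snd h => ?_⟩
    haveI : IrreducibleSpace Z :=
      GeometricallyIrreducible.geometrically_irreducibleSpace y fst snd h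
    infer_instance
  have h1 : Function.Bijective (p.app ⊤) :=
    Groth.Agent.S1536.bijective_app_aux (S.residueField s) (ξ.fiber s) p
  have h2 : Function.Bijective (Scheme.ΓSpecIso (S.residueField s)).inv.hom :=
    ConcreteCategory.bijective_of_isIso (Scheme.ΓSpecIso (S.residueField s)).inv
  exact h1.comp h2

end Groth.Agent.Lib.Helper21.Rigid
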