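import Mathlib

/-!
# Seidenberg's lemma: derivations in characteristic zero preserve integral closure

`exp(tD)` as a ring homomorphism `Q → Q⟦t⟧` and the key estimate `d² (Dx)^n ∈ A`.
-/

set_option autoImplicit false
universe u

namespace Groth.Agent.Lib.Helper21.Seid

open Finset Nat PowerSeries

section leibniz

variable {k : Type*} [CommRing k] {Q : Type*} [CommRing Q] [Algebra k Q]

/-- General Leibniz rule. -/
theorem iterate_apply_mul (D : Derivation k Q Q) (n : ℕ) (a b : Q) :
    D^[n] (a * b) = ∑ ij ∈ antidiagonal n, n.choose ij.1 • (D^[ij.1] a * D^[ij.2] b) := by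
  induction n with
  | zero => simp
  | succ n ih =>
    rw [sum_antidiagonal_choose_succ_nsmul (M := Q) (fun i j => D^[i] a * D^[j] b) n]
    simp only [Function.iterate_succ_apply', ih, map_sum, map_nsmul, Derivation.leibniz,
      smul_eq_mul, smul_add, sum_add_distrib]
    congr 1
    refine sum_congr rfl fun ⟨i, j⟩ hij => ?_
    rw [n.choose_symm_of_eq_add (mem_antidiagonal.1 hij).symm, mul_comm]

end leibniz

section exp

variable {k : Type*} [Field k] [CharZero k] {Q : Type*} [CommRing Q] [Algebra k Q]
  (D : Derivation k Q Q)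

/-- `exp(tD)` as a function. -/
noncomputable def expFun (a : Q) : Q⟦X⟧ :=
  PowerSeries.mk fun n => ((n.factorial : k)⁻¹) • D^[n] a

@[simp]
theorem coeff_expFun (a : Q) (n : ℕ) :
    coeff n (expFun D a) = ((n.factorial : k)⁻¹) • D^[n] a := by
  simp [expFun]

theorem iterate_add (n : ℕ) (a b : Q) : D^[n] (a + b) = D^[n] a + D^[n] b := by
  induction n generalizing a b with
  | zero => rfl
  | succ n ih => rw [Function.iterate_succ_apply, map_add, ih]; rfl

theorem iterate_zero (n : ℕ) : D^[n] (0 : Q) = 0 := by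
  induction n with
  | zero => rfl
  | succ n ih => rw [Function.iterate_succ_apply, map_zero, ih]

theorem iterate_one (n : ℕ) (hn : n ≠ 0) : D^[n] (1 : Q) = 0 := by
  obtain ⟨m, rfl⟩ := Nat.exists_eq_succ_of_ne_zero hn
  rw [Function.iterate_succ_apply, Derivation.map_one_eq_zero, iterate_zero]

theorem expFun_mul (a b : Q) : expFun D (a * b) = expFun D a * expFun D b := by
  ext n
  rw [coeff_expFun, coeff_mul, iterate_apply_mul, Finset.smul_sum]
  refine sum_congr rfl fun ⟨i, j⟩ hij => ?_
  have hij' : i + j = n := mem_antidiagonal.1 hij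
  simp only [coeff_expFun]
  rw [smul_mul_smul_comm, ← Nat.cast_smul_eq_nsmul k, smul_smul]
  congr 1
  have h1 : ((n.factorial : ℕ) : k) = (n.choose i : k) * (i.factorial : k) * (j.factorial : k) := by
    have h2 := Nat.choose_mul_factorial_mul_factorial (hij' ▸ Nat.le_add_right i j : i ≤ n)
    have h3 : n - i = j := by omega
    rw [h3] at h2
    exact_mod_cast h2.symm
  have hc0 : ((n.choose i : ℕ) : k) ≠ 0 := by
    exact_mod_cast (Nat.choose_pos (hij' ▸ Nat.le_add_right i j : i ≤ n)).ne'
  have hn0 : ((n.factorial : ℕ) : k) ≠ 0 := by exact_mod_cast n.factorial_ne_zero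
  have hi0 : ((i.factorial : ℕ) : k) ≠ 0 := by exact_mod_cast i.factorial_ne_zero
  have hj0 : ((j.factorial : ℕ) : k) ≠ 0 := by exact_mod_cast j.factorial_ne_zero
  rw [h1]
  field_simp

/-- `exp(tD)` as a ring homomorphism. -/
noncomputable def expHom : Q →+* Q⟦X⟧ where
  toFun := expFun D
  map_one' := by
    ext n
    rw [coeff_expFun, coeff_one]
    split_ifs with h
    · subst h
      simp
    · rw [iterate_one D n h, smul_zero]
  map_mul' := expFun_mul D
  map_zero' := by
    ext n
    rw [coeff_expFun, map_zero]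
    rw [iterate_zero, smul_zero]
  map_add' a b := by
    ext n
    rw [map_add, coeff_expFun, coeff_expFun, coeff_expFun, iterate_add, smul_add]

@[simp]
theorem coeff_expHom (a : Q) (n : ℕ) :
    coeff n (expHom D a) = ((n.factorial : k)⁻¹) • D^[n] a := coeff_expFun D a n

end exp

section key

variable {k : Type*} [Field k] [CharZero k] {A Q : Type*} [CommRing A] [CommRing Q]
  [Algebra k A] [Algebra k Q] [Algebra A Q] [IsScalarTower k A Q]
  (DA : Derivation k A A) (DQ : Derivation k Q Q)
  (hcompat : ∀ a, DQ (algebraMap A Q a) = algebraMap A Q (DA a))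

variable (A Q) in
/-- Power series all of whose coefficients come from `A`. -/
def intSeries : Subring Q⟦X⟧ where
  carrier := {f | ∀ n, coeff n f ∈ (algebraMap A Q).range}
  mul_mem' := by
    intro f g hf hg n
    rw [coeff_mul]
    exact Subring.sum_mem _ fun ij _ => Subring.mul_mem _ (hf _) (hg _)
  one_mem' := by
    intro n
    rw [coeff_one]
    split_ifs
    · exact Subring.one_mem _
    · exact Subring.zero_mem _
  add_mem' := by
    intro f g hf hg n
    rw [map_add]
    exact Subring.add_mem _ (hf n) (hg n)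
  zero_mem' := by
    intro n
    rw [map_zero]
    exact Subring.zero_mem _
  neg_mem' := by
    intro f hf n
    rw [map_neg]
    exact Subring.neg_mem _ (hf n)

omit [CharZero k] [Algebra k A] [Algebra k Q] [IsScalarTower k A Q] in
theorem C_mem_intSeries {q : Q} (hq : q ∈ (algebraMap A Q).range) : C q ∈ intSeries A Q := by
  intro n
  rw [coeff_C]
  split_ifs
  · exact hq
  · exact Subring.zero_mem _

include hcompat in
omit [CharZero k] in
theorem iterate_compat (n : ℕ) (a : A) : DQ^[n] (algebraMap A Q a) = algebraMap A Q (DA^[n] a) := by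
  induction n generalizing a with
  | zero => rfl
  | succ n ih => rw [Function.iterate_succ_apply, Function.iterate_succ_apply, hcompat, ih]

include hcompat in
theorem expHom_mem_intSeries (a : A) : expHom DQ (algebraMap A Q a) ∈ intSeries A Q := by
  intro n
  rw [coeff_expHom, iterate_compat DA DQ hcompat]
  refine ⟨((n.factorial : k)⁻¹) • DA^[n] a, ?_⟩
  rw [Algebra.smul_def, Algebra.smul_def, map_mul, ← IsScalarTower.algebraMap_apply]

include hcompat in
/-- The key estimate: `d² (Dx)^n ∈ A` whenever `d xⁱ ∈ A` for all `i`. -/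
theorem key (x : Q) (d : A) (hd : ∀ i : ℕ, algebraMap A Q d * x ^ i ∈ (algebraMap A Q).range)
    (n : ℕ) : (algebraMap A Q d) ^ 2 * (DQ x) ^ n ∈ (algebraMap A Q).range := by
  set d' := algebraMap A Q d with hd'
  set E := expHom DQ with hE
  set P : Q⟦X⟧ := C d' * E d' * (E x - C x) ^ n with hP
  have hPmem : P ∈ intSeries A Q := by
    have h1 : P = ∑ m ∈ range (n + 1),
        (E (d' * x ^ m)) * (C ((-1) ^ (n - m) * (d' * x ^ (n - m)))) * (n.choose m : Q⟦X⟧) := by
      rw [hP, sub_eq_add_neg, add_pow, Finset.mul_sum]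
      refine sum_congr rfl fun m _ => ?_
      rw [map_mul, map_pow, map_mul, map_mul, map_pow, map_pow, map_neg, map_one, neg_pow (C x)]
      ring
    rw [h1]
    refine Subring.sum_mem _ fun m _ => ?_
    refine Subring.mul_mem _ (Subring.mul_mem _ ?_ ?_) (natCast_mem _ _)
    · obtain ⟨a, ha⟩ := hd m
      rw [← ha]
      exact expHom_mem_intSeries DA DQ hcompat a
    · apply C_mem_intSeries
      obtain ⟨a, ha⟩ := hd (n - m)
      exact ⟨(-1) ^ (n - m) * a, by rw [map_mul, map_pow, map_neg, map_one, ha]⟩
  have hconst : constantCoeff (E x) = x := by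
    rw [← coeff_zero_eq_constantCoeff_apply, hE, coeff_expHom]
    simp
  have hcoeff : coeff n P = d' ^ 2 * (DQ x) ^ n := by
    have h2 : E x - C x = X * PowerSeries.mk fun p => coeff (p + 1) (E x) := by
      have := sub_const_eq_X_mul_shift (E x)
      rwa [hconst] at this
    have h3 : P = X ^ n * (C d' * E d' * (PowerSeries.mk fun p => coeff (p + 1) (E x)) ^ n) := by
      rw [hP, h2, mul_pow]
      ring
    rw [h3]
    have h4 := coeff_X_pow_mul (C d' * E d' * (PowerSeries.mk fun p => coeff (p + 1) (E x)) ^ n) n 0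
    rw [zero_add] at h4
    rw [h4, coeff_zero_eq_constantCoeff_apply, map_mul, map_mul, map_pow, constantCoeff_C]
    have h5 : constantCoeff (E d') = d' := by
      rw [← coeff_zero_eq_constantCoeff_apply, hE, coeff_expHom]
      simp
    have h6 : constantCoeff (PowerSeries.mk fun p => coeff (p + 1) (E x)) = DQ x := by
      rw [← coeff_zero_eq_constantCoeff_apply, coeff_mk, hE, coeff_expHom]
      simp
    rw [h5, h6]
    ring
  rw [← hcoeff]
  exact hPmem n

include hcompat in
/-- Seidenberg: a derivation in characteristic zero maps integral elements to integral elements. -/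
theorem isIntegral_apply [IsNoetherianRing A] (x : Q) (d : A) (hdu : IsUnit (algebraMap A Q d))
    (hd : ∀ i : ℕ, algebraMap A Q d * x ^ i ∈ (algebraMap A Q).range) : IsIntegral A (DQ x) := by
  obtain ⟨u, hu⟩ := hdu
  let g : A →ₗ[A] Q := (LinearMap.mulLeft A (↑(u⁻¹ ^ 2) : Q)) ∘ₗ Algebra.linearMap A Q
  have hN : IsNoetherian A (LinearMap.range g) :=
    isNoetherian_of_surjective g.rangeRestrict (LinearMap.range_rangeRestrict g)
  have hle : Subalgebra.toSubmodule (Algebra.adjoin A {DQ x}) ≤ LinearMap.range g := by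
    rw [Algebra.adjoin_eq_span, Submodule.span_le]
    intro y hy
    rw [SetLike.mem_coe, ← Submonoid.powers_eq_closure] at hy
    obtain ⟨n, rfl⟩ := hy
    obtain ⟨a, ha⟩ := key DA DQ hcompat x d hd n
    refine ⟨a, ?_⟩
    show (↑(u⁻¹ ^ 2) : Q) * algebraMap A Q a = _
    rw [ha, ← hu, ← mul_assoc, ← Units.val_pow_eq_pow_val, ← Units.val_mul]
    simp
  have hfg : (Subalgebra.toSubmodule (Algebra.adjoin A {DQ x})).FG :=
    (isNoetherian_submodule.mp hN) _ hle
  exact IsIntegral.of_mem_of_fg _ hfg _ (Algebra.subset_adjoin rfl)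

end key

end Groth.Agent.Lib.Helper21.Seid
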