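import Groth.Agent.Lib.Helper21.SeidA

/-!
# Derivations extend to the normalization in characteristic zero
-/

set_option autoImplicit false
universe u

namespace Groth.Agent.Lib.Helper21.Seid

open KaehlerDifferential TensorProduct

section extend

variable (k A Q : Type*) [CommRing k] [CommRing A] [CommRing Q] [Algebra k A] [Algebra k Q]
  [Algebra A Q] [IsScalarTower k A Q] [Algebra.FormallyEtale A Q]

/-- Derivations extend along formally étale maps. -/
theorem exists_extension (D : Derivation k A A) :
    ∃ DQ : Derivation k Q Q, ∀ a, DQ (algebraMap A Q a) = algebraMap A Q (D a) := by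
  let ℓ : Ω[A⁄k] →ₗ[A] Q := (Algebra.linearMap A Q) ∘ₗ D.liftKaehlerDifferential
  let ℓQ : Q ⊗[A] Ω[A⁄k] →ₗ[Q] Q := LinearMap.liftBaseChange Q ℓ
  let L : Ω[Q⁄k] →ₗ[Q] Q := ℓQ ∘ₗ (tensorKaehlerEquivOfFormallyEtale k A Q).symm.toLinearMap
  refine ⟨L.compDer (KaehlerDifferential.D k Q), fun a => ?_⟩
  show ℓQ ((tensorKaehlerEquivOfFormallyEtale k A Q).symm
    (KaehlerDifferential.D k Q (algebraMap A Q a))) = _
  rw [tensorKaehlerEquivOfFormallyEtale_symm_D_algebraMap]
  simp [ℓQ, ℓ]

end extend

theorem main (k : Type u) [Field k] [CharZero k] (A : Type u) [CommRing A]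
    [Algebra k A] [IsNoetherianRing A] (D : Derivation k A A) :
    ∃ D' : Derivation k ↥(integralClosure A (FractionRing A))
        ↥(integralClosure A (FractionRing A)),
      ∀ a : A, (D' (algebraMap A ↥(integralClosure A (FractionRing A)) a) : FractionRing A) =
        algebraMap A (FractionRing A) (D a) := by
  obtain ⟨DQ, hDQ⟩ := exists_extension k A (FractionRing A) D
  have hmem : ∀ x : ↥(integralClosure A (FractionRing A)),
      DQ (x : FractionRing A) ∈ integralClosure A (FractionRing A) := by
    intro x
    have hx : IsIntegral A (x : FractionRing A) := x.2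
    have hfg := hx.fg_adjoin_singleton
    obtain ⟨s, hs⟩ := hfg
    obtain ⟨d, hd⟩ := IsLocalization.exist_integer_multiples_of_finset (nonZeroDivisors A) s
    have hdu : IsUnit (algebraMap A (FractionRing A) (d : A)) :=
      IsLocalization.map_units (FractionRing A) d
    have hall : ∀ y ∈ Subalgebra.toSubmodule (Algebra.adjoin A {(x : FractionRing A)}),
        algebraMap A (FractionRing A) (d : A) * y ∈ (algebraMap A (FractionRing A)).range := by
      intro y hy
      rw [← hs] at hy
      induction hy using Submodule.span_induction with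
      | mem y hy =>
        obtain ⟨a, ha⟩ := hd y hy
        exact ⟨a, by rw [ha, Algebra.smul_def]⟩
      | zero => exact ⟨0, by simp⟩
      | add y z _ _ hy hz =>
        obtain ⟨a, ha⟩ := hy
        obtain ⟨b, hb⟩ := hz
        exact ⟨a + b, by rw [map_add, ha, hb, mul_add]⟩
      | smul r y _ hy =>
        obtain ⟨a, ha⟩ := hy
        exact ⟨r * a, by rw [map_mul, ha, Algebra.smul_def]; ring⟩
    have hxmem : (x : FractionRing A) ∈ Algebra.adjoin A {(x : FractionRing A)} :=
      Algebra.subset_adjoin (Set.mem_singleton _)
    have hpow : ∀ i : ℕ, algebraMap A (FractionRing A) (d : A) * (x : FractionRing A) ^ i ∈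
        (algebraMap A (FractionRing A)).range := by
      intro i
      have h2 : (x : FractionRing A) ^ i ∈ Algebra.adjoin A {(x : FractionRing A)} :=
        Subalgebra.pow_mem _ hxmem i
      exact hall _ h2
    have h1 : IsIntegral A (DQ (x : FractionRing A)) :=
      isIntegral_apply (k := k) (A := A) (Q := FractionRing A) D DQ hDQ (x : FractionRing A)
        (d : A) hdu hpow
    exact h1
  let f : ↥(integralClosure A (FractionRing A)) →ₗ[k] ↥(integralClosure A (FractionRing A)) :=
    { toFun := fun x => ⟨DQ (x : FractionRing A), hmem x⟩,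
      map_add' := fun x y => Subtype.ext (by
        show DQ ((x + y : ↥(integralClosure A (FractionRing A))) : FractionRing A) = _
        rw [Subalgebra.coe_add, map_add]
        rfl),
      map_smul' := fun c x => Subtype.ext (by
        show DQ ((c • x : ↥(integralClosure A (FractionRing A))) : FractionRing A) = _
        rw [Subalgebra.coe_smul, Derivation.map_smul]
        rfl) }
  have hf : ∀ x, ((f x : ↥(integralClosure A (FractionRing A))) : FractionRing A) =
      DQ (x : FractionRing A) := fun x => rfl
  let D' : Derivation k ↥(integralClosure A (FractionRing A))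
      ↥(integralClosure A (FractionRing A)) :=
    { toLinearMap := f,
      map_one_eq_zero' := Subtype.ext (by
        rw [hf, Subalgebra.coe_one, Derivation.map_one_eq_zero]
        rfl),
      leibniz' := fun x y => Subtype.ext (by
        rw [hf, Subalgebra.coe_mul, Derivation.leibniz]
        rfl) }
  exact ⟨D', fun a => hDQ a⟩

end Groth.Agent.Lib.Helper21.Seid
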