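import Mathlib

/-!
# Helper21 — SepDegSum: counting algebra maps from a finite algebra into an algebraically closed
field by the maximal ideals.
-/

set_option autoImplicit false

namespace Groth.Agent.Lib.Helper21.SepDegSum

open scoped TensorProduct

universe u

section G
variable (F : Type u) [Field F] (T : Type u) [CommRing T] [Algebra F T] [Module.Finite F T]
  (Ω : Type u) [Field Ω] [Algebra F Ω]

/-- the kernel of an algebra map to a field, as a maximal ideal. -/
noncomputable def kerMax (φ : T →ₐ[F] Ω) : MaximalSpectrum T :=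
  ⟨RingHom.ker φ, by
    haveI : IsArtinianRing T := IsArtinianRing.of_finite F T
    haveI : (RingHom.ker φ).IsPrime := RingHom.ker_isPrime φ
    exact IsArtinianRing.isMaximal_of_isPrime _⟩

theorem kerMax_asIdeal (φ : T →ₐ[F] Ω) : (kerMax F T Ω φ).asIdeal = RingHom.ker φ := rfl

/-- the maps with kernel `m` are the maps from the residue field at `m`. -/
noncomputable def fibreEquiv (m : MaximalSpectrum T) :
    {φ : T →ₐ[F] Ω // kerMax F T Ω φ = m} ≃ (m.asIdeal.ResidueField →ₐ[F] Ω) where
  toFun φ := Ideal.ResidueField.liftₐ m.asIdeal φ.1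
    (le_of_eq (congrArg MaximalSpectrum.asIdeal φ.2).symm)
    (by
      intro x hx
      have h : RingHom.ker φ.1 = m.asIdeal := congrArg MaximalSpectrum.asIdeal φ.2
      have hx' : x ∉ RingHom.ker φ.1 := by rw [h]; exact hx
      rw [RingHom.mem_ker] at hx'
      exact (Ne.isUnit hx' : IsUnit (φ.1 x)))
  invFun ψ := ⟨ψ.comp (IsScalarTower.toAlgHom F T m.asIdeal.ResidueField), by
    apply MaximalSpectrum.ext
    rw [kerMax_asIdeal]
    ext x
    rw [RingHom.mem_ker, AlgHom.comp_apply, map_eq_zero_iff ψ ψ.toRingHom.injective,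
      IsScalarTower.coe_toAlgHom', Ideal.algebraMap_residueField_eq_zero]⟩
  left_inv φ := Subtype.ext (Ideal.ResidueField.liftₐ_comp_toAlgHom _ _ _ _)
  right_inv ψ := by
    apply Ideal.ResidueField.algHom_ext
    rw [Ideal.ResidueField.liftₐ_comp_toAlgHom]

theorem card_algHom_eq_sum :
    Nat.card (T →ₐ[F] Ω) =
      ∑ᶠ m : MaximalSpectrum T, Nat.card (m.asIdeal.ResidueField →ₐ[F] Ω) := by
  classical
  haveI : IsArtinianRing T := IsArtinianRing.of_finite F T
  haveI : Fintype (MaximalSpectrum T) := Fintype.ofFinite _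
  have hfin : ∀ m : MaximalSpectrum T, Finite (m.asIdeal.ResidueField →ₐ[F] Ω) := by
    intro m
    haveI : Module.Finite F m.asIdeal.ResidueField := Module.Finite.trans T _
    exact Finite.of_fintype _
  haveI : ∀ m : MaximalSpectrum T, Finite {φ : T →ₐ[F] Ω // kerMax F T Ω φ = m} :=
    fun m => Finite.of_equiv _ (fibreEquiv F T Ω m).symm
  rw [finsum_eq_sum_of_fintype, ← Nat.card_congr (Equiv.sigmaFiberEquiv (kerMax F T Ω)),
    Nat.card_sigma]
  exact Finset.sum_congr rfl fun m _ => Nat.card_congr (fibreEquiv F T Ω m)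

end G

section Main
variable (k A k' : Type u) [Field k] [CommRing A] [Algebra k A] [Module.Finite k A] [IsLocalRing A]
  [Field k'] [Algebra k k']

theorem card_residue_algHom (Ω : Type u) [Field Ω] [Algebra k Ω] :
    Nat.card (IsLocalRing.ResidueField A →ₐ[k] Ω) = Nat.card (A →ₐ[k] Ω) := by
  let res : A →ₐ[k] IsLocalRing.ResidueField A := IsScalarTower.toAlgHom k A _
  have hres : Function.Surjective res := IsLocalRing.residue_surjective
  apply Nat.card_eq_of_bijective (fun ψ : IsLocalRing.ResidueField A →ₐ[k] Ω => ψ.comp res)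
  constructor
  · intro ψ₁ ψ₂ h
    exact (AlgHom.cancel_right hres).1 h
  · intro φ
    have hker : RingHom.ker φ = IsLocalRing.maximalIdeal A :=
      IsLocalRing.eq_maximalIdeal (kerMax k A Ω φ).isMaximal
    let ψ : IsLocalRing.ResidueField A →ₐ[k] Ω :=
      Ideal.Quotient.liftₐ (IsLocalRing.maximalIdeal A) φ (fun a ha => by
        rw [← hker] at ha
        exact ha)
    refine ⟨ψ, ?_⟩
    ext a
    rfl

theorem finSepDegree_eq_finsum :
    Field.finSepDegree k (IsLocalRing.ResidueField A) =
      ∑ᶠ m : MaximalSpectrum (k' ⊗[k] A),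
        Field.finSepDegree k' (IsLocalRing.ResidueField (Localization.AtPrime m.asIdeal)) := by
  classical
  rw [Field.finSepDegree_eq_of_isAlgClosed k (IsLocalRing.ResidueField A) (AlgebraicClosure k'),
    card_residue_algHom k A (AlgebraicClosure k'),
    Nat.card_congr (AlgHom.liftEquiv k k' A (AlgebraicClosure k')),
    card_algHom_eq_sum k' (k' ⊗[k] A) (AlgebraicClosure k')]
  refine finsum_congr fun m => ?_
  haveI : Module.Finite k' m.asIdeal.ResidueField := Module.Finite.trans (k' ⊗[k] A) _
  exact (Field.finSepDegree_eq_of_isAlgClosed k' _ (AlgebraicClosure k')).symm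

end Main

end Groth.Agent.Lib.Helper21.SepDegSum
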