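import Mathlib
import Groth.Agent.Lib.Helper21.SkOpen5
import Groth.Agent.Lib.Helper21.RdK3
import Groth.Agent.Lib.Helper24.ClosedDim.Top

set_option autoImplicit false

namespace Groth.Agent.Lib.Helper21.SkOpen

open IsLocalRing TensorProduct Module Pointwise Topology
open Groth.Agent.Lib.Helper21 Groth.Agent.Lib.Helper21.FlatLocal

universe u

section Heights

/-- `ht P + ht (r / P) ≤ ht r`. -/
theorem height_add_height_quotient_le (B : Type u) [CommRing B] [IsNoetherianRing B]
    (P : Ideal B) [P.IsPrime] (r₁ : PrimeSpectrum (B ⧸ P)) :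
    P.height + r₁.asIdeal.height ≤ (r₁.asIdeal.comap (Ideal.Quotient.mk P)).height := by
  obtain ⟨l, hl1, hl2⟩ := r₁.asIdeal.exists_ltSeries_length_eq_height
  let c : PrimeSpectrum (B ⧸ P) → PrimeSpectrum B := PrimeSpectrum.comap (Ideal.Quotient.mk P)
  have hcmono : Monotone c := fun x y hxy => Ideal.comap_mono hxy
  have hcinj : Function.Injective c :=
    PrimeSpectrum.comap_injective_of_surjective _ Ideal.Quotient.mk_surjective
  have hc : StrictMono c := hcmono.strictMono_of_injective hcinj
  have hg : StrictMono (c ∘ l.toFun) := hc.comp l.strictMono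
  have h1 := Groth.Agent.Lib.Helper24.ClosedDim.height_add_le_of_strictMono (c ∘ l.toFun) hg
  have hlast : (c ∘ l.toFun) (Fin.last l.length) = c r₁ := by
    show c l.last = c r₁
    rw [hl1]
  have hP : (⟨P, inferInstance⟩ : PrimeSpectrum B) ≤ (c ∘ l.toFun) 0 := by
    intro x hx
    show Ideal.Quotient.mk P x ∈ (l.toFun 0).asIdeal
    rw [Ideal.Quotient.eq_zero_iff_mem.2 hx]
    exact Ideal.zero_mem _
  have h2 := Order.height_mono hP
  rw [hlast] at h1
  rw [PrimeSpectrum.height_eq_orderHeight ⟨P, inferInstance⟩,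
    show (r₁.asIdeal.comap (Ideal.Quotient.mk P)).height = Order.height (c r₁) from
      PrimeSpectrum.height_eq_orderHeight (c r₁), ← hl2]
  exact (add_le_add h2 le_rfl).trans h1

end Heights


section GoingDown

attribute [local instance] Algebra.TensorProduct.rightAlgebra

set_option maxHeartbeats 1600000 in
set_option synthInstance.maxHeartbeats 200000 in
/-- generic flatness gives a lower bound for heights: after inverting one nonzero element of the
base, `ht (r ∩ A) ≤ ht r`. -/
theorem exists_height_le (A B₁ : Type u) [CommRing A] [IsDomain A] [IsNoetherianRing A]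
    [CommRing B₁] [Algebra A B₁] [Algebra.FiniteType A B₁] :
    ∃ a : A, a ≠ 0 ∧ ∀ r₁ : PrimeSpectrum B₁, algebraMap A B₁ a ∉ r₁.asIdeal →
      (r₁.asIdeal.comap (algebraMap A B₁)).height ≤ r₁.asIdeal.height := by
  obtain ⟨a, ha, -, hfree, -, -⟩ := Groth.Agent.S0389.result (R := A) (S := B₁) (M := B₁)
  refine ⟨a, ha, ?_⟩
  intro r₁ har₁
  haveI := hfree
  haveI : Module.Flat A (Localization.Away a) := IsLocalization.flat _ (Submonoid.powers a)
  haveI : Module.Flat A (Localization.Away a ⊗[A] B₁) :=
    Module.Flat.trans A (Localization.Away a) _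
  haveI : IsNoetherianRing (Localization.Away a) :=
    IsLocalization.isNoetherianRing (Submonoid.powers a) _ inferInstance
  haveI : IsNoetherianRing (Localization.Away a ⊗[A] B₁) :=
    Algebra.FiniteType.isNoetherianRing (Localization.Away a) _
  have hι : IsEmbedding (PrimeSpectrum.comap (algebraMap A (Localization.Away a))) :=
    PrimeSpectrum.localization_comap_isEmbedding (Localization.Away a) (Submonoid.powers a)
  have hst : (algebraMap A (Localization.Away a)).SurjectiveOnStalks :=
    RingHom.surjectiveOnStalks_of_isLocalization (M := Submonoid.powers a) (Localization.Away a)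
  obtain ⟨hemb, hrange⟩ := RdBC.isEmbedding_comap_tensor A (Localization.Away a) B₁ hι hst
  have hmem : r₁ ∈ Set.range (PrimeSpectrum.comap
      (algebraMap B₁ (Localization.Away a ⊗[A] B₁))) := by
    rw [hrange, Set.mem_preimage, PrimeSpectrum.localization_away_comap_range
      (Localization.Away a) a]
    exact har₁
  obtain ⟨rT, hrT⟩ := hmem
  set c := PrimeSpectrum.comap (algebraMap B₁ (Localization.Away a ⊗[A] B₁)) with hc
  have hcmono : Monotone c := fun x y hxy => Ideal.comap_mono hxy
  have hcs : StrictMono c := hcmono.strictMono_of_injective hemb.injective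
  have h1 : rT.asIdeal.height ≤ r₁.asIdeal.height := by
    rw [PrimeSpectrum.height_eq_orderHeight rT, PrimeSpectrum.height_eq_orderHeight r₁, ← hrT]
    exact Order.height_le_height_apply_of_strictMono c hcs rT
  haveI hlo : rT.asIdeal.LiesOver (r₁.asIdeal.comap (algebraMap A B₁)) := by
    constructor
    have : r₁.asIdeal = rT.asIdeal.comap (algebraMap B₁ (Localization.Away a ⊗[A] B₁)) := by
      rw [← hrT]; rfl
    rw [this, Ideal.comap_comap, Ideal.under_def,
      IsScalarTower.algebraMap_eq A B₁ (Localization.Away a ⊗[A] B₁)]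
  have h2 := Ideal.height_eq_height_add_of_liesOver_of_hasGoingDown
    (r₁.asIdeal.comap (algebraMap A B₁)) rT.asIdeal
  calc (r₁.asIdeal.comap (algebraMap A B₁)).height ≤ rT.asIdeal.height := by
        rw [h2]; exact le_self_add
    _ ≤ r₁.asIdeal.height := h1

end GoingDown


section FibDim

variable (A B : Type u) [CommRing A] [CommRing B] [Algebra A B] [IsNoetherianRing A]
  [IsNoetherianRing B] [Module.Flat A B]

/-- `ht r = ht (r ∩ A) + dim (B_r / p B_r)` for a flat algebra. -/
theorem height_eq_add_fibDim (r : PrimeSpectrum B) :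
    ((r.asIdeal.height : ℕ∞) : WithBot ℕ∞) =
      (((r.asIdeal.comap (algebraMap A B)).height : ℕ∞) : WithBot ℕ∞) +
        supportDim (Localization.AtPrime r.asIdeal) (EGA4.FibLocMod A B r.asIdeal B) := by
  have h := supportDim_loc_flat (A := A) r.asIdeal B
  rw [supportDim_localizedSelf B r.asIdeal, supportDim_localizedSelf A (r.asIdeal.under A)] at h
  exact h

end FibDim

section Mono

variable (A B : Type u) [CommRing A] [IsDomain A] [CommRing B] [Algebra A B] [IsNoetherianRing A]
  [Algebra.FiniteType A B] [Module.Flat A B]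

set_option maxHeartbeats 1600000 in
set_option synthInstance.maxHeartbeats 200000 in
/-- the dimension of the fibre local rings does not drop from a prime `P` of the generic fibre to
its specializations `r`, over the locus where `B / P` is flat. -/
theorem supportDim_fibLocMod_le (P r : PrimeSpectrum B) (hPr : P ≤ r)
    (hP0 : P.asIdeal.comap (algebraMap A B) = ⊥) (a : A)
    (ha : ∀ r₁ : PrimeSpectrum (B ⧸ P.asIdeal), algebraMap A (B ⧸ P.asIdeal) a ∉ r₁.asIdeal →
      (r₁.asIdeal.comap (algebraMap A (B ⧸ P.asIdeal))).height ≤ r₁.asIdeal.height)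
    (har : algebraMap A B a ∉ r.asIdeal) :
    supportDim (Localization.AtPrime P.asIdeal) (EGA4.FibLocMod A B P.asIdeal B) ≤
      supportDim (Localization.AtPrime r.asIdeal) (EGA4.FibLocMod A B r.asIdeal B) := by
  haveI : IsNoetherianRing B := Algebra.FiniteType.isNoetherianRing A B
  have hker : RingHom.ker (Ideal.Quotient.mk P.asIdeal) ≤ r.asIdeal := by
    rw [Ideal.mk_ker]; exact hPr
  haveI hr₁prime : (r.asIdeal.map (Ideal.Quotient.mk P.asIdeal)).IsPrime :=
    Ideal.map_isPrime_of_surjective Ideal.Quotient.mk_surjective hker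
  let r₁ : PrimeSpectrum (B ⧸ P.asIdeal) := ⟨r.asIdeal.map (Ideal.Quotient.mk P.asIdeal), hr₁prime⟩
  have hr₁c : r₁.asIdeal.comap (Ideal.Quotient.mk P.asIdeal) = r.asIdeal := by
    show (r.asIdeal.map (Ideal.Quotient.mk P.asIdeal)).comap (Ideal.Quotient.mk P.asIdeal) = _
    rw [Ideal.comap_map_of_surjective _ Ideal.Quotient.mk_surjective, ← RingHom.ker_eq_comap_bot,
      sup_eq_left]
    exact hker
  have har₁ : algebraMap A (B ⧸ P.asIdeal) a ∉ r₁.asIdeal := by
    intro hmem
    apply har
    rw [← hr₁c]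
    exact hmem
  have h1 := ha r₁ har₁
  have hcomap : r₁.asIdeal.comap (algebraMap A (B ⧸ P.asIdeal)) =
      r.asIdeal.comap (algebraMap A B) := by
    rw [← hr₁c, Ideal.comap_comap]
    rfl
  rw [hcomap] at h1
  have h2 := height_add_height_quotient_le B P.asIdeal r₁
  rw [hr₁c] at h2
  have h3 := height_eq_add_fibDim A B r
  have h4 := height_eq_add_fibDim A B P
  obtain ⟨dP, hdP⟩ := DepthKit.exists_nat_supportDim (A := Localization.AtPrime P.asIdeal)
    (M := EGA4.FibLocMod A B P.asIdeal B)
  obtain ⟨dr, hdr⟩ := DepthKit.exists_nat_supportDim (A := Localization.AtPrime r.asIdeal)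
    (M := EGA4.FibLocMod A B r.asIdeal B)
  rw [hdP, hdr]
  rw [hdP, hP0, Ideal.height_bot] at h4
  rw [hdr] at h3
  obtain ⟨np, hnp⟩ : ∃ np : ℕ, (r.asIdeal.comap (algebraMap A B)).height = (np : ℕ∞) := by
    have : (r.asIdeal.comap (algebraMap A B)).height ≠ ⊤ := Ideal.height_ne_top_of_isPrime
    exact ⟨_, (ENat.coe_toNat this).symm⟩
  rw [hnp] at h1 h3
  have h3' : r.asIdeal.height = ((np + dr : ℕ) : ℕ∞) := by exact_mod_cast h3
  have h4' : P.asIdeal.height = ((dP : ℕ) : ℕ∞) := by
    have : ((P.asIdeal.height : ℕ∞) : WithBot ℕ∞) = ((dP : ℕ∞) : WithBot ℕ∞) := by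
      rw [h4]; simp
    exact_mod_cast this
  rw [h3', h4'] at h2
  obtain ⟨n₁, hn₁⟩ : ∃ n₁ : ℕ, r₁.asIdeal.height = (n₁ : ℕ∞) := by
    have : r₁.asIdeal.height ≠ ⊤ := Ideal.height_ne_top_of_isPrime
    exact ⟨_, (ENat.coe_toNat this).symm⟩
  rw [hn₁] at h1 h2
  have h1' : np ≤ n₁ := by exact_mod_cast h1
  have h2' : dP + n₁ ≤ np + dr := by exact_mod_cast h2
  have : dP ≤ dr := by omega
  exact_mod_cast this

end Mono

end Groth.Agent.Lib.Helper21.SkOpen
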