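import Mathlib
import Groth.Agent.Lib.Helper21.SkOpen6
import Groth.Agent.Lib.Helper21.MCopC

set_option autoImplicit false

namespace Groth.Agent.Lib.Helper21.SkOpen

open IsLocalRing TensorProduct Module Pointwise Topology
open Groth.Agent.Lib.Helper21 Groth.Agent.Lib.Helper21.FlatLocal Groth.Agent.Lib.Helper21.MCop

universe u

section Spread

variable (A B : Type u) [CommRing A] [IsDomain A] [CommRing B] [Algebra A B] [IsNoetherianRing A]
  [Algebra.FiniteType A B] [Module.Flat A B]

/-- the locus where the fibre local ring has codepth at most `n`. -/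
def copSet (n : ℕ) : Set (PrimeSpectrum B) :=
  {r | McopLE (Localization.AtPrime r.asIdeal) (EGA4.FibLocMod A B r.asIdeal B) n}

omit [IsDomain A] in
theorem isOpen_copSet (n : ℕ) : IsOpen (copSet A B n) := by
  haveI : Algebra.FinitePresentation A B := Algebra.FinitePresentation.of_finiteType.mp inferInstance
  have h := isOpen_flat_mcop A B B n
  have heq : copSet A B n = {q : PrimeSpectrum B |
      Module.Flat A (LocalizedModule q.asIdeal.primeCompl B) ∧
      McopLE (Localization.AtPrime q.asIdeal) (EGA4.FibLocMod A B q.asIdeal B) n} := by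
    ext r
    exact ⟨fun hr => ⟨RdBC.flat_localizedModule A B B _, hr⟩, fun hr => hr.2⟩
  rw [heq]
  exact h

set_option maxHeartbeats 1600000 in
set_option synthInstance.maxHeartbeats 200000 in
/-- **spreading out `(S_k)` from a point of the generic fibre**. -/
theorem exists_spread_domain (k : ℕ) (q : PrimeSpectrum B)
    (hq0 : q.asIdeal.comap (algebraMap A B) = ⊥) (hq : q ∈ skSet A B k) :
    ∃ g : B, g ∉ q.asIdeal ∧ ∀ r : PrimeSpectrum B, g ∉ r.asIdeal → SkIneqAt A B k r := by
  classical
  haveI : IsNoetherianRing B := Algebra.FiniteType.isNoetherianRing A B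
  -- naturals
  have hnat : ∀ r : PrimeSpectrum B, ∃ d e : ℕ,
      supportDim (Localization.AtPrime r.asIdeal) (EGA4.FibLocMod A B r.asIdeal B) =
        (d : WithBot ℕ∞) ∧
      LocCoh.depth (Localization.AtPrime r.asIdeal) (EGA4.FibLocMod A B r.asIdeal B) = (e : ℕ∞) := by
    intro r
    obtain ⟨d, hd⟩ := DepthKit.exists_nat_supportDim (A := Localization.AtPrime r.asIdeal)
      (M := EGA4.FibLocMod A B r.asIdeal B)
    obtain ⟨e, he⟩ := DepthKit.exists_nat_depth (A := Localization.AtPrime r.asIdeal)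
      (M := EGA4.FibLocMod A B r.asIdeal B)
    exact ⟨d, e, hd, he⟩
  have hcop : ∀ (r : PrimeSpectrum B) (d e n : ℕ),
      supportDim (Localization.AtPrime r.asIdeal) (EGA4.FibLocMod A B r.asIdeal B) =
        (d : WithBot ℕ∞) →
      LocCoh.depth (Localization.AtPrime r.asIdeal) (EGA4.FibLocMod A B r.asIdeal B) = (e : ℕ∞) →
      (r ∈ copSet A B n ↔ d ≤ e + n) := by
    intro r d e n hd he
    show McopLE _ _ n ↔ _
    unfold McopLE
    rw [hd, he]
    constructor
    · intro h; exact_mod_cast h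
    · intro h; exact_mod_cast h
  have hsk : ∀ (r : PrimeSpectrum B) (d e : ℕ),
      supportDim (Localization.AtPrime r.asIdeal) (EGA4.FibLocMod A B r.asIdeal B) =
        (d : WithBot ℕ∞) →
      LocCoh.depth (Localization.AtPrime r.asIdeal) (EGA4.FibLocMod A B r.asIdeal B) = (e : ℕ∞) →
      (SkIneqAt A B k r ↔ (k ≤ e ∨ d ≤ e)) := by
    intro r d e hd he
    unfold SkIneqAt
    rw [hd, he, min_le_iff]
    constructor
    · rintro (h | h)
      · left; exact_mod_cast h
      · right; exact_mod_cast h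
    · rintro (h | h)
      · left; exact_mod_cast h
      · right; exact_mod_cast h
  -- the open cover
  have hmono : ∀ n m : ℕ, n ≤ m → copSet A B n ⊆ copSet A B m := by
    intro n m hnm r hr
    exact mcopLE_mono hnm hr
  have hcover : (Set.univ : Set (PrimeSpectrum B)) ⊆ ⋃ n, copSet A B n := by
    intro r _
    obtain ⟨d, e, hd, he⟩ := hnat r
    rw [Set.mem_iUnion]
    exact ⟨d, (hcop r d e d hd he).2 (by omega)⟩
  have hdir : Directed (· ⊆ ·) (copSet A B) := by
    intro n m
    exact ⟨max n m, hmono _ _ (le_max_left _ _), hmono _ _ (le_max_right _ _)⟩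
  obtain ⟨N, hN⟩ := isCompact_univ.elim_directed_cover (copSet A B) (isOpen_copSet A B)
    hcover hdir
  -- the finite set of primes
  let I : ℕ → Ideal B := fun n => PrimeSpectrum.vanishingIdeal (copSet A B n)ᶜ
  have hzero : ∀ n, PrimeSpectrum.zeroLocus (I n : Set B) = (copSet A B n)ᶜ := by
    intro n
    rw [PrimeSpectrum.zeroLocus_vanishingIdeal_eq_closure]
    exact (isOpen_copSet A B n).isClosed_compl.closure_eq
  let PP : Finset (Ideal B) := (Finset.range N).biUnion
    (fun n => (Ideal.finite_minimalPrimes_of_isNoetherianRing B (I n)).toFinset)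
  -- the element avoiding the primes not contained in `q`
  have hx : ∀ P : Ideal B, ∃ x : B, x ∉ q.asIdeal ∧ (¬ P ≤ q.asIdeal → x ∈ P) := by
    intro P
    by_cases h : P ≤ q.asIdeal
    · exact ⟨1, fun h1 => q.isPrime.ne_top ((Ideal.eq_top_iff_one _).2 h1), fun h' => absurd h h'⟩
    · obtain ⟨x, hxP, hxq⟩ := SetLike.not_le_iff_exists.1 h
      exact ⟨x, hxq, fun _ => hxP⟩
  choose x hxq hxP using hx
  have ha : ∀ P : Ideal B, ∃ a : A, a ≠ 0 ∧ ∀ r₁ : PrimeSpectrum (B ⧸ P),
      algebraMap A (B ⧸ P) a ∉ r₁.asIdeal →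
        (r₁.asIdeal.comap (algebraMap A (B ⧸ P))).height ≤ r₁.asIdeal.height :=
    fun P => exists_height_le A (B ⧸ P)
  choose a ha0 haP using ha
  set g₁ : B := ∏ P ∈ PP, x P with hg₁
  set a₀ : A := ∏ P ∈ PP, a P with ha₀
  have ha₀0 : a₀ ≠ 0 := Finset.prod_ne_zero_iff.2 fun P _ => ha0 P
  refine ⟨g₁ * algebraMap A B a₀, ?_, ?_⟩
  · intro hmem
    rcases q.isPrime.mem_or_mem hmem with h | h
    · rw [hg₁, Ideal.IsPrime.prod_mem_iff] at h
      obtain ⟨P, _, hP⟩ := h
      exact hxq P hP
    · have : a₀ ∈ q.asIdeal.comap (algebraMap A B) := h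
      rw [hq0] at this
      exact ha₀0 this
  · intro r hgr
    by_contra hneg
    obtain ⟨d, e, hd, he⟩ := hnat r
    rw [hsk r d e hd he] at hneg
    push Not at hneg
    obtain ⟨hek, hed⟩ := hneg
    set n := d - e - 1 with hn
    have hrn : r ∉ copSet A B n := by
      rw [hcop r d e n hd he]
      omega
    have hnN : n < N := by
      by_contra hnN
      exact hrn (hmono N n (by omega) (hN (Set.mem_univ r)))
    have hrz : r ∈ PrimeSpectrum.zeroLocus (I n : Set B) := by
      rw [hzero]; exact hrn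
    rw [PrimeSpectrum.mem_zeroLocus] at hrz
    obtain ⟨P, hPmin, hPr⟩ := Ideal.exists_minimalPrimes_le (show I n ≤ r.asIdeal from hrz)
    haveI hPprime : P.IsPrime := hPmin.1.1
    let Ps : PrimeSpectrum B := ⟨P, hPprime⟩
    have hPsz : Ps ∈ PrimeSpectrum.zeroLocus (I n : Set B) := by
      rw [PrimeSpectrum.mem_zeroLocus]; exact hPmin.1.2
    rw [hzero] at hPsz
    have hPPP : P ∈ PP := by
      rw [Finset.mem_biUnion]
      exact ⟨n, Finset.mem_range.2 hnN, (Set.Finite.mem_toFinset _).2 hPmin⟩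
    -- `P ≤ q`
    have hg₁r : g₁ ∉ r.asIdeal := fun h => hgr (Ideal.mul_mem_right _ _ h)
    have hPq : P ≤ q.asIdeal := by
      by_contra hPq
      apply hg₁r
      have h1 : x P ∈ r.asIdeal := hPr (hxP P hPq)
      exact Ideal.mem_of_dvd _ (Finset.dvd_prod_of_mem x hPPP) h1
    have hP0 : Ps.asIdeal.comap (algebraMap A B) = ⊥ := by
      rw [eq_bot_iff, ← hq0]
      exact Ideal.comap_mono hPq
    have hPsk : SkIneqAt A B k Ps := by
      rw [mem_skSet_iff] at hq
      apply hq Ps hPq
      apply PrimeSpectrum.ext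
      show Ps.asIdeal.comap (algebraMap A B) = q.asIdeal.comap (algebraMap A B)
      rw [hP0, hq0]
    obtain ⟨dP, eP, hdP, heP⟩ := hnat Ps
    rw [hsk Ps dP eP hdP heP] at hPsk
    have hPn : ¬ dP ≤ eP + n := by
      rw [← hcop Ps dP eP n hdP heP]
      exact hPsz
    -- dimension comparison
    have har : algebraMap A B (a P) ∉ r.asIdeal := by
      intro h
      apply hgr
      apply Ideal.mul_mem_left
      have h2 : a P ∣ a₀ := Finset.dvd_prod_of_mem a hPPP
      exact Ideal.mem_of_dvd _ (map_dvd (algebraMap A B) h2) h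
    have hdim := supportDim_fibLocMod_le A B Ps r hPr hP0 (a P) (haP P) har
    rw [hdP, hd] at hdim
    have hdim' : dP ≤ d := by exact_mod_cast hdim
    omega

end Spread

end Groth.Agent.Lib.Helper21.SkOpen
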