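import Mathlib
import Groth.Agent.Lib.Helper21.SkOpen7

set_option autoImplicit false

namespace Groth.Agent.Lib.Helper21.SkOpen

open IsLocalRing TensorProduct Module Pointwise Topology
open Groth.Agent.Lib.Helper21 Groth.Agent.Lib.Helper21.FlatLocal Groth.Agent.Lib.Helper21.MCop

universe u

section Crit

/-- **a topological criterion of Nagata type**: a subset of the spectrum of a Noetherian ring which
is stable under generization and contains, with each point `q`, a nonempty open subset of the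
closure of `q`, is open. -/
theorem isOpen_of_generization_of_spread (B : Type u) [CommRing B] [IsNoetherianRing B]
    (E : Set (PrimeSpectrum B))
    (hgen : ∀ Q₁ Q : PrimeSpectrum B, Q₁ ≤ Q → Q ∈ E → Q₁ ∈ E)
    (hsp : ∀ q ∈ E, ∃ g : B, g ∉ q.asIdeal ∧
      ∀ q' : PrimeSpectrum B, q.asIdeal ≤ q'.asIdeal → g ∉ q'.asIdeal → q' ∈ E) :
    IsOpen E := by
  classical
  rw [← isClosed_compl_iff]
  set Z : Set (PrimeSpectrum B) := Eᶜ with hZ
  apply isClosed_of_closure_subset
  rw [← PrimeSpectrum.zeroLocus_vanishingIdeal_eq_closure]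
  set I := PrimeSpectrum.vanishingIdeal Z with hI
  intro q hq
  rw [PrimeSpectrum.mem_zeroLocus] at hq
  have hIz : ∀ z ∈ Z, I ≤ z.asIdeal := by
    intro z hz x hx
    exact (PrimeSpectrum.mem_vanishingIdeal Z x).mp hx z hz
  obtain ⟨p, hpmin, hpq⟩ := Ideal.exists_minimalPrimes_le (show I ≤ q.asIdeal from hq)
  haveI hpprime : p.IsPrime := hpmin.1.1
  have hIp : I ≤ p := hpmin.1.2
  have claim : (⟨p, hpprime⟩ : PrimeSpectrum B) ∈ Z := by
    intro hpE
    obtain ⟨g, hg, hspread⟩ := hsp ⟨p, hpprime⟩ hpE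
    have hfin : (I.minimalPrimes).Finite := Ideal.finite_minimalPrimes_of_isNoetherianRing B I
    let F : Finset (Ideal B) := hfin.toFinset.erase p
    have hJ : ¬ (F.inf id ≤ p) := by
      intro hle
      obtain ⟨p', hp'F, hp'p⟩ := (Ideal.IsPrime.inf_le' hpprime).mp hle
      rw [Finset.mem_erase, Set.Finite.mem_toFinset] at hp'F
      apply hp'F.1
      exact le_antisymm hp'p (hpmin.2 hp'F.2.1 hp'p)
    obtain ⟨x, hxJ, hxp⟩ := SetLike.not_le_iff_exists.mp hJ
    have hgx : g * x ∈ I := by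
      rw [hI, PrimeSpectrum.mem_vanishingIdeal]
      intro z hz
      obtain ⟨p', hp'min, hp'z⟩ := Ideal.exists_minimalPrimes_le (hIz z hz)
      by_cases hpp : p' = p
      · subst hpp
        by_contra hgz
        have hgz' : g ∉ z.asIdeal := fun hmem => hgz (Ideal.mul_mem_right _ _ hmem)
        exact hz (hspread z hp'z hgz')
      · have hp'F : p' ∈ F := by
          rw [Finset.mem_erase, Set.Finite.mem_toFinset]
          exact ⟨hpp, hp'min⟩
        have : x ∈ p' := (Finset.inf_le hp'F : F.inf id ≤ id p') hxJ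
        exact Ideal.mul_mem_left _ _ (hp'z this)
    rcases Ideal.IsPrime.mem_or_mem hpprime (hIp hgx) with h1 | h1
    · exact hg h1
    · exact hxp h1
  intro hqE
  apply claim
  exact hgen ⟨p, hpprime⟩ q hpq hqE

end Crit

section Noeth

variable (A B : Type u) [CommRing A] [CommRing B] [Algebra A B] [IsNoetherianRing A]
  [Algebra.FiniteType A B] [Module.Flat A B]

attribute [local instance] Algebra.TensorProduct.rightAlgebra

set_option maxHeartbeats 1600000 in
set_option synthInstance.maxHeartbeats 200000 in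
/-- **spreading out `(S_k)`** along the closure of a point. -/
theorem exists_spread (k : ℕ) (q : PrimeSpectrum B) (hq : q ∈ skSet A B k) :
    ∃ g : B, g ∉ q.asIdeal ∧
      ∀ q' : PrimeSpectrum B, q.asIdeal ≤ q'.asIdeal → g ∉ q'.asIdeal → q' ∈ skSet A B k := by
  set p : Ideal A := q.asIdeal.comap (algebraMap A B) with hp
  haveI : p.IsPrime := Ideal.comap_isPrime _ _
  have hsurj : Function.Surjective (algebraMap A (A ⧸ p)) := Ideal.Quotient.mk_surjective
  have hι : IsEmbedding (PrimeSpectrum.comap (algebraMap A (A ⧸ p))) :=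
    (PrimeSpectrum.isClosedEmbedding_comap_of_surjective _ _ hsurj).isEmbedding
  have hst : (algebraMap A (A ⧸ p)).SurjectiveOnStalks :=
    RingHom.surjectiveOnStalks_of_surjective hsurj
  obtain ⟨hemb, hrange⟩ := RdBC.isEmbedding_comap_tensor A (A ⧸ p) B hι hst
  have hrange' : ∀ r : PrimeSpectrum B, r ∈ Set.range (PrimeSpectrum.comap
      (algebraMap B ((A ⧸ p) ⊗[A] B))) ↔ p ≤ r.asIdeal.comap (algebraMap A B) := by
    intro r
    rw [hrange, Set.mem_preimage, _root_.range_comap_of_surjective _ _ hsurj,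
      PrimeSpectrum.mem_zeroLocus]
    have : RingHom.ker (algebraMap A (A ⧸ p)) = p := Ideal.mk_ker
    rw [this]
    rfl
  haveI : Algebra.FiniteType (A ⧸ p) ((A ⧸ p) ⊗[A] B) := inferInstance
  haveI : Module.Flat (A ⧸ p) ((A ⧸ p) ⊗[A] B) := inferInstance
  obtain ⟨qb, hqb⟩ := (hrange' q).2 le_rfl
  have hqb0 : qb.asIdeal.comap (algebraMap (A ⧸ p) ((A ⧸ p) ⊗[A] B)) = ⊥ := by
    rw [eq_bot_iff]
    intro y hy
    obtain ⟨x, rfl⟩ := Ideal.Quotient.mk_surjective y
    have h1 : algebraMap A B x ∈ q.asIdeal := by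
      rw [← hqb]
      show algebraMap B ((A ⧸ p) ⊗[A] B) (algebraMap A B x) ∈ qb.asIdeal
      rw [← IsScalarTower.algebraMap_apply A B ((A ⧸ p) ⊗[A] B),
        IsScalarTower.algebraMap_apply A (A ⧸ p) ((A ⧸ p) ⊗[A] B)]
      exact hy
    have h2 : x ∈ p := h1
    rw [Ideal.mem_bot]
    exact Ideal.Quotient.eq_zero_iff_mem.2 h2
  have hqbsk : qb ∈ skSet (A ⧸ p) ((A ⧸ p) ⊗[A] B) k := by
    rw [mem_skSet_bc A (A ⧸ p) B ((A ⧸ p) ⊗[A] B), hqb]
    exact hq
  obtain ⟨gb, hgb, hgbsp⟩ := exists_spread_domain (A ⧸ p) ((A ⧸ p) ⊗[A] B) k qb hqb0 hqbsk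
  -- transport the open set
  have hopen : IsOpen {r : PrimeSpectrum ((A ⧸ p) ⊗[A] B) | gb ∉ r.asIdeal} :=
    (PrimeSpectrum.basicOpen gb).isOpen
  obtain ⟨O, hO, hOeq⟩ := hemb.isInducing.isOpen_iff.mp hopen
  have hqO : q ∈ O := by
    have : qb ∈ (PrimeSpectrum.comap (algebraMap B ((A ⧸ p) ⊗[A] B))) ⁻¹' O := by
      rw [hOeq]; exact hgb
    rw [Set.mem_preimage, hqb] at this
    exact this
  obtain ⟨_, ⟨g, rfl⟩, hqg, hgO⟩ :=
    PrimeSpectrum.isTopologicalBasis_basic_opens.exists_subset_of_mem_open hqO hO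
  refine ⟨g, hqg, ?_⟩
  intro q' hqq' hgq'
  have hq'O : q' ∈ O := hgO hgq'
  obtain ⟨qb', hqb'⟩ := (hrange' q').2 (Ideal.comap_mono hqq')
  have hgbq' : gb ∉ qb'.asIdeal := by
    have : qb' ∈ (PrimeSpectrum.comap (algebraMap B ((A ⧸ p) ⊗[A] B))) ⁻¹' O := by
      rw [Set.mem_preimage, hqb']; exact hq'O
    rw [hOeq] at this
    exact this
  rw [← hqb', ← mem_skSet_bc A (A ⧸ p) B ((A ⧸ p) ⊗[A] B), mem_skSet_iff]
  intro r hr _
  exact hgbsp r (fun h => hgbq' (hr h))

/-- **`(S_k)` of the fibres is an open condition** (flat, finite type, Noetherian base). -/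
theorem isOpen_skSet_noeth (k : ℕ) : IsOpen (skSet A B k) := by
  haveI : IsNoetherianRing B := Algebra.FiniteType.isNoetherianRing A B
  exact isOpen_of_generization_of_spread B (skSet A B k)
    (fun Q₁ Q hle h => skSet_generization A B k Q₁ Q hle h)
    (fun q hq => exists_spread A B k q hq)

end Noeth

end Groth.Agent.Lib.Helper21.SkOpen
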