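import Mathlib
import Groth.Agent.Lib.Helper21.SkOpen8
import Groth.Agent.Lib.Helper21.FlatDescQ

set_option autoImplicit false

namespace Groth.Agent.Lib.Helper21.SkOpen

open AlgebraicGeometry CategoryTheory Limits IsLocalRing TensorProduct Module Pointwise Topology
open Groth.Agent.Lib.Helper21 Groth.Agent.Lib.Helper21.FlatLocal Groth.Agent.Lib.Helper21.MCop
open Groth.Agent.Lib.Helper21.ConsLoc

universe u

section Alg

/-- **`(S_k)` of the fibres is an open condition** (flat, finitely presented, arbitrary base). -/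
theorem isOpen_skSet (A B : Type u) [CommRing A] [CommRing B] [Algebra A B]
    [Algebra.FinitePresentation A B] [Module.Flat A B] (k : ℕ) : IsOpen (skSet A B k) := by
  obtain ⟨R₀, _, _, S₀, _, _, _, _, _, _, hft, hft', hflat, hpush⟩ :=
    FlatDesc.exists_flat_algebra_model A B
  haveI := hft
  haveI := hft'
  haveI := hflat
  haveI := hpush
  haveI : IsNoetherianRing R₀ := Algebra.FiniteType.isNoetherianRing ℤ R₀
  have heq : skSet A B k = (PrimeSpectrum.comap (algebraMap S₀ B)) ⁻¹' skSet R₀ S₀ k := by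
    ext q
    exact mem_skSet_bc R₀ A S₀ B k q
  rw [heq]
  exact (isOpen_skSet_noeth R₀ S₀ k).preimage (PrimeSpectrum.continuous_comap _)

end Alg

section Sch

theorem isOpen_skP_Spec {A B : CommRingCat.{u}} (φ : A ⟶ B) (hφ : φ.hom.FinitePresentation)
    (hfl : φ.hom.Flat) (k : ℕ) : IsOpen {x : Spec B | SkP k (Spec.map φ) x} := by
  letI aAB : Algebra A B := φ.hom.toAlgebra
  haveI : Algebra.FinitePresentation A B := hφ
  haveI : Module.Flat A B := hfl
  have h := isOpen_skSet A B k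
  have heq : skSet A B k = {x : Spec B | SkP k (Spec.map φ) x} := by
    ext q
    exact mem_skSet_iff_skP A B k q
  rw [← heq]
  exact h

/-- **EGA IV 12.1.6 (ii)**: for a flat morphism locally of finite presentation, the locus where
the fibre satisfies `(S_k)` is open. -/
theorem isOpen_skP {X S : Scheme.{u}} (f : X ⟶ S) [Flat f] [LocallyOfFinitePresentation f]
    (k : ℕ) : IsOpen {x : X | SkP k f x} := by
  rw [isOpen_iff_forall_mem_open]
  intro x hx
  obtain ⟨_, ⟨V, hV : IsAffineOpen V, rfl⟩, hfxV, -⟩ :=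
    S.isBasis_affineOpens.exists_subset_of_mem_open (Set.mem_univ (f x)) isOpen_univ
  obtain ⟨_, ⟨U, hU : IsAffineOpen U, rfl⟩, hxU, hUV₀⟩ :=
    X.isBasis_affineOpens.exists_subset_of_mem_open (show x ∈ (f ⁻¹ᵁ V : Set X) from hfxV)
      (f ⁻¹ᵁ V).isOpen
  have hUV : U ≤ f ⁻¹ᵁ V := hUV₀
  have hfp : (f.appLE V U hUV).hom.FinitePresentation :=
    HasRingHomProperty.appLE @LocallyOfFinitePresentation f inferInstance ⟨V, hV⟩ ⟨U, hU⟩ hUV
  have hfl : (f.appLE V U hUV).hom.Flat :=
    HasRingHomProperty.appLE @Flat f inferInstance ⟨V, hV⟩ ⟨U, hU⟩ hUV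
  have h0 := isOpen_skP_Spec (f.appLE V U hUV) hfp hfl k
  have hsq : Spec.map (f.appLE V U hUV) ≫ hV.fromSpec = hU.fromSpec ≫ f :=
    IsAffineOpen.SpecMap_appLE_fromSpec f hV hU hUV
  haveI : LocallyOfFiniteType (Spec.map (f.appLE V U hUV) ≫ hV.fromSpec) := by
    rw [hsq]; infer_instance
  have key : ∀ b : Spec Γ(X, U), SkP k (Spec.map (f.appLE V U hUV)) b ↔
      SkP k f (hU.fromSpec b) := by
    intro b
    rw [skP_tgt k (Spec.map (f.appLE V U hUV)) hV.fromSpec b, skP_congr k hsq b]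
    exact skP_src k hU.fromSpec f b
  refine ⟨hU.fromSpec '' {b | SkP k (Spec.map (f.appLE V U hUV)) b}, ?_,
    hU.fromSpec.isOpenEmbedding.isOpenMap _ h0, ?_⟩
  · rintro _ ⟨b, hb, rfl⟩
    exact (key b).1 hb
  · refine ⟨hU.primeIdealOf ⟨x, hxU⟩, ?_, hU.fromSpec_primeIdealOf ⟨x, hxU⟩⟩
    show SkP k (Spec.map (f.appLE V U hUV)) (hU.primeIdealOf ⟨x, hxU⟩)
    rw [key, hU.fromSpec_primeIdealOf ⟨x, hxU⟩]
    exact hx

theorem fibPred_SkP (k : ℕ) :
    FibPred.{u} (fun {X S : Scheme.{u}} (f : X ⟶ S) (x : X) => SkP k f x) where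
  bc := fun hc x' => skP_bc_iff hc k x'
  src := fun j _ f x' => skP_src k j f x'
  isOpen := fun f _ _ => isOpen_skP f k

/-- **EGA IV 9.9.3**: the locus where the fibre satisfies `(S_k)` is locally constructible. -/
theorem isLocallyConstructible_skP {X S : Scheme.{u}} (f : X ⟶ S)
    [LocallyOfFinitePresentation f] (k : ℕ) :
    IsLocallyConstructible {x : X | SkP k f x} :=
  ConsLoc.isLocallyConstructible (fibPred_SkP k) f

end Sch

end Groth.Agent.Lib.Helper21.SkOpen
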