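import Mathlib
import Groth.Agent.Lib.Helper21.SkOpen9
import Groth.Agent.Lib.Helper21.FlatDescK
import Groth.Agent.Lib.Helper21.MCopS5

set_option autoImplicit false

namespace Groth.Agent.Lib.Helper21.SkOpen

open AlgebraicGeometry CategoryTheory Limits IsLocalRing TensorProduct Module Pointwise Topology
open Groth.Agent.Lib.Helper21 Groth.Agent.Lib.Helper21.FlatLocal Groth.Agent.Lib.Helper21.MCop
open Groth.Agent.Lib.Helper21.ConsLoc Groth.Agent.Lib.Helper21.FibreBC
open Groth.Agent.Lib.Helper21.Coprof Groth.Agent.Lib.Helper21.FlatDesc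

universe u

variable {X Y : Scheme.{u}}

/-- **EGA IV 12.1.6 (ii), pointwise flat version**: the locus where `f` is flat and the fibre
satisfies `(S_k)` is open. -/
theorem isOpen_flat_skP (f : X ⟶ Y) [LocallyOfFinitePresentation f] (k : ℕ) :
    IsOpen {x : X | (f.stalkMap x).hom.Flat ∧ SkP k f x} := by
  have hW : IsOpen {x : X | (f.stalkMap x).hom.Flat} := isOpen_flat_locus f
  let W : X.Opens := ⟨{x : X | (f.stalkMap x).hom.Flat}, hW⟩
  haveI : Flat (W.ι ≫ f) := by
    rw [Flat.iff_flat_stalkMap]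
    intro w
    rw [flat_stalkMap_comp_iff_of_isIso_stalkMap W.ι f w]
    exact w.2
  have h0 := isOpen_skP (W.ι ≫ f) k
  have h1 := W.ι.isOpenEmbedding.isOpenMap _ h0
  convert h1 using 1
  ext x
  simp only [Set.mem_setOf_eq, Set.mem_image]
  constructor
  · rintro ⟨hx1, hx2⟩
    refine ⟨⟨x, hx1⟩, ?_, rfl⟩
    rw [skP_src k W.ι f ⟨x, hx1⟩]
    exact hx2
  · rintro ⟨w, hw, rfl⟩
    refine ⟨w.2, ?_⟩
    rw [skP_src k W.ι f w] at hw
    exact hw

/-- `(S_k)` at a point of a fibre `X_y`, in terms of `SkP`. -/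
theorem hasSk_fiber_point_iff (f : X ⟶ Y) (y : Y) (z : f.fiber y) (k : ℕ) :
    LocCoh.HasSk k ((f.fiber y).presheaf.stalk z) ((f.fiber y).presheaf.stalk z) ↔
      SkP k f (f.fiberι y z) := by
  obtain ⟨e⟩ := nonempty_stalk_equiv_asFiber f (f.fiberι y z) y z rfl
  exact hasSk_iff_of_ringEquiv e k

/-- **proper version**: the set of `y` whose fibre satisfies `(S_k)` everywhere is open. -/
theorem isOpen_skP_of_proper (f : X ⟶ Y) [IsProper f] [Flat f] [LocallyOfFinitePresentation f]
    (k : ℕ) :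
    IsOpen {y : Y | ∀ z : f.fiber y,
      LocCoh.HasSk k ((f.fiber y).presheaf.stalk z) ((f.fiber y).presheaf.stalk z)} := by
  have hEo := isOpen_skP f k
  have hcl := f.isClosedMap _ hEo.isClosed_compl
  convert hcl.isOpen_compl using 1
  ext y
  simp only [Set.mem_setOf_eq, Set.mem_compl_iff, Set.mem_image, not_exists, not_and]
  constructor
  · intro h x hx hfx
    subst hfx
    apply hx
    have := (hasSk_fiber_point_iff f (f x) (f.asFiber x) k).1 (h (f.asFiber x))
    rw [Scheme.Hom.fiberι_asFiber] at this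
    exact this
  · intro h z
    rw [hasSk_fiber_point_iff f y z k]
    by_contra hn
    exact h (f.fiberι y z) hn (apply_fiberι f y z)

end Groth.Agent.Lib.Helper21.SkOpen
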