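import Groth.Agent.Lib.Helper21.UnivInj1

set_option autoImplicit false
set_option backward.isDefEq.respectTransparency.types false
set_option linter.style.haveILetI false
universe u
open TensorProduct CategoryTheory CategoryTheory.Limits AlgebraicGeometry

namespace Groth.Agent.Lib.Helper21.UnivInj

/-- **Lemma D**: if `X' → Spec A` factors through a surjection `t : X' → Spec B`, and every
irreducible component of `X' ×_A Spec B` dominates `Spec B`, then every minimal prime of `B ⊗[A] B`
contracts to zero in the right factor. -/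
theorem comap_includeRight_eq_bot_of_dense {A B : Type u} [CommRing A] [CommRing B] [Algebra A B]
    [IsDomain B] {X' : Scheme.{u}} (g : X' ⟶ Spec (CommRingCat.of A))
    (t : X' ⟶ Spec (CommRingCat.of B)) (ht : Function.Surjective t)
    (htg : t ≫ Spec.map (CommRingCat.ofHom (algebraMap A B)) = g)
    (hdense : ∀ Z ∈ irreducibleComponents ↥(pullback g (Spec.map (CommRingCat.ofHom (algebraMap A B)))),
      Dense ((pullback.snd g (Spec.map (CommRingCat.ofHom (algebraMap A B)))) '' Z))
    (𝔮 : Ideal (B ⊗[A] B)) (h𝔮 : 𝔮 ∈ minimalPrimes (B ⊗[A] B)) :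
    𝔮.comap (Algebra.TensorProduct.includeRight : B →ₐ[A] B ⊗[A] B).toRingHom = ⊥ := by
  haveI h𝔮p : 𝔮.IsPrime := h𝔮.1.1
  let sφ := Spec.map (CommRingCat.ofHom (algebraMap A B))
  let W := pullback g sφ
  let V := pullback sφ sφ
  let p₁ : V ⟶ Spec (CommRingCat.of B) := pullback.fst sφ sφ
  let p₂ : V ⟶ Spec (CommRingCat.of B) := pullback.snd sφ sφ
  let pr₂ : W ⟶ Spec (CommRingCat.of B) := pullback.snd g sφ
  have hcond : (pullback.fst g sφ ≫ t) ≫ sφ = pullback.snd g sφ ≫ sφ := by
    rw [Category.assoc, htg, pullback.condition]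
  let φW : W ⟶ V := pullback.lift (pullback.fst g sφ ≫ t) (pullback.snd g sφ) hcond
  have hφW2 : φW ≫ p₂ = pr₂ := pullback.lift_snd _ _ _
  -- surjectivity of `φW`
  have hsurj : Function.Surjective φW := by
    intro v
    obtain ⟨x', hx'⟩ := ht (p₁ v)
    obtain ⟨z, hz1, hz2⟩ := Scheme.Pullback.exists_preimage_pullback (f := t) (g := p₁) x' v hx'
    have hc : pullback.fst t p₁ ≫ g = (pullback.snd t p₁ ≫ p₂) ≫ sφ := by
      rw [← htg, ← Category.assoc, pullback.condition, Category.assoc, Category.assoc]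
      congr 1
      exact pullback.condition
    let m : pullback t p₁ ⟶ W := pullback.lift (pullback.fst t p₁) (pullback.snd t p₁ ≫ p₂) hc
    have hm : m ≫ φW = pullback.snd t p₁ := by
      apply pullback.hom_ext
      · rw [Category.assoc, pullback.lift_fst, ← Category.assoc, pullback.lift_fst,
          pullback.condition]
      · rw [Category.assoc, pullback.lift_snd, pullback.lift_snd]
    refine ⟨m z, ?_⟩
    rw [← Scheme.Hom.comp_apply, hm]
    exact hz2
  let e := pullbackSpecIso A B B
  let q0 : Spec (CommRingCat.of (B ⊗[A] B)) := ⟨𝔮, h𝔮p⟩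
  obtain ⟨w, hw⟩ := hsurj (e.inv q0)
  -- the generic point of the irreducible component through `w`
  let Z : Set ↥W := irreducibleComponent w
  have hZirr : IsIrreducible Z := isIrreducible_irreducibleComponent
  have hZcl : IsClosed Z := isClosed_irreducibleComponent
  have hZmem : Z ∈ irreducibleComponents ↥W := irreducibleComponent_mem_irreducibleComponents w
  let ζ : ↥W := hZirr.genericPoint
  have hζ : IsGenericPoint ζ Z := by
    have := hZirr.isGenericPoint_genericPoint_closure
    rwa [hZcl.closure_eq] at this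
  have hζw : ζ ⤳ w := hζ.specializes mem_irreducibleComponent
  -- `φW ζ = e.inv q0` by minimality
  have h1 : e.hom (φW ζ) ⤳ q0 := by
    have h2 : φW ζ ⤳ φW w := hζw.map φW.continuous
    have h3 : e.hom (φW ζ) ⤳ e.hom (φW w) := h2.map e.hom.continuous
    rw [hw] at h3
    have h3' : e.hom (e.inv q0) = q0 := by
      rw [← Scheme.Hom.comp_apply, Iso.inv_hom_id]
      rfl
    rw [h3'] at h3
    exact h3
  have h4 : (e.hom (φW ζ)).asIdeal ≤ 𝔮 := (PrimeSpectrum.le_iff_specializes _ _).mpr h1
  have h5 : 𝔮 ≤ (e.hom (φW ζ)).asIdeal := h𝔮.2 ⟨(e.hom (φW ζ)).2, bot_le⟩ h4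
  have h6 : e.hom (φW ζ) = q0 := PrimeSpectrum.ext (le_antisymm h4 h5)
  -- contraction to the right factor
  have h7 : (Spec.map (CommRingCat.ofHom
      (RingHomClass.toRingHom (Algebra.TensorProduct.includeRight : B →ₐ[A] B ⊗[A] B)))) q0 =
      pr₂ ζ := by
    rw [← h6, ← Scheme.Hom.comp_apply]
    have h7' := pullbackSpecIso_hom_snd A B B
    rw [h7', ← hφW2, Scheme.Hom.comp_apply]
  -- `pr₂ ζ` is the generic point
  have h8 : (pr₂ ζ).asIdeal = ⊥ := by
    have hd := hdense Z hZmem
    have h9 : pr₂ '' Z ⊆ closure {pr₂ ζ} := by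
      rw [← hζ.def]
      refine (image_closure_subset_closure_image pr₂.continuous).trans ?_
      rw [Set.image_singleton]
    have h10 : closure {pr₂ ζ} = Set.univ := by
      rw [Set.eq_univ_iff_forall]
      intro z
      have := hd.closure_eq ▸ closure_minimal h9 isClosed_closure
      exact this (Set.mem_univ z)
    have h11 : pr₂ ζ ⤳ (⟨⊥, Ideal.isPrime_bot⟩ : PrimeSpectrum B) := by
      rw [specializes_iff_mem_closure, h10]; trivial
    have h12 := (PrimeSpectrum.le_iff_specializes _ _).mpr h11
    exact le_bot_iff.mp h12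
  rw [← h8, ← h7]
  rfl

end Groth.Agent.Lib.Helper21.UnivInj
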