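import Groth.Agent.Lib.Helper21.SteinLocal5
import Groth.Agent.Lib.Helper21.UnivInj2

set_option autoImplicit false
set_option backward.isDefEq.respectTransparency.types false
set_option linter.style.haveILetI false
universe u
open CategoryTheory CategoryTheory.Limits AlgebraicGeometry Opposite TopologicalSpace

namespace Groth.Agent.Lib.Helper21.SteinLocal

open Groth.Agent.Lib.Helper21.ZarConn

/-- algebraic facts on `B = Γ(X ×_Y Spec O_{Y,y}, O)` under the pure inseparability hypothesis. -/
theorem Γ_pullback_facts {X Y : Scheme.{u}} [IsIntegral X]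
    [IsIntegral Y] [IsLocallyNoetherian Y] (f : X ⟶ Y) [IsProper f]
    (hdom : f.base (genericPoint X) ⤳ genericPoint Y)
    (hrad : ∀ x : X.functionField,
      (∃ q : Polynomial Y.functionField, q ≠ 0 ∧
        Polynomial.eval₂ (CohIII.stalkToFunctionField f (genericPoint Y) hdom) x q = 0) →
      ∃ e : ℕ, x ^ (ringExpChar X.functionField ^ e) ∈
        Set.range (CohIII.stalkToFunctionField f (genericPoint Y) hdom))
    (y : Y) :
    IsDomain Γ(pullback f (Y.fromSpecStalk y), ⊤) ∧
    ExpChar Γ(pullback f (Y.fromSpecStalk y), ⊤) (ringExpChar X.functionField) ∧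
    Function.Injective ((Scheme.ΓSpecIso (Y.presheaf.stalk y)).inv ≫
      (pullback.snd f (Y.fromSpecStalk y)).appTop).hom ∧
    ∀ b : Γ(pullback f (Y.fromSpecStalk y), ⊤), ∃ e : ℕ, ∃ d : Y.presheaf.stalk y,
      ((Scheme.ΓSpecIso (Y.presheaf.stalk y)).inv ≫
        (pullback.snd f (Y.fromSpecStalk y)).appTop).hom d ≠ 0 ∧ ∃ d₂ : Y.presheaf.stalk y,
      ((Scheme.ΓSpecIso (Y.presheaf.stalk y)).inv ≫
        (pullback.snd f (Y.fromSpecStalk y)).appTop).hom d *
          b ^ (ringExpChar X.functionField ^ e) =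
      ((Scheme.ΓSpecIso (Y.presheaf.stalk y)).inv ≫
        (pullback.snd f (Y.fromSpecStalk y)).appTop).hom d₂ := by
  have h : f.base (genericPoint X) ⤳ y :=
    hdom.trans ((genericPoint_spec Y).specializes trivial)
  let A : CommRingCat.{u} := Y.presheaf.stalk y
  let g := pullback.snd f (Y.fromSpecStalk y)
  let B : CommRingCat.{u} := Γ(pullback f (Y.fromSpecStalk y), ⊤)
  let L := X.functionField
  let φ : A ⟶ B := (Scheme.ΓSpecIso A).inv ≫ g.appTop
  obtain ⟨θ, hθinj, hθ⟩ : ∃ θ : B →+* L, Function.Injective θ ∧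
      ∀ a : A, θ (φ.hom a) = CohIII.stalkToFunctionField f y h a :=
    exists_embedding_Γ_pullback f y h
  have hfin : φ.hom.Finite := Groth.Agent.Lib.Helper21.ProperGamma.finite_appTop A _ g
  have hint : φ.hom.IsIntegral := hfin.to_isIntegral
  let σ : A →+* L := CohIII.stalkToFunctionField f y h
  have hθφ : θ.comp φ.hom = σ := by
    ext a
    exact hθ a
  have hσ : ∀ a : A, σ a =
      CohIII.stalkToFunctionField f (genericPoint Y) hdom
        (algebraMap (Y.presheaf.stalk y) Y.functionField a) := fun a =>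
    stalkToFF_eq_comp f y hdom h a
  have hinjσ : Function.Injective σ := by
    intro a b hab
    rw [hσ, hσ] at hab
    exact IsFractionRing.injective (Y.presheaf.stalk y) Y.functionField
      ((CohIII.stalkToFunctionField f (genericPoint Y) hdom).injective hab)
  have hinjφ : Function.Injective φ.hom := by
    intro a b hab
    apply hinjσ
    rw [← hθφ]
    exact congrArg θ hab
  haveI : ExpChar L (ringExpChar L) := ringExpChar.expChar L
  refine ⟨hθinj.isDomain θ, θ.expChar hθinj (ringExpChar L), hinjφ, fun b => ?_⟩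
  -- `θ b` is algebraic over `K(Y)`
  obtain ⟨p, hpm, hp0⟩ := hint b
  have hq : ∃ q : Polynomial Y.functionField, q ≠ 0 ∧
      Polynomial.eval₂ (CohIII.stalkToFunctionField f (genericPoint Y) hdom) (θ b) q = 0 := by
    refine ⟨p.map (algebraMap (Y.presheaf.stalk y) Y.functionField),
      (hpm.map _).ne_zero, ?_⟩
    rw [Polynomial.eval₂_map]
    have : (CohIII.stalkToFunctionField f (genericPoint Y) hdom).comp
        (algebraMap (Y.presheaf.stalk y) Y.functionField) = σ := by
      ext a
      exact (hσ a).symm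
    rw [this, ← hθφ, ← Polynomial.hom_eval₂, hp0, map_zero]
  obtain ⟨e, k, hk⟩ := hrad (θ b) hq
  obtain ⟨a, d, hd, rfl⟩ := IsFractionRing.div_surjective (A := Y.presheaf.stalk y) k
  have hd0 : algebraMap (Y.presheaf.stalk y) Y.functionField d ≠ 0 :=
    IsFractionRing.to_map_ne_zero_of_mem_nonZeroDivisors hd
  refine ⟨e, d, ?_, a, ?_⟩
  · intro h0
    exact nonZeroDivisors.ne_zero hd (hinjφ (by rw [h0, map_zero]))
  · apply hθinj
    rw [map_mul, map_pow]
    show θ (φ.hom d) * θ b ^ _ = θ (φ.hom a)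
    rw [hθ, hθ, ← hk]
    show σ d * _ = σ a
    rw [hσ, hσ, ← map_mul]
    congr 1
    field_simp

end Groth.Agent.Lib.Helper21.SteinLocal

namespace Groth.Agent.Lib.Helper21.SteinLocal

open Groth.Agent.Lib.Helper21.ZarConn Groth.Agent.Lib.Helper21.UnivInj

/-- homeomorphisms preserve irreducible components. -/
theorem image_mem_irreducibleComponents {α β : Type*} [TopologicalSpace α] [TopologicalSpace β]
    (h : α ≃ₜ β) {Z : Set α} (hZ : Z ∈ irreducibleComponents α) :
    h '' Z ∈ irreducibleComponents β := by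
  refine ⟨hZ.1.image h h.continuous.continuousOn, ?_⟩
  intro T hT hZT
  have h1 : Z ⊆ h.symm '' T := by
    intro z hz
    exact ⟨h z, hZT ⟨z, hz, rfl⟩, h.symm_apply_apply z⟩
  have h2 : IsIrreducible (h.symm '' T) := hT.image h.symm h.symm.continuous.continuousOn
  have h3 : h.symm '' T ⊆ Z := hZ.2 h2 h1
  rintro t ht
  obtain ⟨z, hz⟩ : ∃ z, z = h.symm t := ⟨_, rfl⟩
  have : z ∈ Z := h3 ⟨t, ht, hz.symm⟩
  exact ⟨z, this, by rw [hz, h.apply_symm_apply]⟩

/-- under the hypotheses of S5735, `Spec Γ(X ×_Y Spec O_{Y,y}) → Spec O_{Y,y}` is universally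
injective. -/
theorem universallyInjective_SpecMap_Γ_pullback {X Y : Scheme.{u}} [IsIntegral X]
    [IsIntegral Y] [IsLocallyNoetherian Y] (f : X ⟶ Y) [IsProper f]
    (hdom : f.base (genericPoint X) ⤳ genericPoint Y)
    (hopen : ∀ (Y' : Scheme.{u}) (g : Y' ⟶ Y), IrreducibleSpace ↥Y' → IsLocallyNoetherian Y' →
      IsDominant g → ∀ Z ∈ irreducibleComponents ↥(pullback f g),
        Dense ((pullback.snd f g).base '' Z))
    (hrad : ∀ x : X.functionField,
      (∃ q : Polynomial Y.functionField, q ≠ 0 ∧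
        Polynomial.eval₂ (CohIII.stalkToFunctionField f (genericPoint Y) hdom) x q = 0) →
      ∃ e : ℕ, x ^ (ringExpChar X.functionField ^ e) ∈
        Set.range (CohIII.stalkToFunctionField f (genericPoint Y) hdom))
    (y : Y) :
    UniversallyInjective (Spec.map ((Scheme.ΓSpecIso (Y.presheaf.stalk y)).inv ≫
      (pullback.snd f (Y.fromSpecStalk y)).appTop)) := by
  obtain ⟨hdomB, hexp, hinjφ, hradB⟩ := Γ_pullback_facts f hdom hrad y
  let A : CommRingCat.{u} := Y.presheaf.stalk y
  let X' := pullback f (Y.fromSpecStalk y)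
  let g : X' ⟶ Spec A := pullback.snd f (Y.fromSpecStalk y)
  let B : CommRingCat.{u} := Γ(X', ⊤)
  let φ : A ⟶ B := (Scheme.ΓSpecIso A).inv ≫ g.appTop
  have hfin : φ.hom.Finite := Groth.Agent.Lib.Helper21.ProperGamma.finite_appTop A X' g
  haveI : IsNoetherianRing B := by
    letI := φ.hom.toAlgebra
    haveI : Module.Finite A B := hfin
    exact IsNoetherianRing.of_finite A B
  let t : X' ⟶ Spec B := X'.toSpecΓ
  have htg : t ≫ Spec.map φ = g := by
    show X'.toSpecΓ ≫ Spec.map ((Scheme.ΓSpecIso A).inv ≫ g.appTop) = g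
    rw [Spec.map_comp, ← Category.assoc, ← Scheme.toSpecΓ_naturality, Category.assoc,
      toSpecΓ_SpecMap_ΓSpecIso_inv, Category.comp_id]
  haveI : IsProper (t ≫ Spec.map φ) := by rw [htg]; infer_instance
  haveI : IsProper t := IsProper.of_comp t (Spec.map φ)
  haveI : IsProper X'.toSpecΓ := ‹IsProper t›
  have ht : Function.Surjective t := fun n => (isConnected_toSpecΓ_preimage n).nonempty
  letI algAB : Algebra A B := φ.hom.toAlgebra
  haveI : IsDomain B := hdomB
  haveI : ExpChar B (ringExpChar X.functionField) := hexp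
  have hφ' : Spec.map (CommRingCat.ofHom (algebraMap A B)) = Spec.map φ := rfl
  -- the hypothesis `hopen` for the test scheme `Spec B`
  let g₁ : Spec B ⟶ Y := Spec.map φ ≫ Y.fromSpecStalk y
  haveI : IrreducibleSpace ↥(Spec B) := inferInstance
  have hdomg₁ : IsDominant g₁ := by
    constructor
    have hη : genericPoint Y ∈ Set.range g₁ := by
      have h1 : genericPoint Y ∈ Set.range (Y.fromSpecStalk y) := by
        rw [Scheme.range_fromSpecStalk]
        exact (genericPoint_spec Y).specializes trivial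
      obtain ⟨a, ha⟩ := h1
      have hsurj : Function.Surjective (Spec.map φ) := by
        intro a
        obtain ⟨b, hb⟩ := RingHom.IsIntegral.comap_surjective (f := φ.hom) hfin.to_isIntegral hinjφ a
        exact ⟨b, hb⟩
      obtain ⟨b, hb⟩ := hsurj a
      exact ⟨b, by rw [Scheme.Hom.comp_apply, hb, ha]⟩
    have h2 : closure {genericPoint Y} ⊆ closure (Set.range g₁) :=
      closure_mono (Set.singleton_subset_iff.mpr hη)
    rw [(genericPoint_spec Y).def] at h2
    exact dense_iff_closure_eq.mpr (Set.eq_univ_of_univ_subset h2)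
  have hopen' := hopen (Spec B) g₁ inferInstance inferInstance hdomg₁
  have hdense : ∀ Z ∈ irreducibleComponents
      ↥(pullback g (Spec.map (CommRingCat.ofHom (algebraMap A B)))),
      Dense ((pullback.snd g (Spec.map (CommRingCat.ofHom (algebraMap A B)))) '' Z) := by
    intro Z hZ
    let iso := pullbackLeftPullbackSndIso f (Y.fromSpecStalk y) (Spec.map φ)
    have h1 := hopen' _ (image_mem_irreducibleComponents iso.hom.homeomorph hZ)
    have h2 : (pullback.snd f g₁).base '' (iso.hom.homeomorph '' Z) =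
        (pullback.snd g (Spec.map φ)) '' Z := by
      rw [Set.image_image]
      refine Set.image_congr fun z _ => ?_
      show (pullback.snd f g₁) (iso.hom z) = _
      rw [← Scheme.Hom.comp_apply, pullbackLeftPullbackSndIso_hom_snd]
    rw [h2] at h1
    exact h1
  have hmin : ∀ 𝔮 ∈ minimalPrimes (TensorProduct A B B),
      RingHom.ker (Algebra.TensorProduct.lmul' A : TensorProduct A B B →ₐ[A] B) ≤ 𝔮 := by
    intro 𝔮 h𝔮
    haveI : 𝔮.IsPrime := h𝔮.1.1
    have h1 : 𝔮.comap (Algebra.TensorProduct.includeRight : B →ₐ[A] TensorProduct A B B).toRingHom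
        = ⊥ := by
      exact @comap_includeRight_eq_bot_of_dense A B _ _ algAB _ X' g t ht htg hdense 𝔮 h𝔮
    exact @ker_lmul'_le_of_comap_eq_bot A B _ _ algAB (ringExpChar X.functionField) _ hradB 𝔮 _ h1
  have := @universallyInjective_SpecMap A B _ _ algAB hmin
  rw [hφ'] at this
  exact this

end Groth.Agent.Lib.Helper21.SteinLocal
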