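import Groth.Agent.Lib.Helper21.SteinLocal6
import Groth.Agent.Lib.Helper21.ZarConn6

set_option autoImplicit false
set_option backward.isDefEq.respectTransparency.types false
set_option linter.style.haveILetI false
universe u
open CategoryTheory CategoryTheory.Limits AlgebraicGeometry Opposite TopologicalSpace

namespace Groth.Agent.Lib.Helper21.SteinLocal

open Groth.Agent.Lib.Helper21.ZarConn Groth.Agent.Lib.Helper21.UnivInj

/-- geometric connectedness of the fibres of a Stein morphism, for an arbitrary field-valued
point of the base; `f_* O_X = O_Y` is only needed on one affine neighbourhood of each point. -/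
theorem connectedSpace_pullback_of_field'' {X Y : Scheme.{u}} (f : X ⟶ Y) [IsProper f]
    [IsLocallyNoetherian Y]
    (hU : ∀ y : Y, ∃ U : Y.Opens, IsAffineOpen U ∧ y ∈ U ∧ IsIso (f.app U))
    (K : Type u) [Field K] (ψ : Spec (.of K) ⟶ Y) : ConnectedSpace ↥(pullback f ψ) := by
  obtain ⟨⟨y, φ⟩, rfl⟩ := (Scheme.SpecToEquivOfField _ _).symm.surjective ψ
  simp only [Scheme.SpecToEquivOfField, Equiv.coe_fn_symm_mk]
  obtain ⟨U, hUa, hyU, hfU⟩ := hU y
  exact connectedSpace_pullback_of_field' f K y φ U hUa hyU hfU

/-- **Lemma F**: if `g = t ≫ π` with `t` a proper Stein morphism to a locally Noetherian scheme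
and `π` universally injective and surjective, then the base change of `g` to any field-valued
point is connected. -/
theorem connectedSpace_pullback_of_stein_comp_universallyInjective {X' S' S : Scheme.{u}}
    (t : X' ⟶ S') [IsProper t] [IsLocallyNoetherian S']
    (hU : ∀ y : S', ∃ U : S'.Opens, IsAffineOpen U ∧ y ∈ U ∧ IsIso (t.app U))
    (π : S' ⟶ S) [UniversallyInjective π] [Surjective π]
    (K : Type u) [Field K] (ψ : Spec (.of K) ⟶ S) :
    ConnectedSpace ↥(pullback (t ≫ π) ψ) := by
  let T := pullback π ψ
  let q : T ⟶ S' := pullback.fst π ψ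
  let sT : T ⟶ Spec (.of K) := pullback.snd π ψ
  haveI : UniversallyInjective sT := MorphismProperty.pullback_snd _ _ inferInstance
  haveI : Surjective sT := MorphismProperty.pullback_snd _ _ inferInstance
  obtain ⟨t₀, -⟩ := sT.surjective (IsLocalRing.closedPoint K)
  have hT : ∀ z : T, z = t₀ := fun z => sT.injective (Subsingleton.elim _ _)
  let j : Spec (T.residueField t₀) ⟶ T := T.fromSpecResidueField t₀
  haveI hj : Surjective j := by
    constructor
    intro z
    rw [hT z]
    exact ⟨IsLocalRing.closedPoint _, Scheme.fromSpecResidueField_apply t₀ _⟩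
  haveI h1 : ConnectedSpace ↥(pullback t (j ≫ q)) :=
    connectedSpace_pullback_of_field'' t hU (T.residueField t₀) (j ≫ q)
  let iso1 := pullbackLeftPullbackSndIso t q j
  haveI h2 : ConnectedSpace ↥(pullback (pullback.snd t q) j) :=
    iso1.inv.homeomorph.surjective.connectedSpace iso1.inv.homeomorph.continuous
  haveI : Surjective (pullback.fst (pullback.snd t q) j) :=
    MorphismProperty.pullback_fst _ _ inferInstance
  haveI h3 : ConnectedSpace ↥(pullback t q) :=
    (pullback.fst (pullback.snd t q) j).surjective.connectedSpace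
      (pullback.fst (pullback.snd t q) j).continuous
  let iso2 := pullbackRightPullbackFstIso π ψ t
  exact iso2.hom.homeomorph.surjective.connectedSpace iso2.hom.homeomorph.continuous

end Groth.Agent.Lib.Helper21.SteinLocal

namespace Groth.Agent.Lib.Helper21.SteinLocal

open Groth.Agent.Lib.Helper21.ZarConn Groth.Agent.Lib.Helper21.UnivInj

/-- **S5735**: proper, dominant, "universally open" with purely inseparable algebraic closure
of the function field: all fibres are geometrically connected. -/
theorem geometricallyConnected_fiber_of_univOpen {X Y : Scheme.{u}} [IsIntegral X]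
    [IsIntegral Y] [IsLocallyNoetherian Y] (f : X ⟶ Y) [IsProper f]
    (hdom : f.base (genericPoint X) ⤳ genericPoint Y)
    (hopen : ∀ (Y' : Scheme.{u}) (g : Y' ⟶ Y), IrreducibleSpace ↥Y' → IsLocallyNoetherian Y' →
      IsDominant g → ∀ Z ∈ irreducibleComponents ↥(pullback f g),
        Dense ((pullback.snd f g).base '' Z))
    (hrad : ∀ x : X.functionField,
      (∃ q : Polynomial Y.functionField, q ≠ 0 ∧
        Polynomial.eval₂ (CohIII.stalkToFunctionField f (genericPoint Y) hdom) x q = 0) →
      ∃ e : ℕ, x ^ (ringExpChar X.functionField ^ e) ∈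
        Set.range (CohIII.stalkToFunctionField f (genericPoint Y) hdom))
    (y : Y) : GeometricallyConnected (f.fiberToSpecResidueField y) := by
  obtain ⟨hdomB, hexp, hinjφ, hradB⟩ := Γ_pullback_facts f hdom hrad y
  haveI hui := universallyInjective_SpecMap_Γ_pullback f hdom hopen hrad y
  let A : CommRingCat.{u} := Y.presheaf.stalk y
  let X' := pullback f (Y.fromSpecStalk y)
  let g : X' ⟶ Spec A := pullback.snd f (Y.fromSpecStalk y)
  let B : CommRingCat.{u} := Γ(X', ⊤)
  let φ : A ⟶ B := (Scheme.ΓSpecIso A).inv ≫ g.appTop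
  have hfin : φ.hom.Finite := Groth.Agent.Lib.Helper21.ProperGamma.finite_appTop A X' g
  haveI : IsNoetherianRing B := by
    letI := φ.hom.toAlgebra
    haveI : Module.Finite A B := hfin
    exact IsNoetherianRing.of_finite A B
  let t : X' ⟶ Spec B := X'.toSpecΓ
  have htg : t ≫ Spec.map φ = g := by
    show X'.toSpecΓ ≫ Spec.map ((Scheme.ΓSpecIso A).inv ≫ g.appTop) = g
    rw [Spec.map_comp, ← Category.assoc, ← Scheme.toSpecΓ_naturality, Category.assoc,
      toSpecΓ_SpecMap_ΓSpecIso_inv, Category.comp_id]
  haveI : IsProper (t ≫ Spec.map φ) := by rw [htg]; infer_instance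
  haveI : IsProper t := IsProper.of_comp t (Spec.map φ)
  haveI : UniversallyInjective (Spec.map φ) := hui
  haveI : Surjective (Spec.map φ) := by
    constructor
    intro a
    obtain ⟨b, hb⟩ := RingHom.IsIntegral.comap_surjective (f := φ.hom) hfin.to_isIntegral hinjφ a
    exact ⟨b, hb⟩
  have hU : ∀ z : Spec B, ∃ U : (Spec B).Opens, IsAffineOpen U ∧ z ∈ U ∧ IsIso (t.app U) := by
    intro z
    refine ⟨⊤, isAffineOpen_top _, trivial, ?_⟩
    have : t.app ⊤ = t.appTop := rfl
    rw [this]
    show IsIso X'.toSpecΓ.appTop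
    rw [Scheme.toSpecΓ_appTop]
    infer_instance
  rw [geometricallyConnected_iff, geometrically_iff_of_isClosedUnderIsomorphisms]
  intro K _ ψ
  obtain ⟨φ', rfl⟩ := Spec.map_surjective ψ
  let ψA : Spec (.of K) ⟶ Spec A := Spec.map φ' ≫ Spec.map (Y.residue y)
  haveI h1 : ConnectedSpace ↥(pullback (t ≫ Spec.map φ) ψA) :=
    connectedSpace_pullback_of_stein_comp_universallyInjective t hU (Spec.map φ) K ψA
  have h2 : ConnectedSpace ↥(pullback g ψA) := by
    rw [← htg]; exact h1
  let isoB := pullbackLeftPullbackSndIso f (Y.fromSpecStalk y) ψA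
  haveI h3 : ConnectedSpace ↥(pullback f (ψA ≫ Y.fromSpecStalk y)) :=
    isoB.hom.homeomorph.surjective.connectedSpace isoB.hom.homeomorph.continuous
  have h4 : ψA ≫ Y.fromSpecStalk y = Spec.map φ' ≫ Y.fromSpecResidueField y := by
    rw [Category.assoc]
    rfl
  have h5 : ConnectedSpace ↥(pullback f (Spec.map φ' ≫ Y.fromSpecResidueField y)) := by
    rw [← h4]; exact h3
  let isoA := pullbackLeftPullbackSndIso f (Y.fromSpecResidueField y) (Spec.map φ')
  exact isoA.inv.homeomorph.surjective.connectedSpace isoA.inv.homeomorph.continuous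

end Groth.Agent.Lib.Helper21.SteinLocal
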