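import Groth.Agent.Lib.Helper21.GalCount2
import Groth.Agent.Lib.Helper21.SteinLocal3

set_option autoImplicit false
set_option backward.isDefEq.respectTransparency.types false
set_option linter.style.haveILetI false
universe u
open CategoryTheory CategoryTheory.Limits AlgebraicGeometry Opposite TopologicalSpace

namespace Groth.Agent.Lib.Helper21.SteinLocal

theorem card_connectedComponents_fibre_le_finSepDegree {X Y : Scheme.{u}} [IsIntegral X]
    [IsIntegral Y] [IsLocallyNoetherian Y] (f : X ⟶ Y) [IsProper f]
    (hdom : f.base (genericPoint X) ⤳ genericPoint Y) [Algebra Y.functionField X.functionField]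
    (halg : algebraMap Y.functionField X.functionField =
      CohIII.stalkToFunctionField f (genericPoint Y) hdom)
    (n : ℕ) (hn0 : 0 < n)
    (hn : Field.finSepDegree Y.functionField
      ↥(algebraicClosure Y.functionField X.functionField) = n)
    (y : Y) (hy : CAlg2.IsUnibranch (Y.presheaf.stalk y)) :
    Finite (_root_.ConnectedComponents ↥(f.fiber y)) ∧
      Nat.card (_root_.ConnectedComponents ↥(f.fiber y)) ≤ n := by
  have h : f.base (genericPoint X) ⤳ y :=
    hdom.trans ((genericPoint_spec Y).specializes trivial)
  let A := Y.presheaf.stalk y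
  let K := Y.functionField
  let L := X.functionField
  letI algAL : Algebra A L := ((algebraMap K L).comp (algebraMap A K)).toAlgebra
  haveI : IsScalarTower A K L := IsScalarTower.of_algebraMap_eq (fun _ => rfl)
  let σ : A →+* L := CohIII.stalkToFunctionField f y h
  have hσ : algebraMap A L = σ := by
    ext a
    show algebraMap K L (algebraMap A K a) = _
    rw [halg]
    exact (stalkToFF_eq_comp f y hdom h a).symm
  obtain ⟨hfin, hcard⟩ := Groth.Agent.Lib.Helper21.GalCount.card_maximalSpectrum_integralClosure_le
    (A := A) (K := K) (L := L) hy n hn0 hn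
  have h1 := card_connectedComponents_le_integralClosureStalk f y h
  let C₁ : Subring L := CohIII.integralClosureStalk f y h
  let C₂ := integralClosure A L
  have hmem : ∀ x : L, x ∈ C₁ ↔ σ.IsIntegralElem x := fun x => Iff.rfl
  have hmem₂ : ∀ x : L, x ∈ C₂ ↔ (algebraMap A L).IsIntegralElem x := fun x => Iff.rfl
  have h12 : ∀ x : L, x ∈ C₁ → x ∈ C₂ := by
    intro x hx
    rw [hmem₂, hσ]
    exact (hmem x).mp hx
  have h21 : ∀ x : L, x ∈ C₂ → x ∈ C₁ := by
    intro x hx
    rw [hmem, ← hσ]
    exact (hmem₂ x).mp hx
  let ψ : C₁ →+* C₂ :=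
    { toFun := fun x => ⟨x.1, h12 x.1 x.2⟩
      map_one' := rfl
      map_mul' := fun _ _ => rfl
      map_zero' := rfl
      map_add' := fun _ _ => rfl }
  have hψinj : Function.Injective ψ := by
    intro a b hab
    have : (ψ a).1 = (ψ b).1 := congrArg Subtype.val hab
    exact Subtype.ext this
  have hψsurj : Function.Surjective ψ := fun c => ⟨⟨c.1, h21 c.1 c.2⟩, rfl⟩
  have hψint : ψ.IsIntegral := ψ.isIntegral_of_surjective hψsurj
  have h2 := h1.trans (card_maximalSpectrum_le ψ hψinj hψint)
  obtain ⟨e⟩ := Cardinal.le_def _ _ |>.mp h2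
  haveI := hfin
  exact ⟨Finite.of_injective e e.injective,
    (Nat.card_le_card_of_injective e e.injective).trans hcard⟩

end Groth.Agent.Lib.Helper21.SteinLocal
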