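import Groth.Agent.Lib.Helper18.Stein
import Groth.Agent.Lib.Helper21.ProperGamma1

set_option autoImplicit false
set_option backward.isDefEq.respectTransparency.types false
set_option linter.style.haveILetI false
universe u
open CategoryTheory CategoryTheory.Limits AlgebraicGeometry Opposite TopologicalSpace

namespace Groth.Agent.Lib.Helper21.SteinNbhd

/-- surjectivity of the map induced on localizations away from `g`, when `φ` is surjective up to
a multiplier `s` which becomes invertible. -/
theorem surjective_of_away {A B A' B' : Type*} [CommRing A] [CommRing B] [CommRing A']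
    [CommRing B'] [Algebra A A'] [Algebra B B'] (g : A) [IsLocalization.Away g A'] (φ : A →+* B)
    [IsLocalization.Away (φ g) B'] (ψ : A' →+* B')
    (hc : ∀ a, ψ (algebraMap A A' a) = algebraMap B B' (φ a))
    (s : A) (hs : IsUnit (algebraMap A A' s)) (hφ : ∀ b, ∃ a, φ a = φ s * b) :
    Function.Surjective ψ := by
  have hug : IsUnit (algebraMap A A' g) := IsLocalization.Away.algebraMap_isUnit g
  intro b'
  obtain ⟨n, b, hb⟩ := IsLocalization.Away.surj (φ g) b'
  obtain ⟨a, ha⟩ := hφ b
  obtain ⟨u, hu⟩ := hug.pow n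
  obtain ⟨v, hv⟩ := hs
  refine ⟨algebraMap A A' a * ↑u⁻¹ * ↑v⁻¹, ?_⟩
  have hψu : ψ (u : A') = algebraMap B B' (φ g) ^ n := by
    rw [hu, map_pow, hc]
  have hψv : ψ (v : A') = algebraMap B B' (φ s) := by
    rw [hv, hc]
  have hunit : IsUnit (ψ (u : A') * ψ (v : A')) :=
    ((u.isUnit.map ψ).mul (v.isUnit.map ψ))
  apply hunit.mul_left_injective
  change ψ (algebraMap A A' a * ↑u⁻¹ * ↑v⁻¹) * (ψ (u : A') * ψ (v : A')) =
    b' * (ψ (u : A') * ψ (v : A'))
  have h1 : ψ (algebraMap A A' a * ↑u⁻¹ * ↑v⁻¹) * (ψ (u : A') * ψ (v : A')) =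
      ψ (algebraMap A A' a) := by
    rw [← map_mul, ← map_mul]
    congr 1
    calc algebraMap A A' a * ↑u⁻¹ * ↑v⁻¹ * (↑u * ↑v)
        = algebraMap A A' a * ((↑u⁻¹ * ↑u) * (↑v⁻¹ * ↑v)) := by ring
      _ = algebraMap A A' a := by rw [Units.inv_mul, Units.inv_mul, mul_one, mul_one]
  rw [h1, hc, ha, map_mul, hψu, hψv, ← hb]
  ring

/-- sections over a basic open `D(g) ⊆ D(s)`: if `t.app W` is surjective up to the multiplier `s`,
then `t.app D(g)` is surjective. -/
theorem surjective_app_basicOpen {X N : Scheme.{u}} (t : X ⟶ N) (W : N.Opens) (hW : IsAffineOpen W)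
    (hc : IsCompact (t ⁻¹ᵁ W).1) (hqs : IsQuasiSeparated (t ⁻¹ᵁ W).1)
    (s : Γ(N, W)) (hφ : ∀ b, ∃ a, (t.app W).hom a = (t.app W).hom s * b)
    (g : Γ(N, W)) (hgs : N.basicOpen g ≤ N.basicOpen s) :
    Function.Surjective (t.app (N.basicOpen g)).hom := by
  have h : t ⁻¹ᵁ N.basicOpen g = X.basicOpen (t.app W g) := Scheme.preimage_basicOpen t g
  haveI : IsLocalization.Away g Γ(N, N.basicOpen g) := hW.isLocalization_basicOpen g
  haveI : IsLocalization.Away ((t.app W).hom g) Γ(X, X.basicOpen (t.app W g)) :=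
    isLocalization_basicOpen_of_qcqs hc hqs _
  let ψ : Γ(N, N.basicOpen g) ⟶ Γ(X, X.basicOpen (t.app W g)) :=
    t.app (N.basicOpen g) ≫ X.presheaf.map (eqToHom h.symm).op
  have hψ : Function.Surjective ψ.hom := by
    refine surjective_of_away g (t.app W).hom ψ.hom ?_ s ?_ hφ
    · intro a
      have hnat := t.naturality (homOfLE (N.basicOpen_le g)).op
      have hcomm : N.presheaf.map (homOfLE (N.basicOpen_le g)).op ≫ ψ =
          t.app W ≫ X.presheaf.map (homOfLE (X.basicOpen_le (t.app W g))).op := by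
        dsimp only [ψ]
        rw [← Category.assoc, hnat, Category.assoc, ← Functor.map_comp]
        rfl
      exact congrArg (fun k => k.hom a) hcomm
    · have h1 : IsUnit ((N.presheaf.map (homOfLE (N.basicOpen_le s)).op).hom s) :=
        RingedSpace.isUnit_res_basicOpen _ s
      have h2 := h1.map (N.presheaf.map (homOfLE hgs).op).hom
      have h3 : (N.presheaf.map (homOfLE hgs).op).hom
          ((N.presheaf.map (homOfLE (N.basicOpen_le s)).op).hom s) =
          algebraMap Γ(N, W) Γ(N, N.basicOpen g) s := by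
        rw [← RingHom.comp_apply, ← CommRingCat.hom_comp, ← Functor.map_comp]
        rfl
      rw [← h3]
      exact h2
  intro b
  obtain ⟨a, ha⟩ := hψ ((X.presheaf.map (eqToHom h.symm).op).hom b)
  refine ⟨a, ?_⟩
  have hinj : Function.Injective (X.presheaf.map (eqToHom h.symm).op).hom :=
    (ConcreteCategory.bijective_of_isIso (X.presheaf.map (eqToHom h.symm).op)).1
  apply hinj
  exact ha

end Groth.Agent.Lib.Helper21.SteinNbhd
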