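import Groth.Agent.Lib.Helper21.SteinNbhd1

set_option autoImplicit false
set_option backward.isDefEq.respectTransparency.types false
set_option linter.style.haveILetI false
universe u
open CategoryTheory CategoryTheory.Limits AlgebraicGeometry Opposite TopologicalSpace

namespace Groth.Agent.Lib.Helper21.SteinNbhd

open Groth.Agent.Lib.Helper18.Stein

variable {X Y : Scheme.{u}} [IsIntegral X] [IsIntegral Y] (f : X ⟶ Y)
  (hdom : f.base (genericPoint X) ⤳ genericPoint Y)

include hdom in
/-- sheaf gluing: local surjectivity of `f.app` implies surjectivity. -/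
theorem app_surjective_of_locally (V : Y.Opens)
    (h : ∀ x ∈ V, ∃ W : Y.Opens, x ∈ W ∧ W ≤ V ∧ Function.Surjective (f.app W).hom) :
    Function.Surjective (f.app V).hom := by
  have key := TopCat.Presheaf.app_surjective_of_injective_of_locally_surjective (sheafHom f) V
    (fun x _ => TopCat.Presheaf.stalkFunctor_map_injective_of_app_injective
      (f := (sheafHom f).1) (fun U => app_injective f hdom U) x)
    (fun t x hx => ?_)
  · exact key
  · obtain ⟨W, hxW, hWV, hsurj⟩ := h x hx
    obtain ⟨s, hs⟩ := hsurj ((X.presheaf.map (homOfLE (f.preimage_mono hWV)).op).hom t)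
    exact ⟨W, hxW, homOfLE hWV, s, hs⟩

/-- Key claim: a section of `X` over `f⁻¹V` which is integral over `Γ(Y, V)` is, up to a
multiplier invertible at the normal point `y`, the image of a section over `V`. -/
theorem exists_mul_eq_of_isIntegral
    (halg : ∀ x : X.functionField,
      (∃ p : Polynomial Y.functionField, p ≠ 0 ∧
        Polynomial.eval₂ (CohIII.stalkToFunctionField f (genericPoint Y) hdom) x p = 0) →
      x ∈ Set.range (CohIII.stalkToFunctionField f (genericPoint Y) hdom))
    {V : Y.Opens} (hV : IsAffineOpen V) (y : Y) (hyV : y ∈ V)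
    (hy : IsIntegrallyClosed (Y.presheaf.stalk y))
    (b : Γ(X, f ⁻¹ᵁ V)) (hb : (f.app V).hom.IsIntegralElem b) :
    ∃ s a : Γ(Y, V), y ∈ Y.basicOpen s ∧ (f.app V).hom a = (f.app V).hom s * b := by
  haveI : Nonempty V := ⟨⟨y, hyV⟩⟩
  set σ := CohIII.stalkToFunctionField f (genericPoint Y) hdom with hσ
  set gY := (Y.presheaf.germ V (genericPoint Y) (genericPoint_mem V)).hom with hgY
  set gX := (X.presheaf.germ (f ⁻¹ᵁ V) (genericPoint X)
    (genericPoint_mem_preimage f hdom V)).hom with hgX
  have hcomp : ∀ a, σ (gY a) = gX ((f.app V).hom a) := stalkToFF_germ f hdom V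
  obtain ⟨p, hp, hpb⟩ := hb
  have hpb' : Polynomial.eval₂ (f.app V).hom b p = 0 := hpb
  have h1 : Polynomial.eval₂ σ (gX b) (p.map gY) = 0 := by
    rw [Polynomial.eval₂_map]
    have : σ.comp gY = gX.comp (f.app V).hom := RingHom.ext hcomp
    rw [this, ← Polynomial.hom_eval₂, hpb', map_zero]
  obtain ⟨t, ht⟩ := halg (gX b) ⟨p.map gY, (hp.map gY).ne_zero, h1⟩
  have h2 : Polynomial.eval₂ gY t p = 0 := by
    apply stalkToFF_injective f hdom
    rw [map_zero, Polynomial.hom_eval₂, ← Polynomial.eval₂_map]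
    show Polynomial.eval₂ σ (σ t) (p.map gY) = 0
    rw [ht]; exact h1
  have h3 : IsIntegral Γ(Y, V) (t : Y.functionField) := ⟨p, hp, h2⟩
  -- pass to the stalk at `y`
  letI := TopCat.Presheaf.algebra_section_stalk Y.presheaf (⟨y, hyV⟩ : V)
  haveI := functionField_isScalarTower Y V (⟨y, hyV⟩ : V)
  have h4 : IsIntegral (Y.presheaf.stalk y) t := h3.tower_top
  obtain ⟨t', ht'⟩ := IsIntegrallyClosed.isIntegral_iff.mp h4
  haveI := hV.isLocalization_stalk ⟨y, hyV⟩
  obtain ⟨⟨a, s⟩, has⟩ := IsLocalization.surj (hV.primeIdealOf ⟨y, hyV⟩).asIdeal.primeCompl t'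
  refine ⟨s.1, a, ?_, ?_⟩
  · rw [Scheme.mem_basicOpen _ _ _ hyV]
    exact IsLocalization.map_units (Y.presheaf.stalk y) s
  · -- compare in the function field of `X`
    apply germ_injective_of_isIntegral X (genericPoint X) (genericPoint_mem_preimage f hdom V)
    show gX ((f.app V).hom a) = gX ((f.app V).hom s.1 * b)
    rw [map_mul, ← hcomp, ← hcomp, ← ht, ← map_mul]
    congr 1
    -- `gY a = gY s * t` in `R(Y)`
    have h5 := congrArg (algebraMap (Y.presheaf.stalk y) Y.functionField) has
    rw [map_mul, ht', ← IsScalarTower.algebraMap_apply, ← IsScalarTower.algebraMap_apply] at h5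
    rw [mul_comm]
    exact h5.symm

end Groth.Agent.Lib.Helper21.SteinNbhd
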