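import Groth.Agent.Lib.Helper21.SteinNbhd2

set_option autoImplicit false
set_option backward.isDefEq.respectTransparency.types false
set_option linter.style.haveILetI false
universe u
open CategoryTheory CategoryTheory.Limits AlgebraicGeometry Opposite TopologicalSpace

namespace Groth.Agent.Lib.Helper21.SteinNbhd

open Groth.Agent.Lib.Helper18.Stein

variable {X Y : Scheme.{u}} [IsIntegral X] [IsIntegral Y] (f : X ⟶ Y)
  (hdom : f.base (genericPoint X) ⤳ genericPoint Y)

/-- uniform multiplier. -/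
theorem exists_uniform_mul
    (halg : ∀ x : X.functionField,
      (∃ p : Polynomial Y.functionField, p ≠ 0 ∧
        Polynomial.eval₂ (CohIII.stalkToFunctionField f (genericPoint Y) hdom) x p = 0) →
      x ∈ Set.range (CohIII.stalkToFunctionField f (genericPoint Y) hdom))
    {V : Y.Opens} (hV : IsAffineOpen V) (y : Y) (hyV : y ∈ V)
    (hy : IsIntegrallyClosed (Y.presheaf.stalk y)) (hfin : (f.app V).hom.Finite) :
    ∃ s : Γ(Y, V), y ∈ Y.basicOpen s ∧
      ∀ b, ∃ a, (f.app V).hom a = (f.app V).hom s * b := by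
  letI := (f.app V).hom.toAlgebra
  haveI : Module.Finite Γ(Y, V) Γ(X, f ⁻¹ᵁ V) := hfin
  have hint : ∀ b : Γ(X, f ⁻¹ᵁ V), (f.app V).hom.IsIntegralElem b := hfin.to_isIntegral
  obtain ⟨S, hS⟩ := (Module.Finite.fg_top : (⊤ : Submodule Γ(Y, V) Γ(X, f ⁻¹ᵁ V)).FG)
  have claim : ∀ S : Finset Γ(X, f ⁻¹ᵁ V), ∃ s : Γ(Y, V), y ∈ Y.basicOpen s ∧
      ∀ b ∈ Submodule.span Γ(Y, V) (S : Set Γ(X, f ⁻¹ᵁ V)),
        ∃ a, (f.app V).hom a = (f.app V).hom s * b := by
    intro S
    classical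
    induction S using Finset.induction_on with
    | empty =>
      refine ⟨1, by rw [Scheme.basicOpen_one]; exact hyV, fun b hb => ⟨0, ?_⟩⟩
      rw [Finset.coe_empty, Submodule.span_empty, Submodule.mem_bot] at hb
      rw [hb, map_zero, mul_zero]
    | insert b₀ S _ ih =>
      obtain ⟨s₁, hys₁, h₁⟩ := ih
      obtain ⟨s₀, a₀, hys₀, h₀⟩ :=
        exists_mul_eq_of_isIntegral f hdom halg hV y hyV hy b₀ (hint b₀)
      refine ⟨s₀ * s₁, ?_, fun b hb => ?_⟩
      · rw [Scheme.basicOpen_mul]; exact ⟨hys₀, hys₁⟩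
      · rw [Finset.coe_insert, Submodule.mem_span_insert] at hb
        obtain ⟨c, m, hm, rfl⟩ := hb
        obtain ⟨am, ham⟩ := h₁ m hm
        refine ⟨c * s₁ * a₀ + s₀ * am, ?_⟩
        rw [Algebra.smul_def, RingHom.algebraMap_toAlgebra]
        simp only [map_add, map_mul, h₀, ham]
        ring
  obtain ⟨s, hys, hs⟩ := claim S
  exact ⟨s, hys, fun b => hs b (by rw [hS]; exact Submodule.mem_top)⟩

/-- `O_Y → f_* O_X` is an isomorphism near a normal point, if `R(Y)` is algebraically closed in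
`R(X)`. -/
theorem exists_nbhd_isIso_app [IsLocallyNoetherian Y] [IsProper f]
    (halg : ∀ x : X.functionField,
      (∃ p : Polynomial Y.functionField, p ≠ 0 ∧
        Polynomial.eval₂ (CohIII.stalkToFunctionField f (genericPoint Y) hdom) x p = 0) →
      x ∈ Set.range (CohIII.stalkToFunctionField f (genericPoint Y) hdom))
    (y : Y) (hy : IsIntegrallyClosed (Y.presheaf.stalk y)) :
    ∃ U : Y.Opens, y ∈ U ∧ IsAffineOpen U ∧ ∀ V : Y.Opens, V ≤ U → IsIso (f.app V) := by
  obtain ⟨V₀, hV₀, hyV₀, -⟩ :=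
    TopologicalSpace.Opens.isBasis_iff_nbhd.mp Y.isBasis_affineOpens
      (show y ∈ (⊤ : Y.Opens) from trivial)
  have hfin := Groth.Agent.Lib.Helper21.ProperGamma.finite_app_of_isProper f V₀ hV₀
  obtain ⟨s, hys, hs⟩ := exists_uniform_mul f hdom halg hV₀ y hyV₀ hy hfin
  refine ⟨Y.basicOpen s, hys, hV₀.basicOpen s, fun V hVU => ?_⟩
  refine (ConcreteCategory.isIso_iff_bijective _).mpr ⟨app_injective f hdom V, ?_⟩
  refine app_surjective_of_locally f hdom V fun x hxV => ?_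
  have hxV₀ : x ∈ V₀ := Y.basicOpen_le s (hVU hxV)
  obtain ⟨r, hrV, hxr⟩ := hV₀.exists_basicOpen_le (⟨x, hxV⟩ : V) hxV₀
  refine ⟨Y.basicOpen r, hxr, hrV, ?_⟩
  exact surjective_app_basicOpen f V₀ hV₀ (f.isCompact_preimage hV₀.isCompact)
    (f.isQuasiSeparated_preimage hV₀.isQuasiSeparated) s hs r (hrV.trans hVU)

end Groth.Agent.Lib.Helper21.SteinNbhd
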