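import Mathlib
import Groth.Agent.Lib.Helper9.UnivHomeoRing

/-!
# The finite part of the Stein factorization is a universal homeomorphism when the fibres are
geometrically connected (helper21)
-/

set_option autoImplicit false
set_option backward.isDefEq.respectTransparency.types false
set_option linter.style.haveILetI false
universe u
open CategoryTheory CategoryTheory.Limits AlgebraicGeometry

namespace Groth.Agent.Lib.Helper21.SteinUH

/-- in a ring, an element of a minimal prime is killed, up to a power, by something outside. -/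
theorem exists_mul_pow_eq_zero {C : Type*} [CommRing C] (p : Ideal C) [p.IsPrime]
    (hp : p ∈ minimalPrimes C) {a : C} (ha : a ∈ p) : ∃ s ∉ p, ∃ n : ℕ, s * a ^ n = 0 := by
  haveI : Ring.KrullDimLE 0 (Localization.AtPrime p) :=
    Ring.KrullDimLE.of_isLocalization p hp (Localization.AtPrime p)
  have hmem : algebraMap C (Localization.AtPrime p) a ∈
      IsLocalRing.maximalIdeal (Localization.AtPrime p) :=
    (IsLocalization.AtPrime.to_map_mem_maximal_iff _ p a).mpr ha
  obtain ⟨n, hn⟩ := (Ring.KrullDimLE.isNilpotent_iff_mem_maximalIdeal).mpr hmem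
  rw [← map_pow, IsLocalization.map_eq_zero_iff p.primeCompl] at hn
  obtain ⟨s, hs⟩ := hn
  exact ⟨s, s.2, n, hs⟩

/-- a preconnected zero-dimensional spectrum has at most one point. -/
theorem subsingleton_of_preconnected (C : Type*) [CommRing C] [Ring.KrullDimLE 0 C]
    [PreconnectedSpace (PrimeSpectrum C)] : Subsingleton (PrimeSpectrum C) := by
  refine ⟨fun p q => ?_⟩
  by_contra hne
  have hnle : ¬ p.asIdeal ≤ q.asIdeal := fun h =>
    hne (PrimeSpectrum.ext (Ideal.IsMaximal.eq_of_le inferInstance q.2.ne_top h))
  obtain ⟨a, hap, haq⟩ := Set.not_subset.mp hnle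
  have hcl : IsClosed (PrimeSpectrum.zeroLocus ({a} : Set C)) := PrimeSpectrum.isClosed_zeroLocus _
  have hop : IsOpen (PrimeSpectrum.zeroLocus ({a} : Set C)) := by
    rw [isOpen_iff_forall_mem_open]
    intro x hx
    have hax : a ∈ x.asIdeal := by simpa using hx
    obtain ⟨s, hs, n, hsn⟩ := exists_mul_pow_eq_zero x.asIdeal
      (Ideal.mem_minimalPrimes_of_krullDimLE_zero _) hax
    refine ⟨PrimeSpectrum.basicOpen s, ?_, (PrimeSpectrum.basicOpen s).2, hs⟩
    intro y hy
    have hsy : s ∉ y.asIdeal := hy
    have h0 : s * a ^ n ∈ y.asIdeal := by rw [hsn]; exact zero_mem _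
    have h1 : a ^ n ∈ y.asIdeal := (y.2.mem_or_mem h0).resolve_left hsy
    have h2 : a ∈ y.asIdeal := y.2.mem_of_pow_mem n h1
    simpa using h2
  rcases isClopen_iff.mp ⟨hcl, hop⟩ with h | h
  · have : p ∈ PrimeSpectrum.zeroLocus ({a} : Set C) := by simpa using hap
    rw [h] at this
    exact this
  · have : q ∈ PrimeSpectrum.zeroLocus ({a} : Set C) := by rw [h]; trivial
    exact haq (by simpa using this)



/-- an affine scheme integral over the spectrum of a field is zero-dimensional. -/
theorem krullDimLE_zero_of_integral_over_field {F : Scheme.{u}} (K : Type u) [Field K]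
    (g : F ⟶ Spec (CommRingCat.of K)) [IsIntegralHom g] : Ring.KrullDimLE 0 Γ(F, ⊤) := by
  have h1 : (g.app ⊤).hom.IsIntegral := g.isIntegral_app ⊤ (isAffineOpen_top _)
  have h2 : ((Scheme.ΓSpecIso (CommRingCat.of K)).inv ≫ g.appTop).hom.IsIntegral := by
    rw [CommRingCat.hom_comp]
    exact RingHom.IsIntegral.trans _ _
      (RingHom.isIntegral_of_surjective _
        (ConcreteCategory.bijective_of_isIso (Scheme.ΓSpecIso (CommRingCat.of K)).inv).2) h1
  algebraize [((Scheme.ΓSpecIso (CommRingCat.of K)).inv ≫ g.appTop).hom]
  haveI : Algebra.IsIntegral K Γ(F, ⊤) := ⟨h2⟩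
  refine Ring.KrullDimLE.mk₀ (fun P hP => ?_)
  haveI := hP
  refine Ideal.isMaximal_of_isIntegral_of_isMaximal_comap (R := K) P ?_
  have : (P.comap (algebraMap K Γ(F, ⊤))).IsPrime := Ideal.comap_isPrime _ P
  rw [Ideal.eq_bot_of_prime (P.comap (algebraMap K Γ(F, ⊤)))]
  exact Ideal.bot_isMaximal

/-- the fibre set of an integral morphism, when preconnected, has at most one point. -/
theorem subsingleton_fibre_of_isIntegralHom {P T : Scheme.{u}} (h : P ⟶ T) [IsIntegralHom h]
    (t : T) (hc : _root_.IsPreconnected (h ⁻¹' {t})) : (h ⁻¹' {t}).Subsingleton := by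
  haveI : IsAffine (h.fiber t) := inferInstance
  haveI : IsIntegralHom (h.fiberToSpecResidueField t) :=
    inferInstanceAs (IsIntegralHom (pullback.snd h (T.fromSpecResidueField t)))
  haveI : Ring.KrullDimLE 0 Γ(h.fiber t, ⊤) :=
    krullDimLE_zero_of_integral_over_field (T.residueField t) (h.fiberToSpecResidueField t)
  haveI h1 : PreconnectedSpace (h ⁻¹' {t}) := Subtype.preconnectedSpace hc
  haveI h2 : PreconnectedSpace (h.fiber t) :=
    (h.fiberHomeo t).symm.surjective.denseRange.preconnectedSpace (h.fiberHomeo t).symm.continuous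
  haveI h3 : PreconnectedSpace (PrimeSpectrum Γ(h.fiber t, ⊤)) :=
    (Scheme.homeoOfIso (h.fiber t).isoSpec).surjective.denseRange.preconnectedSpace
      (Scheme.homeoOfIso (h.fiber t).isoSpec).continuous
  haveI h4 : Subsingleton ↥(Spec Γ(h.fiber t, ⊤)) := subsingleton_of_preconnected Γ(h.fiber t, ⊤)
  haveI h5 : Subsingleton (h.fiber t) :=
    (Scheme.homeoOfIso (h.fiber t).isoSpec).injective.subsingleton
  haveI h6 : Subsingleton (h ⁻¹' {t}) := (h.fiberHomeo t).symm.injective.subsingleton
  intro a ha b hb
  exact congrArg Subtype.val (Subsingleton.elim (⟨a, ha⟩ : h ⁻¹' {t}) ⟨b, hb⟩)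



/-- the first Stein factor of a proper morphism is surjective. -/
theorem surjective_toNormalization {X S : Scheme.{u}} (f : X ⟶ S) [IsProper f] :
    Surjective f.toNormalization := by
  haveI : IsProper (f.toNormalization ≫ f.fromNormalization) := by
    rw [Scheme.Hom.toNormalization_fromNormalization]; infer_instance
  haveI : IsProper f.toNormalization :=
    MorphismProperty.of_postcomp (W := @IsProper) (W' := @IsSeparated)
      f.toNormalization f.fromNormalization inferInstance inferInstance
  refine ⟨fun z => ?_⟩
  have hcl : IsClosed (Set.range f.toNormalization) := f.toNormalization.isClosedMap.isClosed_range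
  have hd : DenseRange f.toNormalization := f.toNormalization.denseRange
  have : Set.range f.toNormalization = Set.univ := by
    rw [← hcl.closure_eq]; exact hd.closure_eq
  exact (Set.eq_univ_iff_forall.mp this) z

theorem isUnivHomeo_fromNormalization {X S : Scheme.{u}} (f : X ⟶ S) [IsProper f]
    [GeometricallyConnected f] : FlatMor.IsUnivHomeo f.fromNormalization := by
  rw [Groth.Agent.Lib.Helper9.UnivHomeoRing.isUnivHomeo_iff]
  have hsurjN : Surjective f.toNormalization := surjective_toNormalization f
  refine ⟨inferInstance, ⟨?_⟩, ?_⟩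
  · intro P T i₁ i₂ h hsq
    -- `hsq : IsPullback h i₁ i₂ f.fromNormalization`
    haveI : IsIntegralHom h :=
      MorphismProperty.of_isPullback (P := @IsIntegralHom) hsq.flip inferInstance
    have hleft : IsPullback (pullback.snd f.toNormalization i₁) (pullback.fst f.toNormalization i₁)
        i₁ f.toNormalization := (IsPullback.of_hasPullback f.toNormalization i₁).flip
    have hpaste := hleft.paste_horiz hsq
    rw [Scheme.Hom.toNormalization_fromNormalization] at hpaste
    haveI hgc : GeometricallyConnected (pullback.snd f.toNormalization i₁ ≫ h) :=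
      MorphismProperty.of_isPullback (P := @GeometricallyConnected) hpaste.flip inferInstance
    haveI hsu : Surjective (pullback.snd f.toNormalization i₁) :=
      MorphismProperty.of_isPullback (P := @Surjective)
        (IsPullback.of_hasPullback f.toNormalization i₁) hsurjN
    intro z₁ z₂ hz
    have hconn := (pullback.snd f.toNormalization i₁ ≫ h).isConnected_preimage_singleton (h z₁)
    have himg : (pullback.snd f.toNormalization i₁) ''
        ((pullback.snd f.toNormalization i₁ ≫ h) ⁻¹' {h z₁}) = h ⁻¹' {h z₁} := by
      ext w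
      constructor
      · rintro ⟨q, hq, rfl⟩
        simpa using hq
      · intro hw
        obtain ⟨q, rfl⟩ := hsu.surj w
        exact ⟨q, by simpa using hw, rfl⟩
    have hpre : _root_.IsPreconnected (h ⁻¹' {h z₁}) := by
      rw [← himg]
      exact hconn.isPreconnected.image _ (pullback.snd f.toNormalization i₁).continuous.continuousOn
    exact subsingleton_fibre_of_isIntegralHom h (h z₁) hpre rfl hz.symm
  · haveI : Surjective (f.toNormalization ≫ f.fromNormalization) := by
      rw [Scheme.Hom.toNormalization_fromNormalization]; infer_instance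
    exact Surjective.of_comp f.toNormalization f.fromNormalization

end Groth.Agent.Lib.Helper21.SteinUH
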