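import Mathlib

/-!
# Ring theory of the normalisation of a one-dimensional Noetherian local domain
-/

set_option autoImplicit false
universe u v

namespace Groth.Agent.Lib.Helper21.TFCurv

open IsLocalRing

section general

variable (O : Type u) [CommRing O] [IsLocalRing O]
variable (S : Type v) [CommRing S] [Algebra O S] [Algebra.IsIntegral O S]

/-- In an integral algebra over a local ring, every maximal ideal contains the image of the
maximal ideal. -/
theorem algebraMap_mem_of_mem_maximalIdeal (𝔫 : Ideal S) [𝔫.IsMaximal] {a : O}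
    (ha : a ∈ maximalIdeal O) : algebraMap O S a ∈ 𝔫 := by
  have h1 : (𝔫.comap (algebraMap O S)).IsMaximal :=
    Ideal.isMaximal_comap_of_isIntegral_of_isMaximal (R := O) 𝔫
  have h2 : 𝔫.comap (algebraMap O S) = maximalIdeal O := IsLocalRing.eq_maximalIdeal h1
  have : a ∈ 𝔫.comap (algebraMap O S) := h2 ▸ ha
  exact this

/-- Over a local ring with algebraically closed residue field, the residue field of any maximal
ideal of an integral algebra is the residue field of the base. -/
theorem exists_sub_mem_of_isMaximal [IsAlgClosed (ResidueField O)] (𝔫 : Ideal S) [𝔫.IsMaximal]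
    (x : S) : ∃ a : O, x - algebraMap O S a ∈ 𝔫 := by
  let g : O →+* S ⧸ 𝔫 := (Ideal.Quotient.mk 𝔫).comp (algebraMap O S)
  have hg : ∀ a ∈ maximalIdeal O, g a = 0 := fun a ha => by
    simp only [g, RingHom.comp_apply]
    exact Ideal.Quotient.eq_zero_iff_mem.mpr (algebraMap_mem_of_mem_maximalIdeal O S 𝔫 ha)
  let φ : ResidueField O →+* S ⧸ 𝔫 := Ideal.Quotient.lift (maximalIdeal O) g hg
  have hφres : ∀ a : O, φ (residue O a) = Ideal.Quotient.mk 𝔫 (algebraMap O S a) :=
    fun a => Ideal.Quotient.lift_mk _ _ _
  let _ : Field (S ⧸ 𝔫) := Ideal.Quotient.field 𝔫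
  have hφ : φ.IsIntegral := by
    intro y
    obtain ⟨y, rfl⟩ := Ideal.Quotient.mk_surjective y
    obtain ⟨p, hp, hpy⟩ := Algebra.IsIntegral.isIntegral (R := O) y
    refine ⟨p.map (residue O), hp.map _, ?_⟩
    rw [Polynomial.eval₂_map]
    have : φ.comp (residue O) = (Ideal.Quotient.mk 𝔫).comp (algebraMap O S) := by
      ext a
      exact hφres a
    rw [this, ← Polynomial.hom_eval₂, hpy, map_zero]
  obtain ⟨a, ha⟩ := (IsAlgClosed.ringHom_bijective_of_isIntegral φ hφ).2 (Ideal.Quotient.mk 𝔫 x)
  obtain ⟨a, rfl⟩ := residue_surjective a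
  refine ⟨a, ?_⟩
  rw [← Ideal.Quotient.eq]
  rw [← ha, hφres]

/-- A finite algebra over a local ring has finitely many maximal ideals. -/
theorem finite_maximalSpectrum [Module.Finite O S] : Finite (MaximalSpectrum S) := by
  have hfin : ((maximalIdeal O).primesOver S).Finite :=
    Algebra.QuasiFinite.finite_primesOver (maximalIdeal O)
  have : Finite ((maximalIdeal O).primesOver S) := hfin
  refine Finite.of_injective
    (fun 𝔫 : MaximalSpectrum S => (⟨𝔫.asIdeal, 𝔫.isMaximal.isPrime, ⟨?_⟩⟩ :
      (maximalIdeal O).primesOver S)) ?_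
  · have h1 : (𝔫.asIdeal.comap (algebraMap O S)).IsMaximal :=
      haveI := 𝔫.isMaximal
      Ideal.isMaximal_comap_of_isIntegral_of_isMaximal (R := O) 𝔫.asIdeal
    exact (IsLocalRing.eq_maximalIdeal h1).symm
  · intro 𝔫 𝔫' h
    ext1
    exact congrArg (fun p : (maximalIdeal O).primesOver S => (p : Ideal S)) h

end general

section normalization

variable (O : Type u) [CommRing O] [IsDomain O] [IsNoetherianRing O] [IsLocalRing O]
variable (K : Type u) [Field K] [Algebra O K] [IsFractionRing O K]

omit [IsNoetherianRing O] [IsLocalRing O] in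
theorem isFractionRing_integralClosure : IsFractionRing (integralClosure O K) K :=
  integralClosure.isFractionRing_of_finite_extension K K

theorem isPrincipalIdealRing_integralClosure (hdim : ringKrullDim O = 1)
    (hfin : Module.Finite O ↥(integralClosure O K)) :
    IsPrincipalIdealRing ↥(integralClosure O K) := by
  have hN : IsNoetherianRing ↥(integralClosure O K) :=
    IsNoetherianRing.of_finite O ↥(integralClosure O K)
  have hIC : IsIntegrallyClosed ↥(integralClosure O K) :=
    integralClosure.isIntegrallyClosedOfFiniteExtension K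
  have hK1 : Ring.KrullDimLE 1 O := by
    rw [Ring.krullDimLE_iff, hdim]
    rfl
  have hD1 : Ring.DimensionLEOne O := by
    rw [Ring.krullDimLE_one_iff_of_noZeroDivisors] at hK1
    exact ⟨fun {p} hp hpp => hK1 p hp hpp⟩
  have hD2 : Ring.DimensionLEOne ↥(integralClosure O K) := inferInstance
  have hDed : IsDedekindDomain ↥(integralClosure O K) :=
    { maximalOfPrime := fun {p} hp hpp => hD2.maximalOfPrime hp hpp }
  have hfinmax : Finite (MaximalSpectrum ↥(integralClosure O K)) :=
    finite_maximalSpectrum O ↥(integralClosure O K)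
  have hp_finite : {P : Ideal ↥(integralClosure O K) | P.IsMaximal}.Finite := by
    rw [← MaximalSpectrum.range_asIdeal]
    exact Set.finite_range MaximalSpectrum.asIdeal
  exact IsPrincipalIdealRing.of_finite_maximals hp_finite

end normalization

end Groth.Agent.Lib.Helper21.TFCurv
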