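import Mathlib

/-!
# Selecting a basis of `R^ι` inside an `O`-submodule generating it

`O` local with infinite residue field, `R` a semilocal `O`-algebra all of whose residue fields
are equal to that of `O`.  An `O`-submodule of `R^ι` which spans `R^ι` over `R` contains an
`R`-basis of `R^ι`.
-/

set_option autoImplicit false
universe u v

namespace Groth.Agent.Lib.Helper21.TFCurv

open IsLocalRing MvPolynomial

/-- Finitely many polynomials over a local ring with infinite residue field, each taking a unit
value somewhere, take unit values simultaneously somewhere. -/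
theorem exists_common_nonroot (O : Type u) [CommRing O] [IsLocalRing O]
    [Infinite (ResidueField O)] {σ : Type*} {J : Type*} [Finite J] (P : J → MvPolynomial σ O)
    (h : ∀ j, ∃ t : σ → O, eval t (P j) ∉ maximalIdeal O) :
    ∃ t : σ → O, ∀ j, eval t (P j) ∉ maximalIdeal O := by
  classical
  have := Fintype.ofFinite J
  have hev : ∀ (t : σ → O) (p : MvPolynomial σ O),
      eval (fun s => residue O (t s)) (map (residue O) p) = residue O (eval t p) := by
    intro t p
    have := eval₂_comp_right (residue O) (RingHom.id O) t p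
    rw [eval₂_id, map_id] at this
    rw [eval_map, this]
    rfl
  have hQ : ∀ j, map (residue O) (P j) ≠ 0 := by
    intro j hj
    obtain ⟨t, ht⟩ := h j
    apply ht
    rw [← Ideal.Quotient.eq_zero_iff_mem]
    have := hev t (P j)
    rw [hj, map_zero] at this
    exact this.symm
  have hprod : (∏ j, map (residue O) (P j)) ≠ 0 := Finset.prod_ne_zero_iff.mpr fun j _ => hQ j
  have : ∃ s : σ → ResidueField O, eval s (∏ j, map (residue O) (P j)) ≠ 0 := by
    by_contra hcon
    push Not at hcon
    exact hprod (MvPolynomial.funext fun s => by rw [hcon s, map_zero])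
  obtain ⟨s, hs⟩ := this
  choose t ht using fun i : σ => residue_surjective (s i)
  refine ⟨t, fun j hj => hs ?_⟩
  rw [map_prod]
  refine Finset.prod_eq_zero (Finset.mem_univ j) ?_
  have h1 := hev t (P j)
  have h2 : (fun i => residue O (t i)) = s := funext ht
  rw [h2] at h1
  rw [h1]
  exact Ideal.Quotient.eq_zero_iff_mem.mpr hj

theorem exists_isUnit_det (O : Type u) [CommRing O] [IsLocalRing O] [Infinite (ResidueField O)]
    (R : Type v) [CommRing R] [Algebra O R] [Finite (MaximalSpectrum R)]
    (hm : ∀ (𝔫 : Ideal R) [𝔫.IsMaximal] (a : O), a ∈ maximalIdeal O → algebraMap O R a ∈ 𝔫)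
    (hres : ∀ (𝔫 : Ideal R) [𝔫.IsMaximal] (x : R), ∃ a : O, x - algebraMap O R a ∈ 𝔫)
    {ι : Type*} [Fintype ι] [DecidableEq ι] (M₀ : Submodule O (ι → R))
    (hspan : Submodule.span R (M₀ : Set (ι → R)) = ⊤) :
    ∃ w : ι → ι → R, (∀ i, w i ∈ M₀) ∧ IsUnit (Matrix.of w).det := by
  classical
  have := Fintype.ofFinite (MaximalSpectrum R)
  -- Step 1: modulo a maximal ideal, `M₀` is everything
  have step1 : ∀ (𝔫 : Ideal R) [𝔫.IsMaximal] (y : ι → R), ∃ x ∈ M₀, ∀ c, y c - x c ∈ 𝔫 := by
    intro 𝔫 _ y
    have hy : y ∈ Submodule.span R (M₀ : Set (ι → R)) := hspan ▸ Submodule.mem_top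
    induction hy using Submodule.span_induction with
    | mem y hy => exact ⟨y, hy, fun c => by simp⟩
    | zero => exact ⟨0, M₀.zero_mem, fun c => by simp⟩
    | add y z _ _ hy hz =>
      obtain ⟨x, hx, hxy⟩ := hy
      obtain ⟨x', hx', hxz⟩ := hz
      refine ⟨x + x', M₀.add_mem hx hx', fun c => ?_⟩
      have : (y + z) c - (x + x') c = (y c - x c) + (z c - x' c) := by
        simp only [Pi.add_apply]; ring
      rw [this]
      exact 𝔫.add_mem (hxy c) (hxz c)
    | smul r y _ hy =>
      obtain ⟨x, hx, hxy⟩ := hy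
      obtain ⟨a, ha⟩ := hres 𝔫 r
      refine ⟨a • x, M₀.smul_mem a hx, fun c => ?_⟩
      have : (r • y) c - (a • x) c = r * (y c - x c) + (r - algebraMap O R a) * x c := by
        show r * y c - a • x c = _
        rw [Algebra.smul_def]
        ring
      rw [this]
      exact 𝔫.add_mem (𝔫.mul_mem_left _ (hxy c)) (𝔫.mul_mem_right _ ha)
  have step2 : ∀ (j : MaximalSpectrum R) (i : ι),
      ∃ x ∈ M₀, ∀ c, (1 : Matrix ι ι R) i c - x c ∈ j.asIdeal := fun j i =>
    haveI := j.isMaximal
    step1 j.asIdeal ((1 : Matrix ι ι R) i)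
  choose x hxM hx using step2
  have step3 : ∀ (j' j : MaximalSpectrum R) (i c : ι),
      ∃ a : O, x j i c - algebraMap O R a ∈ j'.asIdeal := fun j' j i c =>
    haveI := j'.isMaximal
    hres j'.asIdeal _
  choose a ha using step3
  let P : MaximalSpectrum R → MvPolynomial (ι × MaximalSpectrum R) O := fun j' =>
    (Matrix.of fun i c => ∑ j, X (i, j) * C (a j' j i c)).det
  let w : (ι × MaximalSpectrum R → O) → ι → ι → R := fun t i => ∑ j, t (i, j) • x j i
  have hwM : ∀ t i, w t i ∈ M₀ := fun t i => M₀.sum_mem fun j _ => M₀.smul_mem _ (hxM j i)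
  have factA : ∀ t j',
      (Matrix.of (w t)).det - algebraMap O R (eval t (P j')) ∈ j'.asIdeal := by
    intro t j'
    rw [← Ideal.Quotient.eq]
    have h1 : Ideal.Quotient.mk j'.asIdeal (Matrix.of (w t)).det =
        ((Ideal.Quotient.mk j'.asIdeal).mapMatrix (Matrix.of (w t))).det := RingHom.map_det _ _
    have h2 : Ideal.Quotient.mk j'.asIdeal (algebraMap O R (eval t (P j'))) =
        ((((Ideal.Quotient.mk j'.asIdeal).comp (algebraMap O R)).comp (eval t)).mapMatrix
          (Matrix.of fun i c => ∑ j, X (i, j) * C (a j' j i c))).det := by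
      rw [← RingHom.map_det]
      rfl
    rw [h1, h2]
    congr 1
    ext i c
    simp only [RingHom.mapMatrix_apply, Matrix.map_apply, Matrix.of_apply, w, Finset.sum_apply,
      Pi.smul_apply, map_sum, map_mul, RingHom.comp_apply, eval_X, eval_C]
    refine Finset.sum_congr rfl fun j _ => ?_
    rw [Algebra.smul_def, map_mul, Ideal.Quotient.eq.mpr (ha j' j i c)]
  have factB : ∀ j', ∃ t, eval t (P j') ∉ maximalIdeal O := by
    intro j'
    have := j'.isMaximal
    let t₀ : ι × MaximalSpectrum R → O := fun p => if p.2 = j' then 1 else 0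
    refine ⟨t₀, fun hmem => ?_⟩
    have h1 := hm j'.asIdeal _ hmem
    have h2 := factA t₀ j'
    have h3 : w t₀ = x j' := by
      funext i
      simp only [w, t₀, ite_smul, one_smul, zero_smul, Finset.sum_ite_eq', Finset.mem_univ,
        if_true]
    have h4 : (1 : R) - (Matrix.of (x j')).det ∈ j'.asIdeal := by
      rw [← Ideal.Quotient.eq, RingHom.map_det, map_one]
      have : (Ideal.Quotient.mk j'.asIdeal).mapMatrix (Matrix.of (x j')) = 1 := by
        ext i c
        simp only [RingHom.mapMatrix_apply, Matrix.map_apply, Matrix.of_apply]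
        rw [← Ideal.Quotient.eq.mpr (hx j' i c)]
        simp only [Matrix.one_apply]
        split_ifs <;> simp
      rw [this, Matrix.det_one]
    have h5 : (1 : R) ∈ j'.asIdeal := by
      rw [h3] at h2
      have := j'.asIdeal.add_mem (j'.asIdeal.add_mem h4 h2) h1
      simpa using this
    exact j'.isMaximal.ne_top ((Ideal.eq_top_iff_one _).mpr h5)
  obtain ⟨t, ht⟩ := exists_common_nonroot O P factB
  refine ⟨w t, hwM t, ?_⟩
  by_contra hnu
  obtain ⟨I, hI, hmemI⟩ := exists_max_ideal_of_mem_nonunits hnu
  have h2 := factA t ⟨I, hI⟩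
  have hu : IsUnit (eval t (P ⟨I, hI⟩)) := by
    by_contra h
    exact ht ⟨I, hI⟩ ((IsLocalRing.mem_maximalIdeal _).mpr h)
  have : algebraMap O R (eval t (P ⟨I, hI⟩)) ∈ I := by
    have := I.sub_mem hmemI h2
    simpa using this
  exact hI.ne_top (Ideal.eq_top_of_isUnit_mem _ this (hu.map _))

end Groth.Agent.Lib.Helper21.TFCurv
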