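import Mathlib

/-!
# A finitely generated lattice over a PID is free of the right rank
-/

set_option autoImplicit false
universe u v w

namespace Groth.Agent.Lib.Helper21.TFCurv

open Module

theorem exists_embedding (O : Type u) (A : Type v) (K : Type w) (V : Type*) (M : Type*)
    [CommRing O] [CommRing A] [IsDomain A] [IsPrincipalIdealRing A] [Field K]
    [Algebra O A] [Algebra A K] [IsFractionRing A K]
    [AddCommGroup V] [Module K V] [Module A V] [IsScalarTower A K V] [Module O V]
    [IsScalarTower O A V] [AddCommGroup M] [Module O M] [Module.Finite O M]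
    (f : M →ₗ[O] V) (hinj : Function.Injective f)
    (hspan : Submodule.span K (Set.range f) = ⊤) (n : ℕ) (hn : finrank K V = n) :
    ∃ j : M →ₗ[O] (Fin n → A), Function.Injective j ∧
      Submodule.span A (Set.range j) = ⊤ := by
  classical
  let N : Submodule A V := Submodule.span A (Set.range f)
  -- `N` is finitely generated over `A`
  have hNfg : N.FG := by
    obtain ⟨S, hS⟩ := (Module.Finite.fg_top : (⊤ : Submodule O M).FG)
    have h1 : (Set.range f : Set V) = ((Submodule.span O (f '' (S : Set M)) : Submodule O V) :
        Set V) := by
      rw [← Submodule.map_span, hS, Submodule.map_top, LinearMap.coe_range]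
    have h2 : N = Submodule.span A (f '' (S : Set M)) := by
      show Submodule.span A (Set.range f) = _
      rw [h1, Submodule.span_span_of_tower]
    rw [h2]
    exact Submodule.fg_span (S.finite_toSet.image _)
  have : Module.Finite A N := Module.Finite.iff_fg.mpr hNfg
  have : Module.IsTorsionFree A V := Module.IsTorsionFree.trans_faithfulSMul A K V
  have : Module.Free A N := Module.free_of_finite_type_torsion_free'
  let b := Module.Free.chooseBasis A N
  let v : Module.Free.ChooseBasisIndex A N → V := fun i => (b i : V)
  have hliA : LinearIndependent A v :=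
    b.linearIndependent.map' N.subtype (Submodule.ker_subtype N)
  have hliK : LinearIndependent K v := (LinearIndependent.iff_fractionRing A K).mp hliA
  have hspanA : Submodule.span A (Set.range v) = N := by
    have : Set.range v = N.subtype '' Set.range b := by
      rw [← Set.range_comp]
      rfl
    rw [this, ← Submodule.map_span, b.span_eq, Submodule.map_top, Submodule.range_subtype]
  have hspanK : ⊤ ≤ Submodule.span K (Set.range v) := by
    rw [← hspan]
    refine Submodule.span_le.mpr ?_
    rintro _ ⟨x, rfl⟩
    have h1 : f x ∈ N := Submodule.subset_span ⟨x, rfl⟩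
    rw [← hspanA] at h1
    exact Submodule.span_le_restrictScalars A K (Set.range v) h1
  let bK : Basis (Module.Free.ChooseBasisIndex A N) K V := Basis.mk hliK hspanK
  have hcard : Fintype.card (Module.Free.ChooseBasisIndex A N) = n := by
    rw [← hn, Module.finrank_eq_card_basis bK]
  let e : Module.Free.ChooseBasisIndex A N ≃ Fin n := Fintype.equivFinOfCardEq hcard
  let f' : M →ₗ[O] N :=
    { toFun := fun x => ⟨f x, Submodule.subset_span ⟨x, rfl⟩⟩
      map_add' := fun x y => Subtype.ext (map_add f x y)
      map_smul' := fun a x => Subtype.ext (map_smul f a x) }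
  have hf'inj : Function.Injective f' := fun x y h => hinj (congrArg Subtype.val h)
  have hf'span : Submodule.span A (Set.range f') = ⊤ := by
    have : Set.range f' = ((↑) : N → V) ⁻¹' (Set.range f) := by
      ext ⟨y, hy⟩
      constructor
      · rintro ⟨x, hx⟩
        exact ⟨x, congrArg Subtype.val hx⟩
      · rintro ⟨x, hx⟩
        exact ⟨x, Subtype.ext hx⟩
    rw [this]
    exact Submodule.span_span_coe_preimage
  let E : N ≃ₗ[A] (Fin n → A) := (b.reindex e).equivFun
  refine ⟨(E.restrictScalars O).toLinearMap ∘ₗ f', ?_, ?_⟩
  · exact (E.restrictScalars O).injective.comp hf'inj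
  · have : Set.range ((E.restrictScalars O).toLinearMap ∘ₗ f') = E '' Set.range f' := by
      rw [← Set.range_comp]
      rfl
    rw [this]
    have h3 := Submodule.map_span E.toLinearMap (Set.range f')
    rw [hf'span, Submodule.map_top, LinearMap.range_eq_top.mpr E.surjective] at h3
    exact h3.symm

end Groth.Agent.Lib.Helper21.TFCurv
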