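import Groth.Agent.Lib.Helper21.TFCurvA
import Groth.Agent.Lib.Helper21.TFCurvB
import Groth.Agent.Lib.Helper21.TFCurvC

/-!
# Torsion-free modules over a curve singularity sit between `O^n` and `Õ^n`
-/

set_option autoImplicit false
universe u

namespace Groth.Agent.Lib.Helper21.TFCurv

open IsLocalRing TensorProduct
open scoped Matrix

section tensor

variable (O : Type u) [CommRing O] [IsDomain O] (K : Type u) [Field K] [Algebra O K]
  [IsFractionRing O K] (M : Type u) [AddCommGroup M] [Module O M]

theorem mk_injective [NoZeroSMulDivisors O M] :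
    Function.Injective (TensorProduct.mk O K M 1) := by
  have hloc : IsLocalizedModule (nonZeroDivisors O) (TensorProduct.mk O K M 1) :=
    (isLocalizedModule_iff_isBaseChange (nonZeroDivisors O) K _).mpr
      (TensorProduct.isBaseChange O M K)
  rw [injective_iff_map_eq_zero]
  intro m hm
  obtain ⟨s, hs⟩ := (IsLocalizedModule.eq_zero_iff (nonZeroDivisors O) _).mp hm
  rcases smul_eq_zero.mp hs with h | h
  · exact absurd h (nonZeroDivisors.ne_zero s.2)
  · exact h

omit [IsDomain O] [IsFractionRing O K] in
theorem span_range_mk : Submodule.span K (Set.range (TensorProduct.mk O K M 1)) = ⊤ := by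
  rw [eq_top_iff]
  rintro t -
  induction t using TensorProduct.induction_on with
  | zero => exact Submodule.zero_mem _
  | tmul a m =>
    have : a ⊗ₜ[O] m = a • ((1 : K) ⊗ₜ[O] m) := by
      rw [TensorProduct.smul_tmul', smul_eq_mul, mul_one]
    rw [this]
    exact Submodule.smul_mem _ _ (Submodule.subset_span ⟨m, rfl⟩)
  | add x y hx hy => exact Submodule.add_mem _ hx hy

end tensor

theorem main (O : Type u) [CommRing O] [IsDomain O] [IsNoetherianRing O] [IsLocalRing O]
    (hdim : ringKrullDim O = 1) [IsAlgClosed (IsLocalRing.ResidueField O)] (K : Type u) [Field K]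
    [Algebra O K] [IsFractionRing O K] (hfin : Module.Finite O ↥(integralClosure O K))
    (M : Type u) [AddCommGroup M] [Module O M] [Module.Finite O M] [NoZeroSMulDivisors O M]
    (n : ℕ) (hn : Module.finrank K (TensorProduct O K M) = n) :
    ∃ M' : Submodule O (Fin n → K),
      Submodule.pi Set.univ (fun _ : Fin n => (1 : Submodule O K)) ≤ M' ∧
      M' ≤ Submodule.pi Set.univ
        (fun _ : Fin n => (Subalgebra.toSubmodule (integralClosure O K))) ∧
      Nonempty (M ≃ₗ[O] ↥M') := by
  classical
  have hPID : IsPrincipalIdealRing ↥(integralClosure O K) :=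
    isPrincipalIdealRing_integralClosure O K hdim hfin
  have hFrac : IsFractionRing ↥(integralClosure O K) K := isFractionRing_integralClosure O K
  obtain ⟨j, hjinj, hjspan⟩ := exists_embedding O ↥(integralClosure O K) K (K ⊗[O] M) M
    (TensorProduct.mk O K M 1) (mk_injective O K M) (span_range_mk O K M) n hn
  have hfinmax : Finite (MaximalSpectrum ↥(integralClosure O K)) :=
    finite_maximalSpectrum O ↥(integralClosure O K)
  obtain ⟨w, hwM, hwdet⟩ := exists_isUnit_det O ↥(integralClosure O K)
    (fun 𝔫 _ a ha => algebraMap_mem_of_mem_maximalIdeal O ↥(integralClosure O K) 𝔫 ha)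
    (fun 𝔫 _ x => exists_sub_mem_of_isMaximal O ↥(integralClosure O K) 𝔫 x)
    (LinearMap.range j) (by rw [LinearMap.coe_range]; exact hjspan)
  choose m hm using hwM
  let W : Matrix (Fin n) (Fin n) ↥(integralClosure O K) := Matrix.of w
  let g : (Fin n → ↥(integralClosure O K)) →ₗ[↥(integralClosure O K)]
      (Fin n → ↥(integralClosure O K)) := Matrix.vecMulLinear W⁻¹
  have hgw : ∀ i, g (w i) = Pi.single i 1 := by
    intro i
    have h1 : w i = Pi.single i 1 ᵥ* W := (Matrix.single_one_vecMul i W).symm
    show w i ᵥ* W⁻¹ = _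
    rw [h1, Matrix.vecMul_vecMul, Matrix.mul_nonsing_inv W hwdet, Matrix.vecMul_one]
  have hginj : Function.Injective g := by
    intro x y hxy
    have h1 : ∀ z : Fin n → ↥(integralClosure O K), g z ᵥ* W = z := by
      intro z
      show (z ᵥ* W⁻¹) ᵥ* W = z
      rw [Matrix.vecMul_vecMul, Matrix.nonsing_inv_mul W hwdet, Matrix.vecMul_one]
    rw [← h1 x, ← h1 y, hxy]
  let ρ : (Fin n → ↥(integralClosure O K)) →ₗ[O] (Fin n → K) :=
    (integralClosure O K).val.toLinearMap.compLeft (Fin n)
  have hρinj : Function.Injective ρ := by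
    intro x y hxy
    funext c
    exact Subtype.ext (congrFun hxy c)
  let Φ : M →ₗ[O] (Fin n → K) := ρ ∘ₗ (g.restrictScalars O) ∘ₗ j
  have hΦinj : Function.Injective Φ := hρinj.comp (hginj.comp hjinj)
  have hΦm : ∀ i, Φ (m i) = Pi.single i 1 := by
    intro i
    show ρ (g (j (m i))) = _
    rw [hm i, hgw i]
    funext c
    show ((Pi.single i 1 : Fin n → ↥(integralClosure O K)) c : K) = _
    by_cases hc : c = i
    · subst hc; simp
    · simp [Pi.single_eq_of_ne hc]
  refine ⟨LinearMap.range Φ, ?_, ?_, ⟨LinearEquiv.ofInjective Φ hΦinj⟩⟩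
  · intro x hx
    rw [Submodule.mem_pi] at hx
    have hx' : ∀ i, ∃ a : O, algebraMap O K a = x i := fun i =>
      Submodule.mem_one.mp (hx i (Set.mem_univ i))
    choose a ha using hx'
    refine ⟨∑ i, a i • m i, ?_⟩
    rw [map_sum]
    simp only [map_smul, hΦm]
    funext c
    rw [Finset.sum_apply]
    simp only [Pi.smul_apply, Pi.single_apply, smul_ite, smul_zero, Finset.sum_ite_eq,
      Finset.mem_univ, if_true]
    rw [Algebra.smul_def, mul_one, ha]
  · rintro _ ⟨x, rfl⟩
    rw [Submodule.mem_pi]
    intro i _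
    exact (g (j x) i).2

end Groth.Agent.Lib.Helper21.TFCurv
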