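import Mathlib

/-!
# The dual of a lattice in `K^n` containing `O^n`
-/

set_option autoImplicit false
universe u

namespace Groth.Agent.Lib.Helper21.TFCurv

open Module
open scoped Matrix

variable (O : Type u) [CommRing O] [IsDomain O] (K : Type u) [Field K] [Algebra O K]
  [IsFractionRing O K] {n : ℕ}

/-- The dual lattice `{x | x ⬝ L ⊆ O}`. -/
def dualLattice (L : Submodule O (Fin n → K)) : Submodule O (Fin n → K) where
  carrier := {x | ∀ y ∈ L, x ⬝ᵥ y ∈ (1 : Submodule O K)}
  add_mem' := by
    intro x x' hx hx' y hy
    rw [add_dotProduct]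
    exact add_mem (hx y hy) (hx' y hy)
  zero_mem' := by
    intro y _
    rw [zero_dotProduct]
    exact zero_mem _
  smul_mem' := by
    intro a x hx y hy
    rw [smul_dotProduct]
    exact Submodule.smul_mem _ a (hx y hy)

variable {O K}

omit [IsDomain O] [IsFractionRing O K] in
theorem mem_dualLattice {L : Submodule O (Fin n → K)} {x : Fin n → K} :
    x ∈ dualLattice O K L ↔ ∀ y ∈ L, x ⬝ᵥ y ∈ (1 : Submodule O K) := Iff.rfl

variable (L : Submodule O (Fin n → K))

omit [IsDomain O] in
theorem exists_functional (x : Fin n → K) (hx : x ∈ dualLattice O K L) :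
    ∃ φ : Dual O L, ∀ y : L, algebraMap O K (φ y) = x ⬝ᵥ (y : Fin n → K) := by
  have hinj : Function.Injective (algebraMap O K) := IsFractionRing.injective O K
  choose a ha using fun y : L => Submodule.mem_one.mp (hx y y.2)
  refine ⟨{ toFun := a, map_add' := ?_, map_smul' := ?_ }, ha⟩
  · intro y y'
    apply hinj
    rw [map_add, ha, ha, ha, Submodule.coe_add, dotProduct_add]
  · intro c y
    apply hinj
    rw [RingHom.id_apply, smul_eq_mul, map_mul, ha, ha, Submodule.coe_smul, dotProduct_smul,
      Algebra.smul_def]

variable (he : ∀ i : Fin n, (Pi.single i 1 : Fin n → K) ∈ L)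

include he in
theorem dual_apply_eq (φ : Dual O L) (y : L) :
    algebraMap O K (φ y) =
      (fun i => algebraMap O K (φ ⟨Pi.single i 1, he i⟩)) ⬝ᵥ (y : Fin n → K) := by
  obtain ⟨d, hd⟩ := IsLocalization.exist_integer_multiples_of_finite (nonZeroDivisors O)
    (fun i => (y : Fin n → K) i)
  choose a ha using hd
  have hd0 : algebraMap O K (d : O) ≠ 0 :=
    IsFractionRing.to_map_ne_zero_of_mem_nonZeroDivisors d.2
  have h1 : (d : O) • y = ∑ i, a i • (⟨Pi.single i 1, he i⟩ : L) := by
    apply Subtype.ext
    rw [Submodule.coe_smul, Submodule.coe_sum]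
    funext c
    rw [Finset.sum_apply, Pi.smul_apply]
    simp only [Submodule.coe_smul, Pi.smul_apply, Pi.single_apply, smul_ite, smul_zero,
      Finset.sum_ite_eq, Finset.mem_univ, if_true]
    rw [← ha c, Algebra.smul_def (a c), mul_one]
  have h2 := congrArg (fun z => algebraMap O K (φ z)) h1
  simp only [map_smul, map_sum, smul_eq_mul, map_mul] at h2
  apply mul_left_cancel₀ hd0
  rw [h2, dotProduct, Finset.mul_sum]
  refine Finset.sum_congr rfl fun i _ => ?_
  rw [ha i, Algebra.smul_def]
  ring

include he in
/-- The dual of a lattice containing the standard basis is its dual lattice. -/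
theorem nonempty_dual_equiv : Nonempty (Dual O L ≃ₗ[O] dualLattice O K L) := by
  classical
  have hinj : Function.Injective (algebraMap O K) := IsFractionRing.injective O K
  let ψ : Dual O L →ₗ[O] (Fin n → K) :=
    { toFun := fun φ i => algebraMap O K (φ ⟨Pi.single i 1, he i⟩)
      map_add' := fun φ φ' => by
        funext i
        simp only [LinearMap.add_apply, map_add, Pi.add_apply]
      map_smul' := fun c φ => by
        funext i
        simp only [LinearMap.smul_apply, smul_eq_mul, map_mul, Pi.smul_apply, RingHom.id_apply,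
          Algebra.smul_def] }
  have hψinj : Function.Injective ψ := by
    rw [injective_iff_map_eq_zero]
    intro φ hφ
    refine LinearMap.ext fun y => ?_
    apply hinj
    rw [dual_apply_eq L he φ y, LinearMap.zero_apply, map_zero]
    have : (fun i => algebraMap O K (φ ⟨Pi.single i 1, he i⟩)) = 0 := hφ
    rw [this, zero_dotProduct]
  have hrange : LinearMap.range ψ = dualLattice O K L := by
    apply le_antisymm
    · rintro _ ⟨φ, rfl⟩
      intro y hy
      have := dual_apply_eq L he φ ⟨y, hy⟩
      exact Submodule.mem_one.mpr ⟨_, this⟩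
    · intro x hx
      obtain ⟨φ, hφ⟩ := exists_functional L x hx
      refine ⟨φ, ?_⟩
      funext i
      show algebraMap O K (φ ⟨Pi.single i 1, he i⟩) = x i
      rw [hφ, dotProduct_single_one]
  exact ⟨(LinearEquiv.ofInjective ψ hψinj).trans (LinearEquiv.ofEq _ _ hrange)⟩

omit [IsDomain O] [IsFractionRing O K] in
include he in
theorem dualLattice_le_one :
    dualLattice O K L ≤ Submodule.pi Set.univ (fun _ : Fin n => (1 : Submodule O K)) := by
  classical
  intro x hx
  rw [Submodule.mem_pi]
  intro i _
  have := hx _ (he i)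
  rwa [dotProduct_single_one] at this

omit [IsDomain O] [IsFractionRing O K] in
theorem le_dualLattice (A : Subalgebra O K)
    (hL : L ≤ Submodule.pi Set.univ (fun _ : Fin n => Subalgebra.toSubmodule A)) :
    Submodule.pi Set.univ (fun _ : Fin n =>
      (((1 : Submodule O K).colon (Subalgebra.toSubmodule A : Set K)) • (1 : Submodule O K))) ≤
      dualLattice O K L := by
  intro x hx y hy
  rw [Submodule.mem_pi] at hx
  have hy' := hL hy
  rw [Submodule.mem_pi] at hy'
  refine Submodule.sum_mem _ fun i _ => ?_
  have hyi : y i ∈ A := hy' i (Set.mem_univ i)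
  have hxi := hx i (Set.mem_univ i)
  revert hxi
  generalize x i = c
  intro hc
  refine Submodule.smul_induction_on (p := fun c => c * y i ∈ (1 : Submodule O K)) hc ?_ ?_
  · intro a ha b hb
    obtain ⟨b, rfl⟩ := Submodule.mem_one.mp hb
    have h1 : a • y i ∈ (1 : Submodule O K) := Submodule.mem_colon.mp ha (y i) hyi
    have h2 : (a • algebraMap O K b) * y i = b • (a • y i) := by
      simp only [Algebra.smul_def]
      ring
    rw [h2]
    exact Submodule.smul_mem _ _ h1
  · intro c c' hc hc'
    rw [add_mul]
    exact add_mem hc hc'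

end Groth.Agent.Lib.Helper21.TFCurv
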