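import Groth.Agent.Lib.Helper21.TFCurvE
import Groth.Agent.Lib.Helper21.TFCurvF
import Groth.Agent.Lib.Helper21.EvalLoc
import Groth.Agent.Lib.helper11.TorsionlessReflexive
import Groth.Agent.S0345

/-!
# Torsion-free modules over a Gorenstein curve singularity sit between `C^n` and `O^n`
-/

set_option autoImplicit false
universe u

namespace Groth.Agent.Lib.Helper21.TFCurv

open IsLocalRing TensorProduct Module
open scoped Matrix

section aux

variable (O : Type u) [CommRing O] [IsDomain O] (K : Type u) [Field K] [Algebra O K]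
  [IsFractionRing O K] {n : ℕ}

omit [IsDomain O] [IsFractionRing O K] in
theorem single_mem_pi_one (i : Fin n) :
    (Pi.single i 1 : Fin n → K) ∈
      Submodule.pi Set.univ (fun _ : Fin n => (1 : Submodule O K)) := by
  rw [Submodule.mem_pi]
  intro c _
  by_cases hc : c = i
  · subst hc
    rw [Pi.single_eq_same]
    exact Submodule.one_le.mp le_rfl
  · rw [Pi.single_eq_of_ne hc]
    exact zero_mem _

/-- The conductor of a finite overring is nonzero. -/
theorem exists_ne_zero_mem_colon (A : Subalgebra O K) (hfin : Module.Finite O ↥A) :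
    ∃ c : O, c ≠ 0 ∧ c ∈ (1 : Submodule O K).colon (Subalgebra.toSubmodule A : Set K) := by
  have hfg : (Subalgebra.toSubmodule A).FG := Module.Finite.iff_fg.mp hfin
  obtain ⟨a, ha, h⟩ := FractionalIdeal.isFractional_of_fg (S := nonZeroDivisors O) hfg
  refine ⟨a, nonZeroDivisors.ne_zero ha, ?_⟩
  rw [Submodule.mem_colon]
  intro s hs
  obtain ⟨y, hy⟩ := h s hs
  exact Submodule.mem_one.mpr ⟨y, hy⟩

variable {O K}

omit [IsDomain O] in
/-- A lattice inside `A^n` is torsionless when the conductor of `A` is nonzero. -/
theorem eval_injective_of_lattice (A : Subalgebra O K) (L : Submodule O (Fin n → K))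
    (hL : L ≤ Submodule.pi Set.univ (fun _ : Fin n => Subalgebra.toSubmodule A))
    (c : O) (hc0 : c ≠ 0)
    (hc : c ∈ (1 : Submodule O K).colon (Subalgebra.toSubmodule A : Set K)) :
    Function.Injective (Dual.eval O L) := by
  classical
  rw [injective_iff_map_eq_zero]
  intro y hy
  by_contra hy0
  have : ∃ i, (y : Fin n → K) i ≠ 0 := by
    by_contra hcon
    push Not at hcon
    exact hy0 (Subtype.ext (funext hcon))
  obtain ⟨i, hi⟩ := this
  have hx : (Pi.single i (algebraMap O K c) : Fin n → K) ∈ dualLattice O K L := by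
    intro y' hy'
    rw [single_dotProduct]
    have h1 := hL hy'
    rw [Submodule.mem_pi] at h1
    have h2 := Submodule.mem_colon.mp hc (y' i) (h1 i (Set.mem_univ i))
    rwa [Algebra.smul_def] at h2
  obtain ⟨φ, hφ⟩ := exists_functional L _ hx
  have h3 : φ y = 0 := LinearMap.congr_fun hy φ
  have h4 := hφ y
  rw [h3, map_zero, single_dotProduct] at h4
  have hc' : algebraMap O K c ≠ 0 := fun h =>
    hc0 (IsFractionRing.injective O K (by rw [h, map_zero]))
  exact (mul_ne_zero hc' hi) h4.symm

omit [IsDomain O] [IsFractionRing O K] in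
theorem eval_injective_of_equiv {M M' : Type*} [AddCommGroup M] [Module O M] [AddCommGroup M']
    [Module O M'] (e : M ≃ₗ[O] M') (h : Function.Injective (Dual.eval O M')) :
    Function.Injective (Dual.eval O M) := by
  rw [injective_iff_map_eq_zero]
  intro m hm
  apply e.injective
  rw [map_zero]
  apply h
  rw [map_zero]
  refine LinearMap.ext fun ψ => ?_
  exact LinearMap.congr_fun hm (ψ ∘ₗ e.toLinearMap)

omit [IsDomain O] in
/-- The `K`-span of a lattice containing a nonzero multiple of the standard basis is everything. -/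
theorem span_eq_top_of_single_mem (L : Submodule O (Fin n → K)) (c : O) (hc0 : c ≠ 0)
    (hc : ∀ i, (Pi.single i (algebraMap O K c) : Fin n → K) ∈ L) :
    Submodule.span K (L : Set (Fin n → K)) = ⊤ := by
  classical
  have hc' : algebraMap O K c ≠ 0 := fun h =>
    hc0 (IsFractionRing.injective O K (by rw [h, map_zero]))
  rw [eq_top_iff, ← (Pi.basisFun K (Fin n)).span_eq, Submodule.span_le]
  rintro _ ⟨i, rfl⟩
  have h1 : (Pi.basisFun K (Fin n)) i =
      (algebraMap O K c)⁻¹ • (Pi.single i (algebraMap O K c) : Fin n → K) := by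
    rw [Pi.basisFun_apply, ← Pi.single_smul, smul_eq_mul, inv_mul_cancel₀ hc']
  rw [h1]
  exact Submodule.smul_mem _ _ (Submodule.subset_span (hc i))

end aux

theorem main_gor (O : Type u) [CommRing O] [IsDomain O] [LocCoh.IsGorensteinLocalRing O]
    (hdim : ringKrullDim O = 1) [IsAlgClosed (IsLocalRing.ResidueField O)] (K : Type u) [Field K]
    [Algebra O K] [IsFractionRing O K] (hfin : Module.Finite O ↥(integralClosure O K))
    (M : Type u) [AddCommGroup M] [Module O M] [Module.Finite O M] [NoZeroSMulDivisors O M]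
    (n : ℕ) (hn : Module.finrank K (TensorProduct O K M) = n) :
    ∃ M'' : Submodule O (Fin n → K),
      Submodule.pi Set.univ (fun _ : Fin n =>
        (((1 : Submodule O K).colon (Subalgebra.toSubmodule (integralClosure O K))) •
          (1 : Submodule O K))) ≤ M'' ∧
      M'' ≤ Submodule.pi Set.univ (fun _ : Fin n => (1 : Submodule O K)) ∧
      Nonempty (M ≃ₗ[O] ↥M'') := by
  classical
  obtain ⟨M', h1, h2, ⟨e₁⟩⟩ := main O hdim K hfin M n hn
  have he1 : ∀ i, (Pi.single i 1 : Fin n → K) ∈ M' := fun i => h1 (single_mem_pi_one O K i)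
  obtain ⟨c, hc0, hc⟩ := exists_ne_zero_mem_colon O K (integralClosure O K) hfin
  obtain ⟨e₂⟩ := nonempty_dual_equiv M' he1
  have hM'fin : Module.Finite O M' := Module.Finite.equiv e₁
  have hDfin : Module.Finite O (Dual O M') := EvalLoc.finite_dual M'
  have hLfin : Module.Finite O (dualLattice O K M') := Module.Finite.equiv e₂
  have hcL : ∀ i, (Pi.single i (algebraMap O K c) : Fin n → K) ∈ dualLattice O K M' := by
    intro i
    apply le_dualLattice M' (integralClosure O K) h2
    rw [Submodule.mem_pi]
    intro j _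
    by_cases hj : j = i
    · subst hj
      rw [Pi.single_eq_same]
      have : algebraMap O K c = c • (1 : K) := by rw [Algebra.smul_def, mul_one]
      rw [this]
      exact Submodule.smul_mem_smul hc (Submodule.one_le.mp le_rfl)
    · rw [Pi.single_eq_of_ne hj]
      exact zero_mem _
  have hLspan : Submodule.span K (Set.range (dualLattice O K M').subtype) = ⊤ := by
    rw [Submodule.coe_subtype, Subtype.range_coe]
    exact span_eq_top_of_single_mem _ c hc0 hcL
  obtain ⟨N, h3, h4, ⟨e₃⟩⟩ := main_of_embedding O hdim K hfin (dualLattice O K M') n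
    (dualLattice O K M').subtype (dualLattice O K M').injective_subtype hLspan
  have he3 : ∀ i, (Pi.single i 1 : Fin n → K) ∈ N := fun i => h3 (single_mem_pi_one O K i)
  obtain ⟨e₄⟩ := nonempty_dual_equiv N he3
  refine ⟨dualLattice O K N, le_dualLattice N (integralClosure O K) h4,
    dualLattice_le_one N he3, ?_⟩
  have hGor : LocCoh.IsGorensteinRing O :=
    ((Groth.Agent.S0345.result O).mp
      (LocCoh.IsGorensteinLocalRing.exists_hasInjectiveDimensionLT (A := O))).1
  have hinjM : Function.Injective (Dual.eval O M) :=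
    eval_injective_of_equiv e₁ (eval_injective_of_lattice (integralClosure O K) M' h2 c hc0 hc)
  have hrefl : Module.IsReflexive O M :=
    Groth.Agent.Lib.helper11.TorsionlessReflexive.isReflexive_of_injective O M hdim.le hinjM
  exact ⟨(Module.evalEquiv O M).trans (e₁.dualMap.dualMap.trans
    (e₂.dualMap.symm.trans (e₃.dualMap.symm.trans e₄)))⟩

end Groth.Agent.Lib.Helper21.TFCurv
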