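import Groth.Agent.Lib.helper11.TFLen
import Groth.Agent.Lib.helper11.GorensteinLocal
import Groth.Agent.Lib.Helper21.TFCurvG

/-!
# Length bookkeeping for lattices over a Gorenstein curve singularity
-/

set_option autoImplicit false
universe u

namespace Groth.Agent.Lib.Helper21.TFCurv

open Groth.Agent.Lib.helper11.TFLen CategoryTheory

section transport

variable {O : Type u} [CommRing O] {V W : Type u} [AddCommGroup V] [Module O V]
  [AddCommGroup W] [Module O W]

/-- Relative lengths are invariant under injective linear maps. -/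
theorem qlen_map (g : V →ₗ[O] W) (hg : Function.Injective g) (I J : Submodule O V) :
    qlen (I.map g) (J.map g) = qlen I J := by
  let e : J ≃ₗ[O] J.map g := Submodule.equivMapOfInjective g hg J
  have he : (Submodule.comap J.subtype I).map (e : J →ₗ[O] J.map g) =
      Submodule.comap (J.map g).subtype (I.map g) := by
    ext ⟨y, hy⟩
    constructor
    · rintro ⟨x, hx, hxy⟩
      have : g x = y := congrArg Subtype.val hxy
      exact ⟨x, hx, this⟩
    · rintro ⟨x, hx, hxy⟩
      have hxJ : x ∈ J := by
        obtain ⟨x', hx', h'⟩ := hy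
        have : x' = x := hg (h'.trans hxy.symm)
        rwa [← this]
      exact ⟨⟨x, hxJ⟩, hx, Subtype.ext hxy⟩
  exact (Submodule.Quotient.equiv _ _ e he).length_eq.symm

/-- Relative length of a product of intervals. -/
theorem qlen_pi (n : ℕ) (I J : Submodule O V) :
    qlen (Submodule.pi Set.univ (fun _ : Fin n => I))
      (Submodule.pi Set.univ (fun _ : Fin n => J)) = n * qlen I J := by
  let PJ := Submodule.pi Set.univ (fun _ : Fin n => J)
  let PI := Submodule.pi Set.univ (fun _ : Fin n => I)
  let φ : PJ →ₗ[O] (Fin n → (J ⧸ Submodule.comap J.subtype I)) :=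
    LinearMap.pi (fun i => (Submodule.comap J.subtype I).mkQ ∘ₗ
      (LinearMap.codRestrict J (LinearMap.proj i ∘ₗ PJ.subtype)
        (fun y => (Submodule.mem_pi.mp y.2) i (Set.mem_univ i))))
  have hφsurj : Function.Surjective φ := by
    intro z
    choose y hy using fun i => Submodule.mkQ_surjective _ (z i)
    refine ⟨⟨fun i => (y i : V), by
      rw [Submodule.mem_pi]; intro i _; exact (y i).2⟩, ?_⟩
    funext i
    exact hy i
  have hφker : LinearMap.ker φ = Submodule.comap PJ.subtype PI := by
    ext y
    rw [LinearMap.mem_ker, Submodule.mem_comap, Submodule.mem_pi]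
    constructor
    · intro h i _
      have := congrFun h i
      exact (Submodule.Quotient.mk_eq_zero (Submodule.comap J.subtype I)).mp this
    · intro h
      funext i
      exact (Submodule.Quotient.mk_eq_zero (Submodule.comap J.subtype I)).mpr
        (h i (Set.mem_univ i))
  have e := (Submodule.quotEquivOfEq _ _ hφker.symm).trans (φ.quotKerEquivOfSurjective hφsurj)
  show Module.length O (↥PJ ⧸ Submodule.comap PJ.subtype PI) = _
  rw [e.length_eq, Module.length_pi, ENat.card_eq_coe_fintype_card, Fintype.card_fin]
  rfl

end transport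

section conductor

variable {O : Type u} [CommRing O] [IsDomain O] {K : Type u} [Field K] [Algebra O K]
  [IsFractionRing O K]

omit [IsDomain O] [IsFractionRing O K] in
theorem smul_one_eq_map (𝔠 : Ideal O) :
    𝔠 • (1 : Submodule O K) = Submodule.map (Algebra.linearMap O K) 𝔠 := by
  apply le_antisymm
  · rw [Submodule.smul_le]
    intro a ha x hx
    obtain ⟨b, rfl⟩ := Submodule.mem_one.mp hx
    refine ⟨a * b, 𝔠.mul_mem_right b ha, ?_⟩
    rw [Algebra.linearMap_apply, map_mul, Algebra.smul_def]
  · rintro _ ⟨a, ha, rfl⟩
    have : Algebra.linearMap O K a = a • (1 : K) := by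
      rw [Algebra.linearMap_apply, Algebra.smul_def, mul_one]
    rw [this]
    exact Submodule.smul_mem_smul ha (Submodule.one_le.mp le_rfl)

omit [IsDomain O] in
theorem qlen_smul_one (𝔠 : Ideal O) :
    qlen (𝔠 • (1 : Submodule O K)) (1 : Submodule O K) = Module.length O (O ⧸ 𝔠) := by
  have hinj : Function.Injective (Algebra.linearMap O K) := IsFractionRing.injective O K
  have h1 : (1 : Submodule O K) = Submodule.map (Algebra.linearMap O K) ⊤ := by
    rw [Submodule.map_top, Submodule.one_eq_range]
  rw [smul_one_eq_map, h1, qlen_map _ hinj]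
  have e : (↥(⊤ : Submodule O O) ⧸ Submodule.comap (⊤ : Submodule O O).subtype 𝔠) ≃ₗ[O]
      (O ⧸ 𝔠) :=
    Submodule.Quotient.equiv _ _ Submodule.topEquiv (by
      ext x
      constructor
      · rintro ⟨y, hy, rfl⟩
        exact hy
      · intro hx
        exact ⟨⟨x, Submodule.mem_top⟩, hx, rfl⟩)
  exact e.length_eq

omit [IsDomain O] [IsFractionRing O K] in
/-- `(O : A) = 𝔠 • 1` inside `K`. -/
theorem one_div_eq (A : Subalgebra O K) :
    (1 : Submodule O K) / Subalgebra.toSubmodule A =
      ((1 : Submodule O K).colon (Subalgebra.toSubmodule A : Set K)) • (1 : Submodule O K) := by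
  apply le_antisymm
  · intro x hx
    rw [Submodule.mem_div_iff_forall_mul_mem] at hx
    have h1 := hx 1 A.one_mem
    rw [mul_one] at h1
    obtain ⟨a, rfl⟩ := Submodule.mem_one.mp h1
    have ha : a ∈ (1 : Submodule O K).colon (Subalgebra.toSubmodule A : Set K) := by
      rw [Submodule.mem_colon]
      intro y hy
      rw [Algebra.smul_def]
      exact hx y hy
    have : algebraMap O K a = a • (1 : K) := by rw [Algebra.smul_def, mul_one]
    rw [this]
    exact Submodule.smul_mem_smul ha (Submodule.one_le.mp le_rfl)
  · rw [Submodule.smul_le]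
    intro a ha x hx
    obtain ⟨b, rfl⟩ := Submodule.mem_one.mp hx
    rw [Submodule.mem_div_iff_forall_mul_mem]
    intro y hy
    have h1 := Submodule.mem_colon.mp ha y hy
    have : a • algebraMap O K b * y = b • (a • y) := by
      simp only [Algebra.smul_def]
      ring
    rw [this]
    exact Submodule.smul_mem _ _ h1

omit [IsDomain O] [IsFractionRing O K] in
theorem one_div_one : (1 : Submodule O K) / (1 : Submodule O K) = 1 := by
  apply le_antisymm
  · intro x hx
    rw [Submodule.mem_div_iff_forall_mul_mem] at hx
    have := hx 1 (Submodule.one_le.mp le_rfl)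
    rwa [mul_one] at this
  · intro x hx
    rw [Submodule.mem_div_iff_forall_mul_mem]
    intro y hy
    obtain ⟨a, rfl⟩ := Submodule.mem_one.mp hx
    obtain ⟨b, rfl⟩ := Submodule.mem_one.mp hy
    rw [← map_mul]
    exact Submodule.mem_one.mpr ⟨_, rfl⟩

end conductor

section gorenstein

variable {O : Type u} [CommRing O] [IsDomain O] [LocCoh.IsGorensteinLocalRing O]
  {K : Type u} [Field K] [Algebra O K] [IsFractionRing O K]

omit [IsDomain O] in
/-- `O ⊆ K` has injective dimension at most one when `O` is Gorenstein of dimension one. -/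
theorem hasInjectiveDimensionLT_one (hdim : ringKrullDim O = 1) :
    HasInjectiveDimensionLT (ModuleCat.of O ↥(1 : Submodule O K)) 2 := by
  have h := (Groth.Agent.Lib.helper11.GorensteinLocal.gorenstein_main (A := O)
    (LocCoh.IsGorensteinLocalRing.exists_hasInjectiveDimensionLT (A := O)) 1
    (by rw [hdim]; rfl)).1
  have hinj : Function.Injective (Algebra.linearMap O K) := IsFractionRing.injective O K
  let e : O ≃ₗ[O] ↥(1 : Submodule O K) :=
    (LinearEquiv.ofInjective (Algebra.linearMap O K) hinj).trans
      (LinearEquiv.ofEq _ _ Submodule.one_eq_range.symm)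
  exact hasInjectiveDimensionLT_of_iso e.toModuleIso 2

/-- Gorenstein symmetry: `ℓ(A/O) = ℓ(O/𝔠)`. -/
theorem qlen_one_integralClosure (hdim : ringKrullDim O = 1)
    (hfin : Module.Finite O ↥(integralClosure O K)) :
    qlen (1 : Submodule O K) (Subalgebra.toSubmodule (integralClosure O K)) =
      Module.length O (O ⧸ (1 : Submodule O K).colon
        (Subalgebra.toSubmodule (integralClosure O K) : Set K)) := by
  have hfg : (Subalgebra.toSubmodule (integralClosure O K)).FG := Module.Finite.iff_fg.mp hfin
  have h1 : (1 : Submodule O K) ≠ ⊥ := by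
    intro h
    have : (1 : K) ∈ (⊥ : Submodule O K) := h ▸ Submodule.one_le.mp le_rfl
    exact one_ne_zero ((Submodule.mem_bot O).mp this)
  have hle : (1 : Submodule O K) ≤ Subalgebra.toSubmodule (integralClosure O K) :=
    Submodule.one_le.mpr (integralClosure O K).one_mem
  have hfg1 : (1 : Submodule O K).FG := by
    rw [Submodule.one_eq_span]
    exact Submodule.fg_span_singleton 1
  rw [qlen_div hdim (1 : Submodule O K) h1 hfg1 (hasInjectiveDimensionLT_one hdim) _ _ hle h1 hfg,
    one_div_one, one_div_eq, qlen_smul_one]

/-- The conductor has finite colength. -/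
theorem length_quotient_colon_ne_top (hdim : ringKrullDim O = 1)
    (hfin : Module.Finite O ↥(integralClosure O K)) :
    Module.length O (O ⧸ (1 : Submodule O K).colon
        (Subalgebra.toSubmodule (integralClosure O K) : Set K)) ≠ ⊤ := by
  obtain ⟨c, hc0, hc⟩ := exists_ne_zero_mem_colon O K (integralClosure O K) hfin
  have hK1 : Ring.KrullDimLE 1 O := by
    rw [Ring.krullDimLE_iff, hdim]
    rfl
  have hfl := isFiniteLength_quotient_span_singleton O (mem_nonZeroDivisors_of_ne_zero hc0)
  have hle : Ideal.span {c} ≤ (1 : Submodule O K).colon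
      (Subalgebra.toSubmodule (integralClosure O K) : Set K) :=
    (Ideal.span_singleton_le_iff_mem _).mpr hc
  have h2 : Module.length O (O ⧸ (1 : Submodule O K).colon
        (Subalgebra.toSubmodule (integralClosure O K) : Set K)) ≤
      Module.length O (O ⧸ Ideal.span {c}) :=
    Module.length_le_of_surjective (Submodule.factor hle) (Submodule.factor_surjective hle)
  exact ne_top_of_le_ne_top (Module.length_ne_top_iff.mpr hfl) h2

end gorenstein

end Groth.Agent.Lib.Helper21.TFCurv
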