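import Mathlib

/-!
# Linear maps on lattices of `K^n` extend to `K^n`
-/

set_option autoImplicit false
universe u

namespace Groth.Agent.Lib.Helper21.TFCurv

open Module

variable {O : Type u} [CommRing O] [IsDomain O] {K : Type u} [Field K] [Algebra O K]
  [IsFractionRing O K] {n : ℕ}

/-- `O`-linear maps from a lattice containing the standard basis into a `K`-vector space are
determined by their values on the basis. -/
theorem lin_apply_eq (L : Submodule O (Fin n → K))
    (he : ∀ i : Fin n, (Pi.single i 1 : Fin n → K) ∈ L) {W : Type*} [AddCommGroup W]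
    [Module K W] [Module O W] [IsScalarTower O K W] (φ : L →ₗ[O] W) (y : L) :
    φ y = ∑ i, (y : Fin n → K) i • φ ⟨Pi.single i 1, he i⟩ := by
  classical
  obtain ⟨d, hd⟩ := IsLocalization.exist_integer_multiples_of_finite (nonZeroDivisors O)
    (fun i => (y : Fin n → K) i)
  choose a ha using hd
  have hd0 : algebraMap O K (d : O) ≠ 0 :=
    IsFractionRing.to_map_ne_zero_of_mem_nonZeroDivisors d.2
  have h1 : (d : O) • y = ∑ i, a i • (⟨Pi.single i 1, he i⟩ : L) := by
    apply Subtype.ext
    rw [Submodule.coe_smul, Submodule.coe_sum]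
    funext c
    rw [Finset.sum_apply, Pi.smul_apply]
    simp only [Submodule.coe_smul, Pi.smul_apply, Pi.single_apply, smul_ite, smul_zero,
      Finset.sum_ite_eq, Finset.mem_univ, if_true]
    rw [← ha c, Algebra.smul_def (a c), mul_one]
  have h2 := congrArg φ h1
  rw [map_smul, map_sum] at h2
  simp only [map_smul] at h2
  apply smul_right_injective W hd0
  show algebraMap O K (d : O) • φ y = algebraMap O K (d : O) • _
  rw [algebraMap_smul, h2, Finset.smul_sum]
  refine Finset.sum_congr rfl fun i _ => ?_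
  rw [smul_smul, ← algebraMap_smul K (a i), ha i, Algebra.smul_def]

/-- An isomorphism of lattices, the first containing the standard basis and the second of full
rank, extends to a `K`-linear automorphism. -/
theorem exists_linearEquiv_extension (L₁ L₂ : Submodule O (Fin n → K))
    (he : ∀ i : Fin n, (Pi.single i 1 : Fin n → K) ∈ L₁)
    (hspan₂ : Submodule.span K (L₂ : Set (Fin n → K)) = ⊤) (σ : L₁ ≃ₗ[O] L₂) :
    ∃ h : (Fin n → K) ≃ₗ[K] (Fin n → K), ∀ y : L₁, h (y : Fin n → K) = (σ y : Fin n → K) := by
  classical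
  let h₀ : (Fin n → K) →ₗ[K] (Fin n → K) :=
    (Pi.basisFun K (Fin n)).constr K (fun i => (σ ⟨Pi.single i 1, he i⟩ : Fin n → K))
  have hh₀ : ∀ y : L₁, h₀ (y : Fin n → K) = (σ y : Fin n → K) := by
    intro y
    have h1 := lin_apply_eq L₁ he (L₂.subtype ∘ₗ σ.toLinearMap) y
    simp only [LinearMap.coe_comp, Function.comp_apply, Submodule.coe_subtype,
      LinearEquiv.coe_coe] at h1
    rw [h1, Basis.constr_apply_fintype]
    rfl
  have hsurj : Function.Surjective h₀ := by
    rw [← LinearMap.range_eq_top, eq_top_iff, ← hspan₂, Submodule.span_le]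
    intro z hz
    obtain ⟨y, hy⟩ := σ.surjective ⟨z, hz⟩
    exact ⟨y, by rw [hh₀ y, hy]⟩
  have hinj : Function.Injective h₀ := LinearMap.injective_iff_surjective.mpr hsurj
  exact ⟨LinearEquiv.ofBijective h₀ ⟨hinj, hsurj⟩, hh₀⟩

end Groth.Agent.Lib.Helper21.TFCurv
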