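import Groth.Agent.Lib.helper11.TFLen

/-!
# Intermediate lattices of prescribed colength

`O` local, `A` a one-dimensional Noetherian domain over `O` all of whose residue fields equal that
of `O`.  Between two `A`-lattices with torsion quotient there are `A`-lattices of every
intermediate `O`-colength.
-/

set_option autoImplicit false
universe u

namespace Groth.Agent.Lib.Helper21.TFCurv

open Groth.Agent.Lib.helper11.TFLen IsLocalRing

variable {O : Type u} [CommRing O] [IsLocalRing O] {A : Type u} [CommRing A] [IsDomain A]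
  [IsNoetherianRing A] [Ring.DimensionLEOne A] [Algebra O A]
  (hm : ∀ (𝔫 : Ideal A) [𝔫.IsMaximal] (a : O), a ∈ maximalIdeal O → algebraMap O A a ∈ 𝔫)
  (hres : ∀ (𝔫 : Ideal A) [𝔫.IsMaximal] (x : A), ∃ a : O, x - algebraMap O A a ∈ 𝔫)
  {V : Type u} [AddCommGroup V] [Module A V] [Module O V] [IsScalarTower O A V]

omit [IsLocalRing O] [IsDomain A] [IsNoetherianRing A] [Ring.DimensionLEOne A] in
theorem qlen_self (I : Submodule O V) : qlen I I = 0 := by
  show Module.length O (↥I ⧸ Submodule.comap I.subtype I) = 0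
  rw [Module.length_eq_zero_iff]
  have : Submodule.comap I.subtype I = ⊤ := by
    rw [eq_top_iff]
    intro x _
    exact x.2
  rw [this]
  infer_instance

include hm hres in
/-- One step up, of colength one. -/
theorem exists_step (Λ Λ₁ : Submodule A V) (hlt : Λ < Λ₁)
    (htors : ∀ v ∈ Λ₁, ∃ x : A, x ≠ 0 ∧ x • v ∈ Λ) :
    ∃ Λ' : Submodule A V, Λ < Λ' ∧ Λ' ≤ Λ₁ ∧
      qlen (Λ.restrictScalars O) (Λ'.restrictScalars O) = 1 := by
  classical
  -- the family of colon ideals
  let F : Set (Ideal A) := {I | ∃ v ∈ Λ₁, v ∉ Λ ∧ I = Λ.colon {v}}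
  have hFne : F.Nonempty := by
    obtain ⟨v, hv1, hv⟩ := SetLike.exists_of_lt hlt
    exact ⟨_, v, hv1, hv, rfl⟩
  obtain ⟨I₀, ⟨v₀, hv₀1, hv₀, rfl⟩, hmax⟩ :=
    (set_has_maximal_iff_noetherian (R := A) (M := A)).mpr inferInstance F hFne
  have hmem : ∀ r : A, r ∈ Λ.colon {v₀} ↔ r • v₀ ∈ Λ := fun r => Submodule.mem_colon_singleton
  have hprime : (Λ.colon ({v₀} : Set V)).IsPrime := by
    refine ⟨?_, ?_⟩
    · intro h
      have : (1 : A) ∈ Λ.colon ({v₀} : Set V) := h ▸ Submodule.mem_top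
      rw [hmem, one_smul] at this
      exact hv₀ this
    · intro x y hxy
      by_contra hcon
      push Not at hcon
      obtain ⟨hx, hy⟩ := hcon
      have hxv : x • v₀ ∉ Λ := fun h => hx ((hmem x).mpr h)
      have hle : Λ.colon ({v₀} : Set V) ≤ Λ.colon ({x • v₀} : Set V) := by
        intro r hr
        rw [hmem] at hr
        rw [Submodule.mem_colon_singleton, smul_comm]
        exact Λ.smul_mem x hr
      have hin : Λ.colon ({x • v₀} : Set V) ∈ F := ⟨x • v₀, Λ₁.smul_mem x hv₀1, hxv, rfl⟩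
      have heq : Λ.colon ({v₀} : Set V) = Λ.colon ({x • v₀} : Set V) := by
        by_contra hne'
        exact hmax _ hin (lt_of_le_of_ne hle hne')
      apply hy
      rw [heq, Submodule.mem_colon_singleton, smul_smul, mul_comm]
      exact (hmem _).mp hxy
  have hne : Λ.colon ({v₀} : Set V) ≠ ⊥ := by
    obtain ⟨x, hx0, hx⟩ := htors v₀ hv₀1
    intro h
    have : x ∈ Λ.colon ({v₀} : Set V) := (hmem x).mpr hx
    rw [h] at this
    exact hx0 ((Submodule.mem_bot A).mp this)
  have hI₀max : (Λ.colon ({v₀} : Set V)).IsMaximal :=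
    Ring.DimensionLEOne.maximalOfPrime hne hprime
  refine ⟨Λ ⊔ Submodule.span A {v₀}, ?_, ?_, ?_⟩
  · refine lt_of_le_of_ne le_sup_left ?_
    intro h
    apply hv₀
    rw [h]
    exact Submodule.mem_sup_right (Submodule.mem_span_singleton_self v₀)
  · exact sup_le hlt.le ((Submodule.span_singleton_le_iff_mem _ _).mpr hv₀1)
  · set Λ' := Λ ⊔ Submodule.span A {v₀} with hΛ'
    have hv₀' : v₀ ∈ Λ'.restrictScalars O :=
      Submodule.mem_sup_right (Submodule.mem_span_singleton_self v₀)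
    let f : O →ₗ[O] (↥(Λ'.restrictScalars O) ⧸
        Submodule.comap (Λ'.restrictScalars O).subtype (Λ.restrictScalars O)) :=
      (Submodule.mkQ _) ∘ₗ (LinearMap.toSpanSingleton O _ ⟨v₀, hv₀'⟩)
    have hfa : ∀ a : O, f a = Submodule.Quotient.mk (a • ⟨v₀, hv₀'⟩) := fun a => rfl
    have hsurj : Function.Surjective f := by
      intro z
      obtain ⟨⟨z, hz⟩, rfl⟩ := Submodule.mkQ_surjective _ z
      obtain ⟨l, hl, w, hw, rfl⟩ := Submodule.mem_sup.mp hz
      obtain ⟨x, rfl⟩ := Submodule.mem_span_singleton.mp hw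
      obtain ⟨a, ha⟩ := hres (Λ.colon ({v₀} : Set V)) x
      refine ⟨a, ?_⟩
      rw [hfa, Submodule.mkQ_apply, Submodule.Quotient.eq]
      show (a • v₀ - (l + x • v₀)) ∈ Λ
      have h1 : a • v₀ - (l + x • v₀) = -(l + (x - algebraMap O A a) • v₀) := by
        rw [sub_smul, algebraMap_smul]
        abel
      rw [h1]
      exact Λ.neg_mem (Λ.add_mem hl ((hmem _).mp ha))
    have hker : LinearMap.ker f = maximalIdeal O := by
      apply le_antisymm
      · apply IsLocalRing.le_maximalIdeal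
        intro h
        have : (1 : O) ∈ LinearMap.ker f := h ▸ Submodule.mem_top
        rw [LinearMap.mem_ker, hfa, Submodule.Quotient.mk_eq_zero] at this
        have h2 : (1 : O) • v₀ ∈ Λ := this
        rw [one_smul] at h2
        exact hv₀ h2
      · intro a ha
        rw [LinearMap.mem_ker, hfa, Submodule.Quotient.mk_eq_zero]
        show a • v₀ ∈ Λ
        rw [← algebraMap_smul A a v₀]
        exact (hmem _).mp (hm _ a ha)
    have e := f.quotKerEquivOfSurjective hsurj
    show Module.length O (↥(Λ'.restrictScalars O) ⧸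
        Submodule.comap (Λ'.restrictScalars O).subtype (Λ.restrictScalars O)) = 1
    rw [← e.length_eq, hker]
    have : IsSimpleModule O (O ⧸ maximalIdeal O) :=
      isSimpleModule_iff_quot_maximal.mpr ⟨maximalIdeal O, inferInstance, ⟨LinearEquiv.refl _ _⟩⟩
    exact Module.length_eq_one O _

include hm hres in
/-- Intermediate `A`-lattices of every colength. -/
theorem exists_intermediate (Λ₀ Λ₁ : Submodule A V) (h01 : Λ₀ ≤ Λ₁)
    (htors : ∀ v ∈ Λ₁, ∃ x : A, x ≠ 0 ∧ x • v ∈ Λ₀) (d : ℕ)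
    (hd : (d : ℕ∞) ≤ qlen (Λ₀.restrictScalars O) (Λ₁.restrictScalars O)) :
    ∃ Λ' : Submodule A V, Λ₀ ≤ Λ' ∧ Λ' ≤ Λ₁ ∧
      qlen (Λ₀.restrictScalars O) (Λ'.restrictScalars O) = d := by
  induction d with
  | zero => exact ⟨Λ₀, le_rfl, h01, by rw [qlen_self]; rfl⟩
  | succ d ih =>
    obtain ⟨Λ', h0, h1, hq⟩ := ih (le_trans (by exact_mod_cast Nat.le_succ d) hd)
    have hne : Λ' ≠ Λ₁ := by
      intro h
      rw [h] at hq
      rw [hq] at hd
      exact absurd hd (by exact_mod_cast Nat.not_succ_le_self d)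
    obtain ⟨Λ'', hlt, hle, hq'⟩ := exists_step hm hres Λ' Λ₁ (lt_of_le_of_ne h1 hne)
      (fun v hv => by
        obtain ⟨x, hx0, hx⟩ := htors v hv
        exact ⟨x, hx0, h0 hx⟩)
    refine ⟨Λ'', h0.trans hlt.le, hle, ?_⟩
    have hadd := qlen_add (O := O) (I := Λ₀.restrictScalars O) (J := Λ'.restrictScalars O)
      (L := Λ''.restrictScalars O) h0 hlt.le
    rw [hadd, hq, hq']
    rfl

end Groth.Agent.Lib.Helper21.TFCurv
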