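import Mathlib

/-!
# Lattices over a PID can be moved to the standard lattice
-/

set_option autoImplicit false
universe u v

namespace Groth.Agent.Lib.Helper21.TFCurv

open Module

variable (A : Type u) (K : Type v) [CommRing A] [IsDomain A] [IsPrincipalIdealRing A] [Field K]
  [Algebra A K] [IsFractionRing A K] (n : ℕ)

/-- The standard `A`-lattice in `K^n`. -/
def stdLattice : Submodule A (Fin n → K) :=
  Submodule.span A (Set.range fun i : Fin n => (Pi.single i 1 : Fin n → K))

omit [IsDomain A] [IsPrincipalIdealRing A] [IsFractionRing A K] in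
theorem mem_stdLattice {x : Fin n → K} :
    x ∈ stdLattice A K n ↔ ∀ i, ∃ a : A, algebraMap A K a = x i := by
  classical
  constructor
  · intro hx
    induction hx using Submodule.span_induction with
    | mem x hx =>
      obtain ⟨j, rfl⟩ := hx
      intro i
      by_cases hij : i = j
      · subst hij
        exact ⟨1, by simp⟩
      · exact ⟨0, by simp [Pi.single_eq_of_ne hij]⟩
    | zero => exact fun i => ⟨0, by simp⟩
    | add x y _ _ hx hy =>
      intro i
      obtain ⟨a, ha⟩ := hx i
      obtain ⟨b, hb⟩ := hy i
      exact ⟨a + b, by rw [map_add, ha, hb, Pi.add_apply]⟩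
    | smul r x _ hx =>
      intro i
      obtain ⟨a, ha⟩ := hx i
      exact ⟨r * a, by rw [map_mul, ha, Pi.smul_apply, Algebra.smul_def]⟩
  · intro hx
    choose a ha using hx
    have : x = ∑ i, a i • (Pi.single i 1 : Fin n → K) := by
      funext c
      rw [Finset.sum_apply]
      simp only [Pi.smul_apply, Pi.single_apply, smul_ite, smul_zero, Finset.sum_ite_eq,
        Finset.mem_univ, if_true]
      rw [Algebra.smul_def, mul_one, ha]
    rw [this]
    exact Submodule.sum_mem _ fun i _ =>
      Submodule.smul_mem _ _ (Submodule.subset_span ⟨i, rfl⟩)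

theorem exists_equiv_map_eq (Λ' : Submodule A (Fin n → K)) (hfg : Λ'.FG)
    (hspan : Submodule.span K (Λ' : Set (Fin n → K)) = ⊤) :
    ∃ h' : (Fin n → K) ≃ₗ[K] (Fin n → K),
      Λ'.map (h'.restrictScalars A).toLinearMap = stdLattice A K n := by
  classical
  have : Module.Finite A Λ' := Module.Finite.iff_fg.mpr hfg
  have : Module.IsTorsionFree A (Fin n → K) :=
    Module.IsTorsionFree.trans_faithfulSMul A K (Fin n → K)
  have : Module.Free A Λ' := Module.free_of_finite_type_torsion_free'
  let b := Module.Free.chooseBasis A Λ'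
  let v : Module.Free.ChooseBasisIndex A Λ' → (Fin n → K) := fun i => (b i : Fin n → K)
  have hliA : LinearIndependent A v :=
    b.linearIndependent.map' Λ'.subtype (Submodule.ker_subtype Λ')
  have hliK : LinearIndependent K v := (LinearIndependent.iff_fractionRing A K).mp hliA
  have hspanA : Submodule.span A (Set.range v) = Λ' := by
    have : Set.range v = Λ'.subtype '' Set.range b := by
      rw [← Set.range_comp]
      rfl
    rw [this, ← Submodule.map_span, b.span_eq, Submodule.map_top, Submodule.range_subtype]
  have hspanK : ⊤ ≤ Submodule.span K (Set.range v) := by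
    rw [← hspan]
    refine Submodule.span_le.mpr ?_
    intro x hx
    have h1 : x ∈ Λ' := hx
    rw [← hspanA] at h1
    exact Submodule.span_le_restrictScalars A K (Set.range v) h1
  let bK : Basis (Module.Free.ChooseBasisIndex A Λ') K (Fin n → K) := Basis.mk hliK hspanK
  have hcard : Fintype.card (Module.Free.ChooseBasisIndex A Λ') = n := by
    rw [← Module.finrank_eq_card_basis bK, Module.finrank_fin_fun]
  let e : Module.Free.ChooseBasisIndex A Λ' ≃ Fin n := Fintype.equivFinOfCardEq hcard
  let h' : (Fin n → K) ≃ₗ[K] (Fin n → K) := bK.equiv (Pi.basisFun K (Fin n)) e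
  have hh' : ∀ i, h' (v i) = Pi.single (e i) 1 := by
    intro i
    have h1 : v i = bK i := (Basis.mk_apply hliK hspanK i).symm
    rw [h1, Basis.equiv_apply, Pi.basisFun_apply]
  refine ⟨h', ?_⟩
  rw [← hspanA, Submodule.map_span, stdLattice]
  congr 1
  ext x
  constructor
  · rintro ⟨_, ⟨i, rfl⟩, rfl⟩
    exact ⟨e i, (hh' i).symm⟩
  · rintro ⟨j, rfl⟩
    refine ⟨v (e.symm j), ⟨_, rfl⟩, ?_⟩
    show h' (v (e.symm j)) = _
    rw [hh', Equiv.apply_symm_apply]

end Groth.Agent.Lib.Helper21.TFCurv
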