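import Groth.Agent.Lib.Helper21.TFCurvH
import Groth.Agent.Lib.Helper21.TFCurvI
import Groth.Agent.Lib.Helper21.TFCurvJ
import Groth.Agent.Lib.Helper21.TFCurvK

/-!
# Lattices of exact colength between `C^n` and `Õ^n` over a Gorenstein curve singularity
-/

set_option autoImplicit false
universe u

namespace Groth.Agent.Lib.Helper21.TFCurv

open Groth.Agent.Lib.helper11.TFLen IsLocalRing Module

section aux

variable {O : Type u} [CommRing O] {K : Type u} [Field K] [Algebra O K] {n : ℕ}

/-- The conductor is stable under multiplication by the overring. -/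
theorem conductor_mul_mem (A : Subalgebra O K) {c a : K}
    (hc : c ∈ ((1 : Submodule O K).colon (Subalgebra.toSubmodule A : Set K)) •
      (1 : Submodule O K)) (ha : a ∈ A) :
    c * a ∈ ((1 : Submodule O K).colon (Subalgebra.toSubmodule A : Set K)) •
      (1 : Submodule O K) := by
  rw [← one_div_eq] at hc ⊢
  rw [Submodule.mem_div_iff_forall_mul_mem] at hc ⊢
  intro y hy
  rw [mul_assoc]
  exact hc _ (A.mul_mem ha hy)

theorem stdLattice_restrictScalars (A : Subalgebra O K) :
    (stdLattice ↥A K n).restrictScalars O =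
      Submodule.pi Set.univ (fun _ : Fin n => Subalgebra.toSubmodule A) := by
  ext x
  rw [Submodule.restrictScalars_mem, mem_stdLattice, Submodule.mem_pi]
  constructor
  · intro h i _
    obtain ⟨a, ha⟩ := h i
    rw [← ha]
    exact a.2
  · intro h i
    exact ⟨⟨x i, h i (Set.mem_univ i)⟩, rfl⟩

end aux

theorem main_len (O : Type u) [CommRing O] [IsDomain O] [LocCoh.IsGorensteinLocalRing O]
    (hdim : ringKrullDim O = 1) [IsAlgClosed (IsLocalRing.ResidueField O)] (K : Type u) [Field K]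
    [Algebra O K] [IsFractionRing O K] (hfin : Module.Finite O ↥(integralClosure O K))
    (M : Type u) [AddCommGroup M] [Module O M] [Module.Finite O M] [NoZeroSMulDivisors O M]
    (n : ℕ) (hn : Module.finrank K (TensorProduct O K M) = n) :
    ∃ M' : Submodule O (Fin n → K),
      Submodule.pi Set.univ (fun _ : Fin n =>
        (((1 : Submodule O K).colon (Subalgebra.toSubmodule (integralClosure O K))) •
          (1 : Submodule O K))) ≤ M' ∧
      M' ≤ Submodule.pi Set.univ
        (fun _ : Fin n => (Subalgebra.toSubmodule (integralClosure O K))) ∧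
      Nonempty (M ≃ₗ[O] ↥M') ∧
      Module.length O (↥M' ⧸ Submodule.comap M'.subtype (Submodule.pi Set.univ (fun _ : Fin n =>
        (((1 : Submodule O K).colon (Subalgebra.toSubmodule (integralClosure O K))) •
          (1 : Submodule O K))))) =
        (n : ℕ∞) * Module.length O (O ⧸ ((1 : Submodule O K).colon
          (Subalgebra.toSubmodule (integralClosure O K)))) := by
  classical
  -- notation
  set A : Subalgebra O K := integralClosure O K with hA
  set 𝔠 : Ideal O := (1 : Submodule O K).colon (Subalgebra.toSubmodule A : Set K) with h𝔠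
  set C : Submodule O K := 𝔠 • (1 : Submodule O K) with hC
  set Cn : Submodule O (Fin n → K) := Submodule.pi Set.univ (fun _ : Fin n => C) with hCn
  set On : Submodule O (Fin n → K) :=
    Submodule.pi Set.univ (fun _ : Fin n => (1 : Submodule O K)) with hOn
  set An : Submodule O (Fin n → K) :=
    Submodule.pi Set.univ (fun _ : Fin n => Subalgebra.toSubmodule A) with hAn
  set δ : ℕ∞ := Module.length O (O ⧸ 𝔠) with hδdef
  -- the two normal forms
  obtain ⟨M₁, h1, h2, ⟨e₁⟩⟩ := main O hdim K hfin M n hn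
  obtain ⟨M₂, h3, h4, ⟨e₂⟩⟩ := main_gor O hdim K hfin M n hn
  -- lengths
  have hδ : δ ≠ ⊤ := length_quotient_colon_ne_top hdim hfin
  have hnδ : (n : ℕ∞) * δ ≠ ⊤ := WithTop.mul_ne_top (ENat.natCast_ne_top n) hδ
  have hCO : qlen Cn On = n * δ := by rw [hCn, hOn, qlen_pi, hC, qlen_smul_one]
  have hOA : qlen On An = n * δ := by
    rw [hOn, hAn, qlen_pi, hA, qlen_one_integralClosure hdim hfin]
  have hC1 : C ≤ 1 := Submodule.smul_le_right
  have h1A : (1 : Submodule O K) ≤ Subalgebra.toSubmodule A := Submodule.one_le.mpr A.one_mem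
  have hCnOn : Cn ≤ On := Submodule.pi_mono fun _ _ => hC1
  have hOnAn : On ≤ An := Submodule.pi_mono fun _ _ => h1A
  -- the extension `h` of `M₁ ≃ M₂`
  have he1 : ∀ i, (Pi.single i 1 : Fin n → K) ∈ M₁ := fun i => h1 (single_mem_pi_one O K i)
  obtain ⟨c, hc0, hc⟩ := exists_ne_zero_mem_colon O K A hfin
  have hcCn : ∀ i, (Pi.single i (algebraMap O K c) : Fin n → K) ∈ Cn := by
    intro i
    rw [hCn, Submodule.mem_pi]
    intro j _
    by_cases hj : j = i
    · subst hj
      rw [Pi.single_eq_same]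
      have : algebraMap O K c = c • (1 : K) := by rw [Algebra.smul_def, mul_one]
      rw [this]
      exact Submodule.smul_mem_smul hc (Submodule.one_le.mp le_rfl)
    · rw [Pi.single_eq_of_ne hj]
      exact zero_mem _
  have hspan₂ : Submodule.span K (M₂ : Set (Fin n → K)) = ⊤ :=
    span_eq_top_of_single_mem M₂ c hc0 (fun i => h3 (hcCn i))
  let σ : M₁ ≃ₗ[O] M₂ := e₁.symm.trans e₂
  obtain ⟨h, hh⟩ := exists_linearEquiv_extension M₁ M₂ he1 hspan₂ σ
  -- ring theory of `A`
  have hPID : IsPrincipalIdealRing ↥A := isPrincipalIdealRing_integralClosure O K hdim hfin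
  have hFrac : IsFractionRing ↥A K := isFractionRing_integralClosure O K
  have hNoeth : IsNoetherianRing ↥A := IsNoetherianRing.of_finite O ↥A
  have hm : ∀ (𝔫 : Ideal ↥A) [𝔫.IsMaximal] (a : O), a ∈ maximalIdeal O → algebraMap O ↥A a ∈ 𝔫 :=
    fun 𝔫 _ a ha => algebraMap_mem_of_mem_maximalIdeal O ↥A 𝔫 ha
  have hres : ∀ (𝔫 : Ideal ↥A) [𝔫.IsMaximal] (x : ↥A), ∃ a : O, x - algebraMap O ↥A a ∈ 𝔫 :=
    fun 𝔫 _ x => exists_sub_mem_of_isMaximal O ↥A 𝔫 x
  -- the `A`-lattices
  set S : Submodule ↥A (Fin n → K) := stdLattice ↥A K n with hS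
  have hSO : S.restrictScalars O = An := stdLattice_restrictScalars A
  let hA' : (Fin n → K) ≃ₗ[↥A] (Fin n → K) := h.restrictScalars ↥A
  let hO : (Fin n → K) →ₗ[O] (Fin n → K) := (h.restrictScalars O).toLinearMap
  set Λ₁ : Submodule ↥A (Fin n → K) := S.comap hA'.toLinearMap with hΛ₁
  have hhM₂ : ∀ y ∈ M₁, h y ∈ M₂ := fun y hy => by
    rw [hh ⟨y, hy⟩]
    exact (σ ⟨y, hy⟩).2
  have hSΛ₁ : S ≤ Λ₁ := by
    rw [hS, stdLattice, Submodule.span_le]
    rintro _ ⟨i, rfl⟩
    show h (Pi.single i 1) ∈ S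
    have h5 : h (Pi.single i 1) ∈ An := hOnAn (h4 (hhM₂ _ (he1 i)))
    rw [← hSO] at h5
    exact h5
  have htors : ∀ v ∈ Λ₁, ∃ x : ↥A, x ≠ 0 ∧ x • v ∈ S := by
    intro v _
    obtain ⟨d, hd⟩ := IsLocalization.exist_integer_multiples_of_finite (nonZeroDivisors O) v
    choose a ha using hd
    refine ⟨algebraMap O ↥A d, ?_, ?_⟩
    · intro h0
      have h1 : algebraMap O K (d : O) = 0 := by
        rw [IsScalarTower.algebraMap_apply O ↥A K, h0, map_zero]
      exact IsFractionRing.to_map_ne_zero_of_mem_nonZeroDivisors d.2 h1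
    · rw [hS, mem_stdLattice]
      intro i
      refine ⟨algebraMap O ↥A (a i), ?_⟩
      rw [← IsScalarTower.algebraMap_apply O ↥A K, ha i, Pi.smul_apply, algebraMap_smul]
  -- colength bookkeeping
  set q := qlen M₁ An with hq
  set d := qlen On M₁ with hd
  have E1 : (n : ℕ∞) * δ = d + q := by
    rw [← hOA]
    exact qlen_add h1 h2
  have hqfin : q ≠ ⊤ := ne_top_of_le_ne_top hnδ (E1 ▸ le_add_self)
  have hdfin : d ≠ ⊤ := ne_top_of_le_ne_top hnδ (E1 ▸ le_self_add)
  have hhinj : Function.Injective hO := h.injective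
  have hmapM : M₁.map hO = M₂ := by
    ext z
    constructor
    · rintro ⟨y, hy, rfl⟩
      exact hhM₂ y hy
    · intro hz
      obtain ⟨y, hy⟩ := σ.surjective ⟨z, hz⟩
      refine ⟨y, y.2, ?_⟩
      show h y = z
      rw [hh y, hy]
  have hmapΛ : (Λ₁.restrictScalars O).map hO = An := by
    ext z
    constructor
    · rintro ⟨y, hy, rfl⟩
      rw [← hSO]
      exact hy
    · intro hz
      refine ⟨h.symm z, ?_, h.apply_symm_apply z⟩
      show h (h.symm z) ∈ S
      rw [h.apply_symm_apply]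
      rw [← hSO] at hz
      exact hz
  have hM₂hAn : M₂ ≤ An.map hO := hmapM ▸ Submodule.map_mono h2
  have hSΛ₁O : S.restrictScalars O ≤ Λ₁.restrictScalars O := fun x hx => hSΛ₁ hx
  have hhAnAn : An.map hO ≤ An := by
    calc An.map hO = (S.restrictScalars O).map hO := by rw [hSO]
      _ ≤ (Λ₁.restrictScalars O).map hO := Submodule.map_mono hSΛ₁O
      _ = An := hmapΛ
  have E2 : qlen M₂ (An.map hO) = q := by rw [← hmapM, qlen_map hO hhinj]
  have E3 : qlen (An.map hO) An =
      qlen (S.restrictScalars O) (Λ₁.restrictScalars O) := by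
    calc qlen (An.map hO) An
        = qlen ((S.restrictScalars O).map hO) ((Λ₁.restrictScalars O).map hO) := by
          rw [hmapΛ, hSO]
      _ = _ := qlen_map hO hhinj _ _
  have E4 : qlen M₂ An = q + qlen (S.restrictScalars O) (Λ₁.restrictScalars O) := by
    rw [qlen_add hM₂hAn hhAnAn, E2, E3]
  have E5 : qlen M₂ An = qlen M₂ On + (d + q) := by rw [qlen_add h4 hOnAn, hOA, E1]
  have hD : qlen (S.restrictScalars O) (Λ₁.restrictScalars O) = qlen M₂ On + d := by
    have : q + qlen (S.restrictScalars O) (Λ₁.restrictScalars O) = q + (qlen M₂ On + d) := by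
      rw [← E4, E5, add_comm q, add_assoc]
    exact ENat.add_right_injective_of_ne_top hqfin this
  obtain ⟨d', hd'⟩ := ENat.ne_top_iff_exists.mp hdfin
  have hdD : (d' : ℕ∞) ≤ qlen (S.restrictScalars O) (Λ₁.restrictScalars O) := by
    rw [hD, hd']
    exact le_add_self
  have hDim : Ring.DimensionLEOne ↥A := inferInstance
  obtain ⟨Λ', hSΛ', hΛ'Λ₁, hqΛ'⟩ := exists_intermediate hm hres S Λ₁ hSΛ₁ htors d' hdD
  -- move `Λ'` to the standard lattice
  have hSfg : S.FG := Submodule.fg_span (Set.finite_range _)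
  have : Module.Finite ↥A S := Module.Finite.iff_fg.mpr hSfg
  have : IsNoetherian ↥A S := isNoetherian_of_isNoetherianRing_of_finite ↥A S
  have : IsNoetherian ↥A Λ₁ :=
    isNoetherian_of_linearEquiv (LinearEquiv.ofSubmodule' hA' S).symm
  have hΛ'fg : Λ'.FG := (isNoetherian_submodule.mp inferInstance) Λ' hΛ'Λ₁
  have hspanΛ' : Submodule.span K (Λ' : Set (Fin n → K)) = ⊤ := by
    rw [eq_top_iff, ← (Pi.basisFun K (Fin n)).span_eq, Submodule.span_le]
    rintro _ ⟨i, rfl⟩
    rw [Pi.basisFun_apply]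
    exact Submodule.subset_span (hSΛ' (Submodule.subset_span ⟨i, rfl⟩))
  obtain ⟨h', hh'⟩ := exists_equiv_map_eq ↥A K n Λ' hΛ'fg hspanΛ'
  let h'O : (Fin n → K) →ₗ[O] (Fin n → K) := (h'.restrictScalars O).toLinearMap
  have hh'inj : Function.Injective h'O := h'.injective
  have hmapΛ' : (Λ'.restrictScalars O).map h'O = An := by
    rw [← hSO, hS, ← hh']
    ext z
    constructor
    · rintro ⟨y, hy, rfl⟩
      exact ⟨y, hy, rfl⟩
    · rintro ⟨y, hy, rfl⟩
      exact ⟨y, hy, rfl⟩
  set L : Submodule O (Fin n → K) := M₁.map h'O with hL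
  have hAnΛ' : An ≤ Λ'.restrictScalars O := by
    rw [← hSO]
    exact fun x hx => hSΛ' hx
  have hM₁Λ' : M₁ ≤ Λ'.restrictScalars O := h2.trans hAnΛ'
  have hLAn : L ≤ An := by
    rw [← hmapΛ']
    exact Submodule.map_mono hM₁Λ'
  have hCnL : Cn ≤ L := by
    intro x hx
    have hge : ∀ i, h (h'.symm (Pi.single i 1)) ∈ S := by
      intro i
      have h5 : (Pi.single i 1 : Fin n → K) ∈ Λ'.map (h'.restrictScalars ↥A).toLinearMap := by
        rw [hh']
        exact Submodule.subset_span ⟨i, rfl⟩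
      obtain ⟨z, hz, hz'⟩ := h5
      have h6 : h'.symm (Pi.single i 1) = z := by
        rw [← hz']
        exact h'.symm_apply_apply z
      rw [h6]
      exact hΛ'Λ₁ hz
    have hxsum : x = ∑ i, x i • (Pi.single i 1 : Fin n → K) := by
      funext c
      rw [Finset.sum_apply]
      simp only [Pi.smul_apply, Pi.single_apply, smul_ite, smul_zero, Finset.sum_ite_eq,
        Finset.mem_univ, if_true]
      rw [smul_eq_mul, mul_one]
    have key : h (h'.symm x) ∈ Cn := by
      rw [hCn, Submodule.mem_pi]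
      intro j _
      have h7 : h (h'.symm x) = ∑ i, x i • h (h'.symm (Pi.single i 1)) := by
        conv_lhs => rw [hxsum]
        simp only [map_sum, map_smul]
      rw [h7, Finset.sum_apply]
      refine Submodule.sum_mem _ fun i _ => ?_
      rw [Pi.smul_apply, smul_eq_mul]
      obtain ⟨a, ha⟩ := (mem_stdLattice ↥A K n).mp (hge i) j
      rw [← ha]
      exact conductor_mul_mem A ((Submodule.mem_pi.mp hx) i (Set.mem_univ i)) a.2
    have hy₂ : h (h'.symm x) ∈ M₂ := h3 key
    obtain ⟨y', hy'⟩ := σ.surjective ⟨_, hy₂⟩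
    have h9 : (y' : Fin n → K) = h'.symm x := h.injective (by rw [hh y', hy'])
    exact ⟨h'.symm x, h9 ▸ y'.2, h'.apply_symm_apply x⟩
  have hqΛ'' : qlen An (Λ'.restrictScalars O) = d := by
    rw [← hSO, hqΛ', hd']
  have hqL : qlen L An = (n : ℕ∞) * δ := by
    calc qlen L An = qlen (M₁.map h'O) ((Λ'.restrictScalars O).map h'O) := by rw [hmapΛ']
      _ = qlen M₁ (Λ'.restrictScalars O) := qlen_map h'O hh'inj _ _
      _ = qlen M₁ An + qlen An (Λ'.restrictScalars O) := qlen_add h2 hAnΛ'
      _ = q + d := by rw [hqΛ'']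
      _ = n * δ := by rw [E1, add_comm]
  have hCA : qlen Cn An = n * δ + n * δ := by rw [qlen_add hCnOn hOnAn, hCO, hOA]
  have hCL : qlen Cn L + n * δ = n * δ + n * δ := by
    rw [← hCA, qlen_add hCnL hLAn, hqL]
  have hfinal : qlen Cn L = n * δ := ENat.add_left_injective_of_ne_top hnδ hCL
  exact ⟨L, hCnL, hLAn, ⟨e₁.trans (Submodule.equivMapOfInjective h'O hh'inj M₁)⟩, hfinal⟩

end Groth.Agent.Lib.Helper21.TFCurv
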