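import Mathlib
import Groth.Prelude.Def_Coh

set_option autoImplicit false
set_option backward.isDefEq.respectTransparency.types false
set_option linter.style.haveILetI false
universe u
open CategoryTheory CategoryTheory.Limits AlgebraicGeometry Opposite TopologicalSpace

namespace Groth.Agent.Lib.Helper21.ThickDict

variable {A : Type u} [CommRing A] (J : Ideal A) {Y : Scheme.{u}} (f : Y ⟶ Spec (CommRingCat.of A))

/-- the structure ring map `A → Γ(Y, U)`. -/
noncomputable def phiU (U : Y.Opens) : A →+* Γ(Y, U) :=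
  ((Scheme.ΓSpecIso (CommRingCat.of A)).inv ≫ f.appLE ⊤ U le_top).hom

theorem phiU_apply (U : Y.Opens) (a : A) :
    phiU f U a = Y.presheaf.map (homOfLE (le_top : U ≤ ⊤)).op
      (f.appTop ((Scheme.ΓSpecIso (CommRingCat.of A)).inv a)) := rfl

theorem fromSpec_comp (U : Y.Opens) (hU : IsAffineOpen U) :
    hU.fromSpec ≫ f = Spec.map (CommRingCat.ofHom (phiU f U)) := by
  have h := IsAffineOpen.SpecMap_appLE_fromSpec f (isAffineOpen_top (Spec (CommRingCat.of A))) hU le_top
  rw [IsAffineOpen.fromSpec_top, Scheme.isoSpec_Spec_inv, ← Spec.map_comp] at h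
  rw [← h]
  rfl

/-- the closed immersion `Y ×_A A/J → Y`. -/
noncomputable abbrev thickι : pullback f (Spec.map (CommRingCat.ofHom (Ideal.Quotient.mk J))) ⟶ Y :=
  pullback.fst f (Spec.map (CommRingCat.ofHom (Ideal.Quotient.mk J)))

theorem thickι_app_phiU (U : Y.Opens) (a : A) (ha : a ∈ J) :
    (thickι J f).app U (phiU f U a) = 0 := by
  rw [phiU_apply]
  have h1 : (thickι J f).app U (Y.presheaf.map (homOfLE (le_top : U ≤ ⊤)).op
      (f.appTop ((Scheme.ΓSpecIso (CommRingCat.of A)).inv a))) =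
      (pullback f (Spec.map (CommRingCat.ofHom (Ideal.Quotient.mk J)))).presheaf.map
        (homOfLE (le_top : (thickι J f) ⁻¹ᵁ U ≤ ⊤)).op
        ((thickι J f).appTop (f.appTop ((Scheme.ΓSpecIso (CommRingCat.of A)).inv a))) := by
    have := (thickι J f).naturality (homOfLE (le_top : U ≤ ⊤)).op
    exact congr($this _)
  rw [h1]
  have h2 : (thickι J f).appTop (f.appTop ((Scheme.ΓSpecIso (CommRingCat.of A)).inv a)) = 0 := by
    have hc : thickι J f ≫ f = pullback.snd _ _ ≫ Spec.map (CommRingCat.ofHom (Ideal.Quotient.mk J)) :=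
      pullback.condition
    have h3 : (thickι J f ≫ f).appTop ((Scheme.ΓSpecIso (CommRingCat.of A)).inv a) = 0 := by
      rw [hc, Scheme.Hom.comp_appTop]
      have h4 := Scheme.ΓSpecIso_inv_naturality (CommRingCat.ofHom (Ideal.Quotient.mk J))
      have h5 : (Spec.map (CommRingCat.ofHom (Ideal.Quotient.mk J))).appTop
          ((Scheme.ΓSpecIso (CommRingCat.of A)).inv a) =
          (Scheme.ΓSpecIso (CommRingCat.of (A ⧸ J))).inv (Ideal.Quotient.mk J a) := by
        exact congr($h4 a).symm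
      rw [CommRingCat.comp_apply, h5, Ideal.Quotient.eq_zero_iff_mem.mpr ha, map_zero, map_zero]
    rw [Scheme.Hom.comp_appTop] at h3
    exact h3
  rw [h2, map_zero]

/-- **the ideal of the thickening on an affine open**: a function on an affine open `U` of `Y` that
vanishes on `Y ×_A A/J` lies in `J · Γ(Y, U)`. -/
theorem mem_map_of_thickι_app_eq_zero (U : Y.Opens) (hU : IsAffineOpen U) (r : Γ(Y, U))
    (hr : (thickι J f).app U r = 0) : r ∈ Ideal.map (phiU f U) J := by
  set JB : Ideal Γ(Y, U) := Ideal.map (phiU f U) J with hJB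
  let T : Scheme.{u} := Spec (CommRingCat.of (Γ(Y, U) ⧸ JB))
  let g : T ⟶ Y := Spec.map (CommRingCat.ofHom (Ideal.Quotient.mk JB)) ≫ hU.fromSpec
  let ψ : A ⧸ J →+* Γ(Y, U) ⧸ JB := Ideal.quotientMap JB (phiU f U) Ideal.le_comap_map
  have hcompat : g ≫ f = Spec.map (CommRingCat.ofHom ψ) ≫
      Spec.map (CommRingCat.ofHom (Ideal.Quotient.mk J)) := by
    rw [Category.assoc, fromSpec_comp, ← Spec.map_comp, ← Spec.map_comp]
    congr 1
  let m : T ⟶ pullback f (Spec.map (CommRingCat.ofHom (Ideal.Quotient.mk J))) :=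
    pullback.lift g (Spec.map (CommRingCat.ofHom ψ)) hcompat
  have hm : m ≫ thickι J f = g := pullback.lift_fst _ _ _
  have hpre : (⊤ : T.Opens) ≤ (m ≫ thickι J f) ⁻¹ᵁ U := by
    rw [hm]
    intro x _
    show hU.fromSpec (Spec.map (CommRingCat.ofHom (Ideal.Quotient.mk JB)) x) ∈ U
    have : Spec.map (CommRingCat.ofHom (Ideal.Quotient.mk JB)) x ∈ hU.fromSpec ⁻¹ᵁ U := by
      rw [hU.fromSpec_preimage_self]; trivial
    exact this
  have e1 := IsAffineOpen.SpecMap_appLE_fromSpec (m ≫ thickι J f) hU (isAffineOpen_top T) hpre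
  rw [show (isAffineOpen_top T).fromSpec ≫ m ≫ thickι J f = (isAffineOpen_top T).fromSpec ≫ g from by
    rw [hm], IsAffineOpen.fromSpec_top, Scheme.isoSpec_Spec_inv] at e1
  have e2 : Spec.map ((m ≫ thickι J f).appLE U ⊤ hpre) =
      Spec.map (CommRingCat.ofHom (Ideal.Quotient.mk JB) ≫
        (Scheme.ΓSpecIso (CommRingCat.of (Γ(Y, U) ⧸ JB))).inv) := by
    rw [Spec.map_comp, ← cancel_mono hU.fromSpec, e1]
    rfl
  have e3 := Spec.map_injective e2
  have e4 : (m ≫ thickι J f).appLE U ⊤ hpre r = 0 := by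
    rw [Scheme.Hom.comp_appLE, CommRingCat.comp_apply, hr, map_zero]
  rw [e3, CommRingCat.comp_apply] at e4
  have e5 : Ideal.Quotient.mk JB r = 0 := by
    have hinj : Function.Injective (Scheme.ΓSpecIso (CommRingCat.of (Γ(Y, U) ⧸ JB))).inv :=
      (ConcreteCategory.bijective_of_isIso _).1
    apply hinj
    rw [map_zero]
    exact e4
  exact Ideal.Quotient.eq_zero_iff_mem.mp e5

end Groth.Agent.Lib.Helper21.ThickDict
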