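import Groth.Agent.Lib.Helper21.ThickDict2
import Groth.Agent.Lib.Helper21.ZarConn1
import Groth.Agent.Lib.Helper28.AmpleSep
import Groth.Agent.Lib.Helper28.SecPow

set_option autoImplicit false
set_option backward.isDefEq.respectTransparency.types false
set_option linter.style.haveILetI false
universe u
open CategoryTheory CategoryTheory.Limits AlgebraicGeometry Opposite TopologicalSpace

namespace Groth.Agent.Lib.Helper21.ThickDict

open Formal Groth.Agent.Lib.Helper23.FQuot Groth.Agent.Lib.Helper28 Groth.Agent.Lib.Helper28.QCohLoc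
  Groth.Agent.Lib.Helper28.GenLocus Groth.Agent.Lib.Helper28.PullbackInv

section General

variable {X : Scheme.{u}}

/-- a trivialization gives a global generator. -/
theorem isGen_secOf_inv (M : X.Modules) (e : M ≅ Coh.structureModule X) :
    IsGen M ⊤ (secOf e.inv) := by
  intro W hW
  have hb := app_bijective_of_isIso e.inv W
  have hfun : (e.inv.app W : Γ(Coh.structureModule X, W) → Γ(M, W)) =
      fun c : Γ(X, W) => (c • res M hW (secOf e.inv) : Γ(M, W)) := by
    funext c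
    exact app_eq_smul e.inv W c
  rw [hfun] at hb
  exact hb

/-- two generators differ by a unit. -/
theorem isUnit_of_smul_gen {M : X.Modules} {U : X.Opens} {γ γ' : Γ(M, U)} (hγ : IsGen M U γ)
    (hγ' : IsGen M U γ') (c : Γ(X, U)) (h : (c • γ : Γ(M, U)) = γ') : IsUnit c := by
  have hv := hγ'.coef_smul le_rfl γ
  rw [res_self] at hv
  refine IsUnit.of_mul_eq_one (hγ'.coef le_rfl γ) ?_
  apply (hγ' U le_rfl).1
  show ((c * hγ'.coef le_rfl γ) • res M le_rfl γ' : Γ(M, U)) = ((1 : Γ(X, U)) • res M le_rfl γ' : Γ(M, U))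
  rw [res_self, mul_smul, hv, h, one_smul]

/-- a section whose locus of generation is everything is a trivialization. -/
theorem isIso_of_genLocus_eq_top {M : X.Modules} (s : Coh.structureModule X ⟶ M)
    (h : CohB1.genLocus M s = ⊤) : IsIso s := by
  refine Groth.Agent.Lib.Helper28.TensorIso.isIso_of_bijective_on_basis s (fun _ => True) ?_ ?_
  · intro U x hx
    exact ⟨U, trivial, hx, le_rfl⟩
  · intro W _
    exact bijective_app_of_le_genLocus s W (by rw [h]; exact le_top)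

end General

section Points

variable {A : Type u} [CommRing A] (J : Ideal A) {Y : Scheme.{u}} (f : Y ⟶ Spec (CommRingCat.of A))

/-- the thickening `Y ×_A A/J → Y` is surjective onto `f⁻¹ V(J)`. -/
theorem exists_thickι_eq (y : Y) (hy : J ≤ (f y).asIdeal) : ∃ z, thickι J f z = y := by
  have hmem : f y ∈ Set.range (PrimeSpectrum.comap (Ideal.Quotient.mk J)) := by
    rw [range_comap_of_surjective _ _ Ideal.Quotient.mk_surjective, Ideal.mk_ker]
    exact hy
  obtain ⟨w, hw⟩ := hmem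
  obtain ⟨z, hz, -⟩ := Scheme.Pullback.exists_preimage_pullback (f := f)
    (g := Spec.map (CommRingCat.ofHom (Ideal.Quotient.mk J))) y w hw.symm
  exact ⟨z, hz⟩

/-- over a local base, an open containing the preimage of `V(I)` (`I` a proper ideal) under a closed
map is everything. -/
theorem eq_top_of_preimage_zeroLocus_le [IsLocalRing A] (I : Ideal A)
    (hI : I ≤ IsLocalRing.maximalIdeal A) (hf : IsClosedMap f) (G : Y.Opens)
    (hG : ∀ y : Y, I ≤ (f y).asIdeal → y ∈ G) : G = ⊤ := by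
  rw [eq_top_iff]
  intro y _
  by_contra hy
  have hcl : IsClosed (f '' ((G : Set Y)ᶜ)) := hf _ G.2.isClosed_compl
  let V : TopologicalSpace.Opens (PrimeSpectrum A) :=
    ⟨(show Set (PrimeSpectrum A) from (f '' ((G : Set Y)ᶜ)))ᶜ, hcl.isOpen_compl⟩
  by_cases hc : IsLocalRing.closedPoint A ∈ V
  · have hV : V = ⊤ := (IsLocalRing.closedPoint_mem_iff V).mp hc
    have h1 : (show PrimeSpectrum A from f y) ∈ V := by rw [hV]; trivial
    exact h1 ⟨y, hy, rfl⟩
  · have hc' : IsLocalRing.closedPoint A ∈ (show Set (PrimeSpectrum A) from (f '' ((G : Set Y)ᶜ))) := by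
      by_contra h
      exact hc h
    obtain ⟨y', hy', hfy'⟩ := hc'
    apply hy'
    apply hG
    rw [hfy']
    exact hI

end Points

section Local

variable {A : Type u} [CommRing A] {Y : Scheme.{u}} [Y.Over (Spec (CommRingCat.of A))]

/-- elements of `I Γ(Y, W)` are non-units at points over `V(I)`. -/
theorem mem_basicOpen_of_sub_mem_map (I : Ideal A) (W : Y.Opens) (y : Y) (hyW : y ∈ W)
    (hy : I ≤ ((Y ↘ Spec (CommRingCat.of A)) y).asIdeal) (c r : Γ(Y, W))
    (hcr : c - r ∈ Ideal.map (phiU (Y ↘ Spec (CommRingCat.of A)) W) I) (hr : y ∈ Y.basicOpen r) :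
    y ∈ Y.basicOpen c := by
  rw [Scheme.mem_basicOpen _ _ y hyW] at hr ⊢
  set ev : Γ(Y, W) →+* Y.presheaf.stalk y := (Y.presheaf.germ W y hyW).hom with hev
  have hle : Ideal.map (phiU (Y ↘ Spec (CommRingCat.of A)) W) I ≤
      Ideal.comap ev (IsLocalRing.maximalIdeal (Y.presheaf.stalk y)) := by
    rw [Ideal.map_le_iff_le_comap]
    intro a ha
    rw [Ideal.mem_comap, Ideal.mem_comap, IsLocalRing.mem_maximalIdeal, mem_nonunits_iff]
    intro hu
    have h1 : y ∈ Y.basicOpen (phiU (Y ↘ Spec (CommRingCat.of A)) W a) :=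
      (Scheme.mem_basicOpen _ _ y hyW).mpr hu
    rw [phiU_apply, Scheme.basicOpen_res] at h1
    have h2 := (Groth.Agent.Lib.Helper21.ZarConn.mem_basicOpen_gl (X := Y) a y).mp h1.2
    exact h2 (hy ha)
  have h3 := hle hcr
  rw [Ideal.mem_comap, IsLocalRing.mem_maximalIdeal, mem_nonunits_iff] at h3
  by_contra hc
  apply h3
  have h4 : ev (c - r) = ev c - ev r := map_sub ev c r
  rw [h4]
  have h5 : ev c ∈ IsLocalRing.maximalIdeal (Y.presheaf.stalk y) := by
    rw [IsLocalRing.mem_maximalIdeal, mem_nonunits_iff]; exact hc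
  by_contra h6
  have h7 : ev c - ev r ∈ IsLocalRing.maximalIdeal (Y.presheaf.stalk y) := by
    rw [IsLocalRing.mem_maximalIdeal, mem_nonunits_iff]; exact h6
  have h8 : ev r ∈ IsLocalRing.maximalIdeal (Y.presheaf.stalk y) := by
    have := Ideal.sub_mem _ h5 h7
    rwa [sub_sub_cancel] at this
  rw [IsLocalRing.mem_maximalIdeal, mem_nonunits_iff] at h8
  exact h8 hr

/-- **the local analysis**: a global section of `L` whose class mod `I` comes from a generator of the
thickening `L / J L ≅ ι_* ι^* L` generates `L` at the points over `V(I)`. -/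
theorem mem_genLocus_of_le (I J : Ideal A) (hI : I.FG) (L : Y.Modules) (hL : PicF.IsInvertible L)
    [L.IsQuasicoherent] {N₀ N' : Y.Modules} [N₀.IsQuasicoherent] [N'.IsQuasicoherent]
    (q₀ : L ⟶ N₀) (hq₀ : IsQuot I q₀) (q' : L ⟶ N') (hq' : IsQuot J q') (hJI : J ≤ I)
    (tr : N' ⟶ N₀) (htr : q' ≫ tr = q₀)
    (θ : N' ⟶ (Scheme.Modules.pushforward (tι (Y := Y) J)).obj
      ((Scheme.Modules.pullback (tι (Y := Y) J)).obj L))
    (hθ : q' ≫ θ = unitL J L) (τ : Γ(N', ⊤))
    (hτ : IsGen ((Scheme.Modules.pullback (tι (Y := Y) J)).obj L) ((tι (Y := Y) J) ⁻¹ᵁ ⊤)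
      (show Γ((Scheme.Modules.pullback (tι (Y := Y) J)).obj L, (tι (Y := Y) J) ⁻¹ᵁ ⊤) from θ.app ⊤ τ))
    (σ : Γ(L, ⊤)) (hσ : q₀.app ⊤ σ = tr.app ⊤ τ)
    (y : Y) (hy : I ≤ ((Y ↘ Spec (CommRingCat.of A)) y).asIdeal) :
    y ∈ CohB1.genLocus L (TwistGen.ofSection L σ) := by
  haveI := hq'.epi
  haveI := hq₀.epi
  -- an affine neighbourhood with a generator
  obtain ⟨U₁, g₁, hyU₁, hg₁⟩ := exists_isGen L hL y
  obtain ⟨W, hW, hyW, hWU⟩ := Opens.isBasis_iff_nbhd.mp Y.isBasis_affineOpens hyU₁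
  set g : Γ(L, W) := res L hWU g₁ with hgdef
  have hg : IsGen L W g := hg₁.res hWU
  have hg' : IsGen ((Scheme.Modules.pullback (tι (Y := Y) J)).obj L) ((tι (Y := Y) J) ⁻¹ᵁ W)
      (pbs (tι (Y := Y) J) L W g) := isGen_pbs hg
  -- the coefficient of `σ`
  set c : Γ(Y, W) := hg.coef le_rfl (res L (le_top : W ≤ ⊤) σ) with hc
  have hcσ : res L (le_top : W ≤ ⊤) σ = (c • g : Γ(L, W)) := by
    have := hg.coef_smul le_rfl (res L (le_top : W ≤ ⊤) σ)
    rw [res_self] at this
    exact this.symm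
  have hloc : CohB1.genLocus L (TwistGen.ofSection L σ) ⊓ W = Y.basicOpen c := by
    refine genLocus_inf_eq _ W g hg c ?_
    rw [secOf_ofSection]
    exact hcσ
  suffices h : y ∈ Y.basicOpen c by
    rw [← hloc] at h
    exact h.1
  -- a representative of `τ` on `W`
  obtain ⟨y₀, hy₀⟩ := Groth.Agent.Lib.Helper23.Tower.surj_sections_of_epi q' hW (res N' (le_top : W ≤ ⊤) τ)
  set r : Γ(Y, W) := hg.coef le_rfl y₀ with hr
  have hry₀ : (r • g : Γ(L, W)) = y₀ := by
    have := hg.coef_smul le_rfl y₀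
    rw [res_self] at this
    exact this
  have hqr : q'.app W (r • g : Γ(L, W)) = res N' (le_top : W ≤ ⊤) τ := by
    rw [hry₀]; exact hy₀
  -- `ι^♯ r` is a unit
  have hkey : θ.app W (q'.app W (r • g : Γ(L, W))) =
      ((tι (Y := Y) J).app W r • pbs (tι (Y := Y) J) L W g :
        Γ((Scheme.Modules.pullback (tι (Y := Y) J)).obj L, (tι (Y := Y) J) ⁻¹ᵁ W)) := by
    have h1 : θ.app W (q'.app W (r • g : Γ(L, W))) = (unitL J L).app W (r • g : Γ(L, W)) := by
      rw [← hθ]; rfl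
    rw [h1, unitL_app, pbs_smul]
  have hres : θ.app W (res N' (le_top : W ≤ ⊤) τ) =
      res ((Scheme.Modules.pullback (tι (Y := Y) J)).obj L)
        ((tι (Y := Y) J).preimage_mono (le_top : W ≤ ⊤))
        (show Γ((Scheme.Modules.pullback (tι (Y := Y) J)).obj L, (tι (Y := Y) J) ⁻¹ᵁ ⊤) from θ.app ⊤ τ) :=
    app_res θ (le_top : W ≤ ⊤) τ
  have hunit : IsUnit ((tι (Y := Y) J).app W r) := by
    refine isUnit_of_smul_gen hg' (hτ.res ((tι (Y := Y) J).preimage_mono (le_top : W ≤ ⊤))) _ ?_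
    rw [← hkey, hqr, hres]
  -- `y` lies on the thickening
  obtain ⟨z, hz⟩ := exists_thickι_eq J (Y ↘ Spec (CommRingCat.of A)) y (hJI.trans hy)
  have hzW : z ∈ (tι (Y := Y) J) ⁻¹ᵁ W := by
    show (tι (Y := Y) J) z ∈ W
    rw [hz]; exact hyW
  have hyr : y ∈ Y.basicOpen r := by
    have h1 : z ∈ (tι (Y := Y) J) ⁻¹ᵁ (Y.basicOpen r) := by
      rw [Scheme.preimage_basicOpen, Scheme.basicOpen_of_isUnit _ hunit]
      exact hzW
    have h2 : (tι (Y := Y) J) z ∈ Y.basicOpen r := h1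
    rw [hz] at h2
    exact h2
  -- `c - r ∈ I Γ(Y, W)`
  have hq₀cr : q₀.app W ((c - r) • g : Γ(L, W)) = 0 := by
    rw [sub_smul, map_sub, ← hcσ, sub_eq_zero]
    have h1 : q₀.app W (res L (le_top : W ≤ ⊤) σ) = res N₀ (le_top : W ≤ ⊤) (q₀.app ⊤ σ) :=
      app_res q₀ (le_top : W ≤ ⊤) σ
    have h2 : q₀.app W (r • g : Γ(L, W)) = tr.app W (q'.app W (r • g : Γ(L, W))) := by
      rw [← htr]; rfl
    rw [h1, h2, hqr, hσ]
    exact (app_res tr (le_top : W ≤ ⊤) τ).symm
  obtain ⟨k, a, zz, haI, hsum⟩ := exists_sum_of_app_eq_zero hI q₀ hq₀ hW _ hq₀cr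
  have hcr : c - r ∈ Ideal.map (phiU (Y ↘ Spec (CommRingCat.of A)) W) I := by
    have h1 : (c - r) = ∑ i, phiU (Y ↘ Spec (CommRingCat.of A)) W (a i) * hg.coef le_rfl (zz i) := by
      apply (hg W le_rfl).1
      show ((c - r) • res L le_rfl g : Γ(L, W)) =
        ((∑ i, phiU (Y ↘ Spec (CommRingCat.of A)) W (a i) * hg.coef le_rfl (zz i)) • res L le_rfl g : Γ(L, W))
      rw [res_self, hsum, Finset.sum_smul]
      refine Finset.sum_congr rfl fun i _ => ?_
      rw [smulMod_app, mul_smul]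
      congr 1
      have := hg.coef_smul le_rfl (zz i)
      rw [res_self] at this
      exact this.symm
    rw [h1]
    refine Ideal.sum_mem _ fun i _ => ?_
    exact Ideal.mul_mem_right _ _ (Ideal.mem_map_of_mem _ (haI i))
  exact mem_basicOpen_of_sub_mem_map I W y hyW hy c r hcr hyr

end Local

end Groth.Agent.Lib.Helper21.ThickDict
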