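import Groth.Agent.Lib.Helper21.ThickDict3
import Groth.Agent.Lib.Helper4.ProperFinal
import Groth.Agent.Lib.Helper6.K0Op
import Groth.Agent.Lib.lead.FormalC

set_option autoImplicit false
set_option backward.isDefEq.respectTransparency.types false
set_option linter.style.haveILetI false
universe u
open CategoryTheory CategoryTheory.Limits AlgebraicGeometry Opposite TopologicalSpace

namespace Groth.Agent.Lib.Helper21.ThickDict

open Formal Groth.Agent.Lib.Helper23.FQuot Groth.Agent.Lib.Helper28 Groth.Agent.Lib.Helper28.QCohLoc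
  Groth.Agent.Lib.Helper28.GenLocus Groth.Agent.Lib.Helper28.PullbackInv

/-- **an invertible module on a proper scheme over a Noetherian local ring which is trivial on all
thickenings of `V(I)` (`I` a proper ideal) is trivial**. -/
theorem nonempty_iso_structureModule_of_thickenings (B : Type u) [CommRing B] [IsNoetherianRing B]
    [IsLocalRing B] (I : Ideal B) (hI : I ≤ IsLocalRing.maximalIdeal B) (Y : Scheme.{u})
    [Y.Over (Spec (CommRingCat.of B))] [IsProper (Y ↘ Spec (CommRingCat.of B))] (L : Y.Modules)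
    (hL : PicF.IsInvertible L)
    (hn : ∀ n : ℕ, Nonempty ((Scheme.Modules.pullback (tι (Y := Y) (I ^ (n + 1)))).obj L ≅
      Coh.structureModule _)) :
    Nonempty (L ≅ Coh.structureModule Y) := by
  haveI : IsLocallyNoetherian Y :=
    LocallyOfFiniteType.isLocallyNoetherian (Y ↘ Spec (CommRingCat.of B))
  haveI : CompactSpace Y := QuasiCompact.compactSpace_of_compactSpace (Y ↘ Spec (CommRingCat.of B))
  haveI : IsNoetherian Y := { }
  have hLc : Coh.IsCoh L := Groth.Agent.Lib.Helper6.K0Op.isCoh_of_isInvertible L hL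
  haveI : L.IsQuasicoherent := hLc.1
  have hfin : ∀ F : Y.Modules, Coh.IsCoh F → ∀ p, Module.Finite B (Coh.HH Y F p) :=
    fun F hF p => Groth.Agent.Lib.Helper4.ProperFinal.finite_HH B Y F hF p
  obtain ⟨n', hn', hB⟩ := (Groth.Agent.Lib.Lead.FormalC.good hfin I L hLc 0).2 1
  obtain ⟨k, rfl⟩ : ∃ k, n' = k + 1 := ⟨n' - 1, by omega⟩
  have hq₀ : IsQuot (I ^ 1) (modPowπ I 1 L) := isQuot_modPowπ I 1 L
  have hq' : IsQuot (I ^ (k + 1)) (modPowπ I (k + 1) L) := isQuot_modPowπ I (k + 1) L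
  obtain ⟨tr, htr⟩ := Groth.Agent.Lib.Lead.FormalA.IsQuot.exists_trans
    (Ideal.pow_le_pow_right hn') hq₀ hq'
  have hrange := hB (modPowπ I 1 L) (modPowπ I (k + 1) L) tr hq₀ hq' htr
  have hN₀ : Coh.IsCoh (modPow I 1 L) :=
    Groth.Agent.Lib.Lead.FormalA.isCoh_of_isQuot (Groth.Agent.Lib.Lead.FormalC.fg (I ^ 1)) _ hLc hq₀
  have hN' : Coh.IsCoh (modPow I (k + 1) L) :=
    Groth.Agent.Lib.Lead.FormalA.isCoh_of_isQuot (Groth.Agent.Lib.Lead.FormalC.fg (I ^ (k + 1))) _ hLc hq'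
  haveI : (modPow I 1 L).IsQuasicoherent := hN₀.1
  haveI : (modPow I (k + 1) L).IsQuasicoherent := hN'.1
  obtain ⟨θ, hθ⟩ := exists_unit_fac (I ^ (k + 1)) L _ hq'
  haveI : IsIso θ := isIso_of_unit_fac (I ^ (k + 1)) L hL _ hq' θ hθ
  obtain ⟨ε⟩ := hn k
  have ht := isGen_secOf_inv _ ε
  let t' : Γ((Scheme.Modules.pullback (tι (Y := Y) (I ^ (k + 1)))).obj L,
      (tι (Y := Y) (I ^ (k + 1))) ⁻¹ᵁ ⊤) :=
    res _ (le_top : (tι (Y := Y) (I ^ (k + 1))) ⁻¹ᵁ ⊤ ≤ ⊤) (secOf ε.inv)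
  have ht' : IsGen _ ((tι (Y := Y) (I ^ (k + 1))) ⁻¹ᵁ ⊤) t' := ht.res le_top
  let τ : Γ(modPow I (k + 1) L, ⊤) := (inv θ).app ⊤ t'
  have hτ : θ.app ⊤ τ = t' := by
    have h1 : (inv θ ≫ θ).app ⊤ t' = t' := by rw [IsIso.inv_hom_id]; rfl
    exact h1
  obtain ⟨σ, hσ⟩ := Groth.Agent.Lib.Helper21.ZarConn.exists_section_of_range_le (A := B)
    (modPowπ I 1 L) tr hrange τ
  have hall : ∀ y : Y, I ≤ ((Y ↘ Spec (CommRingCat.of B)) y).asIdeal →
      y ∈ CohB1.genLocus L (TwistGen.ofSection L σ) := by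
    intro y hy
    refine mem_genLocus_of_le (I ^ 1) (I ^ (k + 1)) (Groth.Agent.Lib.Lead.FormalC.fg (I ^ 1)) L hL
      (modPowπ I 1 L) hq₀ (modPowπ I (k + 1) L) hq' (Ideal.pow_le_pow_right hn') tr htr θ hθ τ ?_ σ hσ y ?_
    · rw [hτ]; exact ht'
    · rw [pow_one]; exact hy
  have htop := eq_top_of_preimage_zeroLocus_le (Y ↘ Spec (CommRingCat.of B)) I hI
    (Y ↘ Spec (CommRingCat.of B)).isClosedMap _ hall
  haveI := isIso_of_genLocus_eq_top _ htop
  exact ⟨(asIso (TwistGen.ofSection L σ)).symm⟩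

end Groth.Agent.Lib.Helper21.ThickDict
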