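import Groth.Agent.Lib.Helper21.TopDim
import Groth.Agent.S5794
import Mathlib

/-! Local dimension zero versus isolated points (helper21). -/

set_option autoImplicit false
universe u

namespace Groth.Agent.Lib.Helper21.TopDim

open TopologicalSpace

theorem nonneg_dim_of_mem {X : Type*} [TopologicalSpace X] (x : X) (U : Set X) (hx : x ∈ U) :
    0 ≤ topologicalKrullDim ↥U := by
  have : Nonempty (IrreducibleCloseds ↥U) :=
    ⟨⟨closure {⟨x, hx⟩}, isIrreducible_singleton.closure, isClosed_closure⟩⟩
  exact Order.krullDim_nonneg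

theorem localDim_eq_zero_of_isOpen_singleton {X : Type*} [TopologicalSpace X] (x : X)
    (h : IsOpen ({x} : Set X)) : FlatMor.localDim X x = 0 := by
  apply le_antisymm
  · unfold FlatMor.localDim
    refine (iInf_le _ ⟨⟨{x}, h⟩, rfl⟩).trans ?_
    show topologicalKrullDim ↥({x} : Set X) ≤ 0
    exact topologicalKrullDim_zero_of_discreteTopology _
  · unfold FlatMor.localDim
    refine le_iInf ?_
    rintro ⟨U, hxU⟩
    exact nonneg_dim_of_mem x _ hxU

theorem exists_nhd_dim_le_zero {X : Type*} [TopologicalSpace X] (x : X)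
    (h : FlatMor.localDim X x = 0) :
    ∃ U : Opens X, x ∈ U ∧ topologicalKrullDim ↥(U : Set X) ≤ 0 := by
  by_contra hne
  push Not at hne
  have h1 : (1 : WithBot ℕ∞) ≤ FlatMor.localDim X x := by
    unfold FlatMor.localDim
    refine le_iInf ?_
    rintro ⟨U, hxU⟩
    have := hne U hxU
    have h0 := nonneg_dim_of_mem x (U : Set X) hxU
    generalize topologicalKrullDim ↥(U : Set X) = d at this h0
    induction d using WithBot.recBotCoe with
    | bot => simp at h0
    | coe n =>
      have hn : n ≠ 0 := by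
        rintro rfl
        exact absurd le_rfl (not_le.mpr this)
      have : (1 : ℕ∞) ≤ n := Order.one_le_iff_ne_zero.mpr hn
      exact_mod_cast this
  rw [h] at h1
  exact absurd h1 (by decide)

theorem isOpen_singleton_of_localDim_eq_zero {X : Type u} [TopologicalSpace X] [T0Space X] (x : X)
    (V : Opens X) (hxV : x ∈ V) [NoetherianSpace ↥(V : Set X)]
    (h : FlatMor.localDim X x = 0) : IsOpen ({x} : Set X) := by
  obtain ⟨U, hxU, hU⟩ := exists_nhd_dim_le_zero x h
  let W : Opens X := U ⊓ V
  have hxW : x ∈ W := ⟨hxU, hxV⟩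
  have hWU : (W : Set X) ⊆ U := Set.inter_subset_left
  have hWV : (W : Set X) ⊆ V := Set.inter_subset_right
  have hdimW : topologicalKrullDim ↥(W : Set X) = 0 := by
    apply le_antisymm _ (nonneg_dim_of_mem x _ hxW)
    exact ((Topology.IsEmbedding.inclusion hWU).isInducing.topologicalKrullDim_le).trans hU
  have : NoetherianSpace ↥(W : Set X) :=
    (Topology.IsEmbedding.inclusion hWV).isInducing.noetherianSpace
  have : Nonempty ↥(W : Set X) := ⟨⟨x, hxW⟩⟩
  obtain ⟨_, hdisc⟩ := (Groth.Agent.S5794.result ↥(W : Set X)).mp hdimW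
  have hopen : IsOpen ({⟨x, hxW⟩} : Set ↥(W : Set X)) := isOpen_discrete _
  have := W.isOpen.isOpenMap_subtype_val _ hopen
  simpa using this

end Groth.Agent.Lib.Helper21.TopDim
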