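import Mathlib
import Groth.Agent.Lib.Helper21.TorLES
import Groth.Agent.Lib.Helper21.TorSeq
import Groth.Agent.Lib.Helper21.TorReg
import Groth.Agent.Lib.Helper8.TorColim

/-!
# Vanishing classes for `Tor_j(-, M)` (helper21)

Closure properties (first variable) of `{X | Tor_j(X, M) = 0}`: extensions, kernels, directed
unions; dimension shifting over a base-change algebra.
-/

set_option autoImplicit false
set_option backward.isDefEq.respectTransparency false
set_option backward.defeqAttrib.useBackward true
universe u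

namespace Groth.Agent.Lib.Helper21.TorClass

open CategoryTheory Limits HomologicalComplex MonoidalCategory
open Groth.Agent.Lib.Helper21.TorLES

section Left

variable {R : Type u} [CommRing R]
variable {M₁ M₂ M₃ : ModuleCat.{u} R} (f : M₁ ⟶ M₂) (g : M₂ ⟶ M₃) (w : f ≫ g = 0)
  (hS : (ShortComplex.mk f g w).ShortExact) (N : ModuleCat.{u} R)

include hS in
/-- `Tor_{n+1}(M₃,N) = 0` and `Tor_n(M₂,N) = 0` imply `Tor_n(M₁,N) = 0`. -/
lemma isZero_tor_of_isZero_succ (n : ℕ)
    (h3 : IsZero (((Tor (ModuleCat.{u} R) (n + 1)).obj M₃).obj N))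
    (h2 : IsZero (((Tor (ModuleCat.{u} R) n).obj M₂).obj N)) :
    IsZero (((Tor (ModuleCat.{u} R) n).obj M₁).obj N) := by
  let P := ProjectiveResolution.of N
  have e := fun (M : ModuleCat.{u} R) (k : ℕ) =>
    P.isoLeftDerivedObj ((tensoringLeft (ModuleCat.{u} R)).obj M) k
  refine IsZero.of_iso ?_ (e M₁ n)
  have hmono := TorReg.mono_homologyMap_of_isZero _ _ (map_comp_zero f g w) P
    (fun Q _ => shortExact_app f g w hS Q) n (IsZero.of_iso h3 (e M₃ (n + 1)).symm)
  exact IsZero.of_mono (HomologicalComplex.homologyMap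
      ((NatTrans.mapHomologicalComplex ((tensoringLeft (ModuleCat.{u} R)).map f)
        (ComplexShape.down ℕ)).app P.complex) n) (IsZero.of_iso h2 (e M₂ n).symm)

end Left

section Union

variable {A : Type u} [CommRing A]

lemma isZero_pt_of_isColimit {J : Type u} [SmallCategory J] {C : Type*} [Category C]
    [HasZeroMorphisms C] {D : J ⥤ C} {c : Cocone D} (hc : IsColimit c)
    (h : ∀ j, IsZero (D.obj j)) : IsZero c.pt := by
  rw [IsZero.iff_id_eq_zero]
  exact hc.hom_ext fun j => (h j).eq_of_src _ _

/-- `Tor_j(-, M)` vanishes on a directed union of submodules on which it vanishes. -/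
theorem isZero_tor_of_directed_union (M : ModuleCat.{u} A) (j : ℕ)
    {N : Type u} [AddCommGroup N] [Module A N]
    {ι : Type u} [Preorder ι] [IsDirected ι (· ≤ ·)] [Nonempty ι]
    (S : ι → Submodule A N) (hS : Monotone S) (hcov : ∀ x : N, ∃ i, x ∈ S i)
    (h : ∀ i, IsZero (((Tor (ModuleCat.{u} A) j).obj (ModuleCat.of A (S i))).obj M)) :
    IsZero (((Tor (ModuleCat.{u} A) j).obj (ModuleCat.of A N)).obj M) := by
  classical
  let G : ι → Type u := fun i => S i
  let fm : ∀ i j, i ≤ j → G i →ₗ[A] G j := fun i j hij => Submodule.inclusion (hS hij)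
  haveI : DirectedSystem G fun i j h => fm i j h :=
    ⟨fun _ _ => rfl, fun _ _ _ _ _ _ => rfl⟩
  let L : Module.DirectLimit G fm →ₗ[A] N :=
    Module.DirectLimit.lift A ι G fm (fun i => (S i).subtype) (fun i j hij x => rfl)
  have hLinj : Function.Injective L :=
    Module.DirectLimit.lift_injective _ _ (fun i => Subtype.val_injective)
  have hLsurj : Function.Surjective L := by
    intro x
    obtain ⟨i, hi⟩ := hcov x
    exact ⟨Module.DirectLimit.of A ι G fm i ⟨x, hi⟩, by
      simp only [L, Module.DirectLimit.lift_of]; rfl⟩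
  let e : Module.DirectLimit G fm ≃ₗ[A] N := LinearEquiv.ofBijective L ⟨hLinj, hLsurj⟩
  let F := (Tor (ModuleCat.{u} A) j).flip.obj M
  haveI : PreservesColimitsOfShape ι F :=
    Groth.Agent.Lib.Helper8.TorColim.preservesFilteredColimits M j ι
  have hc := ModuleCat.directLimitIsColimit (R := A) G fm
  have hFc := isColimitOfPreserves F hc
  have hz : IsZero (F.obj (ModuleCat.of A (Module.DirectLimit G fm))) :=
    isZero_pt_of_isColimit hFc (fun i => h i)
  exact IsZero.of_iso hz (F.mapIso e.toModuleIso.symm)

end Union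

section BaseChange

open TensorProduct

variable {A : Type u} [CommRing A] (B : Type u) [CommRing B] [Algebra A B]
  (M : Type u) [AddCommGroup M] [Module A M]

/-- If `B ⊗ M` is `B`-flat, then `- ⊗_A M` preserves injectivity of `B`-linear maps. -/
lemma rTensor_injective_of_flat_baseChange [Module.Flat B (B ⊗[A] M)]
    {K F : Type u} [AddCommGroup K] [Module A K] [Module B K] [IsScalarTower A B K]
    [AddCommGroup F] [Module A F] [Module B F] [IsScalarTower A B F]
    (φ : K →ₗ[B] F) (hφ : Function.Injective φ) :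
    Function.Injective (LinearMap.rTensor M (φ.restrictScalars A)) := by
  let eK := AlgebraTensorModule.cancelBaseChange A B B K M
  let eF := AlgebraTensorModule.cancelBaseChange A B B F M
  have h1 : Function.Injective (LinearMap.rTensor (B ⊗[A] M) φ) :=
    Module.Flat.rTensor_preserves_injective_linearMap φ hφ
  have hcomm : ∀ z, LinearMap.rTensor M (φ.restrictScalars A) (eK z) =
      eF (LinearMap.rTensor (B ⊗[A] M) φ z) := by
    intro z
    induction z using TensorProduct.induction_on with
    | zero => simp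
    | add x y hx hy => simp only [map_add, hx, hy]
    | tmul k y =>
      induction y using TensorProduct.induction_on with
      | zero => simp
      | add x y hx hy => simp only [TensorProduct.tmul_add, map_add, hx, hy]
      | tmul b m =>
        simp only [eK, eF, LinearMap.rTensor_tmul, AlgebraTensorModule.cancelBaseChange_tmul,
          LinearMap.coe_restrictScalars, map_smul]
  intro x y hxy
  have hx := hcomm (eK.symm x)
  have hy := hcomm (eK.symm y)
  rw [LinearEquiv.apply_symm_apply] at hx hy
  rw [hx, hy] at hxy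
  have := h1 (eF.injective hxy)
  exact eK.symm.injective this

end BaseChange

section DimShift

open TensorProduct TorShift

variable {A : Type u} [CommRing A]

/-- `Tor_{j+1}(X, M) = 0` for `X` flat. -/
lemma isZero_tor_succ_of_flat_left (X M : ModuleCat.{u} A) [Module.Flat A X] (j : ℕ) :
    IsZero (((Tor (ModuleCat.{u} A) (j + 1)).obj X).obj M) := by
  let P := ProjectiveResolution.of M
  exact IsZero.of_iso (isZero_H_succ_of_flat X P j)
    (P.isoLeftDerivedObj ((tensoringLeft (ModuleCat.{u} A)).obj X) (j + 1))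

lemma isZero_tor_of_flat_left (X M : ModuleCat.{u} A) [Module.Flat A X] (j : ℕ) (hj : 1 ≤ j) :
    IsZero (((Tor (ModuleCat.{u} A) j).obj X).obj M) := by
  obtain ⟨j, rfl⟩ : ∃ i, j = i + 1 := ⟨j - 1, by omega⟩
  exact isZero_tor_succ_of_flat_left X M j

variable (B : Type u) [CommRing B] [Algebra A B] (M : Type u) [AddCommGroup M] [Module A M]

/-- the split sequence `B → B^{n+1} → B^n` -/
lemma exact_single_funLeft (n : ℕ) :
    Function.Injective (LinearMap.single A (fun _ : Fin (n + 1) => B) 0) ∧
    Function.Exact (LinearMap.single A (fun _ : Fin (n + 1) => B) 0)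
      (LinearMap.funLeft A B (Fin.succ : Fin n → Fin (n + 1))) ∧
    Function.Surjective (LinearMap.funLeft A B (Fin.succ : Fin n → Fin (n + 1))) := by
  refine ⟨?_, ?_, ?_⟩
  · intro x y hxy
    have := congrFun hxy 0
    simpa using this
  · intro v
    constructor
    · intro hv
      refine ⟨v 0, ?_⟩
      ext i
      induction i using Fin.cases with
      | zero => simp
      | succ i =>
        have := congrFun hv i
        simp only [LinearMap.funLeft_apply, Pi.zero_apply] at this
        simp [this, Fin.succ_ne_zero]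
    · rintro ⟨b, rfl⟩
      ext i
      simp [LinearMap.funLeft_apply, Fin.succ_ne_zero]
  · intro v
    refine ⟨Fin.cons 0 v, ?_⟩
    ext i
    simp [LinearMap.funLeft_apply]

/-- finite free `B`-modules -/
lemma isZero_tor_fin_pi (k : ℕ)
    (HB : ∀ j, 1 ≤ j → j ≤ k →
      IsZero (((Tor (ModuleCat.{u} A) j).obj (ModuleCat.of A B)).obj (ModuleCat.of A M)))
    (n : ℕ) : ∀ j, 1 ≤ j → j ≤ k →
      IsZero (((Tor (ModuleCat.{u} A) j).obj (ModuleCat.of A (Fin n → B))).obj
        (ModuleCat.of A M)) := by
  induction n with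
  | zero =>
    intro j hj _
    haveI : Module.Flat A (ModuleCat.of A (Fin 0 → B)) :=
      inferInstanceAs (Module.Flat A (Fin 0 → B))
    exact isZero_tor_of_flat_left _ _ j hj
  | succ n ih =>
    intro j hj hjk
    obtain ⟨h1, h2, h3⟩ := exact_single_funLeft (A := A) B n
    exact isZero_tor_mid _ _ _ (shortExact_of _ _ h1 h2 h3) _ j (HB j hj hjk) (ih j hj hjk)

/-- reduction to finitely generated `B`-modules -/
lemma isZero_tor_of_forall_finite (j : ℕ)
    (H : ∀ (T : Type u) [AddCommGroup T] [Module A T] [Module B T] [IsScalarTower A B T]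
      [Module.Finite B T],
      IsZero (((Tor (ModuleCat.{u} A) j).obj (ModuleCat.of A T)).obj (ModuleCat.of A M)))
    (T : Type u) [AddCommGroup T] [Module A T] [Module B T] [IsScalarTower A B T] :
    IsZero (((Tor (ModuleCat.{u} A) j).obj (ModuleCat.of A T)).obj (ModuleCat.of A M)) := by
  let ι := {S : Submodule B T // S.FG}
  haveI : Nonempty ι := ⟨⟨⊥, Submodule.fg_bot⟩⟩
  haveI : IsDirected ι (· ≤ ·) :=
    ⟨fun S₁ S₂ => ⟨⟨S₁.1 ⊔ S₂.1, S₁.2.sup S₂.2⟩, le_sup_left, le_sup_right⟩⟩
  refine isZero_tor_of_directed_union (ModuleCat.of A M) j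
    (fun i : ι => i.1.restrictScalars A) (fun i₁ i₂ h => h)
    (fun x => ⟨⟨Submodule.span B {x}, Submodule.fg_span_singleton x⟩,
      Submodule.subset_span rfl⟩) ?_
  intro i
  haveI : Module.Finite B (i.1.restrictScalars A) := Module.Finite.iff_fg.2 i.2
  exact H (i.1.restrictScalars A)

/-- **Dimension shifting over `B`**: if `B ⊗ M` is `B`-flat and `Tor_j^A(B, M) = 0` for
`1 ≤ j ≤ k`, then `Tor_j^A(T, M) = 0` for `1 ≤ j ≤ k` and every `B`-module `T`. -/
theorem isZero_tor_of_module [Module.Flat B (B ⊗[A] M)] (k : ℕ)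
    (HB : ∀ j, 1 ≤ j → j ≤ k →
      IsZero (((Tor (ModuleCat.{u} A) j).obj (ModuleCat.of A B)).obj (ModuleCat.of A M))) :
    ∀ j, 1 ≤ j → j ≤ k → ∀ (T : Type u) [AddCommGroup T] [Module A T] [Module B T]
      [IsScalarTower A B T],
      IsZero (((Tor (ModuleCat.{u} A) j).obj (ModuleCat.of A T)).obj (ModuleCat.of A M)) := by
  intro j hj
  induction j, hj using Nat.le_induction with
  | base =>
    intro hk T _ _ _ _
    refine isZero_tor_of_forall_finite B M 1 ?_ T
    intro T _ _ _ _ _
    obtain ⟨n, q, hq⟩ := Module.Finite.exists_fin' B T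
    let K := LinearMap.ker q
    have hS := shortExact_of (K.subtype.restrictScalars A) (q.restrictScalars A)
      Subtype.val_injective (LinearMap.exact_subtype_ker_map q) hq
    refine (isZero_tor_one_iff_of_isZero _ _ _ hS (ModuleCat.of A M)
      (isZero_tor_fin_pi B M k HB n 1 le_rfl hk)).2 ?_
    exact rTensor_injective_of_flat_baseChange B M K.subtype Subtype.val_injective
  | succ j hj ih =>
    intro hk T _ _ _ _
    refine isZero_tor_of_forall_finite B M (j + 1) ?_ T
    intro T _ _ _ _ _
    obtain ⟨n, q, hq⟩ := Module.Finite.exists_fin' B T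
    let K := LinearMap.ker q
    have hS := shortExact_of (K.subtype.restrictScalars A) (q.restrictScalars A)
      Subtype.val_injective (LinearMap.exact_subtype_ker_map q) hq
    exact TorSeq.isZero_tor_succ_of_isZero _ _ _ hS (ModuleCat.of A M) j
      (isZero_tor_fin_pi B M k HB n (j + 1) (by omega) hk) (ih (by omega) K)

end DimShift

end Groth.Agent.Lib.Helper21.TorClass
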