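import Mathlib
import Groth.Agent.Lib.Helper21.TorLES
import Groth.Agent.Lib.Helper21.QIsoSeq
import Groth.Agent.Lib.Helper8.TorColim

/-!
# The class of `X` with `Tor_i(X, u)` an isomorphism for all `i` (helper21)

Two-out-of-three in short exact sequences, directed unions, isomorphisms.
-/

set_option autoImplicit false
set_option backward.isDefEq.respectTransparency false
set_option backward.defeqAttrib.useBackward true
universe u

namespace Groth.Agent.Lib.Helper21.TorIsoClass

open CategoryTheory Limits HomologicalComplex MonoidalCategory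
open Groth.Agent.Lib.Helper21.TorLES Groth.Agent.Lib.Helper21.TorShift

section Colim

variable {C D J : Type*} [Category C] [Category D] [Category J]

/-- a natural transformation between colimit-preserving functors which is an isomorphism on the
diagram is an isomorphism on the colimit -/
lemma isIso_app_of_isColimit {F G : C ⥤ D} (τ : F ⟶ G) {K : J ⥤ C} {c : Cocone K}
    (hc : IsColimit c) [PreservesColimit K F] [PreservesColimit K G]
    (h : ∀ j, IsIso (τ.app (K.obj j))) : IsIso (τ.app c.pt) := by
  have hF := isColimitOfPreserves F hc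
  have hG := isColimitOfPreserves G hc
  let e : K ⋙ F ≅ K ⋙ G := NatIso.ofComponents (fun j => asIso (τ.app (K.obj j)))
    (fun f => by simp)
  have heq : (IsColimit.coconePointsIsoOfNatIso hF hG e).hom = τ.app c.pt := by
    apply hF.hom_ext
    intro j
    rw [IsColimit.comp_coconePointsIsoOfNatIso_hom]
    simp [e]
  rw [← heq]
  infer_instance

end Colim

variable {R : Type u} [CommRing R] {M N : ModuleCat.{u} R} (u : M ⟶ N)

/-- `X` such that `Tor_i(X, u)` is an isomorphism for all `i`. -/
def IsoClass (X : ModuleCat.{u} R) : Prop :=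
  ∀ i : ℕ, IsIso (((Tor (ModuleCat.{u} R) i).obj X).map u)

/-- a lift of `u` to the chosen projective resolutions -/
noncomputable def lift :
    (ProjectiveResolution.of M).complex ⟶ (ProjectiveResolution.of N).complex :=
  ProjectiveResolution.lift u _ _

/-- `X ⊗ lift u` -/
noncomputable def q (X : ModuleCat.{u} R) :
    (((tensoringLeft (ModuleCat.{u} R)).obj X).mapHomologicalComplex (ComplexShape.down ℕ)).obj
        (ProjectiveResolution.of M).complex ⟶
      (((tensoringLeft (ModuleCat.{u} R)).obj X).mapHomologicalComplex (ComplexShape.down ℕ)).obj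
        (ProjectiveResolution.of N).complex :=
  (((tensoringLeft (ModuleCat.{u} R)).obj X).mapHomologicalComplex (ComplexShape.down ℕ)).map
    (lift u)

lemma isoClass_iff (X : ModuleCat.{u} R) : IsoClass u X ↔ QuasiIso (q u X) := by
  rw [quasiIso_iff]
  refine forall_congr' fun i => ?_
  rw [quasiIsoAt_iff_isIso_homologyMap]
  have hnat := ProjectiveResolution.isoLeftDerivedObj_hom_naturality u
    (ProjectiveResolution.of M) (ProjectiveResolution.of N) (lift u)
    (ProjectiveResolution.lift_commutes_zero u _ _)
    ((tensoringLeft (ModuleCat.{u} R)).obj X) i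
  constructor
  · intro h
    have h' : IsIso ((((tensoringLeft (ModuleCat.{u} R)).obj X).leftDerived i).map u) := h
    have : HomologicalComplex.homologyMap (q u X) i =
        ((ProjectiveResolution.of M).isoLeftDerivedObj
          ((tensoringLeft (ModuleCat.{u} R)).obj X) i).inv ≫
        (((tensoringLeft (ModuleCat.{u} R)).obj X).leftDerived i).map u ≫
        ((ProjectiveResolution.of N).isoLeftDerivedObj
          ((tensoringLeft (ModuleCat.{u} R)).obj X) i).hom := by
      rw [hnat, Iso.inv_hom_id_assoc]
      rfl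
    rw [this]
    infer_instance
  · intro h
    have h' : IsIso ((((tensoringLeft (ModuleCat.{u} R)).obj X).mapHomologicalComplex _ ⋙
        HomologicalComplex.homologyFunctor _ _ i).map (lift u)) := h
    have : (((tensoringLeft (ModuleCat.{u} R)).obj X).leftDerived i).map u =
        ((ProjectiveResolution.of M).isoLeftDerivedObj
          ((tensoringLeft (ModuleCat.{u} R)).obj X) i).hom ≫
        ((((tensoringLeft (ModuleCat.{u} R)).obj X).mapHomologicalComplex _ ⋙
          HomologicalComplex.homologyFunctor _ _ i).map (lift u)) ≫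
        ((ProjectiveResolution.of N).isoLeftDerivedObj
          ((tensoringLeft (ModuleCat.{u} R)).obj X) i).inv := by
      rw [← Category.assoc, ← hnat, Category.assoc, Iso.hom_inv_id, Category.comp_id]
    change IsIso ((((tensoringLeft (ModuleCat.{u} R)).obj X).leftDerived i).map u)
    rw [this]
    infer_instance

section SES

variable {X₁ X₂ X₃ : ModuleCat.{u} R} (f : X₁ ⟶ X₂) (g : X₂ ⟶ X₃) (w : f ≫ g = 0)
  (hS : (ShortComplex.mk f g w).ShortExact)

/-- the morphism of short exact sequences of complexes induced by `lift u` -/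
noncomputable def φ :
    sc ((tensoringLeft (ModuleCat.{u} R)).map f) ((tensoringLeft (ModuleCat.{u} R)).map g)
        (map_comp_zero f g w) (ProjectiveResolution.of M) ⟶
      sc ((tensoringLeft (ModuleCat.{u} R)).map f) ((tensoringLeft (ModuleCat.{u} R)).map g)
        (map_comp_zero f g w) (ProjectiveResolution.of N) :=
  ShortComplex.homMk (q u X₁) (q u X₂) (q u X₃)
    ((NatTrans.mapHomologicalComplex ((tensoringLeft (ModuleCat.{u} R)).map f)
      (ComplexShape.down ℕ)).naturality (lift u))
    ((NatTrans.mapHomologicalComplex ((tensoringLeft (ModuleCat.{u} R)).map g)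
      (ComplexShape.down ℕ)).naturality (lift u))

include hS

theorem isoClass_X₁ (h₂ : IsoClass u X₂) (h₃ : IsoClass u X₃) : IsoClass u X₁ := by
  rw [isoClass_iff] at h₂ h₃ ⊢
  exact QIsoSeq.quasiIso_τ₁ (φ u f g w)
    (sc_shortExact _ _ _ _ (fun Q _ => shortExact_app f g w hS Q))
    (sc_shortExact _ _ _ _ (fun Q _ => shortExact_app f g w hS Q)) h₂ h₃

theorem isoClass_X₂ (h₁ : IsoClass u X₁) (h₃ : IsoClass u X₃) : IsoClass u X₂ := by
  rw [isoClass_iff] at h₁ h₃ ⊢
  exact QIsoSeq.quasiIso_τ₂ (φ u f g w)
    (sc_shortExact _ _ _ _ (fun Q _ => shortExact_app f g w hS Q))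
    (sc_shortExact _ _ _ _ (fun Q _ => shortExact_app f g w hS Q)) h₁ h₃

theorem isoClass_X₃ (h₁ : IsoClass u X₁) (h₂ : IsoClass u X₂) : IsoClass u X₃ := by
  rw [isoClass_iff] at h₁ h₂ ⊢
  exact HomologicalComplex.HomologySequence.quasiIso_τ₃ (φ u f g w)
    (sc_shortExact _ _ _ _ (fun Q _ => shortExact_app f g w hS Q))
    (sc_shortExact _ _ _ _ (fun Q _ => shortExact_app f g w hS Q)) h₁ h₂

end SES

theorem isoClass_of_iso {X Y : ModuleCat.{u} R} (e : X ≅ Y) (h : IsoClass u X) : IsoClass u Y := by
  intro i
  have hX := h i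
  have hnat := ((Tor (ModuleCat.{u} R) i).map e.inv).naturality u
  have : ((Tor (ModuleCat.{u} R) i).obj Y).map u =
      ((Tor (ModuleCat.{u} R) i).map e.inv).app M ≫ ((Tor (ModuleCat.{u} R) i).obj X).map u ≫
        ((Tor (ModuleCat.{u} R) i).map e.hom).app N := by
    rw [← Category.assoc, ← hnat, Category.assoc, ← NatTrans.comp_app, ← Functor.map_comp,
      e.inv_hom_id, CategoryTheory.Functor.map_id, NatTrans.id_app, Category.comp_id]
  rw [this]
  haveI : IsIso (((Tor (ModuleCat.{u} R) i).map e.inv).app M) :=
    inferInstanceAs (IsIso ((((Tor (ModuleCat.{u} R) i).mapIso e.symm).app M).hom))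
  haveI : IsIso (((Tor (ModuleCat.{u} R) i).map e.hom).app N) :=
    inferInstanceAs (IsIso ((((Tor (ModuleCat.{u} R) i).mapIso e).app N).hom))
  infer_instance

/-- directed unions -/
theorem isoClass_of_directed_union
    {X : Type u} [AddCommGroup X] [Module R X]
    {ι : Type u} [Preorder ι] [IsDirected ι (· ≤ ·)] [Nonempty ι]
    (S : ι → Submodule R X) (hS : Monotone S) (hcov : ∀ x : X, ∃ i, x ∈ S i)
    (h : ∀ i, IsoClass u (ModuleCat.of R (S i))) : IsoClass u (ModuleCat.of R X) := by
  classical
  let G : ι → Type u := fun i => S i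
  let fm : ∀ i j, i ≤ j → G i →ₗ[R] G j := fun i j hij => Submodule.inclusion (hS hij)
  haveI : DirectedSystem G fun i j h => fm i j h :=
    ⟨fun _ _ => rfl, fun _ _ _ _ _ _ => rfl⟩
  let L : Module.DirectLimit G fm →ₗ[R] X :=
    Module.DirectLimit.lift R ι G fm (fun i => (S i).subtype) (fun i j hij x => rfl)
  have hLinj : Function.Injective L :=
    Module.DirectLimit.lift_injective _ _ (fun i => Subtype.val_injective)
  have hLsurj : Function.Surjective L := by
    intro x
    obtain ⟨i, hi⟩ := hcov x
    exact ⟨Module.DirectLimit.of R ι G fm i ⟨x, hi⟩, by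
      simp only [L, Module.DirectLimit.lift_of]; rfl⟩
  let e : Module.DirectLimit G fm ≃ₗ[R] X := LinearEquiv.ofBijective L ⟨hLinj, hLsurj⟩
  have hc := ModuleCat.directLimitIsColimit (R := R) G fm
  refine isoClass_of_iso u e.toModuleIso ?_
  intro i
  haveI : PreservesColimitsOfShape ι ((Tor (ModuleCat.{u} R) i).flip.obj M) :=
    Groth.Agent.Lib.Helper8.TorColim.preservesFilteredColimits M i ι
  haveI : PreservesColimitsOfShape ι ((Tor (ModuleCat.{u} R) i).flip.obj N) :=
    Groth.Agent.Lib.Helper8.TorColim.preservesFilteredColimits N i ι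
  exact isIso_app_of_isColimit ((Tor (ModuleCat.{u} R) i).flip.map u) hc (fun j => h j i)

end Groth.Agent.Lib.Helper21.TorIsoClass
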