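import Mathlib

set_option autoImplicit false
set_option backward.isDefEq.respectTransparency.types false
set_option linter.style.haveILetI false
universe u
open TensorProduct

namespace Groth.Agent.Lib.Helper21.UnivInj

/-- if every element of `B` has a `q`-power which is a fraction of elements of `A`,
then a prime of `B ⊗[A] B` whose contraction to the right factor is zero contains the kernel of the
multiplication map. -/
theorem ker_lmul'_le_of_comap_eq_bot {A B : Type u} [CommRing A] [CommRing B] [Algebra A B]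
    (q : ℕ) [ExpChar B q]
    (hrad : ∀ b : B, ∃ e : ℕ, ∃ d : A, algebraMap A B d ≠ 0 ∧ ∃ d₂ : A,
      algebraMap A B d * b ^ (q ^ e) = algebraMap A B d₂)
    (𝔮 : Ideal (B ⊗[A] B)) [h𝔮 : 𝔮.IsPrime]
    (h1 : 𝔮.comap (Algebra.TensorProduct.includeRight : B →ₐ[A] B ⊗[A] B).toRingHom = ⊥) :
    RingHom.ker (Algebra.TensorProduct.lmul' A : B ⊗[A] B →ₐ[A] B) ≤ 𝔮 := by
  have hinjL : Function.Injective
      (algebraMap B (B ⊗[A] B)) := by
    intro x y hxy
    have := congrArg (Algebra.TensorProduct.lmul' A : B ⊗[A] B →ₐ[A] B) hxy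
    simpa [Algebra.TensorProduct.algebraMap_apply] using this
  haveI : ExpChar (B ⊗[A] B) q := expChar_of_injective_algebraMap hinjL q
  have hker : RingHom.ker (Algebra.TensorProduct.lmul' A : B ⊗[A] B →ₐ[A] B) =
      KaehlerDifferential.ideal A B := rfl
  rw [hker, ← KaehlerDifferential.span_range_eq_ideal, Ideal.span_le]
  rintro _ ⟨b, rfl⟩
  obtain ⟨e, d, hd, d₂, hdb⟩ := hrad b
  have h2 : (1 : B) ⊗ₜ[A] (algebraMap A B d) * (1 : B) ⊗ₜ[A] (b ^ q ^ e) =
      (1 : B) ⊗ₜ[A] (algebraMap A B d₂) := by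
    rw [Algebra.TensorProduct.tmul_mul_tmul, mul_one, hdb]
  have h3 : (1 : B) ⊗ₜ[A] (algebraMap A B d) * (b ^ q ^ e) ⊗ₜ[A] (1 : B) =
      (1 : B) ⊗ₜ[A] (algebraMap A B d₂) := by
    rw [Algebra.TensorProduct.tmul_mul_tmul, mul_one, one_mul, Algebra.algebraMap_eq_smul_one,
      ← TensorProduct.smul_tmul, Algebra.smul_def, hdb, Algebra.algebraMap_eq_smul_one d₂,
      TensorProduct.smul_tmul]
  have hkey : ((1 : B) ⊗ₜ[A] (algebraMap A B d)) *
      ((1 : B) ⊗ₜ[A] b - b ⊗ₜ[A] (1 : B)) ^ (q ^ e) = 0 := by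
    rw [sub_pow_expChar_pow, Algebra.TensorProduct.tmul_pow, Algebra.TensorProduct.tmul_pow,
      one_pow, mul_sub, h2, h3, sub_self]
  have hmem : ((1 : B) ⊗ₜ[A] (algebraMap A B d)) *
      ((1 : B) ⊗ₜ[A] b - b ⊗ₜ[A] (1 : B)) ^ (q ^ e) ∈ 𝔮 := by
    rw [hkey]; exact 𝔮.zero_mem
  rcases h𝔮.mem_or_mem hmem with h4 | h4
  · exfalso
    apply hd
    have h5 : algebraMap A B d ∈
        𝔮.comap (Algebra.TensorProduct.includeRight : B →ₐ[A] B ⊗[A] B).toRingHom := h4
    rw [h1] at h5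
    exact h5
  · exact h𝔮.mem_of_pow_mem _ h4

/-- if the kernel of the multiplication map lies in all minimal primes then `Spec B → Spec (B ⊗ B)`
is surjective. -/
theorem comap_lmul'_surjective {A B : Type u} [CommRing A] [CommRing B] [Algebra A B]
    (h : ∀ 𝔮 ∈ minimalPrimes (B ⊗[A] B),
      RingHom.ker (Algebra.TensorProduct.lmul' A : B ⊗[A] B →ₐ[A] B) ≤ 𝔮) :
    Function.Surjective
      (PrimeSpectrum.comap (Algebra.TensorProduct.lmul' A : B ⊗[A] B →ₐ[A] B).toRingHom) := by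
  intro 𝔓
  obtain ⟨𝔮, h𝔮, h𝔮𝔓⟩ := Ideal.exists_minimalPrimes_le (show (⊥ : Ideal (B ⊗[A] B)) ≤ 𝔓.asIdeal
    from bot_le)
  have hle : RingHom.ker (Algebra.TensorProduct.lmul' A : B ⊗[A] B →ₐ[A] B).toRingHom ≤
      𝔓.asIdeal := (h 𝔮 h𝔮).trans h𝔮𝔓
  have hsurj : Function.Surjective
      (Algebra.TensorProduct.lmul' A : B ⊗[A] B →ₐ[A] B).toRingHom := fun b =>
    ⟨b ⊗ₜ 1, by simp⟩
  have hmem : 𝔓 ∈ Set.range (PrimeSpectrum.comap
      (Algebra.TensorProduct.lmul' A : B ⊗[A] B →ₐ[A] B).toRingHom) := by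
    rw [_root_.range_comap_of_surjective _ _ hsurj, PrimeSpectrum.mem_zeroLocus]
    exact hle
  exact hmem

end Groth.Agent.Lib.Helper21.UnivInj

namespace Groth.Agent.Lib.Helper21.UnivInj

open CategoryTheory CategoryTheory.Limits AlgebraicGeometry

/-- scheme-level consequence: `Spec B → Spec A` is universally injective. -/
theorem universallyInjective_SpecMap {A B : Type u} [CommRing A] [CommRing B] [Algebra A B]
    (h : ∀ 𝔮 ∈ minimalPrimes (B ⊗[A] B),
      RingHom.ker (Algebra.TensorProduct.lmul' A : B ⊗[A] B →ₐ[A] B) ≤ 𝔮) :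
    UniversallyInjective (Spec.map (CommRingCat.ofHom (algebraMap A B))) := by
  rw [UniversallyInjective.iff_diagonal, diagonal_SpecMap]
  have h1 := comap_lmul'_surjective h
  constructor
  intro v
  obtain ⟨w, hw⟩ := h1 ((pullbackSpecIso A B B).hom v)
  refine ⟨w, ?_⟩
  rw [Scheme.Hom.comp_apply]
  have h2 : (Spec.map (CommRingCat.ofHom
      (Algebra.TensorProduct.lmul' A : B ⊗[A] B →ₐ[A] B).toRingHom)) w =
      (pullbackSpecIso A B B).hom v := hw
  rw [h2, ← Scheme.Hom.comp_apply, Iso.hom_inv_id]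
  rfl

end Groth.Agent.Lib.Helper21.UnivInj
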