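import Mathlib

/-!
# Helper21 — UnramModelA: an unramified algebra is a quotient of a finitely presented unramified one.
-/

set_option autoImplicit false

namespace Groth.Agent.Lib.Helper21.UnramModel

open scoped TensorProduct

universe u

theorem exists_finset_of_mem {P Q : Type*} [CommRing P] [CommRing Q] (φ ψ : P →+* Q) (I : Ideal P)
    (x : Q) (hx : x ∈ I.map φ ⊔ I.map ψ) :
    ∃ F : Finset P, (↑F ⊆ (I : Set P)) ∧
      x ∈ (Ideal.span (F : Set P)).map φ ⊔ (Ideal.span (F : Set P)).map ψ := by
  classical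
  rw [Ideal.map, Ideal.map, ← Ideal.span_union] at hx
  obtain ⟨T, hT, hxT⟩ := Submodule.mem_span_finite_of_mem_span hx
  have h1 : ∀ t ∈ T, ∃ g ∈ I, φ g = t ∨ ψ g = t := by
    intro t ht
    rcases hT ht with ⟨g, hg, rfl⟩ | ⟨g, hg, rfl⟩
    · exact ⟨g, hg, Or.inl rfl⟩
    · exact ⟨g, hg, Or.inr rfl⟩
  choose! g hgI hgt using h1
  refine ⟨T.image g, ?_, ?_⟩
  · intro p hp
    rw [Finset.coe_image] at hp
    obtain ⟨t, ht, rfl⟩ := hp
    exact hgI t ht
  · have h2 : Ideal.span (T : Set Q) ≤
        (Ideal.span ((T.image g : Finset P) : Set P)).map φ ⊔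
          (Ideal.span ((T.image g : Finset P) : Set P)).map ψ := by
      rw [Ideal.span_le]
      intro t ht
      have hg : g t ∈ Ideal.span ((T.image g : Finset P) : Set P) :=
        Ideal.subset_span (Finset.mem_coe.2 (Finset.mem_image_of_mem g ht))
      rcases hgt t ht with h | h
      · rw [← h]
        exact Ideal.mem_sup_left (Ideal.mem_map_of_mem φ hg)
      · rw [← h]
        exact Ideal.mem_sup_right (Ideal.mem_map_of_mem ψ hg)
    exact h2 hxT

theorem lmul'_map {R P S : Type*} [CommRing R] [CommRing P] [CommRing S] [Algebra R P] [Algebra R S]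
    (π : P →ₐ[R] S) (T : P ⊗[R] P) :
    Algebra.TensorProduct.lmul' R (Algebra.TensorProduct.map π π T) =
      π (Algebra.TensorProduct.lmul' R T) := by
  induction T using TensorProduct.induction_on with
  | zero => simp
  | tmul a b => simp
  | add x y hx hy => rw [map_add, map_add, map_add, map_add, hx, hy]

/-- the diagonal condition may be checked on algebra generators. -/
theorem diag_of_generators {R S : Type*} [CommRing R] [CommRing S] [Algebra R S] (t : S ⊗[R] S)
    (s : Set S) (hs : Algebra.adjoin R s = ⊤)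
    (h : ∀ x ∈ s, ((1 : S) ⊗ₜ[R] x - x ⊗ₜ[R] (1 : S)) * t = 0) :
    ∀ x : S, ((1 : S) ⊗ₜ[R] x - x ⊗ₜ[R] (1 : S)) * t = 0 := by
  intro x
  have hx : x ∈ Algebra.adjoin R s := by rw [hs]; trivial
  induction hx using Algebra.adjoin_induction with
  | mem x hx => exact h x hx
  | algebraMap r =>
    have : (1 : S) ⊗ₜ[R] (algebraMap R S r) - (algebraMap R S r) ⊗ₜ[R] (1 : S) = 0 := by
      rw [Algebra.algebraMap_eq_smul_one, TensorProduct.tmul_smul, TensorProduct.smul_tmul',
        sub_self]
    rw [this, zero_mul]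
  | add x y _ _ hx hy =>
    rw [TensorProduct.tmul_add, TensorProduct.add_tmul, add_sub_add_comm, add_mul, hx, hy, add_zero]
  | mul x y _ _ hx hy =>
    have e : (1 : S) ⊗ₜ[R] (x * y) - (x * y) ⊗ₜ[R] (1 : S) =
        ((1 : S) ⊗ₜ[R] x) * ((1 : S) ⊗ₜ[R] y - y ⊗ₜ[R] (1 : S)) +
          (y ⊗ₜ[R] (1 : S)) * ((1 : S) ⊗ₜ[R] x - x ⊗ₜ[R] (1 : S)) := by
      simp only [mul_sub, Algebra.TensorProduct.tmul_mul_tmul, mul_one, one_mul]
      rw [mul_comm y x]
      abel
    rw [e, add_mul, mul_assoc, hy, mul_zero, mul_assoc, hx, mul_zero, add_zero]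

set_option maxHeartbeats 1600000 in
/-- an unramified algebra is a quotient of a finitely presented unramified algebra. -/
theorem exists_fp_unramified_cover (R S : Type u) [CommRing R] [CommRing S] [Algebra R S]
    [Algebra.Unramified R S] :
    ∃ (S' : Type u) (_ : CommRing S') (_ : Algebra R S'),
      Algebra.FinitePresentation R S' ∧ Algebra.FormallyUnramified R S' ∧
      ∃ g : S' →ₐ[R] S, Function.Surjective g := by
  classical
  obtain ⟨n, f, hf⟩ := Algebra.FiniteType.iff_quotient_mvPolynomial''.1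
    (inferInstance : Algebra.FiniteType R S)
  have hunr : Algebra.FormallyUnramified R S := inferInstance
  obtain ⟨t, ht1, ht2⟩ := Algebra.FormallyUnramified.iff_exists_tensorProduct.1 hunr
  obtain ⟨T, rfl⟩ := Algebra.TensorProduct.map_surjective (f := f) (g := f) hf hf t
  let inclL : MvPolynomial (Fin n) R →+* MvPolynomial (Fin n) R ⊗[R] MvPolynomial (Fin n) R :=
    (Algebra.TensorProduct.includeLeft :
      MvPolynomial (Fin n) R →ₐ[R] MvPolynomial (Fin n) R ⊗[R] MvPolynomial (Fin n) R)
  let inclR : MvPolynomial (Fin n) R →+* MvPolynomial (Fin n) R ⊗[R] MvPolynomial (Fin n) R :=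
    (Algebra.TensorProduct.includeRight :
      MvPolynomial (Fin n) R →ₐ[R] MvPolynomial (Fin n) R ⊗[R] MvPolynomial (Fin n) R)
  have hker : ∀ (J : Ideal (MvPolynomial (Fin n) R)) (π : MvPolynomial (Fin n) R →ₐ[R]
      (MvPolynomial (Fin n) R ⧸ J)), π = Ideal.Quotient.mkₐ R J →
      RingHom.ker (Algebra.TensorProduct.map π π) = J.map inclL ⊔ J.map inclR := by
    intro J π hπ
    subst hπ
    rw [Algebra.TensorProduct.map_ker _ _ (Ideal.Quotient.mkₐ_surjective R J)
      (Ideal.Quotient.mkₐ_surjective R J)]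
    have hk : RingHom.ker (Ideal.Quotient.mkₐ R J) = J := Ideal.Quotient.mkₐ_ker R J
    rw [hk]
    rfl
  have hmem : ∀ i : Fin n,
      ((1 : MvPolynomial (Fin n) R) ⊗ₜ[R] (MvPolynomial.X i) -
        (MvPolynomial.X i) ⊗ₜ[R] (1 : MvPolynomial (Fin n) R)) * T ∈
      (RingHom.ker f).map inclL ⊔ (RingHom.ker f).map inclR := by
    intro i
    have h0 : (RingHom.ker f).map inclL ⊔ (RingHom.ker f).map inclR =
        RingHom.ker (Algebra.TensorProduct.map f f) := by
      rw [Algebra.TensorProduct.map_ker _ _ hf hf]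
      rfl
    rw [h0, RingHom.mem_ker, map_mul, map_sub, Algebra.TensorProduct.map_tmul,
      Algebra.TensorProduct.map_tmul, map_one]
    exact ht1 (f (MvPolynomial.X i))
  have hlm : Algebra.TensorProduct.lmul' R T - 1 ∈ RingHom.ker f := by
    rw [RingHom.mem_ker, map_sub, map_one, sub_eq_zero, ← lmul'_map]
    exact ht2
  choose F hFI hF using fun i => exists_finset_of_mem inclL inclR (RingHom.ker f) _ (hmem i)
  let G : Set (MvPolynomial (Fin n) R) :=
    (⋃ i, (F i : Set (MvPolynomial (Fin n) R))) ∪ {Algebra.TensorProduct.lmul' R T - 1}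
  have hGfin : G.Finite :=
    (Set.finite_iUnion fun i => (F i).finite_toSet).union (Set.finite_singleton _)
  have hGI : G ⊆ (RingHom.ker f : Set (MvPolynomial (Fin n) R)) := by
    intro p hp
    rcases hp with hp | hp
    · obtain ⟨i, hi⟩ := Set.mem_iUnion.1 hp
      exact hFI i hi
    · rw [Set.mem_singleton_iff] at hp
      rw [hp]
      exact hlm
  let I' : Ideal (MvPolynomial (Fin n) R) := Ideal.span G
  have hI'I : I' ≤ RingHom.ker f := Ideal.span_le.2 hGI
  have hI'fg : I'.FG := ⟨hGfin.toFinset, by rw [Set.Finite.coe_toFinset]⟩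
  have hFI' : ∀ i, Ideal.span (F i : Set (MvPolynomial (Fin n) R)) ≤ I' := by
    intro i
    apply Ideal.span_mono
    intro p hp
    exact Or.inl (Set.mem_iUnion.2 ⟨i, hp⟩)
  refine ⟨MvPolynomial (Fin n) R ⧸ I', inferInstance, inferInstance,
    Algebra.FinitePresentation.quotient hI'fg, ?_,
    Ideal.Quotient.liftₐ I' f (fun a ha => hI'I ha), ?_⟩
  · -- formally unramified
    rw [Algebra.FormallyUnramified.iff_exists_tensorProduct]
    refine ⟨Algebra.TensorProduct.map (Ideal.Quotient.mkₐ R I') (Ideal.Quotient.mkₐ R I') T, ?_, ?_⟩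
    · apply diag_of_generators _ (Set.range fun i : Fin n =>
        Ideal.Quotient.mkₐ R I' (MvPolynomial.X i))
      · have h1 : (Set.range fun i : Fin n => Ideal.Quotient.mkₐ R I' (MvPolynomial.X i)) =
            (Ideal.Quotient.mkₐ R I') '' (Set.range (MvPolynomial.X : Fin n → _)) := by
          rw [← Set.range_comp]
          rfl
        rw [h1, ← AlgHom.map_adjoin, MvPolynomial.adjoin_range_X, Algebra.map_top,
          AlgHom.range_eq_top]
        exact Ideal.Quotient.mkₐ_surjective R I'
      · rintro _ ⟨i, rfl⟩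
        have h2 : ((1 : MvPolynomial (Fin n) R) ⊗ₜ[R] (MvPolynomial.X i) -
            (MvPolynomial.X i) ⊗ₜ[R] (1 : MvPolynomial (Fin n) R)) * T ∈
            RingHom.ker (Algebra.TensorProduct.map (Ideal.Quotient.mkₐ R I')
              (Ideal.Quotient.mkₐ R I')) := by
          rw [hker I' _ rfl]
          have h5 : (Ideal.span (F i : Set (MvPolynomial (Fin n) R))).map inclL ⊔
              (Ideal.span (F i : Set (MvPolynomial (Fin n) R))).map inclR ≤
              I'.map inclL ⊔ I'.map inclR :=
            sup_le_sup (Ideal.map_mono (hFI' i)) (Ideal.map_mono (hFI' i))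
          exact h5 (hF i)
        rw [RingHom.mem_ker, map_mul, map_sub, Algebra.TensorProduct.map_tmul,
          Algebra.TensorProduct.map_tmul, map_one] at h2
        exact h2
    · rw [lmul'_map]
      have h3 : Algebra.TensorProduct.lmul' R T - 1 ∈ I' :=
        Ideal.subset_span (Or.inr (Set.mem_singleton _))
      have h4 : Ideal.Quotient.mkₐ R I' (Algebra.TensorProduct.lmul' R T - 1) = 0 :=
        Ideal.Quotient.eq_zero_iff_mem.2 h3
      rw [map_sub, map_one, sub_eq_zero] at h4
      exact h4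
  · exact Ideal.Quotient.lift_surjective_of_surjective I' _ hf

end Groth.Agent.Lib.Helper21.UnramModel
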