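import Mathlib
import Groth.Agent.Lib.Helper21.UnramModelA

/-!
# Helper21 — UnramModelB: formal unramifiedness descends to a finitely generated subalgebra of the
base.
-/

set_option autoImplicit false

namespace Groth.Agent.Lib.Helper21.UnramModel

open scoped TensorProduct

universe u

/-- finitely many elements killed in `R ⊗ N` are killed in `B ⊗ N` for a f.g. subalgebra `B`. -/
theorem exists_fg_subalgebra_tmul_eq_zero {R₀ R N : Type*} [CommRing R₀] [CommRing R] [Algebra R₀ R]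
    [AddCommGroup N] [Module R₀ N] (s : Finset N)
    (hs : ∀ ω ∈ s, (1 : R) ⊗ₜ[R₀] ω = 0) :
    ∃ B : Subalgebra R₀ R, B.FG ∧ ∀ ω ∈ s, (1 : B) ⊗ₜ[R₀] ω = 0 := by
  classical
  induction s using Finset.induction_on with
  | empty => exact ⟨⊥, Subalgebra.fg_bot, fun ω hω => absurd hω (Finset.notMem_empty ω)⟩
  | insert ω s hωs ih =>
    obtain ⟨B₁, hB₁, h₁⟩ := ih (fun ω' hω' => hs ω' (Finset.mem_insert_of_mem hω'))
    have h0 : LinearMap.rTensor N (⊥ : Subalgebra R₀ R).val.toLinearMap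
          ((1 : (⊥ : Subalgebra R₀ R)) ⊗ₜ[R₀] ω) =
        LinearMap.rTensor N (⊥ : Subalgebra R₀ R).val.toLinearMap 0 := by
      rw [map_zero, LinearMap.rTensor_tmul]
      exact hs ω (Finset.mem_insert_self ω s)
    obtain ⟨B₂, hB₂le, hB₂, h₂⟩ :=
      TensorProduct.Algebra.eq_of_fg_of_subtype_eq (Subalgebra.fg_bot) h0
    rw [map_zero, LinearMap.rTensor_tmul] at h₂
    refine ⟨B₁ ⊔ B₂, hB₁.sup hB₂, ?_⟩
    intro ω' hω'
    rcases Finset.mem_insert.1 hω' with rfl | hω'
    · have := congrArg (LinearMap.rTensor N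
        (Subalgebra.inclusion (le_sup_right : B₂ ≤ B₁ ⊔ B₂)).toLinearMap) h₂
      rw [map_zero, LinearMap.rTensor_tmul] at this
      simpa using this
    · have := congrArg (LinearMap.rTensor N
        (Subalgebra.inclusion (le_sup_left : B₁ ≤ B₁ ⊔ B₂)).toLinearMap) (h₁ ω' hω')
      rw [map_zero, LinearMap.rTensor_tmul] at this
      simpa using this

attribute [local instance] Algebra.TensorProduct.rightAlgebra in
/-- formal unramifiedness of `R ⊗ S₀` over `R` already holds over a f.g. subalgebra of `R`. -/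
theorem exists_fg_subalgebra_formallyUnramified (R₀ R S₀ : Type u) [CommRing R₀] [CommRing R]
    [Algebra R₀ R] [CommRing S₀] [Algebra R₀ S₀] [Algebra.FiniteType R₀ S₀]
    [Algebra.FormallyUnramified R (R ⊗[R₀] S₀)] :
    ∃ B : Subalgebra R₀ R, B.FG ∧ Algebra.FormallyUnramified B (B ⊗[R₀] S₀) := by
  classical
  obtain ⟨s, hs⟩ := (Algebra.FiniteType.out : (⊤ : Subalgebra R₀ S₀).FG)
  have h1 : ∀ ω ∈ s.image (KaehlerDifferential.D R₀ S₀), (1 : R) ⊗ₜ[R₀] ω = 0 := by
    intro ω _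
    apply (KaehlerDifferential.tensorKaehlerEquivBase R₀ R S₀ (R ⊗[R₀] S₀)).injective
    exact Subsingleton.elim _ _
  obtain ⟨B, hB, h2⟩ := exists_fg_subalgebra_tmul_eq_zero (s.image (KaehlerDifferential.D R₀ S₀)) h1
  refine ⟨B, hB, ⟨?_⟩⟩
  have hD : KaehlerDifferential.D B (B ⊗[R₀] S₀) = 0 := by
    apply Derivation.ext_of_adjoin_eq_top _
      (Algebra.TensorProduct.adjoin_one_tmul_image_eq_top (A := B) (s : Set S₀) hs)
    rintro _ ⟨x, hx, rfl⟩
    have h3 := KaehlerDifferential.tensorKaehlerEquivBase_tmul R₀ B S₀ (B ⊗[R₀] S₀) (1 : B)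
      (KaehlerDifferential.D R₀ S₀ x)
    rw [h2 _ (Finset.mem_image_of_mem _ (Finset.mem_coe.1 hx)), map_zero, one_smul,
      KaehlerDifferential.map_D] at h3
    exact h3.symm
  have h4 := KaehlerDifferential.span_range_derivation B (B ⊗[R₀] S₀)
  rw [hD] at h4
  have h5 : (⊤ : Submodule (B ⊗[R₀] S₀) (Ω[(B ⊗[R₀] S₀)⁄B])) = ⊥ := by
    rw [← h4, Submodule.span_eq_bot]
    rintro _ ⟨y, rfl⟩
    rfl
  exact (Submodule.subsingleton_iff _).1 (subsingleton_of_bot_eq_top h5.symm)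

end Groth.Agent.Lib.Helper21.UnramModel
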