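import Mathlib
import Groth.Agent.Lib.Helper21.UnramModelB

/-!
# Helper21 — UnramModelC: an unramified algebra is a quotient of the base change of an unramified
algebra over a finite type `ℤ`-algebra.
-/

set_option autoImplicit false

namespace Groth.Agent.Lib.Helper21.UnramModel

open scoped TensorProduct

universe u

set_option maxHeartbeats 1600000 in
theorem exists_model (R S : Type u) [CommRing R] [CommRing S] [Algebra R S]
    [Algebra.Unramified R S] :
    ∃ (R₀ : Type u) (_ : CommRing R₀) (_ : Algebra.FiniteType ℤ R₀) (S₀ : Type u) (_ : CommRing S₀)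
      (_ : Algebra R₀ S₀) (_ : Algebra.Unramified R₀ S₀) (_ : Algebra R₀ R)
      (ψ : R ⊗[R₀] S₀ →ₐ[R] S), Function.Surjective ψ := by
  classical
  obtain ⟨S', _, _, hfp, hunr, g, hg⟩ := exists_fp_unramified_cover R S
  let P := Algebra.Presentation.ofFinitePresentation R S'
  haveI : Algebra.FormallyUnramified R (R ⊗[P.Core] P.ModelOfHasCoeffs P.Core) :=
    Algebra.FormallyUnramified.of_equiv (P.tensorModelOfHasCoeffsEquiv P.Core).symm
  obtain ⟨Bs, hBs, hBunr⟩ :=
    exists_fg_subalgebra_formallyUnramified P.Core R (P.ModelOfHasCoeffs P.Core)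
  haveI : Algebra.FiniteType P.Core Bs := (Subalgebra.fg_iff_finiteType Bs).1 hBs
  haveI : Algebra.FiniteType ℤ Bs :=
    Algebra.FiniteType.trans (inferInstance : Algebra.FiniteType ℤ P.Core) inferInstance
  refine ⟨Bs, inferInstance, inferInstance, Bs ⊗[P.Core] P.ModelOfHasCoeffs P.Core, inferInstance,
    inferInstance, ⟨hBunr, inferInstance⟩, inferInstance,
    g.comp ((P.tensorModelOfHasCoeffsEquiv P.Core).toAlgHom.comp
      (Algebra.TensorProduct.cancelBaseChange P.Core Bs R R (P.ModelOfHasCoeffs P.Core)).toAlgHom),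
    ?_⟩
  exact hg.comp ((P.tensorModelOfHasCoeffsEquiv P.Core).surjective.comp
    (Algebra.TensorProduct.cancelBaseChange P.Core Bs R R
      (P.ModelOfHasCoeffs P.Core)).surjective)

end Groth.Agent.Lib.Helper21.UnramModel
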