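import Mathlib

/-!
# Helper21 — ValGen1: topological lemmas on generic points of irreducible components of
(closed ∩ fibre) subspaces of quasi-sober spaces; valuation rings through a specialization
-/

set_option autoImplicit false
set_option backward.isDefEq.respectTransparency.types false
set_option linter.style.haveILetI false

namespace Groth.Agent.Lib.Helper21.ValGen

open Topology TopologicalSpace

universe u

section Top

variable {α β : Type*} [TopologicalSpace α] [TopologicalSpace β]

/-- a subspace `C ∩ φ⁻¹{p}` (`C` closed, `φ` continuous to a `T0` space) of a quasi-sober space is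
quasi-sober. -/
theorem quasiSober_closed_inter_fibre [QuasiSober α] [T0Space β] (φ : α → β) (hφ : Continuous φ)
    (p : β) (C : Set α) (hC : IsClosed C) : QuasiSober ↑(C ∩ φ ⁻¹' {p}) := by
  constructor
  intro T hTirr hTcl
  have himg : IsIrreducible (Subtype.val '' T : Set α) :=
    hTirr.image _ continuous_subtype_val.continuousOn
  have hcl : IsIrreducible (closure (Subtype.val '' T : Set α)) := himg.closure
  obtain ⟨ξ, hξ⟩ := QuasiSober.sober hcl isClosed_closure
  obtain ⟨τ, hτ⟩ := hTirr.nonempty
  have hτcl : (τ : α) ∈ closure (Subtype.val '' T : Set α) := subset_closure ⟨τ, hτ, rfl⟩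
  have hξτ : ξ ⤳ (τ : α) := by
    rw [specializes_iff_mem_closure, hξ.def]
    exact hτcl
  have hξC : ξ ∈ C := by
    have h1 : closure (Subtype.val '' T : Set α) ⊆ C := by
      apply closure_minimal _ hC
      rintro _ ⟨t, -, rfl⟩
      exact t.2.1
    exact h1 hξ.mem
  have hφξ : φ ξ = p := by
    have h1 : φ ξ ⤳ p := by
      have := hξτ.map hφ
      rwa [show φ (τ : α) = p from τ.2.2] at this
    have h2 : p ⤳ φ ξ := by
      rw [specializes_iff_mem_closure]
      have h3 : φ '' closure (Subtype.val '' T : Set α) ⊆ closure {p} := by
        refine (image_closure_subset_closure_image hφ).trans (closure_mono ?_)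
        rintro _ ⟨_, ⟨t, -, rfl⟩, rfl⟩
        exact t.2.2
      exact h3 ⟨ξ, hξ.mem, rfl⟩
    exact (h1.antisymm h2).eq
  refine ⟨⟨ξ, hξC, hφξ⟩, ?_⟩
  rw [isGenericPoint_def]
  have hind : IsInducing (Subtype.val : ↑(C ∩ φ ⁻¹' {p}) → α) := IsInducing.subtypeVal
  rw [hind.closure_eq_preimage_closure_image, Set.image_singleton, hξ.def,
    ← hind.closure_eq_preimage_closure_image, hTcl.closure_eq]

/-- in a quasi-sober space every point is a specialization of the generic point of an irreducible
component. -/
theorem exists_generic_of_component [QuasiSober α] (z : α) :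
    ∃ (z' : α), z' ⤳ z ∧ ∃ C ∈ irreducibleComponents α, IsGenericPoint z' C := by
  obtain ⟨z', hz'⟩ := QuasiSober.sober (isIrreducible_irreducibleComponent (x := z))
    isClosed_irreducibleComponent
  refine ⟨z', ?_, irreducibleComponent z, irreducibleComponent_mem_irreducibleComponents z, hz'⟩
  rw [specializes_iff_mem_closure, hz'.def]
  exact mem_irreducibleComponent

/-- a generization, inside a `T0` space, of the generic point of an irreducible component is that
generic point. -/
theorem eq_of_specializes_generic [T0Space α] {x w : α} {C : Set α}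
    (hC : C ∈ irreducibleComponents α) (hx : IsGenericPoint x C) (hw : w ⤳ x) : w = x := by
  have h1 : IsIrreducible (closure ({w} : Set α)) := isIrreducible_singleton.closure
  have h2 : C ≤ closure ({w} : Set α) := by
    rw [← hx.def]
    apply closure_minimal _ isClosed_closure
    rw [Set.singleton_subset_iff]
    exact specializes_iff_mem_closure.1 hw
  have h3 : closure ({w} : Set α) ≤ C := hC.2 h1 h2
  have h4 : closure ({w} : Set α) = closure ({x} : Set α) := by
    rw [hx.def]
    exact le_antisymm h3 h2
  have h5 : Inseparable w x := by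
    rw [inseparable_iff_closure_eq]
    exact h4
  exact h5.eq

end Top

section Sch

open AlgebraicGeometry CategoryTheory IsLocalRing

/-- a specialization `y ⤳ x` in a scheme is realized by a morphism from the spectrum of a valuation
ring. -/
theorem exists_valuationRing_hom_of_specializes {X : Scheme.{u}} {y x : X} (h : y ⤳ x) :
    ∃ (R : Type u) (_ : CommRing R) (_ : IsDomain R) (_ : ValuationRing R)
      (φ : Spec (CommRingCat.of R) ⟶ X),
      φ (⊥ : PrimeSpectrum R) = y ∧ φ (IsLocalRing.closedPoint R) = x := by
  let ψ : X.presheaf.stalk x ⟶ X.residueField y := X.presheaf.stalkSpecializes h ≫ X.residue y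
  obtain ⟨A, hA, hA_local⟩ := IsLocalRing.exists_factor_valuationRing ψ.hom
  let ψA : X.presheaf.stalk x ⟶ CommRingCat.of A := CommRingCat.ofHom (ψ.hom.codRestrict _ hA)
  let φ : Spec (CommRingCat.of A) ⟶ X := Spec.map ψA ≫ X.fromSpecStalk x
  refine ⟨A, inferInstance, inferInstance, inferInstance, φ, ?_, ?_⟩
  · have w : Spec.map (CommRingCat.ofHom (algebraMap A (X.residueField y))) ≫ φ =
        X.fromSpecResidueField y := by
      rw [Scheme.fromSpecResidueField, ← Scheme.SpecMap_stalkSpecializes_fromSpecStalk h]
      simp_rw [φ, ← Spec.map_comp_assoc]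
      rfl
    have h1 : Spec.map (CommRingCat.ofHom (algebraMap A (X.residueField y)))
        (closedPoint (X.residueField y)) = (⊥ : PrimeSpectrum A) := by
      apply PrimeSpectrum.ext
      change Ideal.comap (algebraMap A (X.residueField y)) (maximalIdeal (X.residueField y)) = ⊥
      rw [IsLocalRing.maximalIdeal_eq_bot]
      exact Ideal.comap_bot_of_injective _ Subtype.val_injective
    rw [← h1, ← Scheme.Hom.comp_apply, w]
    exact Scheme.fromSpecResidueField_apply y _
  · simp only [φ, Scheme.Hom.comp_base, TopCat.coe_comp, Function.comp_apply]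
    have : Spec.map ψA (closedPoint A) = closedPoint (X.presheaf.stalk x) :=
      comap_closedPoint (S := A) (ψ.hom.codRestrict A.toSubring hA)
    rw [this, X.fromSpecStalk_closedPoint]

end Sch

end Groth.Agent.Lib.Helper21.ValGen
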