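import Mathlib
import Groth.Agent.Lib.Helper13.KAabs

/-!
# Helper21 — ValS2A: discrete valuation rings with algebraic residue field extension.

For a non-nilpotent element `x` of the maximal ideal of a Noetherian local ring `C` there is a
discrete valuation ring `D` and a local homomorphism `φ : C → D` with `φ x ≠ 0` such that the residue
field of `D` is integral over `C` (Krull--Akizuki).
-/

set_option autoImplicit false
set_option linter.style.haveILetI false
universe u

namespace Groth.Agent.Lib.Helper21.ValS2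

open IsLocalRing Polynomial

/-- integrality transfers along a ring map with larger range. -/
theorem isIntegral_of_range_le {R R' T : Type*} [CommRing R] [CommRing R'] [CommRing T]
    (ψ : R →+* T) (ψ' : R' →+* T) (h : ψ'.range ≤ ψ.range) (hψ' : ψ'.IsIntegral) :
    ψ.IsIntegral := by
  intro z
  obtain ⟨p, hp, hpz⟩ := hψ' z
  have hl : p.map ψ' ∈ Polynomial.lifts ψ := by
    rw [Polynomial.lifts_iff_coeff_lifts]
    intro k
    rw [Polynomial.coeff_map]
    exact h ⟨_, rfl⟩
  obtain ⟨q, hq, -, hqm⟩ := Polynomial.lifts_and_natDegree_eq_and_monic hl (hp.map ψ')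
  refine ⟨q, hqm, ?_⟩
  rw [← Polynomial.eval_map, hq, Polynomial.eval_map]
  exact hpz

section DimOne
variable {A : Type u} [CommRing A] [IsDomain A] [IsNoetherianRing A]

theorem eq_bot_of_lt_of_height_le_one {P P' : Ideal A} [P.IsPrime] [P'.IsPrime] (h : P < P')
    (h1 : P'.height ≤ 1) : P = ⊥ := by
  have hlt : P.height < P'.height := Ideal.height_strict_mono_of_isPrime_of_isPrime h
  have h0 : P.height = 0 := Order.lt_one_iff.1 (lt_of_lt_of_le hlt h1)
  exact Ideal.height_eq_zero_iff_eq_bot.1 h0

variable [IsLocalRing A]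

/-- a Noetherian local domain in which a nonzero element lies in every nonzero prime has dimension
at most one. -/
theorem krullDimLE_one_of_forall_mem (x : A) (hx0 : x ≠ 0) (hxm : x ∈ maximalIdeal A)
    (H : ∀ P : Ideal A, P.IsPrime → P ≠ ⊥ → x ∈ P) : Ring.KrullDimLE 1 A := by
  classical
  set Min := (Ideal.span {x}).minimalPrimes with hMin
  have hfin : Min.Finite := Ideal.finite_minimalPrimes_of_isNoetherianRing A _
  have hprime : ∀ P ∈ Min, P.IsPrime := fun P hP => hP.1.1
  have hspan : Ideal.span {x} ≤ maximalIdeal A := (Ideal.span_singleton_le_iff_mem _).2 hxm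
  have hsub : ((maximalIdeal A : Ideal A) : Set A) ⊆ ⋃ P ∈ Min, (P : Set A) := by
    intro y hy
    by_cases hy0 : y = 0
    · obtain ⟨P, hP, -⟩ := Ideal.exists_minimalPrimes_le hspan
      exact Set.mem_biUnion hP (by rw [hy0]; exact P.zero_mem)
    · have hyle : Ideal.span {y} ≤ maximalIdeal A := (Ideal.span_singleton_le_iff_mem _).2 hy
      obtain ⟨P', hP', hP'm⟩ := Ideal.exists_minimalPrimes_le hyle
      haveI : P'.IsPrime := hP'.1.1
      have hh : P'.height ≤ 1 := Ideal.height_le_one_of_isPrincipal_of_mem_minimalPrimes _ P' hP'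
      have hyP' : y ∈ P' := hP'.1.2 (Ideal.subset_span rfl)
      have hP'0 : P' ≠ ⊥ := fun h => hy0 (by rw [h] at hyP'; exact hyP')
      have hxP' : x ∈ P' := H P' inferInstance hP'0
      obtain ⟨P'', hP'', hle⟩ := Ideal.exists_minimalPrimes_le
        ((Ideal.span_singleton_le_iff_mem _).2 hxP')
      haveI : P''.IsPrime := hP''.1.1
      have hP''0 : P'' ≠ ⊥ := fun h => hx0 (by
        have : x ∈ P'' := hP''.1.2 (Ideal.subset_span rfl)
        rw [h] at this; exact this)
      have heq : P'' = P' := by
        by_contra hne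
        exact hP''0 (eq_bot_of_lt_of_height_le_one (lt_of_le_of_ne hle hne) hh)
      exact Set.mem_biUnion hP'' (heq ▸ hyP')
  have hne : maximalIdeal A ≠ ⊤ := Ideal.IsPrime.ne_top inferInstance
  have hmem : maximalIdeal A ∈ Min :=
    (Ideal.subset_iUnion_iff_mem_of_isMaximal_of_finite hfin (maximalIdeal A) (maximalIdeal A)
      (fun I hI _ _ => hprime I hI) hne hne).1 hsub
  have hht : (maximalIdeal A).height ≤ 1 :=
    Ideal.height_le_one_of_isPrincipal_of_mem_minimalPrimes _ _ hmem
  refine Ring.KrullDimLE.mk₁' fun I hI0 hI => ?_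
  haveI := hI
  have hle : I ≤ maximalIdeal A := le_maximalIdeal hI.ne_top
  by_cases hIm : I = maximalIdeal A
  · rw [hIm]; infer_instance
  · exact absurd (eq_bot_of_lt_of_height_le_one (lt_of_le_of_ne hle hIm) hht) hI0

end DimOne

section AtPrime
/-- the residue field of the localization at a maximal ideal of an integral extension is integral
over the base. -/
theorem residue_isIntegral_atPrime (A₁ At : Type u) [CommRing A₁] [CommRing At] [Algebra A₁ At]
    [Algebra.IsIntegral A₁ At] (M : Ideal At) [hM : M.IsMaximal] (D : Type u) [CommRing D]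
    [Algebra At D] [IsLocalization.AtPrime D M] [IsLocalRing D] :
    ((Ideal.Quotient.mk (maximalIdeal D)).comp
      ((algebraMap At D).comp (algebraMap A₁ At))).IsIntegral := by
  intro z
  obtain ⟨d, rfl⟩ := Ideal.Quotient.mk_surjective z
  obtain ⟨a, s, rfl⟩ := IsLocalization.exists_mk'_eq M.primeCompl d
  obtain ⟨y, i, hi, hyi⟩ := hM.exists_inv s.2
  have hcong : Ideal.Quotient.mk (maximalIdeal D) (IsLocalization.mk' D a s) =
      Ideal.Quotient.mk (maximalIdeal D) (algebraMap At D (a * y)) := by
    rw [Ideal.Quotient.eq]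
    have h1 : IsLocalization.mk' D a s - algebraMap At D (a * y) =
        IsLocalization.mk' D a s * algebraMap At D i := by
      have h2 : IsLocalization.mk' D a s * algebraMap At D (s : At) = algebraMap At D a :=
        IsLocalization.mk'_spec D a s
      have h3 : algebraMap At D y * algebraMap At D (s : At) + algebraMap At D i = 1 := by
        rw [← map_mul, ← map_add, hyi, map_one]
      rw [map_mul, ← h2]
      linear_combination (-(IsLocalization.mk' D a s)) * h3
    rw [h1]
    exact Ideal.mul_mem_left _ _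
      ((IsLocalization.AtPrime.to_map_mem_maximal_iff D M _).2 hi)
  have hint : IsIntegral A₁ (a * y) := Algebra.IsIntegral.isIntegral _
  obtain ⟨p, hp, hpe⟩ := hint
  refine ⟨p, hp, ?_⟩
  rw [hcong]
  have h4 := Polynomial.hom_eval₂ p (algebraMap A₁ At)
    ((Ideal.Quotient.mk (maximalIdeal D)).comp (algebraMap At D)) (a * y)
  rw [hpe, map_zero] at h4
  exact h4.symm

end AtPrime

section Good
variable (C : Type u) [CommRing C] [IsLocalRing C] [IsNoetherianRing C]

/-- a prime `Q` not containing `x` such that every strictly larger prime contains `x`. -/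
theorem exists_prime_maximal_notMem (x : C) (hx : ¬ IsNilpotent x) :
    ∃ Q : Ideal C, Q.IsPrime ∧ x ∉ Q ∧ ∀ P : Ideal C, P.IsPrime → Q < P → x ∈ P := by
  classical
  let S := Localization.Away x
  haveI : Nontrivial S := by
    rw [← not_subsingleton_iff_nontrivial, IsLocalization.subsingleton_iff (M := Submonoid.powers x)]
    rintro ⟨k, hk⟩
    exact hx ⟨k, hk⟩
  obtain ⟨M, hM⟩ := Ideal.exists_maximal S
  haveI := hM
  refine ⟨M.comap (algebraMap C S), inferInstance, ?_, ?_⟩
  · intro hxM
    have hu : IsUnit (algebraMap C S x) := IsLocalization.Away.algebraMap_isUnit x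
    exact hM.ne_top (Ideal.eq_top_of_isUnit_mem _ hxM hu)
  · intro P hP hQP
    by_contra hxP
    have hdisj : Disjoint ((Submonoid.powers x : Submonoid C) : Set C) (P : Set C) := by
      rw [Set.disjoint_left]
      rintro y ⟨k, rfl⟩ hy
      exact hxP (hP.mem_of_pow_mem k hy)
    have hP' : (P.map (algebraMap C S)).IsPrime :=
      IsLocalization.isPrime_of_isPrime_disjoint (Submonoid.powers x) S P hP hdisj
    have hcomap : (P.map (algebraMap C S)).comap (algebraMap C S) = P :=
      IsLocalization.comap_map_of_isPrime_disjoint (Submonoid.powers x) S hP hdisj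
    have hMle : M ≤ P.map (algebraMap C S) := by
      rw [← IsLocalization.map_comap (Submonoid.powers x) S M]
      exact Ideal.map_mono hQP.le
    have hMeq : M = P.map (algebraMap C S) := hM.eq_of_le hP'.ne_top hMle
    have : M.comap (algebraMap C S) = P := by rw [hMeq, hcomap]
    exact hQP.ne this

/-- **Good discrete valuation rings.** -/
theorem exists_good_dvr (x : C) (hxm : x ∈ maximalIdeal C) (hx : ¬ IsNilpotent x) :
    ∃ (D : Type u) (_ : CommRing D) (_ : IsDomain D) (_ : IsDiscreteValuationRing D)
      (φ : C →+* D), IsLocalHom φ ∧ φ x ≠ 0 ∧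
        ((Ideal.Quotient.mk (maximalIdeal D)).comp φ).IsIntegral := by
  classical
  obtain ⟨Q, hQ, hxQ, hQmax⟩ := exists_prime_maximal_notMem C x hx
  haveI := hQ
  let A₁ := C ⧸ Q
  haveI : IsLocalRing A₁ :=
    IsLocalRing.of_surjective' (Ideal.Quotient.mk Q) Ideal.Quotient.mk_surjective
  have hmkm : ∀ c ∈ maximalIdeal C, Ideal.Quotient.mk Q c ∈ maximalIdeal A₁ := by
    intro c hc
    rw [← IsLocalRing.map_maximalIdeal_of_surjective (Ideal.Quotient.mk Q)
      Ideal.Quotient.mk_surjective]
    exact Ideal.mem_map_of_mem _ hc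
  have hx0 : Ideal.Quotient.mk Q x ≠ 0 := fun h => hxQ (Ideal.Quotient.eq_zero_iff_mem.1 h)
  haveI : Ring.KrullDimLE 1 A₁ := by
    refine krullDimLE_one_of_forall_mem (Ideal.Quotient.mk Q x) hx0 (hmkm x hxm) ?_
    intro Pb hPb hPb0
    haveI := hPb
    have hle : Q ≤ Pb.comap (Ideal.Quotient.mk Q) := by
      intro q hq
      rw [Ideal.mem_comap, Ideal.Quotient.eq_zero_iff_mem.2 hq]
      exact Pb.zero_mem
    have hne : Q ≠ Pb.comap (Ideal.Quotient.mk Q) := by
      intro h
      apply hPb0
      rw [eq_bot_iff]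
      intro z hz
      obtain ⟨c, rfl⟩ := Ideal.Quotient.mk_surjective z
      have hc : c ∈ Pb.comap (Ideal.Quotient.mk Q) := hz
      rw [← h] at hc
      rw [Ideal.mem_bot, Ideal.Quotient.eq_zero_iff_mem]
      exact hc
    exact hQmax _ inferInstance (lt_of_le_of_ne hle hne)
  let F := FractionRing A₁
  let At := integralClosure A₁ F
  haveI : IsDedekindDomain At := Groth.Agent.Lib.Helper13.KA.isDedekindDomain_integralClosure A₁ F
  have hinj1 : Function.Injective (algebraMap A₁ At) := by
    intro a b hab
    apply IsFractionRing.injective A₁ F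
    rw [IsScalarTower.algebraMap_apply A₁ At F, IsScalarTower.algebraMap_apply A₁ At F, hab]
  have hnf : ¬ IsField At := by
    intro hf
    have hf1 : IsField A₁ := isField_of_isIntegral_of_isField hinj1 hf
    have hu : IsUnit (Ideal.Quotient.mk Q x) := by
      letI := hf1.toField
      exact IsUnit.mk0 _ hx0
    exact (IsLocalRing.mem_maximalIdeal _).1 (hmkm x hxm) hu
  obtain ⟨M, hM⟩ := Ideal.exists_maximal At
  haveI := hM
  have hM0 : M ≠ ⊥ := Ring.ne_bot_of_isMaximal_of_not_isField hM hnf
  let D := Localization.AtPrime M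
  haveI : IsDiscreteValuationRing D :=
    IsLocalization.AtPrime.isDiscreteValuationRing_of_dedekind_domain At hM0 D
  have hinj2 : Function.Injective (algebraMap At D) :=
    IsLocalization.injective D M.primeCompl_le_nonZeroDivisors
  let φ : C →+* D := (algebraMap At D).comp ((algebraMap A₁ At).comp (Ideal.Quotient.mk Q))
  have hcomapM : M.comap (algebraMap A₁ At) = maximalIdeal A₁ :=
    IsLocalRing.eq_maximalIdeal (Ideal.isMaximal_comap_of_isIntegral_of_isMaximal M)
  have hφm : ∀ c ∈ maximalIdeal C, φ c ∈ maximalIdeal D := by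
    intro c hc
    have h1 : algebraMap A₁ At (Ideal.Quotient.mk Q c) ∈ M := by
      have := hmkm c hc
      rw [← hcomapM] at this
      exact this
    exact (IsLocalization.AtPrime.to_map_mem_maximal_iff D M _).2 h1
  refine ⟨D, inferInstance, inferInstance, inferInstance, φ, ⟨?_⟩, ?_, ?_⟩
  · intro c hc
    by_contra hnu
    exact (IsLocalRing.mem_maximalIdeal _).1 (hφm c ((IsLocalRing.mem_maximalIdeal c).2 hnu)) hc
  · intro h
    have h1 : algebraMap A₁ At (Ideal.Quotient.mk Q x) = 0 := hinj2 (by rw [map_zero]; exact h)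
    exact hx0 (hinj1 (by rw [map_zero]; exact h1))
  · have hres := residue_isIntegral_atPrime A₁ At M D
    refine isIntegral_of_range_le _ _ ?_ hres
    rintro _ ⟨a, rfl⟩
    obtain ⟨c, rfl⟩ := Ideal.Quotient.mk_surjective a
    exact ⟨c, rfl⟩

end Good

end Groth.Agent.Lib.Helper21.ValS2
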