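import Mathlib
import Groth.Agent.Lib.Helper21.ValS2B

/-!
# Helper21 — ValS2C: flatness over a discrete valuation ring with integral residue field extension
can be tested at the primes of the pushout lying over the given prime and the closed point.
-/

set_option autoImplicit false
set_option linter.style.haveILetI false
set_option linter.unusedSectionVars false
universe u
open TensorProduct

namespace Groth.Agent.Lib.Helper21.ValS2

open IsLocalRing

/-- over a discrete valuation ring, a module on which a uniformizer acts injectively is flat. -/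
theorem flat_of_irreducible_smul {D : Type u} [CommRing D] [IsDomain D]
    [IsDiscreteValuationRing D] {X : Type u} [AddCommGroup X] [Module D X] (ϖ : D)
    (hϖ : Irreducible ϖ) (h : ∀ x : X, ϖ • x = 0 → x = 0) : Module.Flat D X := by
  haveI : Module.IsTorsionFree D X := by
    refine Module.IsTorsionFree.of_smul_eq_zero fun r m hrm => ?_
    by_cases hr : r = 0
    · exact Or.inl hr
    · right
      obtain ⟨k, u, hu⟩ := IsDiscreteValuationRing.eq_unit_mul_pow_irreducible hr hϖ
      rw [hu, mul_smul] at hrm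
      have h1 : ϖ ^ k • m = 0 := by
        have := congrArg (fun z => ((u⁻¹ : Dˣ) : D) • z) hrm
        simpa [smul_smul] using this
      clear hu hrm
      induction k with
      | zero => simpa using h1
      | succ k ih =>
        apply ih
        apply h
        rw [smul_smul, ← pow_succ']
        exact h1
  infer_instance

section GoingUp
variable (R C D : Type u) [CommRing R] [CommRing C] [CommRing D] [Algebra R C] [Algebra R D]
  [IsLocalRing D]
  (C' : Type u) [CommRing C'] [Algebra C C'] [Algebra D C'] [Algebra R C'] [IsScalarTower R C C']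
  [IsScalarTower R D C'] [Algebra.IsPushout R C D C']

/-- modulo a prime containing the maximal ideal of `D`, the pushout is integral over `C`. -/
theorem isIntegral_quotient_of_resInt (hRI : ResInt R D) (𝔔 : Ideal C')
    (hπ : (maximalIdeal D).map (algebraMap D C') ≤ 𝔔) : Algebra.IsIntegral C (C' ⧸ 𝔔) := by
  constructor
  intro z
  obtain ⟨y, rfl⟩ := Ideal.Quotient.mk_surjective z
  have hbc : IsBaseChange C (IsScalarTower.toAlgHom R D C').toLinearMap :=
    Algebra.IsPushout.out
  induction y using hbc.inductionOn with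
  | zero => rw [map_zero]; exact isIntegral_zero
  | add a b ha hb => rw [map_add]; exact ha.add hb
  | smul c y ih =>
    rw [Algebra.smul_def, map_mul]
    exact IsIntegral.mul isIntegral_algebraMap ih
  | tmul d =>
    change IsIntegral C (Ideal.Quotient.mk 𝔔 (algebraMap D C' d))
    obtain ⟨p, hp, hpe⟩ := hRI (Ideal.Quotient.mk (maximalIdeal D) d)
    let θ : D ⧸ maximalIdeal D →+* C' ⧸ 𝔔 :=
      Ideal.Quotient.lift (maximalIdeal D) ((Ideal.Quotient.mk 𝔔).comp (algebraMap D C')) (by
        intro a ha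
        rw [RingHom.comp_apply, Ideal.Quotient.eq_zero_iff_mem]
        exact hπ (Ideal.mem_map_of_mem _ ha))
    have h1 := Polynomial.hom_eval₂ p ((Ideal.Quotient.mk (maximalIdeal D)).comp (algebraMap R D)) θ
      (Ideal.Quotient.mk (maximalIdeal D) d)
    rw [hpe, map_zero] at h1
    have h2 : θ.comp ((Ideal.Quotient.mk (maximalIdeal D)).comp (algebraMap R D)) =
        (algebraMap C (C' ⧸ 𝔔)).comp (algebraMap R C) := by
      ext r
      simp only [RingHom.comp_apply, θ, Ideal.Quotient.lift_mk]
      rw [← IsScalarTower.algebraMap_apply R D C', IsScalarTower.algebraMap_apply R C C']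
      rfl
    have h3 : θ (Ideal.Quotient.mk (maximalIdeal D) d) =
        Ideal.Quotient.mk 𝔔 (algebraMap D C' d) := by
      simp only [θ, Ideal.Quotient.lift_mk, RingHom.comp_apply]
    rw [h2, h3] at h1
    refine ⟨p.map (algebraMap R C), hp.map _, ?_⟩
    rw [Polynomial.eval₂_map]
    exact h1.symm

/-- going up to a prime over `n`. -/
theorem exists_prime_over_of_resInt (hRI : ResInt R D) (n : Ideal C) [n.IsPrime] (𝔔 : Ideal C')
    [𝔔.IsPrime] (hπ : (maximalIdeal D).map (algebraMap D C') ≤ 𝔔)
    (hle : 𝔔.comap (algebraMap C C') ≤ n) :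
    ∃ q' : Ideal C', q'.IsPrime ∧ 𝔔 ≤ q' ∧ q'.comap (algebraMap C C') = n := by
  haveI := isIntegral_quotient_of_resInt R C D C' hRI 𝔔 hπ
  have h0 : (⊥ : Ideal (C' ⧸ 𝔔)).comap (algebraMap C (C' ⧸ 𝔔)) ≤ n := by
    intro c hc
    apply hle
    rw [Ideal.mem_comap, Ideal.mem_bot] at hc
    rw [Ideal.mem_comap, ← Ideal.Quotient.eq_zero_iff_mem]
    exact hc
  obtain ⟨Q, -, hQp, hQ⟩ := Ideal.exists_ideal_over_prime_of_isIntegral n (⊥ : Ideal (C' ⧸ 𝔔)) h0
  haveI := hQp
  refine ⟨Q.comap (Ideal.Quotient.mk 𝔔), inferInstance, ?_, ?_⟩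
  · intro y hy
    rw [Ideal.mem_comap, Ideal.Quotient.eq_zero_iff_mem.2 hy]
    exact Q.zero_mem
  · rw [← hQ]
    rfl

end GoingUp

section Main
variable (R C D : Type u) [CommRing R] [CommRing C] [CommRing D] [Algebra R C] [Algebra R D]
  [IsDomain D] [IsDiscreteValuationRing D]
  (C' : Type u) [CommRing C'] [Algebra C C'] [Algebra D C'] [Algebra R C'] [IsScalarTower R C C']
  [IsScalarTower R D C'] [Algebra.IsPushout R C D C']
  (n : Ideal C) [n.IsPrime]
  (G : Type u) [AddCommGroup G] [Module C G] [Module R G] [IsScalarTower R C G]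

/-- flatness of `D ⊗ G_n` over a discrete valuation ring `D` with integral residue field extension,
from flatness at the primes of the pushout over `n` and the closed point of `D`. -/
theorem flat_tensor_localized_of_forall_prime_over (hRI : ResInt R D)
    (H : ∀ (q' : Ideal C') [q'.IsPrime], q'.comap (algebraMap C C') = n →
      (maximalIdeal D).map (algebraMap D C') ≤ q' →
      Module.Flat D (LocalizedModule q'.primeCompl (C' ⊗[C] G))) :
    Module.Flat D (D ⊗[R] LocalizedModule n.primeCompl G) := by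
  classical
  let Gn := LocalizedModule n.primeCompl G
  let mk : G →ₗ[C] Gn := LocalizedModule.mkLinearMap n.primeCompl G
  haveI : Algebra.IsPushout R D C C' := Algebra.IsPushout.symm inferInstance
  let e : C' ⊗[C] Gn ≃ₗ[D] D ⊗[R] Gn := Algebra.IsPushout.cancelBaseChange R D C C' Gn
  suffices h : Module.Flat D (C' ⊗[C] Gn) from Module.Flat.of_linearEquiv e.symm
  let T' : Submonoid C' := Algebra.algebraMapSubmonoid C' n.primeCompl
  let f2 : (C' ⊗[C] G) →ₗ[C'] C' ⊗[C] Gn := AlgebraTensorModule.lTensor C' C' mk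
  have hf2 : f2.restrictScalars C =
      (TensorProduct.comm C Gn C').toLinearMap ∘ₗ
        (AlgebraTensorModule.rTensor C C' mk) ∘ₗ
        (TensorProduct.comm C C' G).toLinearMap := by
    ext x
    simp [f2]
  haveI : IsLocalizedModule n.primeCompl (f2.restrictScalars C) := by
    rw [hf2]
    infer_instance
  haveI : IsLocalizedModule T' f2 := IsLocalizedModule.of_restrictScalars n.primeCompl f2
  obtain ⟨ϖ, hϖ⟩ := IsDiscreteValuationRing.exists_irreducible D
  have hmax : maximalIdeal D = Ideal.span {ϖ} := hϖ.maximalIdeal_eq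
  refine flat_of_irreducible_smul ϖ hϖ ?_
  intro x hx
  obtain ⟨⟨y, t⟩, hy⟩ := IsLocalizedModule.surj T' f2 x
  have hy' : (t : C') • x = f2 y := hy
  -- `ϖ • y` dies in the localization
  have h1 : f2 ((algebraMap D C' ϖ) • y) = 0 := by
    rw [map_smul, ← hy', smul_comm, algebraMap_smul, hx, smul_zero]
  obtain ⟨t', ht'⟩ := (IsLocalizedModule.eq_zero_iff T' f2).mp h1
  set z : C' ⊗[C] G := (t' : C') • y with hz
  have hϖz : (algebraMap D C' ϖ) • z = 0 := by
    rw [hz, smul_comm]
    exact ht'
  -- it suffices that `f2 z = 0`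
  suffices hz0 : f2 z = 0 by
    have h6 : ((t' : C') * (t : C')) • x = 0 := by
      rw [mul_smul, hy', ← map_smul]
      exact hz0
    have h7 := IsLocalizedModule.smul_injective f2 (t' * t)
    apply h7
    change ((t' : C') * (t : C')) • x = (t' * t) • (0 : C' ⊗[C] Gn)
    rw [h6, smul_zero]
  by_contra hfz
  let 𝔠 : Ideal C' := LinearMap.ker (LinearMap.toSpanSingleton C' (C' ⊗[C] G) z)
  have h𝔠 : ∀ b : C', b ∈ 𝔠 ↔ b • z = 0 := by
    intro b
    rw [LinearMap.mem_ker, LinearMap.toSpanSingleton_apply]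
  have hdis : Disjoint (𝔠 : Set C') (T' : Set C') := by
    rw [Set.disjoint_left]
    intro s hs hsT
    apply hfz
    have h5 := IsLocalizedModule.smul_injective f2 (⟨s, hsT⟩ : T')
    apply h5
    change s • f2 z = (⟨s, hsT⟩ : T') • (0 : C' ⊗[C] Gn)
    rw [← map_smul, (h𝔠 s).mp hs, map_zero, smul_zero]
  obtain ⟨𝔔, h𝔔p, hle, h𝔔dis⟩ := Ideal.exists_le_prime_disjoint 𝔠 T' hdis
  haveI := h𝔔p
  have hπ𝔔 : (maximalIdeal D).map (algebraMap D C') ≤ 𝔔 := by
    rw [hmax, Ideal.map_span, Set.image_singleton, Ideal.span_singleton_le_iff_mem]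
    exact hle ((h𝔠 _).mpr hϖz)
  have hcomap : 𝔔.comap (algebraMap C C') ≤ n := by
    intro c hc
    by_contra hcn
    exact Set.disjoint_left.mp h𝔔dis hc ⟨c, hcn, rfl⟩
  obtain ⟨q', hq'p, h𝔔q', hq'n⟩ := exists_prime_over_of_resInt R C D C' hRI n 𝔔 hπ𝔔 hcomap
  haveI := hq'p
  haveI hfl := H q' hq'n (hπ𝔔.trans h𝔔q')
  let ℓ := LocalizedModule.mkLinearMap q'.primeCompl (C' ⊗[C] G)
  have h8 : ϖ • ℓ z = 0 := by
    rw [← algebraMap_smul C' ϖ (ℓ z), ← map_smul, hϖz, map_zero]
  have h9 : ℓ z = 0 := (smul_eq_zero.1 h8).resolve_left hϖ.ne_zero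
  obtain ⟨s, hs⟩ := (IsLocalizedModule.eq_zero_iff q'.primeCompl ℓ).mp h9
  have hs' : (s : C') • z = 0 := hs
  exact s.2 (h𝔔q' (hle ((h𝔠 _).mpr hs')))

end Main

end Groth.Agent.Lib.Helper21.ValS2
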