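import Mathlib
import Groth.Agent.Lib.Helper21.RelS2A
import Groth.Agent.Lib.Helper21.RelS2B
import Groth.Agent.Lib.Helper21.RelS2F
import Groth.Agent.Lib.Helper21.ValS2C
import Groth.Agent.Lib.Helper21.DepthKit3
import Groth.Agent.Lib.Helper21.SkOpen1
import Groth.Agent.S18699
import Groth.Agent.S18702
import Groth.Agent.S18708
import Groth.Agent.S6876

/-!
# Helper21 — ValS2D: the kernel of a base-changed presentation is the double dual.

`0 → F → E⁰ → E¹ → G → 0` exact over `B` with `E⁰, E¹` finite projective and `G` free off `V(J)`;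
`B → B'` any homomorphism of Noetherian rings with `depth_{JB'} B' ≥ 2`.  Then
`K' = ker (B' ⊗ E⁰ → B' ⊗ E¹)` has `JB'`-depth `≥ 2` and is the double dual of `B' ⊗ F`.
-/

set_option autoImplicit false

namespace Groth.Agent.Lib.Helper21.ValS2

open TensorProduct Function
open Groth.Agent.Lib.Helper21 Groth.Agent.Lib.Helper21.DepthKit
open Groth.Agent.Lib.Helper21.RetractUpTo Groth.Agent.Lib.Helper21.QuasiInv
open Groth.Agent.Lib.Helper21.RelS2

universe u

set_option maxHeartbeats 1600000 in
set_option synthInstance.maxHeartbeats 200000 in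
theorem ker_baseChange_props
    (B B' : Type u) [CommRing B] [CommRing B'] [IsNoetherianRing B] [IsNoetherianRing B']
    [Algebra B B'] (J : Ideal B)
    (hB'2 : 2 ≤ LocCoh.idealDepth (J.map (algebraMap B B')) B')
    (F E0 E1 G : Type u) [AddCommGroup F] [Module B F] [Module.Finite B F]
    [AddCommGroup E0] [Module B E0] [Module.Finite B E0] [Module.Projective B E0]
    [AddCommGroup E1] [Module B E1] [Module.Finite B E1] [Module.Projective B E1]
    [AddCommGroup G] [Module B G] [Module.Finite B G]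
    (f : F →ₗ[B] E0) (u : E0 →ₗ[B] E1) (v : E1 →ₗ[B] G)
    (hf : Function.Injective f) (hfu : Function.Exact f u) (huv : Function.Exact u v)
    (hv : Function.Surjective v)
    (hGU : ∀ q : PrimeSpectrum B, ¬ J ≤ q.asIdeal →
      Module.Free (Localization.AtPrime q.asIdeal) (LocalizedModule q.asIdeal.primeCompl G)) :
    2 ≤ LocCoh.idealDepth (J.map (algebraMap B B')) (LinearMap.ker (u.baseChange B')) ∧
    Nonempty (Module.Dual B' (Module.Dual B' (B' ⊗[B] F)) ≃ₗ[B']
      LinearMap.ker (u.baseChange B')) := by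
  set J' := J.map (algebraMap B B') with hJ'
  have hB'1 : 1 ≤ LocCoh.idealDepth J' B' := le_trans (by norm_num) hB'2
  have hcast2 : (2 : ℕ∞) = ((2 : ℕ) : ℕ∞) := rfl
  have hproj : ∀ (P : Type u) [AddCommGroup P] [Module B' P] [Module.Finite B' P]
      [Module.Projective B' P], 2 ≤ LocCoh.idealDepth J' P := by
    intro P _ _ _ _
    have h := hB'2
    rw [hcast2] at h ⊢
    exact Groth.Agent.S18702.le_idealDepth_of_reflexive J' 2 le_rfl h
  set u' := u.baseChange B' with hu'
  set K' := LinearMap.ker u' with hK'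
  have hdE0 : 2 ≤ LocCoh.idealDepth J' (B' ⊗[B] E0) := hproj _
  have hdE1 : 2 ≤ LocCoh.idealDepth J' (B' ⊗[B] E1) := hproj _
  have hdK' : 2 ≤ LocCoh.idealDepth J' K' :=
    (Groth.Agent.S18700.result B' J' (B' ⊗[B] E0) (B' ⊗[B] E1) u').2 hdE0
      (le_trans (by norm_num) hdE1)
  refine ⟨hdK', ?_⟩
  obtain ⟨N, hN⟩ := exists_pow_le_retractIdeal G J hGU
  haveI hKrefl : Module.IsReflexive B' K' := by
    have hn' : J' ^ N ≤ retractIdeal K' := by
      rw [hJ', ← Ideal.map_pow, Ideal.map_le_iff_le_comap]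
      intro s hs
      obtain ⟨τ, hτ⟩ := Groth.Agent.S18711.exists_genInverse u v huv hv (hN hs)
      exact Groth.Agent.S18711.isRetractUpTo_ker_baseChange B' u τ s hτ
    exact isReflexive_of_pow_le K' J' N (hn'.trans (retractIdeal_le_quasiInvIdeal_eval _)) hdK' hB'1
  let lamb : B' ⊗[B] F →ₗ[B'] K' := lam B' f u (fun x => hfu.apply_apply_eq_zero x)
  have hq : J' ^ N ≤ quasiInvIdeal (X := B' ⊗[B] F) (Y := K') lamb := by
    rw [hJ', ← Ideal.map_pow, Ideal.map_le_iff_le_comap]
    intro s hs
    obtain ⟨τ, hτ⟩ := Groth.Agent.S18711.exists_genInverse u v huv hv (hN hs)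
    exact mem_quasiInvIdeal_lam B' f u hf hfu τ s hτ
  have hq2 : J' ^ N ≤ quasiInvIdeal lamb.dualMap.dualMap :=
    hq.trans ((quasiInvIdeal_le_dualMap _).trans (quasiInvIdeal_le_dualMap _))
  haveI : Module.Finite B' (Module.Dual B' (B' ⊗[B] F)) := Groth.Agent.S6876.finite_hom
  haveI : Module.Finite B' (Module.Dual B' (Module.Dual B' (B' ⊗[B] F))) :=
    Groth.Agent.S6876.finite_hom
  haveI : Module.Finite B' (Module.Dual B' K') :=
    Groth.Agent.S6876.finite_hom (R := B') (M := K') (N := B')
  haveI : Module.Finite B' (Module.Dual B' (Module.Dual B' K')) :=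
    Groth.Agent.S6876.finite_hom (R := B') (M := Module.Dual B' K') (N := B')
  have hX : 2 ≤ LocCoh.idealDepth J' (Module.Dual B' (Module.Dual B' (B' ⊗[B] F))) := by
    have h := hB'2
    rw [hcast2] at h ⊢
    exact Groth.Agent.S18702.le_idealDepth_hom J' 2 le_rfl h
  have hY : 1 ≤ LocCoh.idealDepth J' (Module.Dual B' (Module.Dual B' K')) := by
    have h1 : (2 : ℕ∞) ≤ LocCoh.idealDepth J' (Module.Dual B' (Module.Dual B' K')) := by
      have h := hB'2
      rw [hcast2] at h ⊢
      exact Groth.Agent.S18702.le_idealDepth_hom J' 2 le_rfl h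
    exact le_trans (by norm_num) h1
  have hbij := bijective_of_pow_le_quasiInvIdeal lamb.dualMap.dualMap J' N hq2 hX hY
  exact ⟨(LinearEquiv.ofBijective _ hbij).trans (Module.evalEquiv B' K').symm⟩

set_option maxHeartbeats 1600000 in
set_option synthInstance.maxHeartbeats 200000 in
/-- a submodule of a module of `J`-depth `≥ 2` which satisfies `(S₂)` has `J`-depth `≥ 2`. -/
theorem two_le_idealDepth_of_hasSk (T : Type u) [CommRing T] [IsNoetherianRing T] (J : Ideal T)
    (X E : Type u) [AddCommGroup X] [Module T X] [Module.Finite T X]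
    [AddCommGroup E] [Module T E] [Module.Finite T E]
    (i : X →ₗ[T] E) (hi : Injective i) (hE : 2 ≤ LocCoh.idealDepth J E)
    (hS : LocCoh.HasSk 2 T X) : 2 ≤ LocCoh.idealDepth J X := by
  have h := Groth.Agent.S18699.result 2 T X J hS ?_
  · exact_mod_cast h
  intro p hJp hp
  have hXnt : Nontrivial (LocalizedModule p.asIdeal.primeCompl X) :=
    (Module.mem_support_iff (p := p)).1 hp
  obtain ⟨P, hP⟩ := associatedPrimes.nonempty (Localization.AtPrime p.asIdeal)
    (LocalizedModule p.asIdeal.primeCompl X)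
  have hinj : Injective (LocalizedModule.map p.asIdeal.primeCompl i) :=
    LocalizedModule.map_injective p.asIdeal.primeCompl i hi
  have hPE : P ∈ associatedPrimes (Localization.AtPrime p.asIdeal)
      (LocalizedModule p.asIdeal.primeCompl E) :=
    associatedPrimes.subset_of_injective hinj hP
  have h1 := depth_le_ringKrullDim_quotient_of_mem_associatedPrimes hPE
  have h2 := ringKrullDim_quotient_le_supportDim_of_mem_associatedPrimes hP
  have h3 : 2 ≤ LocCoh.depth (Localization.AtPrime p.asIdeal)
      (LocalizedModule p.asIdeal.primeCompl E) := by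
    unfold LocCoh.depth
    refine hE.trans ((FibGen.idealDepth_le_localization p.asIdeal.primeCompl J E).trans
      (Groth.Agent.S18711.idealDepth_mono ?_ _))
    rw [← Localization.AtPrime.map_eq_maximalIdeal]
    exact Ideal.map_mono hJp
  have h4 : (((2 : ℕ) : ℕ∞) : WithBot ℕ∞) ≤ ((LocCoh.depth (Localization.AtPrime p.asIdeal)
      (LocalizedModule p.asIdeal.primeCompl E) : ℕ∞) : WithBot ℕ∞) :=
    WithBot.coe_le_coe.2 (by exact_mod_cast h3)
  exact (h4.trans h1).trans h2

attribute [local instance] Algebra.TensorProduct.rightAlgebra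

set_option maxHeartbeats 3200000 in
set_option synthInstance.maxHeartbeats 200000 in
/-- **the discrete valuation ring step**: over a flat local `D`-algebra `L` (`D` a discrete valuation
ring), if the closed fibre of the double dual of `L ⊗ F` satisfies `(S₂)` then `L ⊗ G` is flat over
`D`. -/
theorem flat_baseChange_of_hasSk
    (D L : Type u) [CommRing D] [IsDomain D] [IsDiscreteValuationRing D]
    [CommRing L] [IsNoetherianRing L] [IsLocalRing L] [Algebra D L] [IsLocalHom (algebraMap D L)]
    [Module.Flat D L]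
    (B : Type u) [CommRing B] [IsNoetherianRing B] [Algebra B L] (J : Ideal B)
    (hZ : ∀ q : PrimeSpectrum L, J.map (algebraMap B L) ≤ q.asIdeal →
      2 ≤ LocCoh.idealDepth (q.asIdeal.map (algebraMap L (EGA4.FibLocRing D L q.asIdeal)))
        (EGA4.FibLocRing D L q.asIdeal))
    (F E0 E1 G : Type u) [AddCommGroup F] [Module B F] [Module.Finite B F]
    [AddCommGroup E0] [Module B E0] [Module.Finite B E0] [Module.Projective B E0]
    [AddCommGroup E1] [Module B E1] [Module.Finite B E1] [Module.Projective B E1]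
    [AddCommGroup G] [Module B G] [Module.Finite B G]
    (f : F →ₗ[B] E0) (u : E0 →ₗ[B] E1) (v : E1 →ₗ[B] G)
    (hf : Function.Injective f) (hfu : Function.Exact f u) (huv : Function.Exact u v)
    (hv : Function.Surjective v)
    (hGU : ∀ q : PrimeSpectrum B, ¬ J ≤ q.asIdeal →
      Module.Free (Localization.AtPrime q.asIdeal) (LocalizedModule q.asIdeal.primeCompl G))
    (hS : LocCoh.HasSk 2 L (EGA4.FibMod D L (Module.Dual L (Module.Dual L (L ⊗[B] F))))) :
    Module.Flat D (L ⊗[B] G) := by
  set J' := J.map (algebraMap B L) with hJ'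
  have hL2 : 2 ≤ LocCoh.idealDepth J' L :=
    Groth.Agent.S18722.le_idealDepth_self_of_fibre D L J' 2 hZ
  obtain ⟨hdK', ⟨e⟩⟩ := ker_baseChange_props B L J hL2 F E0 E1 G f u v hf hfu huv hv hGU
  set u' := u.baseChange L with hu'
  set v' := v.baseChange L with hv'
  set K' := LinearMap.ker u' with hK'
  have huv' : Exact u' v' := by
    show Function.Exact ⇑(u.baseChange L) ⇑(v.baseChange L)
    rw [LinearMap.baseChange_eq_ltensor, LinearMap.baseChange_eq_ltensor]
    exact lTensor_exact L huv hv
  have hvs' : Surjective v' := by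
    show Function.Surjective ⇑(v.baseChange L)
    rw [LinearMap.baseChange_eq_ltensor]
    exact LinearMap.lTensor_surjective L hv
  haveI : Module.Flat D (L ⊗[B] E0) := Module.Flat.trans D L _
  haveI : Module.Flat D (L ⊗[B] E1) := Module.Flat.trans D L _
  have hf' : Injective K'.subtype := Submodule.injective_subtype _
  have hfu' : Exact K'.subtype u' := LinearMap.exact_subtype_ker_map u'
  -- the closed fibre of `L ⊗ E0`
  haveI : IsNoetherianRing (L ⊗[D] (D ⧸ IsLocalRing.maximalIdeal D)) :=
    isNoetherianRing_of_surjective L (L ⊗[D] (D ⧸ IsLocalRing.maximalIdeal D))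
      (algebraMap L (L ⊗[D] (D ⧸ IsLocalRing.maximalIdeal D)))
      (surjective_algebraMap_of_isPushout_quotient D L (IsLocalRing.maximalIdeal D)
        (L ⊗[D] (D ⧸ IsLocalRing.maximalIdeal D)))
  have h0 : 2 ≤ LocCoh.idealDepth J' (EGA4.FibMod D L (L ⊗[B] E0)) :=
    le_idealDepth_quot_of_pushout D L (IsLocalRing.maximalIdeal D)
      (L ⊗[D] (D ⧸ IsLocalRing.maximalIdeal D)) J' hZ (L ⊗[B] E0)
  -- freeness of `L ⊗ G` off `V(J')`
  have hGU' : ∀ r : PrimeSpectrum L, ¬ J' ≤ r.asIdeal →
      FlatCA.FlatAt D r.asIdeal (L ⊗[B] G) := by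
    intro r hr
    have h1 : r ∈ Module.freeLocus L (L ⊗[B] G) := by
      apply Module.comap_freeLocus_le
      rw [Set.mem_preimage, Module.mem_freeLocus]
      apply hGU
      intro hle
      exact hr (Ideal.map_le_iff_le_comap.2 hle)
    rw [Module.mem_freeLocus] at h1
    haveI := h1
    unfold FlatCA.FlatAt
    exact Module.Flat.trans D (Localization.AtPrime r.asIdeal) _
  -- the range of `u'` is flat over `D`
  obtain ⟨ϖ, hϖ⟩ := IsDiscreteValuationRing.exists_irreducible D
  haveI hRflat : Module.Flat D (LinearMap.range u') := by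
    refine flat_of_irreducible_smul (X := LinearMap.range u') ϖ hϖ fun x hx => ?_
    apply Subtype.ext
    have h1 : ϖ • (x : L ⊗[B] E1) = 0 := congrArg Subtype.val hx
    exact (smul_eq_zero_iff_right hϖ.ne_zero).1 h1
  -- the fibre map of `K' ⊆ L ⊗ E0` is injective
  have hφ : Function.Injective (Groth.Agent.S18708.fibMap D L (M := K') (N := L ⊗[B] E0) K'.subtype) := by
    rw [injective_iff_map_eq_zero]
    intro z hz
    obtain ⟨y, rfl⟩ := Submodule.Quotient.mk_surjective _ z
    rw [Groth.Agent.S18708.fibMap_mk, Submodule.Quotient.mk_eq_zero,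
      FlatLocal.mem_map_smul_top_iff (S := L)] at hz
    rw [Submodule.Quotient.mk_eq_zero]
    refine (FlatLocal.mem_map_smul_top_iff (R := D) (S := L) (N := K')
      (IsLocalRing.maximalIdeal D) y).2 ?_
    have hex : Exact K'.subtype u'.rangeRestrict :=
      Groth.Agent.S18708.exact_S1 (F := K') K'.subtype u' hfu'
    exact Groth.Agent.S18708.mem_smul_top_of_flat (M' := K') (M := L ⊗[B] E0)
      (M'' := LinearMap.range u') (IsLocalRing.maximalIdeal D) K'.subtype
      u'.rangeRestrict hf' u'.surjective_rangeRestrict hex y hz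
  -- `(S₂)` of the closed fibre of `K'`
  have hS' : LocCoh.HasSk 2 L (EGA4.FibMod D L K') := by
    refine (SkOpen.hasSk_congr ?_ 2).1 hS
    refine Submodule.Quotient.equiv _ _ e ?_
    rw [Submodule.map_smul'', Submodule.map_top, LinearEquiv.range]
  have hdF : 2 ≤ LocCoh.idealDepth J' (EGA4.FibMod D L K') :=
    two_le_idealDepth_of_hasSk L J' (EGA4.FibMod D L K') (EGA4.FibMod D L (L ⊗[B] E0))
      (Groth.Agent.S18708.fibMap D L (M := K') (N := L ⊗[B] E0) K'.subtype) hφ h0 hS'
  exact Groth.Agent.S18708.flat_of_depth J' K'.subtype u' v' hfu' huv' hvs' hGU'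
    (le_trans (by norm_num) h0) hdF hf'

end Groth.Agent.Lib.Helper21.ValS2
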