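import Mathlib
import Groth.Agent.Lib.Helper21.ValS2D
import Groth.Agent.Lib.Helper21.RelS2C
import Groth.Agent.Lib.Helper21.RelS2G
import Groth.Agent.Lib.Helper21.FibDepth9

/-!
# Helper21 — ValS2E: from the valuative hypothesis at a prime `q'` of the pushout `C' = D ⊗_R C`
to the flatness over `D` of `(C' ⊗ G)_{q'}`.
-/

set_option autoImplicit false

namespace Groth.Agent.Lib.Helper21.ValS2

open TensorProduct Function IsLocalRing Module
open Groth.Agent.Lib.Helper21 Groth.Agent.Lib.Helper21.DepthKit
open Groth.Agent.Lib.Helper21.FlatLocal Groth.Agent.Lib.Helper21.RelS2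

universe u

section HZ
variable (A B : Type u) [CommRing A] [CommRing B] [IsNoetherianRing B] [Algebra A B]

set_option maxHeartbeats 1600000 in
set_option synthInstance.maxHeartbeats 200000 in
/-- fibre depth bounds at the generizations of `n` give the bounds for the local ring at `n`. -/
theorem hZ_loc_of_forall (n : Ideal B) [n.IsPrime] (J : Ideal B)
    (h : ∀ r : PrimeSpectrum B, J ≤ r.asIdeal → r.asIdeal ≤ n →
      2 ≤ LocCoh.depth (Localization.AtPrime r.asIdeal) (EGA4.FibLocMod A B r.asIdeal B))
    (Q : PrimeSpectrum (Localization.AtPrime n))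
    (hQ : J.map (algebraMap B (Localization.AtPrime n)) ≤ Q.asIdeal) :
    2 ≤ LocCoh.idealDepth
      (Q.asIdeal.map (algebraMap (Localization.AtPrime n)
        (EGA4.FibLocRing A (Localization.AtPrime n) Q.asIdeal)))
      (EGA4.FibLocRing A (Localization.AtPrime n) Q.asIdeal) := by
  rw [RdBC.idealDepth_fibLocRing_self]
  have hmin : Q.asIdeal ∈ ((Q.asIdeal.under B).map
      (algebraMap B (Localization.AtPrime n))).minimalPrimes := by
    rw [Ideal.under_def, IsLocalization.map_comap n.primeCompl,
      Ideal.minimalPrimes_eq_subsingleton_self]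
    rfl
  rw [depth_descent (A := A) (B := B) (C := Localization.AtPrime n) Q.asIdeal hmin]
  have hJq : J ≤ Q.asIdeal.under B := Ideal.map_le_iff_le_comap.1 hQ
  have hqn : Q.asIdeal.under B ≤ n := by
    intro x hx
    by_contra hxn
    have hu : IsUnit (algebraMap B (Localization.AtPrime n) x) :=
      IsLocalization.map_units (Localization.AtPrime n) (⟨x, hxn⟩ : n.primeCompl)
    exact Q.isPrime.ne_top (Ideal.eq_top_of_isUnit_mem _ hx hu)
  exact h ⟨Q.asIdeal.under B, inferInstance⟩ hJq hqn

end HZ

section Main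
variable (R C : Type u) [CommRing R] [CommRing C] [IsNoetherianRing C]
  [Algebra R C] [Module.Flat R C] [Algebra.FiniteType R C]
  (D : Type u) [CommRing D] [IsDomain D] [IsDiscreteValuationRing D] [Algebra R D]
  (C' : Type u) [CommRing C'] [IsNoetherianRing C'] [Algebra C C'] [Algebra D C'] [Algebra R C']
  [IsScalarTower R C C'] [IsScalarTower R D C'] [Algebra.IsPushout R C D C']

set_option maxHeartbeats 1600000 in
set_option synthInstance.maxHeartbeats 200000 in
/-- the fibre depth bounds for `D → C'_{q'}` along `V(J)`. -/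
theorem hZ_pushout (n : PrimeSpectrum C)
    (hS2 : LocCoh.HasSk 2 (EGA4.FibLocRing R C n.asIdeal) (EGA4.FibLocRing R C n.asIdeal))
    (J : Ideal C)
    (hcodim : ∀ q : PrimeSpectrum C, J ≤ q.asIdeal →
      (2 : WithBot ℕ∞) ≤ ringKrullDim (EGA4.FibLocRing R C q.asIdeal))
    (q' : Ideal C') [q'.IsPrime] (hq' : q'.comap (algebraMap C C') = n.asIdeal)
    (Q : PrimeSpectrum (Localization.AtPrime q'))
    (hQ : J.map (algebraMap C (Localization.AtPrime q')) ≤ Q.asIdeal) :
    2 ≤ LocCoh.idealDepth
      (Q.asIdeal.map (algebraMap (Localization.AtPrime q')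
        (EGA4.FibLocRing D (Localization.AtPrime q') Q.asIdeal)))
      (EGA4.FibLocRing D (Localization.AtPrime q') Q.asIdeal) := by
  refine hZ_loc_of_forall D C' q' (J.map (algebraMap C C')) ?_ Q ?_
  · intro r' hJr' hr'q'
    rw [← RdBC.idealDepth_fibLocRing_self]
    refine le_trans ?_ (RdBC.fibre_idealDepth_self_bc R C D C' r'.asIdeal)
    rw [RdBC.idealDepth_fibLocRing_self]
    have hle : r'.asIdeal.under C ≤ n.asIdeal := by
      rw [← hq']
      exact Ideal.comap_mono hr'q'
    have hJr : J ≤ r'.asIdeal.under C := Ideal.map_le_iff_le_comap.1 hJr'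
    exact two_le_depth_fibLocMod_of_hasSk R C n ⟨r'.asIdeal.under C, inferInstance⟩ hle hS2
      (hcodim ⟨r'.asIdeal.under C, inferInstance⟩ hJr)
  · rw [Ideal.map_map, ← IsScalarTower.algebraMap_eq]
    exact hQ

set_option maxHeartbeats 3200000 in
set_option synthInstance.maxHeartbeats 200000 in
/-- **the valuative step at a prime of the pushout**. -/
theorem flat_localized_pushout (n : PrimeSpectrum C)
    (hS2 : LocCoh.HasSk 2 (EGA4.FibLocRing R C n.asIdeal) (EGA4.FibLocRing R C n.asIdeal))
    (J : Ideal C)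
    (hcodim : ∀ q : PrimeSpectrum C, J ≤ q.asIdeal →
      (2 : WithBot ℕ∞) ≤ ringKrullDim (EGA4.FibLocRing R C q.asIdeal))
    (F E0 E1 G : Type u) [AddCommGroup F] [Module C F] [Module.Finite C F]
    [AddCommGroup E0] [Module C E0] [Module.Finite C E0] [Module.Projective C E0]
    [AddCommGroup E1] [Module C E1] [Module.Finite C E1] [Module.Projective C E1]
    [AddCommGroup G] [Module C G] [Module.Finite C G]
    (f : F →ₗ[C] E0) (u : E0 →ₗ[C] E1) (v : E1 →ₗ[C] G)
    (hf : Function.Injective f) (hfu : Function.Exact f u) (huv : Function.Exact u v)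
    (hv : Function.Surjective v)
    (hGU : ∀ q : PrimeSpectrum C, ¬ J ≤ q.asIdeal →
      Module.Free (Localization.AtPrime q.asIdeal) (LocalizedModule q.asIdeal.primeCompl G))
    (q' : Ideal C') [q'.IsPrime] (hq' : q'.comap (algebraMap C C') = n.asIdeal)
    (hπ : (maximalIdeal D).map (algebraMap D C') ≤ q')
    (hS : LocCoh.HasSk 2 (EGA4.FibLocRing D C' q')
      (EGA4.FibLocMod D C' q' (Module.Dual C' (Module.Dual C' (C' ⊗[C] F))))) :
    Module.Flat D (LocalizedModule q'.primeCompl (C' ⊗[C] G)) := by
  classical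
  have hcomap : q'.comap (algebraMap D C') = maximalIdeal D := by
    have h1 : maximalIdeal D ≤ q'.comap (algebraMap D C') := Ideal.map_le_iff_le_comap.1 hπ
    exact ((IsLocalRing.maximalIdeal.isMaximal D).eq_of_le
      (Ideal.comap_ne_top _ (Ideal.IsPrime.ne_top inferInstance)) h1).symm
  haveI : IsLocalHom (algebraMap D (Localization.AtPrime q')) := by
    refine ⟨fun r hr => ?_⟩
    by_contra hnu
    have hrm : r ∈ maximalIdeal D := (IsLocalRing.mem_maximalIdeal r).2 hnu
    have h1 : algebraMap D C' r ∈ q' := hπ (Ideal.mem_map_of_mem _ hrm)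
    have h2 : algebraMap C' (Localization.AtPrime q') (algebraMap D C' r) ∈
        maximalIdeal (Localization.AtPrime q') :=
      (IsLocalization.AtPrime.to_map_mem_maximal_iff _ q' _).2 h1
    rw [← IsScalarTower.algebraMap_apply] at h2
    exact (IsLocalRing.mem_maximalIdeal _).1 h2 hr
  haveI hpo : Algebra.IsPushout R D C C' := Algebra.IsPushout.symm inferInstance
  haveI : Module.Flat D C' := Module.Flat.isBaseChange R D C C' hpo.out
  haveI : Module.Flat D (Localization.AtPrime q') :=
    Module.Flat.trans D C' (Localization.AtPrime q')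
  -- the base change identifications
  have b1 : ∀ (X : Type u) [AddCommGroup X] [Module C X],
      IsBaseChange C' (TensorProduct.mk C C' X 1) := fun X _ _ => TensorProduct.isBaseChange C X C'
  have b2 : ∀ (X : Type u) [AddCommGroup X] [Module C X],
      IsBaseChange (Localization.AtPrime q')
        (LocalizedModule.mkLinearMap q'.primeCompl (C' ⊗[C] X)) := fun X _ _ =>
    IsLocalizedModule.isBaseChange q'.primeCompl (Localization.AtPrime q') _
  let tF : (Localization.AtPrime q') ⊗[C] F ≃ₗ[Localization.AtPrime q']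
      LocalizedModule q'.primeCompl (C' ⊗[C] F) := ((b1 F).comp (b2 F)).equiv
  let tG : (Localization.AtPrime q') ⊗[C] G ≃ₗ[Localization.AtPrime q']
      LocalizedModule q'.primeCompl (C' ⊗[C] G) := ((b1 G).comp (b2 G)).equiv
  -- the `(S₂)` hypothesis, transported
  haveI : Module.Finite C' (Module.Dual C' (C' ⊗[C] F)) := Groth.Agent.S6876.finite_hom
  haveI : Module.Finite C' (Module.Dual C' (Module.Dual C' (C' ⊗[C] F))) :=
    Groth.Agent.S6876.finite_hom
  let e0 : LocalizedModule q'.primeCompl (Module.Dual C' (Module.Dual C' (C' ⊗[C] F)))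
      ≃ₗ[Localization.AtPrime q'] Module.Dual (Localization.AtPrime q')
        (Module.Dual (Localization.AtPrime q') ((Localization.AtPrime q') ⊗[C] F)) :=
    (LinearEquiv.extendScalarsOfIsLocalization q'.primeCompl (Localization.AtPrime q')
      (IsLocalizedModule.iso q'.primeCompl (EvalLoc.D2 (C' ⊗[C] F) q'))) ≪≫ₗ
      tF.symm.dualMap.dualMap
  have hS_L : LocCoh.HasSk 2 (Localization.AtPrime q') (EGA4.FibMod D (Localization.AtPrime q')
      (Module.Dual (Localization.AtPrime q')
        (Module.Dual (Localization.AtPrime q') ((Localization.AtPrime q') ⊗[C] F)))) := by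
    haveI : Module.Finite (EGA4.FibLocRing D C' q')
        (EGA4.FibLocMod D C' q' (Module.Dual C' (Module.Dual C' (C' ⊗[C] F)))) :=
      Module.Finite.of_restrictScalars_finite (Localization.AtPrime q') _ _
    have h1 : LocCoh.HasSk 2 (Localization.AtPrime q')
        (EGA4.FibLocMod D C' q' (Module.Dual C' (Module.Dual C' (C' ⊗[C] F)))) :=
      (FibDepth.hasSk_iff_of_surjective (R := Localization.AtPrime q')
        (S := EGA4.FibLocRing D C' q') Ideal.Quotient.mk_surjective 2).2 hS
    refine (SkOpen.hasSk_congr ?_ 2).1 h1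
    refine Submodule.Quotient.equiv _ _ e0 ?_
    rw [Submodule.map_smul'', Submodule.map_top, LinearEquiv.range, hcomap]
  haveI key := flat_baseChange_of_hasSk D (Localization.AtPrime q') C J
    (hZ_pushout R C D C' n hS2 J hcodim q' hq') F E0 E1 G f u v hf hfu huv hv hGU hS_L
  exact Module.Flat.of_linearEquiv (tG.symm.restrictScalars D)

end Main

end Groth.Agent.Lib.Helper21.ValS2
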