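import Mathlib
import Groth.Agent.Lib.Helper21.ValS2E
import Groth.Agent.Lib.lead.ValFlatD
import Groth.Agent.Lib.Helper12.AnUnramD

/-!
# Helper21 — ValS2F: the valuative criterion gives the flatness of the localized cokernel.
-/

set_option autoImplicit false
set_option linter.style.haveILetI false

namespace Groth.Agent.Lib.Helper21.ValS2

open TensorProduct Function IsLocalRing Module
open Groth.Agent.Lib.lead.ValFlatA Groth.Agent.Lib.lead.ValFlatB Groth.Agent.Lib.lead.ValFlatD

universe u

attribute [local instance] Algebra.TensorProduct.rightAlgebra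

section Main
variable (R C : Type u) [CommRing R] [CommRing C] [IsNoetherianRing R] [IsLocalRing R]
  [IsNoetherianRing C] [Algebra R C] [Module.Flat R C] [Algebra.FiniteType R C] [IsReduced R]

set_option maxHeartbeats 3200000 in
set_option synthInstance.maxHeartbeats 200000 in
theorem flat_localized_coker (n : PrimeSpectrum C)
    (hn : (maximalIdeal R).map (algebraMap R C) ≤ n.asIdeal)
    (hS2 : LocCoh.HasSk 2 (EGA4.FibLocRing R C n.asIdeal) (EGA4.FibLocRing R C n.asIdeal))
    (J : Ideal C)
    (hcodim : ∀ q : PrimeSpectrum C, J ≤ q.asIdeal →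
      (2 : WithBot ℕ∞) ≤ ringKrullDim (EGA4.FibLocRing R C q.asIdeal))
    (F E0 E1 G : Type u) [AddCommGroup F] [Module C F] [Module.Finite C F]
    [AddCommGroup E0] [Module C E0] [Module.Finite C E0] [Module.Projective C E0]
    [AddCommGroup E1] [Module C E1] [Module.Finite C E1] [Module.Projective C E1]
    [AddCommGroup G] [Module C G] [Module.Finite C G] [Module R G] [IsScalarTower R C G]
    (f : F →ₗ[C] E0) (u : E0 →ₗ[C] E1) (v : E1 →ₗ[C] G)
    (hf : Function.Injective f) (hfu : Function.Exact f u) (huv : Function.Exact u v)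
    (hv : Function.Surjective v)
    (hGU : ∀ q : PrimeSpectrum C, ¬ J ≤ q.asIdeal →
      Module.Free (Localization.AtPrime q.asIdeal) (LocalizedModule q.asIdeal.primeCompl G))
    (hII : ∀ (D : Type u) [CommRing D] [IsDomain D] [IsDiscreteValuationRing D] [Algebra R D],
      IsLocalHom (algebraMap R D) →
      ∀ (C' : Type u) [CommRing C'] [IsNoetherianRing C'] [Algebra C C'] [Algebra D C'] [Algebra R C']
        [IsScalarTower R C C'] [IsScalarTower R D C'], Algebra.IsPushout R C D C' →
        ∀ q' : PrimeSpectrum C', q'.asIdeal.comap (algebraMap C C') = n.asIdeal →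
          (IsLocalRing.maximalIdeal D).map (algebraMap D C') ≤ q'.asIdeal →
          LocCoh.HasSk 2 (EGA4.FibLocRing D C' q'.asIdeal)
            (EGA4.FibLocMod D C' q'.asIdeal (Module.Dual C' (Module.Dual C' (C' ⊗[C] F))))) :
    Module.Flat R (LocalizedModule n.asIdeal.primeCompl G) := by
  classical
  haveI : IsLocalHom (algebraMap R (Localization.AtPrime n.asIdeal)) := by
    refine ⟨fun r hr => ?_⟩
    by_contra hnu
    have hrm : r ∈ IsLocalRing.maximalIdeal R := (IsLocalRing.mem_maximalIdeal r).2 hnu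
    have h1 : algebraMap R C r ∈ n.asIdeal := hn (Ideal.mem_map_of_mem _ hrm)
    have h2 : algebraMap C (Localization.AtPrime n.asIdeal) (algebraMap R C r) ∈
        IsLocalRing.maximalIdeal (Localization.AtPrime n.asIdeal) :=
      (IsLocalization.AtPrime.to_map_mem_maximal_iff _ n.asIdeal _).2 h1
    rw [← IsScalarTower.algebraMap_apply] at h2
    exact (IsLocalRing.mem_maximalIdeal _).1 h2 hr
  let Cn := Localization.AtPrime n.asIdeal
  let Rh := AdicCompletion (IsLocalRing.maximalIdeal R) R
  haveI : IsNoetherianRing Rh := Groth.Agent.Lib.Helper12.AnUnram.isNoetherianRing_cpl R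
  haveI : Module.FaithfullyFlat R Rh := Groth.Agent.Lib.Helper12.AnUnram.faithfullyFlat_cpl R
  haveI : Algebra.EssFiniteType R Cn := Algebra.EssFiniteType.comp R C Cn
  haveI : IsNoetherianRing (Rh ⊗[R] Cn) := Algebra.EssFiniteType.isNoetherianRing Rh (Rh ⊗[R] Cn)
  haveI : Module.Finite Cn (LocalizedModule n.asIdeal.primeCompl G) :=
    Module.Finite.of_isLocalizedModule n.asIdeal.primeCompl
      (LocalizedModule.mkLinearMap n.asIdeal.primeCompl G)
  obtain ⟨t, ht, hflat⟩ := exists_nzd_forall_flat (A := R) (B := C) G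
  have hT0 : TorsCond R G t := torsCond_of_forall_flat G t hflat
  have hT1 : TorsCond R (LocalizedModule n.asIdeal.primeCompl G) t :=
    torsCond_of_isLocalizedModule t n.asIdeal.primeCompl
      (LocalizedModule.mkLinearMap n.asIdeal.primeCompl G) hT0
  have hres : ∀ c : Rh, ∃ a : R, c - algebraMap R Rh a ∈ IsLocalRing.maximalIdeal Rh := by
    intro c
    obtain ⟨z, hz⟩ := (AdicCompletion.residueField_map_bijective R).2 (IsLocalRing.residue Rh c)
    obtain ⟨a, rfl⟩ := IsLocalRing.residue_surjective z
    refine ⟨a, ?_⟩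
    rw [IsLocalRing.ResidueField.map_residue] at hz
    exact (Ideal.Quotient.mk_eq_mk_iff_sub_mem _ _).1 hz.symm
  refine vloc' R Rh Cn (Rh ⊗[R] Cn) (LocalizedModule n.asIdeal.primeCompl G)
    AdicCompletion.maximalIdeal_eq_map hres t ht hT1 ?_
  intro D _ _ _ _ hloc hRI
  haveI : Algebra.FiniteType D (D ⊗[R] C) := inferInstance
  haveI : IsNoetherianRing (D ⊗[R] C) := Algebra.FiniteType.isNoetherianRing D (D ⊗[R] C)
  haveI hpo : Algebra.IsPushout R C D (D ⊗[R] C) := TensorProduct.isPushout'
  refine flat_tensor_localized_of_forall_prime_over R C D (D ⊗[R] C) n.asIdeal G hRI ?_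
  intro q' _ hq' hπ
  exact flat_localized_pushout R C D (D ⊗[R] C) n hS2 J hcodim F E0 E1 G f u v hf hfu huv hv hGU
    q' hq' hπ (hII D hloc (D ⊗[R] C) hpo ⟨q', inferInstance⟩ hq' hπ)

end Main

end Groth.Agent.Lib.Helper21.ValS2
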