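import Groth.Agent.Lib.Helper21.ZarConn1
import Groth.Agent.Lib.Helper4.ProperFinal
import Groth.Agent.Lib.Helper6.DevRed

set_option autoImplicit false
set_option backward.isDefEq.respectTransparency.types false
set_option linter.style.haveILetI false
universe u
open CategoryTheory CategoryTheory.Limits AlgebraicGeometry Opposite TopologicalSpace

namespace Groth.Agent.Lib.Helper21.ZarConn

open Formal Groth.Agent.Lib.Helper23.FQuot

variable {A : Type u} [CommRing A] {X : Scheme.{u}} [X.Over (Spec (CommRingCat.of A))]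

/-- naturality of the action of a morphism of modules on sections. -/
theorem app_res {P Q : X.Modules} (φ : P ⟶ Q) {U V : X.Opens} (i : U ⟶ V) (s : Γ(P, V)) :
    Q.presheaf.map i.op (φ.app V s) = φ.app U (P.presheaf.map i.op s) := by
  have h := φ.mapPresheaf.naturality i.op
  exact (congr($h s)).symm

/-- evaluation of the global sections of `O / m O` at a point of the closed fibre. -/
theorem exists_eval [IsLocalRing A] (x : X)
    (hx : (X ↘ Spec (CommRingCat.of A)) x = IsLocalRing.closedPoint A) {N : X.Modules}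
    (f : Coh.structureModule X ⟶ N) (hf : IsQuot (IsLocalRing.maximalIdeal A ^ 1) f)
    (W : X.Opens) :
    ∃ E : Γ(N, ⊤) →+ Γ(Spec (X.residueField x), (X.fromSpecResidueField x) ⁻¹ᵁ W),
      (∀ r : Γ(X, ⊤), E (f.app ⊤ r) = (X.fromSpecResidueField x).app W
        (X.presheaf.map (homOfLE (le_top : W ≤ ⊤)).op r)) ∧
      (∀ s s' : Γ(N, ⊤), N.presheaf.map (homOfLE (le_top : W ≤ ⊤)).op s =
        N.presheaf.map (homOfLE (le_top : W ≤ ⊤)).op s' → E s = E s') := by
  obtain ⟨ψ, hψ⟩ := hf.fac (gx x) (fun a ha => smulMod_gx_eq_zero x (by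
    rw [hx]
    rw [pow_one] at ha
    exact ha))
  refine ⟨(ψ.app W).hom.comp (N.presheaf.map (homOfLE (le_top : W ≤ ⊤)).op).hom, ?_, ?_⟩
  · intro r
    change ψ.app W (N.presheaf.map (homOfLE (le_top : W ≤ ⊤)).op (f.app ⊤ r)) = _
    rw [app_res f (homOfLE (le_top : W ≤ ⊤)) r]
    change (f ≫ ψ).app W _ = _
    rw [hψ]
    rfl
  · intro s s' h
    change ψ.app W (N.presheaf.map (homOfLE (le_top : W ≤ ⊤)).op s) =
      ψ.app W (N.presheaf.map (homOfLE (le_top : W ≤ ⊤)).op s')
    rw [h]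

end Groth.Agent.Lib.Helper21.ZarConn

namespace Groth.Agent.Lib.Helper21.ZarConn

open Formal Groth.Agent.Lib.Helper23.FQuot

/-- **Zariski's connectedness theorem**, local form: for `X` proper over a Noetherian local ring
`A` such that every global function on `X` comes from `A`, the closed fibre is preconnected. -/
theorem isPreconnected_closedFibre (A : Type u) [CommRing A] [IsNoetherianRing A] [IsLocalRing A]
    (X : Scheme.{u}) [X.Over (Spec (CommRingCat.of A))]
    [IsProper (X ↘ Spec (CommRingCat.of A))]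
    (hsurj : ∀ r : Γ(X, ⊤), ∃ a : A, gl (X := X) a = r) :
    _root_.IsPreconnected ((X ↘ Spec (CommRingCat.of A)) ⁻¹' {IsLocalRing.closedPoint A}) := by
  haveI : IsLocallyNoetherian X :=
    LocallyOfFiniteType.isLocallyNoetherian (X ↘ Spec (CommRingCat.of A))
  haveI : CompactSpace X := QuasiCompact.compactSpace_of_compactSpace (X ↘ Spec (CommRingCat.of A))
  haveI : IsNoetherian X := { }
  set g := X ↘ Spec (CommRingCat.of A) with hg
  set m := IsLocalRing.maximalIdeal A with hm
  set Fib : Set X := g ⁻¹' {IsLocalRing.closedPoint A} with hFib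
  have hFibcl : IsClosed Fib :=
    (IsLocalRing.isClosed_singleton_closedPoint A).preimage g.continuous
  rw [isPreconnected_closed_iff]
  intro t t' ht ht' hsub ⟨x₁, hx₁F, hx₁t⟩ ⟨x₂, hx₂F, hx₂t'⟩
  by_contra hempty
  rw [Set.not_nonempty_iff_eq_empty] at hempty
  -- the two closed pieces of the fibre and the complementary opens
  let W₁ : X.Opens := ⟨(Fib ∩ t')ᶜ, (hFibcl.inter ht').isOpen_compl⟩
  let W₂ : X.Opens := ⟨(Fib ∩ t)ᶜ, (hFibcl.inter ht).isOpen_compl⟩
  have hx₁W : x₁ ∈ W₁ := by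
    intro h
    have : x₁ ∈ Fib ∩ (t ∩ t') := ⟨hx₁F, hx₁t, h.2⟩
    rw [hempty] at this
    exact this
  have hx₂W : x₂ ∈ W₂ := by
    intro h
    have : x₂ ∈ Fib ∩ (t ∩ t') := ⟨hx₂F, h.2, hx₂t'⟩
    rw [hempty] at this
    exact this
  have hcov : (⊤ : X.Opens) ≤ W₁ ⊔ W₂ := by
    intro x _
    by_cases h : x ∈ Fib ∩ t'
    · right
      intro h2
      have : x ∈ Fib ∩ (t ∩ t') := ⟨h.1, h2.2, h.2⟩
      rw [hempty] at this
      exact this
    · left
      exact h
  have hdisj : ∀ x ∈ W₁ ⊓ W₂, g x ≠ IsLocalRing.closedPoint A := by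
    rintro x ⟨h1, h2⟩ hx
    have hxF : x ∈ Fib := hx
    rcases hsub hxF with h | h
    · exact h2 ⟨hxF, h⟩
    · exact h1 ⟨hxF, h⟩
  -- formal functions: the Mittag-Leffler property with stable image
  have hfin : ∀ F : X.Modules, Coh.IsCoh F → ∀ p, Module.Finite A (Coh.HH X F p) :=
    fun F hF p => Groth.Agent.Lib.Helper4.ProperFinal.finite_HH A X F hF p
  have hO : Coh.IsCoh (Coh.structureModule X) :=
    Groth.Agent.Lib.Helper6.DevRed.isCoh_structureModule
  obtain ⟨n', hn', hB⟩ :=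
    (Groth.Agent.Lib.Lead.FormalC.good hfin m (Coh.structureModule X) hO 0).2 1
  have hq : IsQuot (m ^ 1) (modPowπ m 1 (Coh.structureModule X)) := isQuot_modPowπ m 1 _
  have hq' : IsQuot (m ^ n') (modPowπ m n' (Coh.structureModule X)) := isQuot_modPowπ m n' _
  obtain ⟨tr, htr⟩ := Groth.Agent.Lib.Lead.FormalA.IsQuot.exists_trans
    (Ideal.pow_le_pow_right hn') hq hq'
  have hrange := hB (modPowπ m 1 (Coh.structureModule X)) (modPowπ m n' (Coh.structureModule X))
    tr hq hq' htr
  set f := modPowπ m 1 (Coh.structureModule X) with hf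
  set f' := modPowπ m n' (Coh.structureModule X) with hf'
  -- the glued section
  obtain ⟨e', he'₁, he'₂⟩ := exists_glued_section (IsQuot.killed hq')
    (f'.app ⊤ (1 : Γ(X, ⊤))) W₁ W₂ hcov hdisj
  obtain ⟨r, hr⟩ := exists_section_of_range_le (A := A) f tr hrange e'
  obtain ⟨a, ha⟩ := hsurj r
  -- restrictions of `e₁ = tr e'`
  have hres₁ : (modPow m 1 (Coh.structureModule X)).presheaf.map (homOfLE (le_top : W₁ ≤ ⊤)).op
      (tr.app ⊤ e') = (modPow m 1 (Coh.structureModule X)).presheaf.map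
        (homOfLE (le_top : W₁ ≤ ⊤)).op (f.app ⊤ (1 : Γ(X, ⊤))) := by
    rw [app_res tr, he'₁, ← app_res tr]
    congr 1
    change (f' ≫ tr).app ⊤ _ = _
    rw [htr]
  have hres₂ : (modPow m 1 (Coh.structureModule X)).presheaf.map (homOfLE (le_top : W₂ ≤ ⊤)).op
      (tr.app ⊤ e') = (modPow m 1 (Coh.structureModule X)).presheaf.map
        (homOfLE (le_top : W₂ ≤ ⊤)).op (0 : Γ(modPow m 1 (Coh.structureModule X), ⊤)) := by
    rw [app_res tr, he'₂, map_zero, map_zero]
  -- evaluate at `x₁` and `x₂`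
  obtain ⟨E₁, hE₁, hE₁'⟩ := exists_eval x₁ hx₁F f hq W₁
  obtain ⟨E₂, hE₂, hE₂'⟩ := exists_eval x₂ hx₂F f hq W₂
  have h1 : (X.fromSpecResidueField x₁).app W₁
      (X.presheaf.map (homOfLE (le_top : W₁ ≤ ⊤)).op (gl (X := X) a)) = 1 := by
    rw [ha, ← hE₁ r, hr, hE₁' _ _ hres₁, hE₁, map_one, map_one]
  have h2 : (X.fromSpecResidueField x₂).app W₂
      (X.presheaf.map (homOfLE (le_top : W₂ ≤ ⊤)).op (gl (X := X) a)) = 0 := by
    rw [ha, ← hE₂ r, hr, hE₂' _ _ hres₂, map_zero]
  haveI := nontrivial_sections x₁ W₁ hx₁W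
  haveI := nontrivial_sections x₂ W₂ hx₂W
  by_cases ham : a ∈ m
  · have h0 := fromSpecResidueField_app_gl_eq_zero (A := A) x₁
      (a := a) (by rw [show (X ↘ Spec (CommRingCat.of A)) x₁ = IsLocalRing.closedPoint A from hx₁F]; exact ham) W₁
    rw [h1] at h0
    exact one_ne_zero h0
  · have hu : IsUnit a := by
      by_contra hnu
      exact ham ((IsLocalRing.mem_maximalIdeal a).mpr hnu)
    have hu2 : IsUnit ((X.fromSpecResidueField x₂).app W₂
        (X.presheaf.map (homOfLE (le_top : W₂ ≤ ⊤)).op (gl (X := X) a))) := by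
      have h3 : IsUnit (gl (X := X) a) := hu.map (Coh.toGlobal (X ↘ Spec (CommRingCat.of A)))
      exact (h3.map (X.presheaf.map (homOfLE (le_top : W₂ ≤ ⊤)).op).hom).map
        ((X.fromSpecResidueField x₂).app W₂).hom
    rw [h2] at hu2
    exact not_isUnit_zero hu2

end Groth.Agent.Lib.Helper21.ZarConn
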