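import Groth.Agent.Lib.Helper21.ZarConn2

set_option autoImplicit false
set_option backward.isDefEq.respectTransparency.types false
set_option linter.style.haveILetI false
universe u
open CategoryTheory CategoryTheory.Limits AlgebraicGeometry Opposite TopologicalSpace

namespace Groth.Agent.Lib.Helper21.ZarConn

/-- `Spec O_{X,x} → X` is flat. -/
theorem flat_fromSpecStalk (X : Scheme.{u}) (x : X) : Flat (X.fromSpecStalk x) := by
  obtain ⟨U, hU, hxU, -⟩ :=
    TopologicalSpace.Opens.isBasis_iff_nbhd.mp X.isBasis_affineOpens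
      (show x ∈ (⊤ : X.Opens) from trivial)
  rw [← hU.fromSpecStalk_eq_fromSpecStalk hxU]
  dsimp [IsAffineOpen.fromSpecStalk]
  have : Flat (Spec.map (X.presheaf.germ U x hxU)) := by
    rw [Flat.SpecMap_iff]
    letI : Algebra Γ(X, U) (X.presheaf.stalk x) := (X.presheaf.germ U x hxU).hom.toAlgebra
    haveI := hU.isLocalization_stalk ⟨x, hxU⟩
    show (algebraMap Γ(X, U) (X.presheaf.stalk x)).Flat
    rw [RingHom.flat_algebraMap_iff]
    exact IsLocalization.flat (X.presheaf.stalk x) (hU.primeIdealOf ⟨x, hxU⟩).asIdeal.primeCompl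
  infer_instance

/-- the local form of the connectedness theorem, for a ring given as an object of `CommRingCat`. -/
theorem isPreconnected_closedFibre' (R : CommRingCat.{u}) [IsNoetherianRing R] [IsLocalRing R]
    {X' : Scheme.{u}} (g : X' ⟶ Spec R) [hg : IsProper g]
    (hsurj : Function.Surjective ((Scheme.ΓSpecIso R).inv ≫ g.appTop).hom) :
    _root_.IsPreconnected (g ⁻¹' {IsLocalRing.closedPoint R}) := by
  letI : X'.Over (Spec (CommRingCat.of R)) := ⟨g⟩
  haveI : IsProper (X' ↘ Spec (CommRingCat.of R)) := hg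
  exact isPreconnected_closedFibre R X' (fun r => hsurj r)

/-- the base change of a proper morphism with `f_* O_X = O_Y` to the local ring at `y` has
all its global functions coming from the local ring. -/
theorem isIso_appTop_pullback_fromSpecStalk {X Y : Scheme.{u}} (f : X ⟶ Y) [IsProper f]
    (y : Y) (hf : ∀ U : Y.Opens, IsAffineOpen U → y ∈ U → IsIso (f.app U)) :
    IsIso (pullback.snd f (Y.fromSpecStalk y)).appTop := by
  obtain ⟨U, hU, hyU, -⟩ :=
    TopologicalSpace.Opens.isBasis_iff_nbhd.mp Y.isBasis_affineOpens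
      (show y ∈ (⊤ : Y.Opens) from trivial)
  haveI := flat_fromSpecStalk Y y
  have H : IsPullback (pullback.fst f (Y.fromSpecStalk y)) (pullback.snd f (Y.fromSpecStalk y)) f
      (Y.fromSpecStalk y) := IsPullback.of_hasPullback f (Y.fromSpecStalk y)
  have hUST : (⊤ : (Spec (Y.presheaf.stalk y)).Opens) ≤ (Y.fromSpecStalk y) ⁻¹ᵁ U := by
    intro z _
    have hz : Y.fromSpecStalk y z ⤳ y := by
      have : Y.fromSpecStalk y z ∈ Set.range (Y.fromSpecStalk y) := ⟨z, rfl⟩
      rw [Scheme.range_fromSpecStalk] at this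
      exact this
    exact hz.mem_open U.2 hyU
  have hUSX : f ⁻¹ᵁ U ≤ f ⁻¹ᵁ U := le_rfl
  have hUY : (⊤ : (pullback f (Y.fromSpecStalk y)).Opens) =
      (pullback.fst f (Y.fromSpecStalk y)) ⁻¹ᵁ (f ⁻¹ᵁ U) ⊓
        (pullback.snd f (Y.fromSpecStalk y)) ⁻¹ᵁ ⊤ := by
    ext z
    simp only [Opens.coe_top, Set.mem_univ, Opens.coe_inf, Set.mem_inter_iff, true_iff]
    refine ⟨?_, trivial⟩
    change f (pullback.fst f (Y.fromSpecStalk y) z) ∈ U
    rw [← Scheme.Hom.comp_apply, pullback.condition, Scheme.Hom.comp_apply]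
    exact hUST (Set.mem_univ _)
  have hiso := isIso_pushoutSection_of_isQuasiSeparated_of_flat_right H hUST hUSX hUY hU
    (isAffineOpen_top _) (f.isCompact_preimage hU.isCompact)
    (f.isQuasiSeparated_preimage hU.isQuasiSeparated)
  have hpo := (isIso_pushoutSection_iff H hUST hUSX hUY).mp hiso
  haveI : IsIso (f.appLE U (f ⁻¹ᵁ U) hUSX) := by
    rw [← Scheme.Hom.app_eq_appLE]; exact hf U hU hyU
  have h2 := hpo.isIso_inr_of_isIso
  have h3 : (pullback.snd f (Y.fromSpecStalk y)).appLE ⊤ ⊤ (by simp) =
      (pullback.snd f (Y.fromSpecStalk y)).appTop := by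
    simp [Scheme.Hom.appLE, Scheme.Hom.appTop]
  rw [← h3]
  exact h2

end Groth.Agent.Lib.Helper21.ZarConn

namespace Groth.Agent.Lib.Helper21.ZarConn

/-- **Zariski's connectedness theorem**: for a proper morphism `f : X ⟶ Y` to a locally Noetherian
scheme with `O_Y → f_* O_X` an isomorphism, every fibre is connected (and nonempty). -/
theorem isConnected_preimage_singleton_of_affine {X Y : Scheme.{u}} (f : X ⟶ Y) [IsProper f]
    [IsLocallyNoetherian Y] (y : Y)
    (hf : ∀ U : Y.Opens, IsAffineOpen U → y ∈ U → IsIso (f.app U)) :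
    _root_.IsConnected (f ⁻¹' {y}) := by
  set R := Y.presheaf.stalk y with hR
  set g := pullback.snd f (Y.fromSpecStalk y) with hg
  set pr := pullback.fst f (Y.fromSpecStalk y) with hpr
  haveI hiso : IsIso g.appTop := isIso_appTop_pullback_fromSpecStalk f y hf
  have hsurj : Function.Surjective ((Scheme.ΓSpecIso R).inv ≫ g.appTop).hom :=
    (ConcreteCategory.bijective_of_isIso ((Scheme.ΓSpecIso R).inv ≫ g.appTop)).2
  have hpre := isPreconnected_closedFibre' R g hsurj
  have himg : pr '' (g ⁻¹' {IsLocalRing.closedPoint R}) = f ⁻¹' {y} := by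
    ext x
    constructor
    · rintro ⟨z, hz, rfl⟩
      change f (pr z) = y
      rw [← Scheme.Hom.comp_apply, hpr, pullback.condition, Scheme.Hom.comp_apply]
      rw [show pullback.snd f (Y.fromSpecStalk y) z = IsLocalRing.closedPoint R from hz]
      exact Scheme.fromSpecStalk_closedPoint
    · intro hx
      have hx' : f x = Y.fromSpecStalk y (IsLocalRing.closedPoint R) := by
        rw [Scheme.fromSpecStalk_closedPoint]; exact hx
      obtain ⟨z, hz1, hz2⟩ := Scheme.Pullback.exists_preimage_pullback x _ hx'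
      exact ⟨z, hz2, hz1⟩
  refine ⟨?_, ?_⟩
  · -- nonempty
    rw [← himg]
    refine Set.Nonempty.image _ ?_
    -- the source of `g` is nonempty since its ring of global functions is the local ring `R`
    have hne : Nonempty ↥(pullback f (Y.fromSpecStalk y)) := by
      by_contra hemp
      rw [not_nonempty_iff] at hemp
      haveI : Subsingleton Γ(pullback f (Y.fromSpecStalk y), ⊤) := by
        haveI := hemp
        infer_instance
      have hbij := ConcreteCategory.bijective_of_isIso ((Scheme.ΓSpecIso R).inv ≫ g.appTop)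
      haveI : Subsingleton R := hbij.1.subsingleton
      exact not_subsingleton R ‹_›
    obtain ⟨z⟩ := hne
    -- the image of `g` is closed and nonempty, hence contains the closed point
    have hcl : IsClosed (Set.range g) := g.isClosedMap.isClosed_range
    have hmem : IsLocalRing.closedPoint R ∈ Set.range g :=
      (IsLocalRing.specializes_closedPoint (g z)).mem_closed hcl ⟨z, rfl⟩
    obtain ⟨z', hz'⟩ := hmem
    exact ⟨z', hz'⟩
  · rw [← himg]
    exact hpre.image _ pr.continuous.continuousOn

/-- **Zariski's connectedness theorem**: for a proper morphism `f : X ⟶ Y` to a locally Noetherian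
scheme with `O_Y → f_* O_X` an isomorphism, every fibre is connected (and nonempty). -/
theorem isConnected_preimage_singleton {X Y : Scheme.{u}} (f : X ⟶ Y) [IsProper f]
    [IsLocallyNoetherian Y] (hf : ∀ U : Y.Opens, IsIso (f.app U)) (y : Y) :
    _root_.IsConnected (f ⁻¹' {y}) :=
  isConnected_preimage_singleton_of_affine f y fun U _ _ => hf U

/-- fibre version. -/
theorem connectedSpace_fiber_of_affine {X Y : Scheme.{u}} (f : X ⟶ Y) [IsProper f]
    [IsLocallyNoetherian Y] (y : Y)
    (hf : ∀ U : Y.Opens, IsAffineOpen U → y ∈ U → IsIso (f.app U)) :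
    ConnectedSpace ↥(f.fiber y) := by
  have h := isConnected_preimage_singleton_of_affine f y hf
  have h2 : ConnectedSpace ↥(f ⁻¹' {y}) := isConnected_iff_connectedSpace.mp h
  exact (f.fiberHomeo y).symm.surjective.connectedSpace (f.fiberHomeo y).symm.continuous

end Groth.Agent.Lib.Helper21.ZarConn
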