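import Groth.Agent.Lib.Helper21.ZarConn3
import Groth.Agent.Lib.Helper21.ProperGamma1
import Groth.Agent.Lib.Helper13.IntBirational

set_option autoImplicit false
set_option backward.isDefEq.respectTransparency.types false
set_option linter.style.haveILetI false
universe u
open CategoryTheory CategoryTheory.Limits AlgebraicGeometry

namespace Groth.Agent.Lib.Helper21.ZarConn

open Groth.Agent.Lib.Helper13.IntBirational in
/-- core algebraic statement (helper13's `app_bijective_aux` with an integrality hypothesis instead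
of `IsIntegralHom`). -/
theorem app_bijective_of_integral {X' Y : Scheme.{u}} [IsIntegral X'] [IsIntegral Y]
    (d : X' ⟶ Y)
    (W : Y.Opens) (hint : (d.app W).hom.IsIntegral)
    (hnorm : ∀ y ∈ W, IsIntegrallyClosed (Y.presheaf.stalk y))
    (hW : IsAffineOpen W) (hηW : genericPoint Y ∈ W)
    (hη'V : genericPoint X' ∈ d ⁻¹ᵁ W)
    (σ : Y.functionField ⟶ X'.functionField)
    (hσ : Y.presheaf.germ W (genericPoint Y) hηW ≫ σ =
      d.app W ≫ X'.presheaf.germ (d ⁻¹ᵁ W) (genericPoint X') hη'V)
    (hσsurj : Function.Surjective σ.hom) :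
    Function.Bijective (d.app W).hom := by
  haveI : Nonempty W := ⟨⟨_, hηW⟩⟩
  haveI : Nonempty ↥(d ⁻¹ᵁ W) := ⟨⟨_, hη'V⟩⟩
  haveI : IsDomain Γ(Y, W) := IsIntegral.component_integral W
  haveI : IsDomain Γ(X', d ⁻¹ᵁ W) := @IsIntegral.component_integral _ _ (d ⁻¹ᵁ W) ⟨⟨_, hη'V⟩⟩
  haveI := isIntegrallyClosed_of_isAffineOpen Y W hnorm hW
  haveI hfr := functionField_isFractionRing_of_isAffineOpen Y W hW
  have hginj : Function.Injective (X'.presheaf.germ (d ⁻¹ᵁ W) (genericPoint X') hη'V).hom :=
    germ_injective_of_isIntegral X' _ hη'V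
  have hgYinj : Function.Injective (Y.presheaf.germ W (genericPoint Y) hηW).hom :=
    germ_injective_of_isIntegral Y _ hηW
  have hσbij : Function.Bijective σ.hom := ⟨RingHom.injective σ.hom, hσsurj⟩
  have hcomp : ∀ b, (X'.presheaf.germ (d ⁻¹ᵁ W) (genericPoint X') hη'V).hom ((d.app W).hom b) =
      σ.hom ((Y.presheaf.germ W (genericPoint Y) hηW).hom b) := fun b => (congr($hσ b)).symm
  letI algL : Algebra Γ(Y, W) X'.functionField :=
    (d.app W ≫ X'.presheaf.germ (d ⁻¹ᵁ W) (genericPoint X') hη'V).hom.toAlgebra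
  let σe : Y.functionField ≃ₐ[Γ(Y, W)] X'.functionField :=
    AlgEquiv.ofRingEquiv (f := RingEquiv.ofBijective σ.hom hσbij) (fun b => (hcomp b).symm)
  haveI : IsFractionRing Γ(Y, W) X'.functionField :=
    IsLocalization.isLocalization_of_algEquiv (nonZeroDivisors Γ(Y, W)) σe
  refine ⟨?_, ?_⟩
  · intro b₁ b₂ h
    apply hgYinj
    apply hσbij.1
    rw [← hcomp, ← hcomp, h]
  · intro c
    have hc : IsIntegral Γ(Y, W)
        ((X'.presheaf.germ (d ⁻¹ᵁ W) (genericPoint X') hη'V).hom c) := by
      obtain ⟨p, hp, hp0⟩ := hint c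
      refine ⟨p, hp, ?_⟩
      have := congrArg (X'.presheaf.germ (d ⁻¹ᵁ W) (genericPoint X') hη'V).hom hp0
      rw [Polynomial.hom_eval₂, map_zero] at this
      exact this
    obtain ⟨b, hb⟩ := (isIntegrallyClosed_iff X'.functionField).mp inferInstance hc
    exact ⟨b, hginj hb⟩

/-- a birational morphism of integral schemes with integral ring map over a normal affine open
induces an isomorphism on sections there. -/
theorem isIso_app_of_integral_of_birational {X' Y : Scheme.{u}} [IsIntegral X'] [IsIntegral Y]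
    (d : X' ⟶ Y)
    (hgen : d (genericPoint X') = genericPoint Y)
    (hst : Function.Surjective (d.stalkMap (genericPoint X')).hom)
    (W : Y.Opens) (hW : IsAffineOpen W) (hne : Nonempty W)
    (hint : (d.app W).hom.IsIntegral)
    (hnorm : ∀ y ∈ W, IsIntegrallyClosed (Y.presheaf.stalk y)) : IsIso (d.app W) := by
  obtain ⟨⟨w, hw⟩⟩ := hne
  have hηW : genericPoint Y ∈ W :=
    ((genericPoint_spec Y).mem_open_set_iff W.isOpen).mpr ⟨w, Set.mem_univ _, hw⟩
  have hη'V : genericPoint X' ∈ d ⁻¹ᵁ W := by
    show d (genericPoint X') ∈ W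
    rw [hgen]; exact hηW
  have hdηW : d (genericPoint X') ∈ W := hη'V
  let σ : Y.functionField ⟶ X'.functionField :=
    Y.presheaf.stalkSpecializes (specializes_of_eq hgen) ≫ d.stalkMap (genericPoint X')
  have hσ : Y.presheaf.germ W (genericPoint Y) hηW ≫ σ =
      d.app W ≫ X'.presheaf.germ (d ⁻¹ᵁ W) (genericPoint X') hη'V := by
    rw [← Scheme.Hom.germ_stalkMap d W (genericPoint X') hdηW]
    simp only [σ]
    rw [← Category.assoc, TopCat.Presheaf.germ_stalkSpecializes]
  have hσsurj : Function.Surjective σ.hom := by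
    simp only [σ, CommRingCat.hom_comp, RingHom.coe_comp]
    refine hst.comp ?_
    exact (ConcreteCategory.bijective_of_isIso
      (Y.presheaf.stalkCongr (.of_eq hgen.symm)).hom).2
  exact (ConcreteCategory.isIso_iff_bijective _).mpr
    (app_bijective_of_integral d W hint hnorm hW hηW hη'V σ hσ hσsurj)

/-- **Zariski's main theorem, connectedness form**: a proper birational morphism of integral schemes
to a normal locally Noetherian scheme has connected fibres. -/
theorem connectedSpace_fiber_of_proper_birational {X Y : Scheme.{u}} [IsIntegral X]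
    [IsIntegral Y] [IsLocallyNoetherian Y]
    (hY : ∀ y : Y, IsIntegrallyClosed (Y.presheaf.stalk y)) (f : X ⟶ Y) [IsProper f]
    (hgen : f (genericPoint X) = genericPoint Y) (hbir : IsIso (f.stalkMap (genericPoint X)))
    (y : Y) : ConnectedSpace ↥(f.fiber y) := by
  refine connectedSpace_fiber_of_affine f y fun U hU hyU => ?_
  refine isIso_app_of_integral_of_birational f hgen ?_ U hU ⟨⟨y, hyU⟩⟩ ?_ fun y _ => hY y
  · exact (ConcreteCategory.bijective_of_isIso (f.stalkMap (genericPoint X))).2
  · exact (Groth.Agent.Lib.Helper21.ProperGamma.finite_app_of_isProper f U hU).to_isIntegral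

end Groth.Agent.Lib.Helper21.ZarConn
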