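import Groth.Agent.Lib.Helper21.ZarConn7

set_option autoImplicit false
set_option backward.isDefEq.respectTransparency.types false
set_option linter.style.haveILetI false
universe u
open CategoryTheory CategoryTheory.Limits AlgebraicGeometry Opposite TopologicalSpace

namespace Groth.Agent.Lib.Helper21.ZarConn

theorem fiberMapOver_fiberι {X Y Z : Scheme.{u}} (f : X ⟶ Y) (g : X ⟶ Z) (h : Y ⟶ Z)
    (w : f ≫ h = g) (z : Z) :
    CohIII.fiberMapOver f g h w z ≫ h.fiberι z = g.fiberι z ≫ f := by
  simp only [CohIII.fiberMapOver, Scheme.Hom.fiberι]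
  exact pullback.lift_fst _ _ _

theorem fiberMapOver_fiberι_apply {X Y Z : Scheme.{u}} (f : X ⟶ Y) (g : X ⟶ Z) (h : Y ⟶ Z)
    (w : f ≫ h = g) (z : Z) (x : ↥(g.fiber z)) :
    h.fiberι z ((CohIII.fiberMapOver f g h w z).base x) = f (g.fiberι z x) := by
  have := fiberMapOver_fiberι f g h w z
  have h2 := congrArg (fun k => k x) this
  simpa only [Scheme.Hom.comp_apply] using h2

/-- Stein factorisation and connected components of fibres. -/
theorem stein_fibre {X Y : Scheme.{u}} (f : X ⟶ Y) [IsProper f] [IsLocallyNoetherian Y] (y : Y) :
    Finite ↥(f.fromNormalization.fiber y) ∧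
    Function.Surjective (CohIII.fiberMapOver f.toNormalization f f.fromNormalization
        f.toNormalization_fromNormalization y).base ∧
    ∀ x x' : ↥(f.fiber y),
      (CohIII.fiberMapOver f.toNormalization f f.fromNormalization
        f.toNormalization_fromNormalization y).base x =
        (CohIII.fiberMapOver f.toNormalization f f.fromNormalization
        f.toNormalization_fromNormalization y).base x' ↔
      connectedComponent x = connectedComponent x' := by
  haveI := Groth.Agent.Lib.Helper21.ProperGamma.isFinite_fromNormalization f
  set t := f.toNormalization with ht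
  set n := f.fromNormalization with hn
  have htn : t ≫ n = f := f.toNormalization_fromNormalization
  set F := CohIII.fiberMapOver t f n htn y with hF
  have hFι : ∀ x, n.fiberι y (F.base x) = t (f.fiberι y x) :=
    fiberMapOver_fiberι_apply t f n htn y
  have hinj : Function.Injective (n.fiberι y) := (n.fiberι y).isEmbedding.injective
  have hZ : ∀ y' : f.normalization, _root_.IsConnected (t ⁻¹' {y'}) :=
    isConnected_toNormalization_preimage f
  haveI hfin : Finite ↥(n.fiber y) := inferInstance
  haveI hdisc : DiscreteTopology ↥(n.fiber y) := inferInstance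
  refine ⟨hfin, ?_, ?_⟩
  · intro y'
    obtain ⟨x, hx⟩ := (hZ (n.fiberι y y')).nonempty
    have hx' : t x = n.fiberι y y' := hx
    have hfx : x ∈ f ⁻¹' {y} := by
      show f x = y
      rw [← htn, Scheme.Hom.comp_apply, hx']
      have : n.fiberι y y' ∈ Set.range (n.fiberι y) := ⟨y', rfl⟩
      rw [Scheme.Hom.range_fiberι] at this
      exact this
    rw [← Scheme.Hom.range_fiberι] at hfx
    obtain ⟨x₀, rfl⟩ := hfx
    refine ⟨x₀, hinj ?_⟩
    rw [hFι, hx']
  · intro x x'
    constructor
    · intro hxx'
      set y' := n.fiberι y (F.base x) with hy'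
      have h1 : f.fiberι y x ∈ t ⁻¹' {y'} := (hFι x).symm
      have h2 : f.fiberι y x' ∈ t ⁻¹' {y'} := by
        show t (f.fiberι y x') = y'
        rw [← hFι, ← hxx']
      set S : Set ↥(f.fiber y) := (f.fiberι y) ⁻¹' (t ⁻¹' {y'}) with hS
      have hsub : t ⁻¹' {y'} ⊆ Set.range (f.fiberι y) := by
        intro z hz
        rw [Scheme.Hom.range_fiberι]
        show f z = y
        rw [← htn, Scheme.Hom.comp_apply, show t z = y' from hz]
        have : y' ∈ Set.range (n.fiberι y) := ⟨_, rfl⟩
        rw [Scheme.Hom.range_fiberι] at this
        exact this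
      have himg : (f.fiberι y) '' S = t ⁻¹' {y'} := by
        rw [hS, Set.image_preimage_eq_inter_range, Set.inter_eq_left.mpr hsub]
      have hSpre : _root_.IsPreconnected S := by
        rw [← (f.fiberι y).isEmbedding.toIsInducing.isPreconnected_image, himg]
        exact (hZ y').isPreconnected
      have hsubc := hSpre.subset_connectedComponent (x := x) h1
      exact connectedComponent_eq (hsubc h2)
    · intro hcc
      have hx' : x' ∈ connectedComponent x := by
        rw [hcc]; exact mem_connectedComponent
      have hpre : _root_.IsPreconnected (F.base '' connectedComponent x) :=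
        isPreconnected_connectedComponent.image _ F.base.hom.continuous.continuousOn
      have hsub := hpre.subsingleton
      exact hsub ⟨x, mem_connectedComponent, rfl⟩ ⟨x', hx', rfl⟩

end Groth.Agent.Lib.Helper21.ZarConn
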